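import Cfsg.Agent.H605.NX.Blk
import Cfsg.Agent.TwoFusion.SLTwoFacts
import Cfsg.Agent.S0144
import Cfsg.Agent.H239.NX.Perm_m3
import Mathlib
import Cfsg.Agent.H32.NX9.RDef_m3
import Cfsg.Agent.S3513
import Cfsg.Agent.S2117
import Cfsg.Agent.H994.NX.Wie
import Mathlib.RingTheory.Polynomial.Cyclotomic.Basic
import Cfsg.Agent.OrdDiv.Table
import Cfsg.Agent.S0000
import Cfsg.Agent.H727.GW.Sp_m3
import Cfsg.Agent.S0336
import Cfsg.Agent.H37.NW.Red_m3
import Cfsg.Agent.S0205
import Cfsg.Agent.H606.PQR.Pieces_m3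
import Cfsg.Agent.H113.PSL.Facts
import Cfsg.Agent.H53.HC.Flag_m3
import Cfsg.Agent.Blocks.CentralizerSum
import Cfsg.Agent.S2086
import Cfsg.Agent.S0280
import Cfsg.Agent.S0249
import Cfsg.Agent.SignalizersComponents.SLQuasisimple
import Mathlib.FieldTheory.Finite.Extension
import Cfsg.Agent.H973.QA.Rank_m3
import Cfsg.Prelude.Def_KGroupFacts
import Cfsg.Agent.H122.OrthMinus
import Cfsg.Agent.S2099
import Cfsg.Agent.S0294
import Cfsg.Agent.S0297
import Cfsg.Agent.H122.OrthIso
import Cfsg.Agent.H631.Fpf.DegE6_m3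
import Cfsg.Agent.H122.OrthPlus
import Cfsg.Agent.S0293
import Cfsg.Agent.S0296
import Cfsg.Agent.S2096
import Cfsg.Agent.S2097
import Cfsg.Agent.H332.Cyc.G2Three
import Cfsg.Agent.H120.GOtherE
import Cfsg.Agent.H120.DP.GTwo
import Cfsg.Agent.H320.Kill.Pair
import Cfsg.Agent.H121.Cyc.Prime
import Cfsg.Agent.TitsThree.KExcGen
import Cfsg.Agent.S2332
import Cfsg.Agent.S2101
import Cfsg.Agent.S2102
import Cfsg.Agent.Characters.Values
import Cfsg.Agent.H121.Chr
import Cfsg.Agent.H152.QA.PTools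
import Cfsg.Agent.H700.FpfPsu.Par_m3
import Cfsg.Agent.S0333
import Cfsg.Agent.S0324
import Cfsg.Agent.S2112
import Cfsg.Agent.H686.QA.TwE62
import Cfsg.Agent.H37.NX.TripNum_m3
import Cfsg.Agent.S4904
import Cfsg.Agent.H122.OrthBasePlus
import Cfsg.Agent.SmallSimple.PSLTwoPart
import Cfsg.Agent.H326.Four.RowHe
import Cfsg.Agent.H313.AltDeg.Alt
import Cfsg.Agent.H117.O1.AltDeg
import Cfsg.Agent.H122.MinDeg
import Cfsg.Agent.H575.QA.AltCyc
import Cfsg.Agent.S0892
import Cfsg.Agent.H80.Fpf.RowSp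
import Cfsg.Agent.H665.Psl2Char
import Cfsg.Agent.ClassicalGeometry.NonsplitTorus
import Cfsg.Agent.S2306
import Cfsg.Agent.S2433
import Cfsg.Agent.S2434
import Cfsg.Agent.S0252
import Cfsg.Agent.S0253
import Cfsg.Agent.H410.QA.U62Elts
import Cfsg.Agent.H251.Der.SixFive
import Cfsg.Agent.H700.FpfPsu.Deg
import Cfsg.Agent.H494.PSURow
import Cfsg.Agent.S2091
import Cfsg.Agent.H193.Hall.U43
import Cfsg.Agent.H912.CrossList_m3
import Cfsg.Agent.H934.IdxPSU
import Cfsg.Agent.H518.SURow_m3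
import Cfsg.Agent.H500.AS.Seven
import Cfsg.Agent.H920.PSLFour
import Cfsg.Agent.H334.KW.Small
import Cfsg.Agent.H76.OC.IndInv
import Cfsg.Agent.KFacts.RgdRigid
import Cfsg.Agent.H312.Orth.Inst
import Cfsg.Agent.FourTwo.Base
import Cfsg.Agent.H267.ConjF4.Deg
import Cfsg.Agent.H129.CycCard
import Cfsg.Agent.F42.AllSys_m3
import Cfsg.Agent.S2104
import Cfsg.Agent.H54.QA.PspTop
import Cfsg.Agent.H972.SpBound
import Cfsg.Agent.S2347
import Cfsg.Agent.S2092
import Cfsg.Agent.H630.CJ.RowB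
import Cfsg.Agent.S2058
import Cfsg.Agent.H973.QA.Crit_m3
import Cfsg.Agent.H715.Fpr.J2
import Cfsg.Agent.H635.CJ.JTwo
import Cfsg.Agent.J2Type.FiveFus
import Cfsg.Agent.S2040
import Cfsg.Agent.H973.RG.ON
import Cfsg.Agent.H121.Cyc.Spor
import Cfsg.Agent.H305.SepJ1
import Cfsg.Agent.S2052
import Cfsg.Agent.FastGrp
import Cfsg.Agent.Prune
set_option linter.all false

section
prune_inst 0x7ff0a8f809a801deffff7e37a690cff810800fffa4dff9437f6061bf0b9f03000941638509e010fc0e16c01410a87803f97eceffe06bd87ffffd17b41ffbee0fe5f6b508119080240e200ff683f0770a6f1ffdfffffffffffffffff7ffffffbeffbfe3feffff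

-- part: H37/NX/CompL
section
prune_inst 0x20020000000000000000080000000000001c010000
set_option linter.all false
open scoped Cfsg.Agent.FastGrp

/-!
# S4979, layer (I): blocks on which `Q` induces a quasisimple normal subgroup (helper37)

`comp_false`: if `R ≤ Q` is a perfect normal subgroup of `H` such that every `H`-normal subgroup of `R` induces on each
block a central subgroup or the whole group induced by `R`, then `R` is minimal normal modulo its centre, contradicting
`NoComp`.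
`resid_false`: the same from quasisimple normal sections of the groups induced by `Q` on the blocks with soluble
quotient.
-/

set_option autoImplicit false
set_option linter.style.haveILetI false
set_option linter.unusedSectionVars false

open Cfsg
open scoped Pointwise commutatorElement

namespace Cfsg.Agent.H37.NX

open Cfsg.Agent.H32.NX9 MulAction

/-- the derived series of a subgroup, inside the group -/
def dser {H : Type*} [Group H] (Q : Subgroup H) : ℕ → Subgroup H
  | 0 => Q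
  | n + 1 => ⁅dser Q n, dser Q n⁆

section dser
variable {H : Type*} [Group H] {Q : Subgroup H}

theorem dser_zero : dser Q 0 = Q := rfl

theorem dser_succ (n : ℕ) : dser Q (n + 1) = ⁅dser Q n, dser Q n⁆ := rfl

theorem dser_succ_le (n : ℕ) : dser Q (n + 1) ≤ dser Q n := Subgroup.commutator_le_self _

theorem dser_antitone : Antitone (dser Q) := antitone_nat_of_succ_le dser_succ_le

theorem dser_normal [hQ : Q.Normal] (n : ℕ) : (dser Q n).Normal := by
  induction n with
  | zero => exact hQ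
  | succ n ih =>
    haveI := ih
    exact Subgroup.commutator_normal _ _

theorem exists_stable [Finite H] : ∃ k, ⁅dser Q k, dser Q k⁆ = dser Q k ∧ ∀ m, dser Q k ≤ dser Q m := by
  let k := Function.argmin (fun n => Nat.card (dser Q n))
  have hk : ∀ m, Nat.card (dser Q k) ≤ Nat.card (dser Q m) :=
    fun m => Function.argmin_le (fun n => Nat.card (dser Q n)) m
  have hk' : ∀ m, k ≤ m → dser Q m = dser Q k := fun m hm =>
    Subgroup.eq_of_le_of_card_ge (dser_antitone hm) (hk m)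
  refine ⟨k, hk' (k + 1) (Nat.le_succ k), fun m => ?_⟩
  rcases le_total k m with h | h
  · exact (hk' m h).ge
  · exact dser_antitone h

end dser

variable {p q : ℕ} {H V B : Type*} [Group H] [Finite H] [AddCommGroup V] [Finite V]
  [DistribMulAction H V] [Finite B] [MulAction H B] {W : B → AddSubgroup V} {K N Q : Subgroup H} {φ : N →* ℂˣ}

/-- the elements of `R` acting trivially on the blocks of `s` -/
def trivOn (W : B → AddSubgroup V) (R : Subgroup H) (s : Set B) : Subgroup H where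
  carrier := {x | x ∈ R ∧ ∀ j ∈ s, ∀ w ∈ W j, x • w = w}
  mul_mem' := by
    rintro a b ⟨ha, ha'⟩ ⟨hb, hb'⟩
    refine ⟨mul_mem ha hb, fun j hj w hw => ?_⟩
    rw [mul_smul, hb' j hj w hw, ha' j hj w hw]
  one_mem' := ⟨one_mem _, fun j _ w _ => one_smul H w⟩
  inv_mem' := by
    rintro a ⟨ha, ha'⟩
    refine ⟨inv_mem ha, fun j hj w hw => ?_⟩
    rw [inv_smul_eq_iff, ha' j hj w hw]

theorem comm_trivial_right (I : ImpC (V := V) p q W K N Q φ) {x y : H} (hx : x ∈ Q) {j : B}
    (hy : ∀ w ∈ W j, y • w = w) : ∀ w ∈ W j, ⁅x, y⁆ • w = w := by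
  intro w hw
  have h1 : ∀ w ∈ W j, y⁻¹ • w = w := fun w hw => by rw [inv_smul_eq_iff, hy w hw]
  have h2 : x⁻¹ • w ∈ W j := smul_mem_of_Q I (inv_mem hx) hw
  rw [commutatorElement_def, mul_smul, mul_smul, mul_smul, h1 w hw, hy _ h2, smul_inv_smul]

end Cfsg.Agent.H37.NX
end

-- part: H37/NX/SLFive
section
prune_inst 0x20020000000000000000080000000000001c010000
set_option linter.all false
open scoped Cfsg.Agent.FastGrp

/-!
# S4979, layer (I): blocks of order `q ^ 2` with a normal `SL(2, 5)` (helper37)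
-/

set_option autoImplicit false
set_option linter.style.haveILetI false
set_option linter.unusedSectionVars false

open Cfsg
open scoped Pointwise commutatorElement

namespace Cfsg.Agent.H37.NX

open Cfsg.Agent.H32.NX9 MulAction

/-- normal subgroups of `SL(2, 5)` -/
theorem sl25_normal (A : Subgroup (Matrix.SpecialLinearGroup (Fin 2) (ZMod 5))) (hn : A.Normal) :
    A ≤ Subgroup.center (Matrix.SpecialLinearGroup (Fin 2) (ZMod 5)) ∨ A = ⊤ := by
  haveI : Fact (Nat.Prime 5) := ⟨by norm_num⟩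
  have h : 3 < Fintype.card (ZMod 5) := by rw [ZMod.card]; norm_num
  set G := Matrix.SpecialLinearGroup (Fin 2) (ZMod 5) with hG
  have hs : IsSimpleGroup (G ⧸ Subgroup.center G) := TwoFusion.SLTwoFacts.isSimpleGroup_psl h
  have hm : (A.map (QuotientGroup.mk' (Subgroup.center G))).Normal :=
    hn.map _ (QuotientGroup.mk'_surjective _)
  rcases hm.eq_bot_or_eq_top with h1 | h1
  · left
    rwa [Subgroup.map_eq_bot_iff, QuotientGroup.ker_mk'] at h1
  · right
    have h2 : A ⊔ Subgroup.center G = ⊤ := by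
      have := Subgroup.comap_map_eq (QuotientGroup.mk' (Subgroup.center G)) A
      rw [h1, Subgroup.comap_top, QuotientGroup.ker_mk'] at this
      exact this.symm
    have h3 : ⁅A ⊔ Subgroup.center G, A ⊔ Subgroup.center G⁆ ≤ A := by
      rw [Subgroup.commutator_le]
      intro a ha b hb
      obtain ⟨a, ha', z, hz, rfl⟩ := Subgroup.mem_sup_of_normal_left.1 ha
      obtain ⟨b, hb', y, hy, rfl⟩ := Subgroup.mem_sup_of_normal_left.1 hb
      have e1 := Subgroup.mem_center_iff.1 hz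
      have e2 := Subgroup.mem_center_iff.1 hy
      have hzi : z⁻¹ ∈ Subgroup.center G := inv_mem hz
      have hyi : y⁻¹ ∈ Subgroup.center G := inv_mem hy
      have e : a * z * (b * y) * (a * z)⁻¹ * (b * y)⁻¹ = a * b * a⁻¹ * b⁻¹ := by
        rw [_root_.mul_inv_rev, _root_.mul_inv_rev]
        calc a * z * (b * y) * (z⁻¹ * a⁻¹) * (y⁻¹ * b⁻¹) = a * (z * (b * y * z⁻¹)) * a⁻¹ * (y⁻¹ * b⁻¹) := by group
          _ = a * (b * y * z⁻¹ * z) * a⁻¹ * (y⁻¹ * b⁻¹) := by rw [← e1 (b * y * z⁻¹)]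
          _ = a * b * (y * (a⁻¹ * y⁻¹)) * b⁻¹ := by group
          _ = a * b * (a⁻¹ * y⁻¹ * y) * b⁻¹ := by rw [← e2 (a⁻¹ * y⁻¹)]
          _ = a * b * a⁻¹ * b⁻¹ := by group
      rw [commutatorElement_def, e, ← commutatorElement_def]
      exact Subgroup.commutator_le_self A (Subgroup.commutator_mem_commutator ha' hb')
    rw [h2, ← _root_.commutator_def, TwoFusion.SLTwoFacts.commutator_eq_top h] at h3
    exact top_le_iff.1 h3

/-- The order of the group of units of the endomorphism ring of a plane. -/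
theorem card_units_end {F M : Type*} [Field F] [Fintype F] [AddCommGroup M] [Module F M] [Finite M]
    (h2 : Module.finrank F M = 2) :
    Nat.card (Module.End F M)ˣ = (Fintype.card F ^ 2 - 1) * (Fintype.card F ^ 2 - Fintype.card F) := by
  have hfin : Module.Finite F M := Module.Finite.of_finite
  let e : M ≃ₗ[F] (Fin 2 → F) := LinearEquiv.ofFinrankEq M (Fin 2 → F) (by
    rw [h2, Module.finrank_fintype_fun_eq_card, Fintype.card_fin])
  let e1 : Module.End F M ≃+* Module.End F (Fin 2 → F) := e.conjRingEquiv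
  let e2 : Module.End F (Fin 2 → F) ≃ₐ[F] Matrix (Fin 2) (Fin 2) F := LinearMap.toMatrixAlgEquiv'
  have e3 : (Module.End F M)ˣ ≃* Matrix.GeneralLinearGroup (Fin 2) F :=
    Units.mapEquiv (e1.toMulEquiv.trans e2.toMulEquiv)
  rw [Nat.card_congr e3.toEquiv, Matrix.card_GL_field, Fin.prod_univ_two]
  simp

variable {p q : ℕ} {H V B : Type*} [Group H] [Finite H] [AddCommGroup V] [Finite V]
  [DistribMulAction H V] [Finite B] [MulAction H B] {W : B → AddSubgroup V} {K N Q : Subgroup H} {φ : N →* ℂˣ}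

/-- The additive endomorphism of a block given by an element of `Q`. -/
def blkAdd (I : ImpC (V := V) p q W K N Q φ) (i : B) (g : Q) : W i →+ W i where
  toFun w := ⟨(g : H) • (w : V), smul_mem_of_Q I g.2 w.2⟩
  map_zero' := Subtype.ext (smul_zero (g : H))
  map_add' _ _ := Subtype.ext (smul_add (g : H) _ _)

/-- A homomorphism to the additive endomorphisms, abstractly. -/
theorem index_dvd_of_add {G M : Type*} [Group G] [Finite G] [AddCommGroup M] [Finite M] {q : ℕ} [Fact q.Prime]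
    [Module (ZMod q) M] (hM : Nat.card M = q ^ 2) (g : G → (M →+ M)) (h1 : g 1 = AddMonoidHom.id M)
    (hmul : ∀ a b x, g (a * b) x = g a (g b x)) (R : Subgroup G) (hR : ∀ x, x ∈ R ↔ ∀ w, g x w = w) :
    R.index ∣ (q ^ 2 - 1) * (q ^ 2 - q) := by
  have hq : q.Prime := Fact.out
  let F : G →* Module.End (ZMod q) M :=
    { toFun := fun x => (g x).toZModLinearMap q
      map_one' := by
        apply LinearMap.ext
        intro w
        change g 1 w = w
        rw [h1]
        rfl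
      map_mul' := fun a b => by
        apply LinearMap.ext
        intro w
        exact hmul a b w }
  have hker : F.toHomUnits.ker = R := by
    ext x
    rw [MonoidHom.mem_ker, hR, Units.ext_iff]
    constructor
    · intro h w
      have h2 : F x = 1 := h
      exact congrArg (fun T : Module.End (ZMod q) M => T w) h2
    · intro h
      change F x = 1
      apply LinearMap.ext
      intro w
      exact h w
  have hfr : Module.finrank (ZMod q) M = 2 := by
    have hfin : Module.Finite (ZMod q) M := Module.Finite.of_finite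
    have h5 : Nat.card M = Nat.card (ZMod q) ^ Module.finrank (ZMod q) M := Module.natCard_eq_pow_finrank
    rw [hM, Nat.card_zmod] at h5
    exact (Nat.pow_right_injective hq.two_le h5).symm
  have h6 := card_units_end hfr
  rw [ZMod.card] at h6
  rw [← h6, ← hker, Subgroup.index_ker]
  exact Subgroup.card_subgroup_dvd_card _

/-- `|Q : C_Q(W i)|` divides `|GL(2, q)|`. -/
theorem index_blk_dvd (I : ImpC (V := V) p q W K N Q φ) (i : B) (hW : Nat.card (W i) = q ^ 2) :
    (blk I i).ker.index ∣ (q ^ 2 - 1) * (q ^ 2 - q) := by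
  haveI : Fact q.Prime := ⟨I.hq⟩
  letI : Module (ZMod q) (W i) := AddCommGroup.zmodModule (n := q) (by
    intro x
    exact Subtype.ext (I.core.exp (x : V)))
  refine index_dvd_of_add (q := q) hW (blkAdd I i) ?_ ?_ _ ?_
  · ext w
    exact one_smul H (w : V)
  · intro a b x
    exact Subtype.ext (mul_smul (a : H) (b : H) (x : V))
  · intro x
    rw [MonoidHom.mem_ker, blk_eq_one_iff]
    constructor
    · intro h w
      exact Subtype.ext (h w w.2)
    · intro h w hw
      exact congrArg Subtype.val (h ⟨w, hw⟩)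

/-- groups of order dividing `2 ^ u * r ^ v` are soluble -/
theorem solvable_of_dvd {G : Type*} [Group G] [Finite G] {r u v : ℕ} (hr : r.Prime)
    (h : Nat.card G ∣ 2 ^ u * r ^ v) : Group.IsSolvable G := by
  obtain ⟨a, b, ha, hb, hab⟩ := (Nat.dvd_mul).1 h
  obtain ⟨a', -, rfl⟩ := (Nat.dvd_prime_pow Nat.prime_two).1 ha
  obtain ⟨b', -, rfl⟩ := (Nat.dvd_prime_pow hr).1 hb
  exact Cfsg.Agent.S0144.result 2 r a' b' Nat.prime_two hr hab.symm

theorem dser_eq_map {H : Type*} [Group H] (Q : Subgroup H) (n : ℕ) :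
    dser Q n = (derivedSeries Q n).map Q.subtype := by
  induction n with
  | zero =>
    rw [dser_zero, derivedSeries_zero, ← MonoidHom.range_eq_map, Subgroup.range_subtype]
  | succ n ih => rw [dser_succ, derivedSeries_succ, Subgroup.map_commutator, ih]

end Cfsg.Agent.H37.NX
end

-- part: H322/NX/Perm_mg
section

end

-- part: H32/NX9/LayerI
section
prune_inst 0x8460306508c000000000858651005e06df000520000b880008840c0404823628498026608480280c0208000500310008100000b000400000048404000101008080a844042300011d46009700000c41020020000000000000000080000004100401c010000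
set_option linter.all false
open scoped Cfsg.Agent.FastGrp

-- part: H32/NX9/AglA
section
/-!
# S4979, layer (I): the degree 8 case, the group `K / Q` (helper32)
-/

set_option autoImplicit false
set_option linter.unusedSectionVars false
set_option linter.style.haveILetI false

open Cfsg
open scoped commutatorElement Pointwise

namespace Cfsg.Agent.H32.NX9

section part1

/-- A perfect group has no nontrivial homomorphism to a commutative group. -/
theorem hom_trivial {H A : Type*} [Group H] [CommGroup A] (hperf : commutator H = ⊤) (f : H →* A) (h : H) :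
    f h = 1 := by
  have h1 : commutator H ≤ f.ker := Abelianization.commutator_subset_ker f
  rw [hperf] at h1
  exact h1 trivial

/-- A subgroup containing all commutators of a perfect group is everything. -/
theorem eq_top_of_commutator {H : Type*} [Group H] (hperf : commutator H = ⊤) (C : Subgroup H)
    (h : ∀ a b : H, ⁅a, b⁆ ∈ C) : C = ⊤ := by
  rw [eq_top_iff, ← hperf, commutator_def, Subgroup.commutator_le]
  exact fun a _ b _ => h a b

/-- Transfer: a central `r`-subgroup of a perfect group with commutative Sylow `r`-subgroup is trivial. -/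
theorem central_trivial {H : Type*} [Group H] [Finite H] (hperf : commutator H = ⊤) {r : ℕ} [Fact r.Prime]
    (P : Sylow r H) (hcomm : ∀ a ∈ (P : Subgroup H), ∀ b ∈ (P : Subgroup H), a * b = b * a) {z : H}
    (hzP : z ∈ (P : Subgroup H)) (hz : z ∈ Subgroup.center H) : z = 1 := by
  classical
  let f : (P : Subgroup H) →* Abelianization (P : Subgroup H) := Abelianization.of
  have hinj : ∀ x : (P : Subgroup H), f x = 1 → x = 1 := by
    intro x hx
    have h1 : x ∈ commutator (P : Subgroup H) := by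
      have : x ∈ (Abelianization.of : (P : Subgroup H) →* _).ker := hx
      rwa [Abelianization.ker_of] at this
    have h2 : commutator (P : Subgroup H) = ⊥ := by
      rw [eq_bot_iff, commutator_def, Subgroup.commutator_le]
      intro a _ b _
      rw [Subgroup.mem_bot, commutatorElement_eq_one_iff_mul_comm]
      exact Subtype.ext (hcomm a a.2 b b.2)
    rw [h2, Subgroup.mem_bot] at h1
    exact h1
  have hcen : ∀ g : H, g * z = z * g := Subgroup.mem_center_iff.1 hz
  have hkey : ∀ (k : ℕ) (g₀ : H), g₀⁻¹ * z ^ k * g₀ ∈ (P : Subgroup H) → g₀⁻¹ * z ^ k * g₀ = z ^ k := by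
    intro k g₀ _
    have h1 : Commute g₀ (z ^ k) := (show Commute g₀ z from hcen g₀).pow_right k
    rw [mul_assoc, ← h1.eq, inv_mul_cancel_left]
  haveI : (P : Subgroup H).FiniteIndex := inferInstance
  have h1 := MonoidHom.transfer_eq_pow f z hkey
  have h2 : (MonoidHom.transfer f) z = 1 := hom_trivial hperf _ z
  rw [h2] at h1
  have h3 := hinj _ h1.symm
  have h4 : z ^ (P : Subgroup H).index = 1 := congrArg Subtype.val h3
  have h5 : orderOf z ∣ (P : Subgroup H).index := orderOf_dvd_of_pow_eq_one h4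
  have h6 : ¬ r ∣ (P : Subgroup H).index := P.not_dvd_index
  obtain ⟨k, hk⟩ := P.isPGroup' ⟨z, hzP⟩
  have hk' : z ^ r ^ k = 1 := congrArg Subtype.val hk
  have h7 : orderOf z ∣ r ^ k := orderOf_dvd_of_pow_eq_one hk'
  obtain ⟨m, _, hm⟩ := (Nat.dvd_prime_pow (Fact.out : r.Prime)).1 h7
  rcases Nat.eq_zero_or_pos m with h8 | h8
  · rw [h8, pow_zero] at hm
    exact orderOf_eq_one_iff.1 hm
  · exfalso
    apply h6
    refine (dvd_trans ?_ h5)
    rw [hm]
    exact dvd_pow_self r h8.ne'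

/-- joint eigenvector of a set of automorphisms -/
def Eig {A : Type*} [CommGroup A] (S : Set (MulAut A)) (x : A) : Prop := ∀ σ ∈ S, σ x = x ∨ σ x = x⁻¹

theorem pow_mem_closure_eig {A : Type*} [CommGroup A] (l : List (MulAut A)) :
    ∀ (D : Subgroup A) (_ : ∀ σ ∈ l, ∀ x ∈ D, σ x ∈ D) (_ : ∀ σ ∈ l, ∀ x, σ (σ x) = x)
      (_ : ∀ σ ∈ l, ∀ τ ∈ l, ∀ x, σ (τ x) = τ (σ x)), ∀ x ∈ D,
      x ^ 2 ^ l.length ∈ Subgroup.closure {y | y ∈ D ∧ Eig {σ | σ ∈ l} y} := by
  induction l with
  | nil =>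
    intro D _ _ _ x hx
    rw [List.length_nil, pow_zero, pow_one]
    exact Subgroup.subset_closure ⟨hx, fun σ hσ => absurd hσ (by simp)⟩
  | cons σ l ih =>
    intro D hD hinv hcomm x hx
    have hσ : σ ∈ σ :: l := List.mem_cons_self
    have hl : ∀ τ ∈ l, τ ∈ σ :: l := fun τ hτ => List.mem_cons_of_mem _ hτ
    let Dp : Subgroup A :=
      { carrier := {y | y ∈ D ∧ σ y = y}
        one_mem' := ⟨one_mem _, map_one σ⟩
        mul_mem' := fun {a b} ha hb => ⟨mul_mem ha.1 hb.1, by rw [map_mul, ha.2, hb.2]⟩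
        inv_mem' := fun {a} ha => ⟨inv_mem ha.1, by rw [map_inv, ha.2]⟩ }
    let Dm : Subgroup A :=
      { carrier := {y | y ∈ D ∧ σ y = y⁻¹}
        one_mem' := ⟨one_mem _, by rw [map_one, inv_one]⟩
        mul_mem' := fun {a b} ha hb => ⟨mul_mem ha.1 hb.1, by rw [map_mul, ha.2, hb.2, mul_inv]⟩
        inv_mem' := fun {a} ha => ⟨inv_mem ha.1, by rw [map_inv, ha.2]⟩ }
    have h1 := ih Dp (fun τ hτ y hy => ⟨hD τ (hl τ hτ) y hy.1, by
        rw [hcomm σ hσ τ (hl τ hτ), hy.2]⟩) (fun τ hτ => hinv τ (hl τ hτ))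
        (fun τ hτ ρ hρ => hcomm τ (hl τ hτ) ρ (hl ρ hρ)) (x * σ x)
        ⟨mul_mem hx (hD σ hσ x hx), by rw [map_mul, hinv σ hσ, mul_comm]⟩
    have h2 := ih Dm (fun τ hτ y hy => ⟨hD τ (hl τ hτ) y hy.1, by
        rw [hcomm σ hσ τ (hl τ hτ), hy.2, map_inv]⟩) (fun τ hτ => hinv τ (hl τ hτ))
        (fun τ hτ ρ hρ => hcomm τ (hl τ hτ) ρ (hl ρ hρ)) (x * (σ x)⁻¹)
        ⟨mul_mem hx (inv_mem (hD σ hσ x hx)), by
          rw [map_mul, map_inv, hinv σ hσ, mul_inv, inv_inv, mul_comm]⟩
    have h3 : x ^ 2 ^ (σ :: l).length = (x * σ x) ^ 2 ^ l.length * (x * (σ x)⁻¹) ^ 2 ^ l.length := by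
      rw [← mul_pow, List.length_cons, pow_succ', pow_mul]
      congr 1
      rw [pow_two]
      calc x * x = x * x * (σ x * (σ x)⁻¹) := by rw [mul_inv_cancel, mul_one]
        _ = x * σ x * (x * (σ x)⁻¹) := by ac_rfl
    rw [h3]
    refine mul_mem ?_ ?_
    · refine Subgroup.closure_mono ?_ h1
      rintro y ⟨⟨hy1, hy2⟩, hy3⟩
      refine ⟨hy1, ?_⟩
      intro τ hτ
      rcases List.mem_cons.1 hτ with rfl | hτ
      · exact Or.inl hy2
      · exact hy3 τ hτ
    · refine Subgroup.closure_mono ?_ h2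
      rintro y ⟨⟨hy1, hy2⟩, hy3⟩
      refine ⟨hy1, ?_⟩
      intro τ hτ
      rcases List.mem_cons.1 hτ with rfl | hτ
      · exact Or.inr hy2
      · exact hy3 τ hτ

/-- An abelian group of odd order with a finite elementary abelian `2`-group of automorphisms is generated by its
eigenvectors. -/
theorem closure_eig {A Γ : Type*} [CommGroup A] [Finite A] [Group Γ] [Finite Γ] (hodd : ¬ 2 ∣ Nat.card A)
    (α : Γ →* MulAut A) (hinv : ∀ g x, α g (α g x) = x) (hcomm : ∀ g h x, α g (α h x) = α h (α g x)) :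
    Subgroup.closure {y : A | ∀ g, α g y = y ∨ α g y = y⁻¹} = ⊤ := by
  classical
  haveI : Fintype Γ := Fintype.ofFinite Γ
  let l : List (MulAut A) := (Finset.univ : Finset Γ).toList.map (fun g => α g)
  have hl : ∀ σ ∈ l, ∃ g, α g = σ := by
    intro σ hσ
    obtain ⟨g, -, rfl⟩ := List.mem_map.1 hσ
    exact ⟨g, rfl⟩
  have hl' : ∀ g, α g ∈ l := fun g => List.mem_map.2 ⟨g, by simp, rfl⟩
  rw [eq_top_iff]
  intro x _
  have hc : (Nat.card A).Coprime (2 ^ l.length) :=
    Nat.Coprime.pow_right _ ((Nat.Prime.coprime_iff_not_dvd Nat.prime_two).2 hodd).symm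
  obtain ⟨y, hy⟩ : ∃ y : A, y ^ 2 ^ l.length = x := by
    refine ⟨(powCoprime hc).symm x, ?_⟩
    exact (powCoprime hc).apply_symm_apply x
  rw [← hy]
  have h1 := pow_mem_closure_eig l ⊤ (fun _ _ _ _ => trivial)
    (by intro σ hσ z; obtain ⟨g, rfl⟩ := hl σ hσ; exact hinv g z)
    (by
      intro σ hσ τ hτ z
      obtain ⟨g, rfl⟩ := hl σ hσ
      obtain ⟨h, rfl⟩ := hl τ hτ
      exact hcomm g h z) y trivial
  refine Subgroup.closure_mono ?_ h1
  rintro z ⟨-, hz⟩
  exact fun g => hz (α g) (hl' g)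

end part1

section part2

/-- `K / Q` is elementary abelian, regular on the `8` points of `B`, and `H` is `3`-transitive. -/
structure Agl {H : Type*} [Group H] (B : Type*) [MulAction H B] (K Q : Subgroup H) : Prop where
  nK : K.Normal
  nQ : Q.Normal
  QK : Q ≤ K
  memQ : ∀ g : H, g ∈ Q ↔ ∀ b : B, g • b = b
  sq : ∀ x ∈ K, x * x ∈ Q
  cm : ∀ x ∈ K, ∀ y ∈ K, ⁅x, y⁆ ∈ Q
  reg : ∀ x ∈ K, ∀ b : B, x • b = b → x ∈ Q
  tr : ∀ b c : B, ∃ x ∈ K, x • b = c
  card : Nat.card B = 8
  rel : Q.relIndex K = 8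
  t3 : ∀ i j k i' j' k' : B, i ≠ j → i ≠ k → j ≠ k → i' ≠ j' → i' ≠ k' → j' ≠ k' →
    ∃ h : H, h • i = i' ∧ h • j = j' ∧ h • k = k'

section perm
variable {H B : Type*} [Group H] [MulAction H B] {K Q : Subgroup H}

theorem exists_not_mem_finset [Finite B] (hc : Nat.card B = 8) (s : Finset B) (hs : s.card ≤ 7) :
    ∃ b, b ∉ s := by
  classical
  haveI : Fintype B := Fintype.ofFinite B
  by_contra h
  push Not at h
  have h1 : (Finset.univ : Finset B) ⊆ s := fun x _ => h x
  have h2 := Finset.card_le_card h1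
  rw [Finset.card_univ, ← Nat.card_eq_fintype_card] at h2
  omega

/-- two-transitivity from three-transitivity -/
theorem two_trans [Finite B] (hc : Nat.card B = 8)
    (t3 : ∀ i j k i' j' k' : B, i ≠ j → i ≠ k → j ≠ k → i' ≠ j' → i' ≠ k' → j' ≠ k' →
      ∃ h : H, h • i = i' ∧ h • j = j' ∧ h • k = k') (i j i' j' : B) (hij : i ≠ j) (hij' : i' ≠ j') :
    ∃ h : H, h • i = i' ∧ h • j = j' := by
  classical
  obtain ⟨k, hk⟩ := exists_not_mem_finset hc {i, j} (by
    exact (Finset.card_le_two).trans (by norm_num))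
  obtain ⟨k', hk'⟩ := exists_not_mem_finset hc {i', j'} (by
    exact (Finset.card_le_two).trans (by norm_num))
  simp only [Finset.mem_insert, Finset.mem_singleton, not_or] at hk hk'
  obtain ⟨h, h1, h2, -⟩ := t3 i j k i' j' k' hij (Ne.symm hk.1) (Ne.symm hk.2) hij' (Ne.symm hk'.1)
    (Ne.symm hk'.2)
  exact ⟨h, h1, h2⟩

/-- a normal subgroup moving a point is transitive -/
theorem normal_trans [Finite B] (hc : Nat.card B = 8)
    (t3 : ∀ i j k i' j' k' : B, i ≠ j → i ≠ k → j ≠ k → i' ≠ j' → i' ≠ k' → j' ≠ k' →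
      ∃ h : H, h • i = i' ∧ h • j = j' ∧ h • k = k') (M : Subgroup H) (hM : M.Normal) {m : H} (hm : m ∈ M)
    {b : B} (hb : m • b ≠ b) (c c' : B) : ∃ x ∈ M, x • c = c' := by
  by_cases h : c = c'
  · exact ⟨1, one_mem _, by rw [one_smul, h]⟩
  · obtain ⟨g, h1, h2⟩ := two_trans hc t3 b (m • b) c c' (Ne.symm hb) h
    refine ⟨g * m * g⁻¹, hM.conj_mem m hm g, ?_⟩
    rw [← h1, mul_smul, mul_smul, inv_smul_smul, h2]

/-- construction of `Agl` -/
theorem agl_mk [Finite H] [Finite B] (nK : K.Normal) (QK : Q ≤ K)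
    (memQ : ∀ g : H, g ∈ Q ↔ ∀ b : B, g • b = b) (hrel : Q.relIndex K = 8) (hc : Nat.card B = 8)
    (t3 : ∀ i j k i' j' k' : B, i ≠ j → i ≠ k → j ≠ k → i' ≠ j' → i' ≠ k' → j' ≠ k' →
      ∃ h : H, h • i = i' ∧ h • j = j' ∧ h • k = k') : Agl B K Q := by
  classical
  have nQ : Q.Normal := by
    constructor
    intro g hg x
    rw [memQ]
    intro i
    rw [mul_smul, mul_smul, (memQ g).1 hg, smul_inv_smul]
  -- an element of order two mod `Q`
  haveI : (Q.subgroupOf K).Normal := nQ.subgroupOf K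
  have hcq : Nat.card (K ⧸ Q.subgroupOf K) = 8 := hrel
  haveI : Fact (Nat.Prime 2) := ⟨Nat.prime_two⟩
  obtain ⟨x₀, hx₀⟩ := exists_prime_orderOf_dvd_card' (G := K ⧸ Q.subgroupOf K) 2 (by rw [hcq]; norm_num)
  obtain ⟨x, rfl⟩ := QuotientGroup.mk_surjective x₀
  have hx2 : (x : H) * x ∈ Q := by
    have h1 : (QuotientGroup.mk x : K ⧸ Q.subgroupOf K) ^ 2 = 1 := by rw [← hx₀]; exact pow_orderOf_eq_one _
    rw [← QuotientGroup.mk_pow, QuotientGroup.eq_one_iff, Subgroup.mem_subgroupOf, pow_two] at h1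
    exact h1
  have hxQ : (x : H) ∉ Q := by
    intro h
    have h1 : (QuotientGroup.mk x : K ⧸ Q.subgroupOf K) = 1 := by
      rw [QuotientGroup.eq_one_iff, Subgroup.mem_subgroupOf]
      exact h
    rw [h1, orderOf_one] at hx₀
    norm_num at hx₀
  have hxb : ∃ b : B, (x : H) • b ≠ b := by
    by_contra hcon
    push Not at hcon
    exact hxQ ((memQ _).2 hcon)
  obtain ⟨b₀, hb₀⟩ := hxb
  have tr : ∀ b c : B, ∃ x ∈ K, x • b = c := normal_trans hc t3 K nK x.2 hb₀
  haveI : MulAction.IsPretransitive K B := by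
    constructor
    intro b c
    obtain ⟨x, hx, h⟩ := tr b c
    exact ⟨⟨x, hx⟩, h⟩
  have reg : ∀ x ∈ K, ∀ b : B, x • b = b → x ∈ Q := by
    intro y hy b hyb
    have h1 : (MulAction.stabilizer K b).index = 8 := by
      rw [MulAction.index_stabilizer_of_transitive, hc]
    have h2 : Q.subgroupOf K ≤ MulAction.stabilizer K b := by
      intro z hz
      rw [MulAction.mem_stabilizer_iff]
      exact (memQ _).1 (Subgroup.mem_subgroupOf.1 hz) b
    have h3 : Q.subgroupOf K = MulAction.stabilizer K b := by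
      refine Subgroup.eq_of_le_of_card_ge h2 ?_
      have h4 := (Q.subgroupOf K).card_mul_index
      have h5 := (MulAction.stabilizer K b).card_mul_index
      rw [h1] at h5
      rw [show (Q.subgroupOf K).index = 8 from hrel] at h4
      omega
    have h4 : (⟨y, hy⟩ : K) ∈ Q.subgroupOf K := by
      rw [h3, MulAction.mem_stabilizer_iff]
      exact hyb
    exact Subgroup.mem_subgroupOf.1 h4
  have sq : ∀ y ∈ K, y * y ∈ Q := by
    intro y hy
    by_cases hyQ : y ∈ Q
    · exact mul_mem hyQ hyQ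
    · have h1 : y • b₀ ≠ b₀ := fun h => hyQ (reg y hy b₀ h)
      obtain ⟨h, h2, h3⟩ := two_trans hc t3 b₀ ((x : H) • b₀) b₀ (y • b₀) (Ne.symm hb₀) (Ne.symm h1)
      have h4 : y⁻¹ * (h * x * h⁻¹) ∈ Q := by
        refine reg _ (mul_mem (inv_mem hy) (nK.conj_mem _ x.2 h)) b₀ ?_
        have : h⁻¹ • b₀ = b₀ := by rw [inv_smul_eq_iff, h2]
        rw [mul_smul, mul_smul, mul_smul, this, h3, inv_smul_smul]
      have h5 : (y : H ⧸ Q) = ((h * x * h⁻¹ : H) : H ⧸ Q) := QuotientGroup.eq.2 h4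
      rw [← QuotientGroup.eq_one_iff, QuotientGroup.mk_mul, h5, ← QuotientGroup.mk_mul,
        QuotientGroup.eq_one_iff]
      have h6 : h * x * h⁻¹ * (h * x * h⁻¹) = h * (x * x) * h⁻¹ := by group
      rw [h6]
      exact nQ.conj_mem _ hx2 h
  have cm : ∀ x ∈ K, ∀ y ∈ K, ⁅x, y⁆ ∈ Q := by
    intro y hy z hz
    have h1 := sq y hy
    have h2 := sq z hz
    have h3 := sq (y * z) (mul_mem hy hz)
    have h4 : ⁅y, z⁆ = (y * z * (y * z)) * (z⁻¹ * (y * y)⁻¹ * z) * (z * z)⁻¹ := by
      rw [commutatorElement_def]; group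
    rw [h4]
    refine mul_mem (mul_mem h3 ?_) (inv_mem h2)
    have := nQ.conj_mem _ (inv_mem h1) z⁻¹
    rwa [inv_inv] at this
  exact ⟨nK, nQ, QK, memQ, sq, cm, reg, tr, hc, hrel, t3⟩

end perm

section imp
open Cfsg.Agent.H37.NX
variable {p q : ℕ} {H V B : Type*} [Group H] [Finite H] [AddCommGroup V] [Finite V] [DistribMulAction H V]
  [Finite B] [MulAction H B] {W : B → AddSubgroup V} {K N Q : Subgroup H} {φ : N →* ℂˣ}

theorem index_K (I : ImpC (V := V) p q W K N Q φ) (hQ : Q.index = 1344) : K.index = 168 := by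
  haveI := I.core.nK
  haveI := I.core.simp
  have h1 : Nat.card (H ⧸ K) ∣ 2688 := by
    have h2 : K.index ∣ Q.index := Subgroup.index_dvd_of_le I.QK
    rw [hQ] at h2
    exact h2.trans (by norm_num)
  obtain ⟨M, hM1, hM2, ⟨e⟩⟩ := Finite.exists_type_univ_nonempty_mulEquiv.{_, 0} (H ⧸ K)
  haveI : IsSimpleGroup M := (e.isSimpleGroup_congr).1 inferInstance
  have h3 : ¬ ∀ a b : M, a * b = b * a := by
    intro h
    apply I.core.na
    refine ⟨⟨fun a b => ?_⟩⟩
    apply e.injective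
    rw [map_mul, map_mul, h]
  have h4 : Nat.card M = Nat.card (H ⧸ K) := (Nat.card_congr e.toEquiv).symm
  rw [← h4] at h1
  have h5 := (Cfsg.Agent.H386.S3513N8.simple_2688 h3 h1).1
  rw [h4] at h5
  exact h5

theorem agl_of_impC (I : ImpC (V := V) p q W K N Q φ) (hn : Nat.card B = 8) (hQ : Q.index = 1344) :
    Agl B K Q := by
  refine agl_mk I.core.nK I.QK I.memQ ?_ hn I.t3
  have h1 := Subgroup.relIndex_mul_index I.QK
  rw [index_K I hQ, hQ] at h1
  omega

end imp

end part2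

section part3

theorem comm_eq {G : Type*} [Group G] (x y : G) : ⁅x, y⁆ = (x * y) * (y * x)⁻¹ := by
  rw [commutatorElement_def]; group

theorem comm_central {G : Type*} [Group G] (x y a b : G) (ha : ∀ g : G, g * a = a * g)
    (hb : ∀ g : G, g * b = b * g) : ⁅x * a, y * b⁆ = ⁅x, y⁆ := by
  rw [comm_eq, comm_eq]
  have h1 : x * a * (y * b) = x * y * (a * b) := by
    rw [mul_assoc x a, ← mul_assoc a y b, ← ha y, mul_assoc y a b, ← mul_assoc]
  have h2 : y * b * (x * a) = y * x * (a * b) := by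
    rw [mul_assoc y b, ← mul_assoc b x a, ← hb x, mul_assoc x b a, ← mul_assoc, hb a]
  rw [h1, h2, mul_inv_rev (y * x), ← mul_assoc, mul_assoc (x * y), mul_inv_cancel, mul_one]

section agl
variable {H B : Type*} [Group H] [MulAction H B] [Finite B] {K Q : Subgroup H}

theorem Agl.pick (A : Agl B K Q) (b : B) (s : Finset B) (hs : s.card ≤ 7) : ∃ z ∈ K, z • b ∉ s := by
  obtain ⟨c, hc⟩ := exists_not_mem_finset A.card s hs
  obtain ⟨z, hz, h⟩ := A.tr b c
  exact ⟨z, hz, by rw [h]; exact hc⟩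

theorem Agl.nonempty (A : Agl B K Q) : Nonempty B := by
  have h := A.card
  exact (Nat.card_pos_iff.1 (by rw [h]; norm_num)).1

theorem Agl.smul_ne (A : Agl B K Q) {x : H} (hx : x ∈ K) (hxQ : x ∉ Q) (b : B) : x • b ≠ b :=
  fun h => hxQ (A.reg x hx b h)

theorem Agl.conj_eq (A : Agl B K Q) {x y h : H} (hx : x ∈ K) (hy : y ∈ K) {b : B} (hb : h • b = b)
    (hxy : h • x • b = y • b) : ∃ k ∈ Q, h * x * h⁻¹ = y * k := by
  refine ⟨y⁻¹ * (h * x * h⁻¹), A.reg _ (mul_mem (inv_mem hy) (A.nK.conj_mem _ hx h)) b ?_, ?_⟩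
  · have : h⁻¹ • b = b := by rw [inv_smul_eq_iff, hb]
    rw [mul_smul, mul_smul, mul_smul, this, hxy, inv_smul_smul]
  · rw [mul_inv_cancel_left]

theorem Agl.move1 (A : Agl B K Q) (b : B) {x y : H} (hx : x ∈ K) (hy : y ∈ K) (hxQ : x ∉ Q) (hyQ : y ∉ Q) :
    ∃ h : H, h • b = b ∧ ∃ k ∈ Q, h * x * h⁻¹ = y * k := by
  obtain ⟨h, h1, h2⟩ := two_trans A.card A.t3 b (x • b) b (y • b) (A.smul_ne hx hxQ b).symm
    (A.smul_ne hy hyQ b).symm
  exact ⟨h, h1, A.conj_eq hx hy h1 h2⟩

theorem Agl.ne_of (A : Agl B K Q) {x y : H} (hx : x ∈ K) (hy : y ∈ K) (h : x⁻¹ * y ∉ Q) (b : B) :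
    x • b ≠ y • b := by
  intro h1
  refine h (A.reg _ (mul_mem (inv_mem hx) hy) b ?_)
  rw [mul_smul, ← h1, inv_smul_smul]

theorem Agl.move2 (A : Agl B K Q) (b : B) {x y z : H} (hx : x ∈ K) (hy : y ∈ K) (hz : z ∈ K) (hxQ : x ∉ Q)
    (hyQ : y ∉ Q) (hzQ : z ∉ Q) (hxy : x⁻¹ * y ∉ Q) (hxz : x⁻¹ * z ∉ Q) :
    ∃ h : H, h • b = b ∧ (∃ k ∈ Q, h * x * h⁻¹ = x * k) ∧ ∃ k ∈ Q, h * y * h⁻¹ = z * k := by
  obtain ⟨h, h1, h2, h3⟩ := A.t3 b (x • b) (y • b) b (x • b) (z • b) (A.smul_ne hx hxQ b).symm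
    (A.smul_ne hy hyQ b).symm (A.ne_of hx hy hxy b) (A.smul_ne hx hxQ b).symm
    (A.smul_ne hz hzQ b).symm (A.ne_of hx hz hxz b)
  exact ⟨h, h1, A.conj_eq hx hx h1 h2, A.conj_eq hy hz h1 h3⟩

theorem Agl.comm_mem (A : Agl B K Q) (C : Subgroup H) [C.Normal] (hC : ∀ h : H, ∀ k ∈ Q, ⁅h, k⁆ ∈ C) :
    ∀ x ∈ K, ∀ y ∈ K, ⁅x, y⁆ ∈ C := by
  classical
  let π := QuotientGroup.mk' C
  have hone : ∀ x : H, π x = 1 ↔ x ∈ C := fun x => QuotientGroup.eq_one_iff x
  have hz : ∀ k ∈ Q, ∀ g : H ⧸ C, g * π k = π k * g := by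
    intro k hk g
    obtain ⟨h, rfl⟩ := QuotientGroup.mk'_surjective C g
    have h1 := (hone _).2 (hC h k hk)
    rw [map_commutatorElement, commutatorElement_eq_one_iff_mul_comm] at h1
    exact h1
  have key : ∀ x y z : H, x ∈ K → y ∈ K → z ∈ K → x ∉ Q → y ∉ Q → z ∉ Q → x⁻¹ * y ∉ Q → x⁻¹ * z ∉ Q →
      π ⁅x, y⁆ = π ⁅x, z⁆ := by
    intro x y z hx hy hz' hxQ hyQ hzQ hxy hxz
    obtain ⟨b⟩ := A.nonempty
    obtain ⟨h, -, ⟨k₁, hk₁, e₁⟩, ⟨k₂, hk₂, e₂⟩⟩ := A.move2 b hx hy hz' hxQ hyQ hzQ hxy hxz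
    have h1 : π (h * ⁅x, y⁆ * h⁻¹) = π ⁅x, y⁆ := by
      rw [map_mul, map_mul, map_inv, hz _ (A.cm x hx y hy), mul_assoc, mul_inv_cancel, mul_one]
    have h2 : h * ⁅x, y⁆ * h⁻¹ = ⁅h * x * h⁻¹, h * y * h⁻¹⁆ := by
      simp only [commutatorElement_def]; group
    rw [← h1, h2, e₁, e₂, map_commutatorElement, map_mul, map_mul,
      comm_central _ _ _ _ (hz _ hk₁) (hz _ hk₂), ← map_commutatorElement]
  intro x hx y hy
  by_cases hxQ : x ∈ Q
  · rw [← inv_mem_iff, commutatorElement_inv]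
    exact hC y x hxQ
  by_cases hyQ : y ∈ Q
  · exact hC x y hyQ
  by_cases hxy : x⁻¹ * y ∈ Q
  · have h1 : ⁅x, y⁆ = x * ⁅x, x⁻¹ * y⁆ * x⁻¹ := by
      simp only [commutatorElement_def]; group
    rw [h1]
    exact (inferInstance : C.Normal).conj_mem _ (hC _ _ hxy) x
  obtain ⟨b⟩ := A.nonempty
  obtain ⟨z, hzK, hz1⟩ := A.pick b {b, x • b, y⁻¹ • b, (y⁻¹ * x) • b} (by
    exact (Finset.card_le_four).trans (by norm_num))
  simp only [Finset.mem_insert, Finset.mem_singleton, not_or] at hz1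
  obtain ⟨h1, h2, h3, h4⟩ := hz1
  have hzQ : z ∉ Q := fun h => h1 ((A.memQ z).1 h b)
  have hxz : x⁻¹ * z ∉ Q := fun h => h2 (by
    have := (A.memQ _).1 h b
    rw [mul_smul, inv_smul_eq_iff] at this
    exact this)
  have hyz : y * z ∉ Q := fun h => h3 (by
    have := (A.memQ _).1 h b
    rw [mul_smul, ← eq_inv_smul_iff] at this
    exact this)
  have hxyz : x⁻¹ * (y * z) ∉ Q := fun h => h4 (by
    have := (A.memQ _).1 h b
    rw [mul_smul, inv_smul_eq_iff, mul_smul, ← eq_inv_smul_iff] at this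
    rw [mul_smul]
    exact this)
  have e1 := key x y z hx hy hzK hxQ hyQ hzQ hxy hxz
  have e2 := key x y (y * z) hx hy (mul_mem hy hzK) hxQ hyQ hyz hxy hxyz
  have e3 : ⁅x, y * z⁆ = ⁅x, y⁆ * (y * ⁅x, z⁆ * y⁻¹) := by
    simp only [commutatorElement_def]; group
  rw [e3, map_mul, map_mul π (y * _) _, map_mul π y, hz _ (A.cm x hx z hzK), mul_assoc (π _) (π y),
    map_inv, mul_inv_cancel, mul_one, left_eq_mul, ← e1] at e2
  exact (hone _).1 e2

theorem Agl.sq_mem (A : Agl B K Q) (C : Subgroup H) [C.Normal] (hC : ∀ h : H, ∀ k ∈ Q, ⁅h, k⁆ ∈ C) :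
    ∀ x ∈ K, ∃ k ∈ Q, (x * k) * (x * k) ∈ C := by
  classical
  let π := QuotientGroup.mk' C
  have hone : ∀ x : H, π x = 1 ↔ x ∈ C := fun x => QuotientGroup.eq_one_iff x
  have hz : ∀ k ∈ Q, ∀ g : H ⧸ C, g * π k = π k * g := by
    intro k hk g
    obtain ⟨h, rfl⟩ := QuotientGroup.mk'_surjective C g
    have h1 := (hone _).2 (hC h k hk)
    rw [map_commutatorElement, commutatorElement_eq_one_iff_mul_comm] at h1
    exact h1
  intro x hx
  by_cases hxQ : x ∈ Q
  · exact ⟨x⁻¹, inv_mem hxQ, by rw [mul_inv_cancel, one_mul]; exact one_mem _⟩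
  obtain ⟨b⟩ := A.nonempty
  obtain ⟨y, hy, hy1⟩ := A.pick b {b, x⁻¹ • b} ((Finset.card_le_two).trans (by norm_num))
  simp only [Finset.mem_insert, Finset.mem_singleton, not_or] at hy1
  obtain ⟨h1, h2⟩ := hy1
  have hyQ : y ∉ Q := fun h => h1 ((A.memQ _).1 h b)
  have hxyQ : x * y ∉ Q := fun h => h2 (by
    have := (A.memQ _).1 h b
    rw [mul_smul, ← eq_inv_smul_iff] at this
    exact this)
  have sqc : ∀ h : H, π (h * x * h⁻¹) ^ 2 = π x ^ 2 := by
    intro h
    have e1 : (h * x * h⁻¹) ^ 2 = h * (x * x) * h⁻¹ := by rw [pow_two]; group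
    rw [← map_pow, e1, map_mul, map_mul, map_inv, hz _ (A.sq x hx), mul_assoc, mul_inv_cancel, mul_one,
      map_mul, pow_two]
  obtain ⟨g₁, -, k₁, hk₁, e₁⟩ := A.move1 b hx hy hxQ hyQ
  obtain ⟨g₂, -, k₂, hk₂, e₂⟩ := A.move1 b hx (mul_mem hx hy) hxQ hxyQ
  have s₁ := sqc g₁
  have s₂ := sqc g₂
  have c₁ : ∀ g, Commute g (π k₁) := hz k₁ hk₁
  have c₂ : ∀ g, Commute g (π k₂) := hz k₂ hk₂
  have c₃ : Commute (π x) (π y) := by
    have h3 := (hone _).2 (A.comm_mem C hC x hx y hy)
    rw [map_commutatorElement, commutatorElement_eq_one_iff_mul_comm] at h3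
    exact h3
  rw [e₁, map_mul, (c₁ _).mul_pow] at s₁
  rw [e₂, map_mul, (c₂ _).mul_pow, map_mul, c₃.mul_pow, mul_assoc, mul_eq_left] at s₂
  refine ⟨k₂ * k₁⁻¹, mul_mem hk₂ (inv_mem hk₁), ?_⟩
  rw [← hone, ← pow_two, map_pow, map_mul, map_mul, map_inv]
  have c₄ : Commute (π x) (π k₂ * (π k₁)⁻¹) := (c₂ _).mul_right (c₁ _).inv_right
  rw [c₄.mul_pow, ← s₁, ((c₁ (π k₂)).inv_right).mul_pow]
  have c₅ : Commute (π k₁ ^ 2) (π k₂ ^ 2) := ((c₂ _).pow_pow 2 2)
  calc π y ^ 2 * π k₁ ^ 2 * (π k₂ ^ 2 * (π k₁)⁻¹ ^ 2)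
      = π y ^ 2 * (π k₁ ^ 2 * π k₂ ^ 2) * (π k₁)⁻¹ ^ 2 := by simp only [mul_assoc]
    _ = π y ^ 2 * (π k₂ ^ 2 * π k₁ ^ 2) * (π k₁)⁻¹ ^ 2 := by rw [c₅.eq]
    _ = (π y ^ 2 * π k₂ ^ 2) * (π k₁ ^ 2 * (π k₁)⁻¹ ^ 2) := by simp only [mul_assoc]
    _ = 1 := by rw [s₂, one_mul, inv_pow, mul_inv_cancel]

end agl

end part3

end Cfsg.Agent.H32.NX9
end

-- part: H32/NX9/AglB
section
/-!
# S4979, layer (I): the degree 8 case, the action on `P` (helper32)
-/

set_option autoImplicit false
set_option linter.unusedSectionVars false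
set_option linter.style.haveILetI false

open Cfsg
open scoped commutatorElement Pointwise

namespace Cfsg.Agent.H32.NX9

section part4

open Cfsg.Agent.H37.NX

/-- commutators act trivially on a normalised cyclic group -/
theorem cyc_comm {M L : Type*} [Group M] [Group L] (f : M →* L) (u : L)
    (hu : ∀ m, ∃ e : ℕ, f m * u * (f m)⁻¹ = u ^ e) (m n : M) : Commute (f ⁅m, n⁆) u := by
  have hp : ∀ (m : M) (v : L) (j : ℕ), f m * v ^ j * (f m)⁻¹ = (f m * v * (f m)⁻¹) ^ j := by
    intro m v j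
    rw [← MulAut.conj_apply, ← MulAut.conj_apply, map_pow]
  obtain ⟨j, hj⟩ := hu (n * m)⁻¹
  obtain ⟨c, hc⟩ := hu m
  obtain ⟨d, hd⟩ := hu n
  have h1 : f (m * n) * u ^ j * (f (m * n))⁻¹ = f (n * m) * u ^ j * (f (n * m))⁻¹ := by
    rw [hp, hp]
    congr 1
    have e1 : f (m * n) * u * (f (m * n))⁻¹ = f m * (f n * u * (f n)⁻¹) * (f m)⁻¹ := by
      rw [map_mul, mul_inv_rev]; simp only [mul_assoc]
    have e2 : f (n * m) * u * (f (n * m))⁻¹ = f n * (f m * u * (f m)⁻¹) * (f n)⁻¹ := by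
      rw [map_mul, mul_inv_rev]; simp only [mul_assoc]
    rw [e1, e2, hc, hd, hp, hp, hc, hd, ← pow_mul, ← pow_mul, mul_comm]
  have h2 : f (n * m) * u ^ j * (f (n * m))⁻¹ = u := by
    rw [← hj, map_inv]
    group
  have h3 : f ⁅m, n⁆ * u * (f ⁅m, n⁆)⁻¹ = u := by
    rw [comm_eq, map_mul f (m * n), mul_inv_rev (f (m * n))]
    have e3 : f (m * n) * f (n * m)⁻¹ * u * ((f (n * m)⁻¹)⁻¹ * (f (m * n))⁻¹) =
        f (m * n) * (f (n * m)⁻¹ * u * (f (n * m)⁻¹)⁻¹) * (f (m * n))⁻¹ := by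
      simp only [mul_assoc]
    rw [e3, hj, h1, h2]
  exact (mul_inv_eq_iff_eq_mul.1 h3)

/-- elements of `H` centralising `P` modulo `N`. -/
def CenP {H : Type*} [Group H] (N P : Subgroup H) [N.Normal] : Subgroup H :=
  (Subgroup.centralizer (P.map (QuotientGroup.mk' N) : Set (H ⧸ N))).comap (QuotientGroup.mk' N)

section cen
variable {H : Type*} [Group H] {N P : Subgroup H} [N.Normal]

theorem mk_comm_iff (a b : H) : (QuotientGroup.mk' N a * QuotientGroup.mk' N b =
    QuotientGroup.mk' N b * QuotientGroup.mk' N a) ↔ ⁅a, b⁆ ∈ N := by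
  rw [← commutatorElement_eq_one_iff_mul_comm, ← map_commutatorElement]
  exact QuotientGroup.eq_one_iff _

theorem mk_eq_one_iff (a : H) : QuotientGroup.mk' N a = 1 ↔ a ∈ N := QuotientGroup.eq_one_iff a

theorem mem_cenP {h : H} : h ∈ CenP N P ↔ ∀ x ∈ P, ⁅h, x⁆ ∈ N := by
  rw [CenP, Subgroup.mem_comap, Subgroup.mem_centralizer_iff]
  constructor
  · intro h1 x hx
    rw [← mk_comm_iff]
    exact (h1 _ (Subgroup.mem_map_of_mem _ hx)).symm
  · rintro h1 _ ⟨x, hx, rfl⟩
    exact ((mk_comm_iff _ _).2 (h1 x hx)).symm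

theorem cenP_normal (hP : P.Normal) : (CenP N P).Normal := by
  haveI : (P.map (QuotientGroup.mk' N)).Normal := hP.map _ (QuotientGroup.mk'_surjective N)
  exact (inferInstance : (Subgroup.centralizer (P.map (QuotientGroup.mk' N) : Set (H ⧸ N))).Normal).comap _

end cen

section imp
variable {p q : ℕ} {H V B : Type*} [Group H] [Finite H] [AddCommGroup V] [Finite V] [DistribMulAction H V]
  [Finite B] [MulAction H B] {W : B → AddSubgroup V} {K N Q : Subgroup H} {φ : N →* ℂˣ}
  {r a : ℕ} {P : Subgroup H} {t : B → H}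

theorem N_normal (I : ImpC (V := V) p q W K N Q φ) : N.Normal := by
  constructor
  intro n hn g
  rw [Subgroup.mem_center_iff.1 (I.core.cen hn) g, mul_inv_cancel_right]
  exact hn

theorem N_central (I : ImpC (V := V) p q W K N Q φ) {n : H} (hn : n ∈ N) (g : H) : g * n = n * g :=
  Subgroup.mem_center_iff.1 (I.core.cen hn) g

theorem t_ne_one (R : RData r a W N Q P t) (i : B) : t i ≠ 1 := by
  intro h
  have h2 := (R.ord i 1).1 (by intro w _; rw [h, one_pow, one_smul])
  have h3 := Nat.le_of_dvd one_pos h2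
  have h4 : r ^ 1 ≤ r ^ a := Nat.pow_le_pow_right R.prime.pos R.ha
  rw [pow_one] at h4
  have h5 := R.prime.two_le
  omega

theorem sq_not_dvd (hr : r.Prime) (h2 : r ≠ 2) : ¬ r ^ 2 ∣ 1344 := by
  intro h
  have h1 := Nat.le_of_dvd (by norm_num) h
  have h3 : r ≤ 36 := by
    by_contra hc
    push Not at hc
    have : 37 ^ 2 ≤ r ^ 2 := Nat.pow_le_pow_left hc 2
    omega
  have h4 := hr.two_le
  interval_cases r <;> first | omega | (revert h; norm_num; done) | (revert hr; norm_num)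

/-- L1: `P` is not central. -/
theorem not_central (I : ImpC (V := V) p q W K N Q φ) (R : RData r a W N Q P t) (hQ : Q.index = 1344)
    (hP : P ≤ Subgroup.center H) : False := by
  haveI : Fact r.Prime := ⟨R.prime⟩
  obtain ⟨S, hS⟩ := R.pg.exists_le_sylow
  obtain ⟨i⟩ : Nonempty B := by
    rw [← Finite.card_pos_iff]
    have := I.card
    have := I.hp.two_le
    omega
  refine t_ne_one R i (central_trivial I.core.perf S ?_ (hS (R.tP i)) (hP (R.tP i)))
  -- the index of `P` in `S`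
  have h1 : P.relIndex S ∣ 1344 := by
    have h2 : P.relIndex S ∣ P.relIndex Q * Q.index := by
      rw [Subgroup.relIndex_mul_index R.PQ, ← Subgroup.relIndex_mul_index hS]
      exact dvd_mul_right _ _
    rw [hQ] at h2
    refine Nat.Coprime.dvd_of_dvd_mul_left ?_ h2
    obtain ⟨n, hn⟩ : ∃ n, P.relIndex S = r ^ n := by
      have h3 : P.relIndex S ∣ Nat.card S := Subgroup.relIndex_dvd_card _ _
      obtain ⟨m, hm⟩ := IsPGroup.iff_card.1 S.isPGroup'
      rw [hm] at h3
      obtain ⟨n, -, hn⟩ := (Nat.dvd_prime_pow R.prime).1 h3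
      exact ⟨n, hn⟩
    rw [hn]
    exact Nat.Coprime.pow_left n ((Nat.Prime.coprime_iff_not_dvd R.prime).2 R.idx)
  have h4 : P.relIndex S ∣ r := by
    have h3 : P.relIndex S ∣ Nat.card S := Subgroup.relIndex_dvd_card _ _
    obtain ⟨m, hm⟩ := IsPGroup.iff_card.1 S.isPGroup'
    rw [hm] at h3
    obtain ⟨n, -, hn⟩ := (Nat.dvd_prime_pow R.prime).1 h3
    rw [hn]
    rcases Nat.lt_or_ge n 2 with h5 | h5
    · calc r ^ n ∣ r ^ 1 := pow_dvd_pow r (by omega)
        _ = r := pow_one r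
    · exact absurd ((pow_dvd_pow r h5).trans (hn ▸ h1)) (sq_not_dvd R.prime R.odd)
  have h6 : ∀ a b : (S : Subgroup H), a * b = b * a := by
    haveI : (P.subgroupOf (S : Subgroup H)).Normal := R.nP.subgroupOf _
    haveI : IsCyclic ((S : Subgroup H) ⧸ P.subgroupOf (S : Subgroup H)) :=
      isCyclic_of_card_dvd_prime (p := r) h4
    have h7 : (QuotientGroup.mk' (P.subgroupOf (S : Subgroup H))).ker ≤ Subgroup.center S := ?_
    · exact (MonoidHom.isMulCommutative_of_isCyclic_of_ker_le_center _ h7).is_comm.comm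
    rw [QuotientGroup.ker_mk']
    intro x hx
    rw [Subgroup.mem_center_iff]
    intro g
    exact Subtype.ext (Subgroup.mem_center_iff.1 (hP (Subgroup.mem_subgroupOf.1 hx)) g)
  intro x hx y hy
  exact congrArg Subtype.val (h6 ⟨x, hx⟩ ⟨y, hy⟩)

/-- elements of `P` acting in the same way on a block -/
theorem exists_pow_block (_ : ImpC (V := V) p q W K N Q φ) (R : RData r a W N Q P t) (i : B) {x : H}
    (hx : x ∈ P) : ∃ j : ℕ, (t i ^ j)⁻¹ * x ∈ P ∧ ∀ w ∈ W i, ((t i ^ j)⁻¹ * x) • w = w := by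
  obtain ⟨j, hj⟩ := R.gen i x hx
  refine ⟨j, mul_mem (inv_mem (pow_mem (R.tP i) j)) hx, ?_⟩
  intro w hw
  rw [mul_smul, hj w hw, inv_smul_smul]

/-- L3 -/
theorem cenP_le (I : ImpC (V := V) p q W K N Q φ) (A : Agl B K Q) (R : RData r a W N Q P t)
    (hQ : Q.index = 1344) [N.Normal] : CenP N P ≤ Q := by
  classical
  haveI hCn := cenP_normal (N := N) R.nP
  intro c hc
  by_contra hcQ
  obtain ⟨b₀, hb₀⟩ : ∃ b : B, c • b ≠ b := by
    by_contra hcon
    push Not at hcon
    exact hcQ ((A.memQ _).2 hcon)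
  have tr : ∀ i j : B, ∃ c ∈ CenP N P, c • i = j := normal_trans A.card A.t3 _ hCn hc hb₀
  have htriv : ∀ x ∈ P, ∀ i, (∀ w ∈ W i, x • w = w) → x ∈ N := by
    intro x hx i hxi
    apply mem_N_of_blocks I
    intro j w hw
    obtain ⟨d, hd, rfl⟩ := tr i j
    have h1 := conj_trivial I (h := d) hxi w hw
    have h2 : d * x * d⁻¹ = ⁅d, x⁆ * x := by rw [commutatorElement_def]; group
    rw [h2, mul_smul, trivial_of_N I (mem_cenP.1 hd x hx)] at h1
    exact h1
  let π := QuotientGroup.mk' N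
  have hpow : ∀ x ∈ P, ∃ j : ℕ, π x = π (t b₀) ^ j := by
    intro x hx
    obtain ⟨j, h1, h2⟩ := exists_pow_block I R b₀ hx
    have h3 := htriv _ h1 b₀ h2
    refine ⟨j, ?_⟩
    rw [← map_pow]
    exact (QuotientGroup.eq.2 h3).symm
  have hcomm := cyc_comm π (π (t b₀)) (fun m => by
    rw [← map_inv, ← map_mul, ← map_mul]
    exact hpow _ (R.nP.conj_mem _ (R.tP b₀) m))
  have htop : CenP N P = ⊤ := by
    apply eq_top_of_commutator I.core.perf
    intro m n
    rw [mem_cenP]
    intro x hx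
    rw [← mk_comm_iff]
    obtain ⟨j, hj⟩ := hpow x hx
    change π _ * π x = π x * π _
    rw [hj]
    exact (hcomm m n).pow_right j
  refine not_central I R hQ ?_
  intro x hx
  refine Cfsg.Agent.H20.NX.mem_center_of_perfect I.core.perf I.core.cen (N := N) ?_
  intro h
  rw [← inv_mem_iff, commutatorElement_inv]
  have h1 : h ∈ CenP N P := by rw [htop]; trivial
  exact mem_cenP.1 h1 x hx

/-- the action of the stabiliser of a block -/
def stabAct (I : ImpC (V := V) p q W K N Q φ) (i : B) : MulAction.stabilizer H i →* Equiv.Perm (W i) where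
  toFun g :=
    { toFun := fun w => ⟨(g : H) • (w : V), by
        have h1 := smul_mem_block I (g : H) w.2
        rwa [g.2] at h1⟩
      invFun := fun w => ⟨(g : H)⁻¹ • (w : V), by
        have h1 := smul_mem_block I (g⁻¹ : H) w.2
        have h2 : (g : H)⁻¹ • i = i := by rw [inv_smul_eq_iff]; exact g.2.symm
        rwa [h2] at h1⟩
      left_inv := fun w => Subtype.ext (inv_smul_smul _ _)
      right_inv := fun w => Subtype.ext (smul_inv_smul _ _) }
  map_one' := by
    ext w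
    exact one_smul _ _
  map_mul' := by
    intro a b
    ext w
    exact mul_smul _ _ _

theorem stabAct_eq_iff (I : ImpC (V := V) p q W K N Q φ) {i : B} {g h : MulAction.stabilizer H i} :
    stabAct I i g = stabAct I i h ↔ ∀ w ∈ W i, (g : H) • w = (h : H) • w := by
  constructor
  · intro e w hw
    exact congrArg (fun σ : Equiv.Perm (W i) => ((σ ⟨w, hw⟩ : W i) : V)) e
  · intro e
    ext w
    exact e w w.2

theorem orderOf_blk (I : ImpC (V := V) p q W K N Q φ) (R : RData r a W N Q P t) (i : B) :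
    orderOf (blk I i ⟨t i, R.PQ (R.tP i)⟩) = r ^ a := by
  apply Nat.dvd_antisymm
  · rw [orderOf_dvd_iff_pow_eq_one, blk_pow_eq_one_iff, R.ord]
  · rw [← R.ord i, ← blk_pow_eq_one_iff I (R.PQ (R.tP i))]
    exact pow_orderOf_eq_one _

theorem pow_mem_N (I : ImpC (V := V) p q W K N Q φ) (R : RData r a W N Q P t) {x : H} (hx : x ∈ P) :
    x ^ r ^ a ∈ N := by
  apply mem_N_of_blocks I
  intro i
  obtain ⟨j, hj⟩ := R.gen i x hx
  intro w hw
  rw [pow_agree I (Q.pow_mem (R.PQ (R.tP i)) j) hj _ w hw, ← pow_mul, mul_comm, pow_mul]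
  have h2 : ∀ w ∈ W i, t i ^ r ^ a • w = w := (R.ord i _).2 dvd_rfl
  have h3 := pow_agree I (y := 1) Q.one_mem (i := i) (x := t i ^ r ^ a) (by
    intro w hw
    rw [h2 w hw, one_smul]) j w hw
  rwa [one_pow, one_smul] at h3

theorem mem_cenP_of_modEq (I : ImpC (V := V) p q W K N Q φ) (R : RData r a W N Q P t) [N.Normal] {k : H} {e : ℕ}
    (he : ∀ x ∈ P, k * x * k⁻¹ * (x ^ e)⁻¹ ∈ N) (h1 : e ≡ 1 [MOD r ^ a]) : k ∈ CenP N P := by
  rw [mem_cenP]
  intro x hx
  have h2 : (QuotientGroup.mk' N x) ^ e = (QuotientGroup.mk' N x) ^ 1 := by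
    rw [pow_eq_pow_iff_modEq]
    refine h1.of_dvd ?_
    rw [orderOf_dvd_iff_pow_eq_one, ← map_pow]
    exact (mk_eq_one_iff _).2 (pow_mem_N I R hx)
  have h3 := (mk_eq_one_iff _).2 (he x hx)
  rw [map_mul, map_inv, map_pow, h2, pow_one, mul_inv_eq_one] at h3
  rw [← mk_eq_one_iff, commutatorElement_def, map_mul, h3, map_inv, mul_inv_cancel]

theorem pm_one (hr : r.Prime) (h2 : r ≠ 2) {e : ℕ} (h : e * e ≡ 1 [MOD r ^ a]) :
    e ≡ 1 [MOD r ^ a] ∨ r ^ a ∣ e + 1 := by
  have hrZ : Prime (r : ℤ) := Nat.prime_iff_prime_int.1 hr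
  have h1 : (r : ℤ) ^ a ∣ (e - 1) * (e + 1) := by
    have h3 := Nat.modEq_iff_dvd.1 h.symm
    push_cast at h3
    have : ((e : ℤ) - 1) * (e + 1) = e * e - 1 := by ring
    rw [this]
    exact h3
  by_cases h4 : (r : ℤ) ∣ e + 1
  · right
    have h5 : ¬ (r : ℤ) ∣ e - 1 := by
      intro h6
      have h7 : (r : ℤ) ∣ 2 := by
        have := dvd_sub h4 h6
        ring_nf at this
        exact this
      have h8 : r ∣ 2 := by exact_mod_cast h7
      exact h2 ((Nat.prime_dvd_prime_iff_eq hr Nat.prime_two).1 h8)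
    have h6 : IsCoprime ((r : ℤ) ^ a) (e - 1) := ((Prime.coprime_iff_not_dvd hrZ).2 h5).pow_left
    have h7 := h6.dvd_of_dvd_mul_left h1
    exact_mod_cast h7
  · left
    have h6 : IsCoprime ((r : ℤ) ^ a) (e + 1) := ((Prime.coprime_iff_not_dvd hrZ).2 h4).pow_left
    have h7 := h6.dvd_of_dvd_mul_right h1
    rw [Nat.ModEq.comm, Nat.modEq_iff_dvd]
    push_cast
    exact h7

/-- L6 -/
theorem Q_le_cenP (I : ImpC (V := V) p q W K N Q φ) (A : Agl B K Q) (R : RData r a W N Q P t)
    (S : Scal N Q P) [N.Normal]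
    (hni : ∀ i, ∀ k ∈ Q, ¬ ∀ w ∈ W i, k • t i • w = (t i)⁻¹ • k • w) : Q ≤ CenP N P := by
  classical
  haveI hCn := cenP_normal (N := N) R.nP
  set C := CenP N P with hCdef
  let π := QuotientGroup.mk' N
  -- `Q` is central mod `C`
  have hC : ∀ h : H, ∀ k ∈ Q, ⁅h, k⁆ ∈ C := by
    intro h k hk
    obtain ⟨e, he⟩ := S k hk
    have he' : ∀ x ∈ P, π k * π x * (π k)⁻¹ = (π x) ^ e := by
      intro x hx
      have h3 := (mk_eq_one_iff _).2 (he x hx)
      rw [map_mul, map_inv, mul_inv_eq_one, map_mul, map_mul, map_inv, map_pow] at h3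
      exact h3
    rw [hCdef, mem_cenP]
    intro x hx
    rw [← mk_comm_iff]
    change π ⁅h, k⁆ * π x = π x * π ⁅h, k⁆
    have h4 : h⁻¹ * (k⁻¹ * x * k) * h ∈ P := by
      have h5 := R.nP.conj_mem _ (R.nP.conj_mem _ hx k⁻¹) h⁻¹
      rwa [inv_inv, inv_inv] at h5
    have h5 : k⁻¹ * x * k ∈ P := by
      have h5 := R.nP.conj_mem _ hx k⁻¹
      rwa [inv_inv] at h5
    have h6 := he' _ h4
    have h7 := he' _ h5
    have h8 : π h * (π k * π (h⁻¹ * (k⁻¹ * x * k) * h) * (π k)⁻¹) * (π h)⁻¹ =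
        π k * π (k⁻¹ * x * k) * (π k)⁻¹ := by
      rw [h6, h7, ← MulAut.conj_apply, map_pow, MulAut.conj_apply, map_mul π _ h, map_mul π h⁻¹, map_inv]
      group
    have h9 : π k * π (k⁻¹ * x * k) * (π k)⁻¹ = π x := by
      rw [map_mul, map_mul, map_inv]; group
    rw [h9] at h8
    have h10 : π h * (π k * π (h⁻¹ * (k⁻¹ * x * k) * h) * (π k)⁻¹) * (π h)⁻¹ =
        π ⁅h, k⁆ * π x * (π ⁅h, k⁆)⁻¹ := by
      rw [commutatorElement_def]
      simp only [map_mul, map_inv]
      group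
    rw [h10] at h8
    exact mul_inv_eq_iff_eq_mul.1 h8
  have hKC := A.comm_mem C hC
  have hKsq := A.sq_mem C hC
  let σ := QuotientGroup.mk' C
  have hσ : ∀ x : H, σ x = 1 ↔ x ∈ C := fun x => QuotientGroup.eq_one_iff x
  -- `Ω`
  let Ω : Subgroup H :=
    { carrier := {x | x ∈ K ∧ x * x ∈ C}
      one_mem' := ⟨one_mem _, by rw [one_mul]; exact one_mem _⟩
      mul_mem' := by
        rintro x y ⟨hx, hx'⟩ ⟨hy, hy'⟩
        refine ⟨mul_mem hx hy, ?_⟩
        have c : σ x * σ y = σ y * σ x := by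
          have h3 := (hσ _).2 (hKC x hx y hy)
          rw [map_commutatorElement, commutatorElement_eq_one_iff_mul_comm] at h3
          exact h3
        rw [← hσ] at hx' hy' ⊢
        rw [map_mul] at hx' hy'
        rw [map_mul, map_mul, mul_assoc, ← mul_assoc (σ y), ← c, mul_assoc, hy', mul_one, hx']
      inv_mem' := by
        rintro x ⟨hx, hx'⟩
        refine ⟨inv_mem hx, ?_⟩
        rw [← mul_inv_rev]
        exact inv_mem hx' }
  have hΩmem : ∀ x, x ∈ Ω ↔ x ∈ K ∧ x * x ∈ C := fun _ => Iff.rfl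
  haveI hΩn : Ω.Normal := by
    constructor
    rintro x ⟨hx, hx'⟩ g
    refine ⟨A.nK.conj_mem _ hx g, ?_⟩
    have e1 : g * x * g⁻¹ * (g * x * g⁻¹) = g * (x * x) * g⁻¹ := by group
    rw [e1]
    exact hCn.conj_mem _ hx' g
  have hΩtr : ∀ b c : B, ∃ x ∈ Ω, x • b = c := by
    intro b c
    obtain ⟨x, hx, hxb⟩ := A.tr b c
    obtain ⟨k, hk, hk'⟩ := hKsq x hx
    refine ⟨x * k, ⟨mul_mem hx (A.QK hk), hk'⟩, ?_⟩
    rw [mul_smul, (A.memQ k).1 hk, hxb]
  -- `Ω ∩ Q = C`
  have hΩQ : ∀ x ∈ Ω, x ∈ Q → x ∈ C := by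
    rintro ω ⟨-, hω2⟩ hωQ
    obtain ⟨e, he⟩ := S ω hωQ
    obtain ⟨b⟩ := A.nonempty
    set τ := blk I b ⟨t b, R.PQ (R.tP b)⟩ with hτ
    have h1 : ∀ (g : H) (hg : g ∈ Q) (e : ℕ), g * t b * g⁻¹ * (t b ^ e)⁻¹ ∈ N →
        blk I b ⟨g, hg⟩ * τ * (blk I b ⟨g, hg⟩)⁻¹ = τ ^ e := by
      intro g hg e hge
      rw [hτ, ← map_inv, ← map_mul, ← map_mul, ← map_pow, ← mul_inv_eq_one, ← map_inv, ← map_mul,
        blk_eq_one_iff]
      intro w _
      exact trivial_of_N I hge w
    have h2 := h1 ω hωQ e (he _ (R.tP b))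
    have h3 := h1 (ω * ω) (mul_mem hωQ hωQ) 1 (by
      rw [pow_one]
      exact mem_cenP.1 hω2 _ (R.tP b))
    have h4 : blk I b ⟨ω * ω, mul_mem hωQ hωQ⟩ = blk I b ⟨ω, hωQ⟩ * blk I b ⟨ω, hωQ⟩ := by
      rw [← map_mul]; rfl
    have h5 : τ ^ (e * e) = τ ^ 1 := by
      rw [← h3, h4, mul_inv_rev]
      have : blk I b ⟨ω, hωQ⟩ * blk I b ⟨ω, hωQ⟩ * τ * ((blk I b ⟨ω, hωQ⟩)⁻¹ * (blk I b ⟨ω, hωQ⟩)⁻¹) =
        blk I b ⟨ω, hωQ⟩ * (blk I b ⟨ω, hωQ⟩ * τ * (blk I b ⟨ω, hωQ⟩)⁻¹) * (blk I b ⟨ω, hωQ⟩)⁻¹ := by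
        simp only [mul_assoc]
      rw [this, h2, ← MulAut.conj_apply, map_pow, MulAut.conj_apply, h2, ← pow_mul]
    rw [pow_eq_pow_iff_modEq, orderOf_blk I R b] at h5
    rcases pm_one R.prime R.odd h5 with h6 | h6
    · exact mem_cenP_of_modEq I R he h6
    · exfalso
      refine hni b ω hωQ ?_
      have h7 : τ ^ (e + 1) = 1 := by
        rw [← orderOf_dvd_iff_pow_eq_one, orderOf_blk I R b]
        exact h6
      have h8 : τ ^ e = τ⁻¹ := by
        rw [pow_succ] at h7
        exact eq_inv_of_mul_eq_one_left h7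
      rw [h8] at h2
      have h9 : blk I b ⟨ω, hωQ⟩ * τ = τ⁻¹ * blk I b ⟨ω, hωQ⟩ := mul_inv_eq_iff_eq_mul.1 h2
      rw [hτ, ← map_inv, ← map_mul, ← map_mul, blk_eq_iff] at h9
      intro w hw
      have h10 := h9 w hw
      simp only [Subgroup.coe_mul, Subgroup.coe_inv, mul_smul] at h10
      exact h10
  -- the stabiliser
  obtain ⟨b⟩ := A.nonempty
  let M := MulAction.stabilizer H b
  have hmem : ∀ x ∈ Q, x ∈ M := fun x hx => (A.memQ x).1 hx b
  have htM : t b ∈ M := hmem _ (R.PQ (R.tP b))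
  let f := stabAct I b
  have hcomm := cyc_comm f (f ⟨t b, htM⟩) (by
    intro m
    obtain ⟨j, hj⟩ := R.gen b _ (R.nP.conj_mem _ (R.tP b) (m : H))
    refine ⟨j, ?_⟩
    rw [← map_inv, ← map_mul, ← map_mul, ← map_pow, stabAct_eq_iff]
    exact hj)
  let U : Subgroup H := ((Subgroup.centralizer {f ⟨t b, htM⟩}).comap f).map M.subtype
  have hU : ∀ (m : H) (hm : m ∈ M), m ∈ U ↔ f ⟨m, hm⟩ * f ⟨t b, htM⟩ = f ⟨t b, htM⟩ * f ⟨m, hm⟩ := by
    intro m hm
    constructor
    · rintro ⟨m', hm', rfl⟩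
      rw [SetLike.mem_coe, Subgroup.mem_comap, Subgroup.mem_centralizer_singleton_iff] at hm'
      exact hm'
    · intro h
      refine ⟨⟨m, hm⟩, ?_, rfl⟩
      rw [SetLike.mem_coe, Subgroup.mem_comap, Subgroup.mem_centralizer_singleton_iff]
      exact h
  have htop : U ⊔ Ω = ⊤ := by
    apply eq_top_of_commutator I.core.perf
    intro g h
    have hdec : ∀ g : H, ∃ m ∈ M, ∃ ω ∈ Ω, g = m * ω := by
      intro g
      obtain ⟨ω, hω, h1⟩ := hΩtr b (g⁻¹ • b)
      refine ⟨g * ω, ?_, ω⁻¹, inv_mem hω, by group⟩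
      change (g * ω) • b = b
      rw [mul_smul, h1, smul_inv_smul]
    obtain ⟨m, hm, ω, hω, rfl⟩ := hdec g
    obtain ⟨n, hn, ρ, hρ, rfl⟩ := hdec h
    have h1 : ⁅m, n⁆ ∈ U := by
      refine ⟨⁅(⟨m, hm⟩ : M), (⟨n, hn⟩ : M)⁆, ?_, rfl⟩
      rw [SetLike.mem_coe, Subgroup.mem_comap, Subgroup.mem_centralizer_singleton_iff]
      exact (hcomm ⟨m, hm⟩ ⟨n, hn⟩).eq
    have h2 : ⁅m, n⁆⁻¹ * ⁅m * ω, n * ρ⁆ ∈ Ω := by
      rw [← QuotientGroup.eq_one_iff (N := Ω)]
      have h3 : ((m * ω : H) : H ⧸ Ω) = (m : H ⧸ Ω) := by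
        rw [QuotientGroup.mk_mul, (QuotientGroup.eq_one_iff ω).2 hω, mul_one]
      have h4 : ((n * ρ : H) : H ⧸ Ω) = (n : H ⧸ Ω) := by
        rw [QuotientGroup.mk_mul, (QuotientGroup.eq_one_iff ρ).2 hρ, mul_one]
      have h5 : ∀ x y : H, ((⁅x, y⁆ : H) : H ⧸ Ω) = ⁅(x : H ⧸ Ω), (y : H ⧸ Ω)⁆ := fun x y =>
        map_commutatorElement (QuotientGroup.mk' Ω) x y
      rw [QuotientGroup.mk_mul, QuotientGroup.mk_inv, h5, h5, h3, h4, inv_mul_cancel]
    have h6 : ⁅m * ω, n * ρ⁆ = ⁅m, n⁆ * (⁅m, n⁆⁻¹ * ⁅m * ω, n * ρ⁆) := by group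
    rw [h6]
    exact mul_mem (Subgroup.mem_sup_left h1) (Subgroup.mem_sup_right h2)
  intro k hk
  have h1 : k ∈ U ⊔ Ω := by rw [htop]; trivial
  rw [Subgroup.mem_sup_of_normal_right] at h1
  obtain ⟨u, hu, ω, hω, rfl⟩ := h1
  have huM : u ∈ M := by
    obtain ⟨u', -, rfl⟩ := hu
    exact u'.2
  have hωQ : ω ∈ Q := by
    refine A.reg ω hω.1 b ?_
    have h2 : (u * ω) • b = b := hmem _ hk
    rw [mul_smul, ← eq_inv_smul_iff] at h2
    rw [h2, inv_smul_eq_iff]
    exact huM.symm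
  have hωC := hΩQ ω hω hωQ
  refine mul_mem ?_ hωC
  have huQ : u ∈ Q := by
    have := mul_mem hk (inv_mem hωQ)
    rwa [mul_inv_cancel_right] at this
  obtain ⟨e, he⟩ := S u huQ
  refine mem_cenP_of_modEq I R he ?_
  rw [← orderOf_blk I R b, ← pow_eq_pow_iff_modEq, pow_one, ← map_pow, blk_eq_iff]
  have h2 := (hU u huM).1 hu
  intro w hw
  have h3 : (u * t b * u⁻¹ * (t b ^ e)⁻¹) • (t b ^ e • w) = t b ^ e • w := trivial_of_N I (he _ (R.tP b)) _
  rw [mul_smul _ ((t b ^ e)⁻¹), inv_smul_smul] at h3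
  have h4 := (mul_inv_eq_iff_eq_mul.2 h2)
  rw [← map_inv, ← map_mul, ← map_mul, stabAct_eq_iff] at h4
  have h5 := h4 w hw
  change (u * t b * u⁻¹) • w = t b • w at h5
  change t b ^ e • w = t b • w
  rw [← h3, h5]

end imp

end part4

section part5

open Cfsg.Agent.H37.NX

/-- `closure_eig` for a normal abelian subgroup. -/
theorem closure_eig_conj {G : Type*} [Group G] [Finite G] (P K : Subgroup G) (hP : P.Normal)
    (hab : ∀ x ∈ P, ∀ y ∈ P, x * y = y * x) (hodd : ¬ 2 ∣ Nat.card P)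
    (hsq : ∀ g ∈ K, ∀ x ∈ P, g * (g * x * g⁻¹) * g⁻¹ = x)
    (hcm : ∀ g ∈ K, ∀ h ∈ K, ∀ x ∈ P, g * (h * x * h⁻¹) * g⁻¹ = h * (g * x * g⁻¹) * h⁻¹) :
    P ≤ Subgroup.closure {y | y ∈ P ∧ ∀ g ∈ K, g * y * g⁻¹ = y ∨ g * y * g⁻¹ = y⁻¹} := by
  letI : CommGroup P :=
    { (inferInstance : Group P) with
      mul_comm := fun a b => Subtype.ext (hab a a.2 b b.2) }
  let α : K →* MulAut P := (MulAut.conjNormal (H := P)).comp K.subtype
  have hα : ∀ (g : K) (x : P), ((α g x : P) : G) = (g : G) * x * (g : G)⁻¹ := fun g x => rfl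
  have h1 := closure_eig hodd α (by
    intro g x
    apply Subtype.ext
    rw [hα, hα]
    exact hsq g g.2 x x.2) (by
    intro g h x
    apply Subtype.ext
    rw [hα, hα, hα, hα]
    exact hcm g g.2 h h.2 x x.2)
  intro x hx
  have h2 : (⟨x, hx⟩ : P) ∈ Subgroup.closure {y : P | ∀ g, α g y = y ∨ α g y = y⁻¹} := by
    rw [h1]; trivial
  have h3 := Subgroup.mem_map_of_mem P.subtype h2
  rw [MonoidHom.map_closure] at h3
  refine Subgroup.closure_mono ?_ h3
  rintro _ ⟨y, hy, rfl⟩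
  refine ⟨y.2, fun g hg => ?_⟩
  rcases hy ⟨g, hg⟩ with h4 | h4
  · left
    have := congrArg Subtype.val h4
    exact this
  · right
    have := congrArg Subtype.val h4
    exact this

section imp
variable {p q : ℕ} {H V B : Type*} [Group H] [Finite H] [AddCommGroup V] [Finite V] [DistribMulAction H V]
  [Finite B] [MulAction H B] {W : B → AddSubgroup V} {K N Q : Subgroup H} {φ : N →* ℂˣ}
  {r a : ℕ} {P : Subgroup H} {t : B → H}

/-- the eigenvectors of `K` in `P` mod `N` -/
def EigP {H : Type*} [Group H] (K N P : Subgroup H) : Set H :=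
  {y | y ∈ P ∧ ∀ g ∈ K, ⁅g, y⁆ ∈ N ∨ g * y * g⁻¹ * y ∈ N}

theorem closure_eigP [N.Normal] (hN : ∀ n ∈ N, ∀ g : H, g * n = n * g) (A : Agl B K Q)
    (R : RData r a W N Q P t) (hQ : ∀ k ∈ Q, ∀ x ∈ P, ⁅k, x⁆ ∈ N) : P ≤ Subgroup.closure (EigP K N P) := by
  let π := QuotientGroup.mk' N
  have hπ : ∀ x, π x = 1 ↔ x ∈ N := fun x => mk_eq_one_iff x
  haveI hPn : (P.map π).Normal := R.nP.map _ (QuotientGroup.mk'_surjective N)
  have hQ' : ∀ k ∈ Q, ∀ x ∈ P, π k * π x * (π k)⁻¹ = π x := by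
    intro k hk x hx
    have h1 := (mk_comm_iff (N := N) k x).2 (hQ k hk x hx)
    exact mul_inv_eq_iff_eq_mul.2 h1
  have h1 := closure_eig_conj (P.map π) (K.map π) hPn (by
      rintro _ ⟨x, hx, rfl⟩ _ ⟨y, hy, rfl⟩
      exact (mk_comm_iff x y).2 (R.comm x hx y hy)) (by
      intro h
      haveI : Fact r.Prime := ⟨R.prime⟩
      have h2 : IsPGroup r (P.map π) := R.pg.map π
      obtain ⟨n, hn⟩ := IsPGroup.iff_card.1 h2
      rw [hn] at h
      exact R.odd ((Nat.prime_dvd_prime_iff_eq Nat.prime_two R.prime).1 (Nat.prime_two.dvd_of_dvd_pow h)).symm)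
    (by
      rintro _ ⟨g, hg, rfl⟩ _ ⟨x, hx, rfl⟩
      have h2 := hQ' _ (A.sq g hg) x hx
      rw [map_mul] at h2
      conv_rhs => rw [← h2]
      group)
    (by
      rintro _ ⟨g, hg, rfl⟩ _ ⟨h, hh, rfl⟩ _ ⟨x, hx, rfl⟩
      have h3 : (h * g)⁻¹ * (g * h) ∈ Q := by
        have := A.cm g⁻¹ (inv_mem hg) h⁻¹ (inv_mem hh)
        rw [commutatorElement_def, inv_inv, inv_inv] at this
        rw [mul_inv_rev, ← mul_assoc]
        exact this
      have h2 := hQ' _ h3 x hx
      have h4 : π g * (π h * π x * (π h)⁻¹) * (π g)⁻¹ =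
          π (h * g) * (π ((h * g)⁻¹ * (g * h)) * π x * (π ((h * g)⁻¹ * (g * h)))⁻¹) * (π (h * g))⁻¹ := by
        simp only [map_mul, map_inv]
        group
      rw [h4, h2, map_mul]
      group)
  intro x hx
  have h2 := h1 (Subgroup.mem_map_of_mem π hx)
  have h3 : Subgroup.closure {y | y ∈ P.map π ∧ ∀ g ∈ K.map π, g * y * g⁻¹ = y ∨ g * y * g⁻¹ = y⁻¹} ≤
      (Subgroup.closure (EigP K N P)).map π := by
    rw [Subgroup.closure_le]
    rintro _ ⟨⟨y, hy, rfl⟩, h4⟩
    refine Subgroup.mem_map_of_mem π (Subgroup.subset_closure ⟨hy, fun g hg => ?_⟩)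
    rcases h4 _ (Subgroup.mem_map_of_mem π hg) with h5 | h5
    · left
      rw [← mk_comm_iff]
      exact mul_inv_eq_iff_eq_mul.1 h5
    · right
      rw [← hπ, map_mul, map_mul, map_mul, map_inv, h5, inv_mul_cancel]
  obtain ⟨e, he, hex⟩ := h3 h2
  have h4 : e⁻¹ * x ∈ N := by
    rw [← hπ, map_mul, map_inv, hex, inv_mul_cancel]
  have heP : e ∈ P := by
    have h5 : Subgroup.closure (EigP K N P) ≤ P := by
      rw [Subgroup.closure_le]
      exact fun y hy => hy.1
    exact h5 he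
  have h5 : x = e * (e⁻¹ * x) := by group
  rw [h5]
  refine mul_mem he (Subgroup.subset_closure ⟨mul_mem (inv_mem heP) hx, fun g _ => Or.inl ?_⟩)
  rw [commutatorElement_def, hN _ h4 g, mul_inv_cancel_right, mul_inv_cancel]
  exact one_mem _

/-- L7 -/
theorem P_comm (I : ImpC (V := V) p q W K N Q φ) (A : Agl B K Q) (R : RData r a W N Q P t)
    (hQ : ∀ k ∈ Q, ∀ x ∈ P, ⁅k, x⁆ ∈ N) : ∀ x ∈ P, ∀ y ∈ P, x * y = y * x := by
  haveI := N_normal I
  haveI : Fact r.Prime := ⟨R.prime⟩
  have hN : ∀ n ∈ N, ∀ g : H, g * n = n * g := fun n hn g => N_central I hn g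
  have hcl := closure_eigP hN A R hQ
  -- eigenvectors commute
  have key1 : ∀ x ∈ P, ∀ y ∈ P, ∀ g ∈ K, ⁅g, x⁆ ∈ N → g * y * g⁻¹ * y ∈ N → x * y = y * x := by
    intro x hx y hy g _ h1 h2
    have hc := R.comm x hx y hy
    have e1 : g * x * g⁻¹ = x * (x⁻¹ * ⁅g, x⁆ * x) := by
      rw [commutatorElement_def]; group
    have n1 : x⁻¹ * ⁅g, x⁆ * x = ⁅g, x⁆ := by
      rw [hN _ h1, mul_assoc, inv_mul_cancel, mul_one]
    have e2 : g * y * g⁻¹ = y⁻¹ * (y * (g * y * g⁻¹ * y) * y⁻¹) := by group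
    have n2 : y * (g * y * g⁻¹ * y) * y⁻¹ = g * y * g⁻¹ * y := by
      rw [hN _ h2 y, mul_assoc, mul_inv_cancel, mul_one]
    rw [n1] at e1
    rw [n2] at e2
    have e3 : ⁅g * x * g⁻¹, g * y * g⁻¹⁆ = ⁅x, y⁻¹⁆ := by
      rw [e1, e2]
      exact comm_central _ _ _ _ (hN _ h1) (hN _ h2)
    have e4 : ⁅g * x * g⁻¹, g * y * g⁻¹⁆ = g * ⁅x, y⁆ * g⁻¹ := by
      simp only [commutatorElement_def]; group
    rw [e4, hN _ hc g, mul_inv_cancel_right] at e3
    have e5 : ⁅x, y⁻¹⁆ = y⁻¹ * ⁅x, y⁆⁻¹ * y := by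
      simp only [commutatorElement_def]; group
    rw [e5, hN _ (inv_mem hc), mul_assoc, inv_mul_cancel, mul_one] at e3
    have e6 : ⁅x, y⁆ ^ 2 = 1 := by
      rw [pow_two]
      nth_rewrite 1 [e3]
      exact inv_mul_cancel _
    have hP : ⁅x, y⁆ ∈ P := mul_mem (mul_mem (mul_mem hx hy) (inv_mem hx)) (inv_mem hy)
    obtain ⟨k, hk⟩ := R.pg ⟨_, hP⟩
    have hk' : ⁅x, y⁆ ^ r ^ k = 1 := congrArg Subtype.val hk
    have e7 : orderOf ⁅x, y⁆ ∣ 2 := orderOf_dvd_of_pow_eq_one e6
    have e8 : orderOf ⁅x, y⁆ ∣ r ^ k := orderOf_dvd_of_pow_eq_one hk'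
    have e9 : Nat.Coprime 2 (r ^ k) := by
      refine Nat.Coprime.pow_right k ?_
      exact (Nat.coprime_primes Nat.prime_two R.prime).2 (Ne.symm R.odd)
    have e10 := Nat.eq_one_of_dvd_coprimes e9 e7 e8
    exact commutatorElement_eq_one_iff_mul_comm.1 (orderOf_eq_one_iff.1 e10)
  have key : ∀ x ∈ EigP K N P, ∀ y ∈ EigP K N P, x * y = y * x := by
    rintro x ⟨hx, hx'⟩ y ⟨hy, hy'⟩
    by_cases h1 : ∃ g ∈ K, ⁅g, x⁆ ∈ N ∧ g * y * g⁻¹ * y ∈ N
    · obtain ⟨g, hg, h2, h3⟩ := h1
      exact key1 x hx y hy g hg h2 h3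
    by_cases h2 : ∃ g ∈ K, ⁅g, y⁆ ∈ N ∧ g * x * g⁻¹ * x ∈ N
    · obtain ⟨g, hg, h2, h3⟩ := h2
      exact (key1 y hy x hx g hg h2 h3).symm
    push Not at h1 h2
    -- the eigenspace of `x`
    let Λ : Subgroup H :=
      { carrier := {z | z ∈ P ∧ ∀ g ∈ K, (⁅g, x⁆ ∈ N → ⁅g, z⁆ ∈ N) ∧
          (g * x * g⁻¹ * x ∈ N → g * z * g⁻¹ * z ∈ N)}
        one_mem' := ⟨one_mem _, fun g _ => ⟨fun _ => by
          rw [commutatorElement_one_right]; exact one_mem _, fun _ => by
          rw [mul_one, mul_one, mul_inv_cancel]; exact one_mem _⟩⟩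
        mul_mem' := by
          rintro z z' ⟨hz, hz1⟩ ⟨hz', hz2⟩
          refine ⟨mul_mem hz hz', fun g hg => ⟨fun h3 => ?_, fun h3 => ?_⟩⟩
          · have h4 := (hz1 g hg).1 h3
            have h5 := (hz2 g hg).1 h3
            have h6 : ⁅g, z * z'⁆ = ⁅g, z⁆ * (z * ⁅g, z'⁆ * z⁻¹) := by
              simp only [commutatorElement_def]; group
            rw [h6]
            exact mul_mem h4 ((inferInstance : N.Normal).conj_mem _ h5 z)
          · have h4 := (hz1 g hg).2 h3
            have h5 := (hz2 g hg).2 h3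
            have h6 : g * (z * z') * g⁻¹ * (z * z') =
                (g * z * g⁻¹ * z) * (z⁻¹ * (g * z' * g⁻¹ * z') * z) * (z⁻¹ * ⁅z'⁻¹, z⁆ * z) := by
              simp only [commutatorElement_def]; group
            rw [h6]
            have h7 := (inferInstance : N.Normal).conj_mem _ h5 z⁻¹
            have h8 := (inferInstance : N.Normal).conj_mem _ (R.comm _ (inv_mem hz') _ hz) z⁻¹
            rw [inv_inv] at h7 h8
            exact mul_mem (mul_mem h4 h7) h8
        inv_mem' := by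
          rintro z ⟨hz, hz1⟩
          refine ⟨inv_mem hz, fun g hg => ⟨fun h3 => ?_, fun h3 => ?_⟩⟩
          · have h4 := (hz1 g hg).1 h3
            have h6 : ⁅g, z⁻¹⁆ = z⁻¹ * ⁅g, z⁆⁻¹ * z := by
              simp only [commutatorElement_def]; group
            rw [h6]
            have h7 := (inferInstance : N.Normal).conj_mem _ (inv_mem h4) z⁻¹
            rwa [inv_inv] at h7
          · have h4 := (hz1 g hg).2 h3
            have h6 : g * z⁻¹ * g⁻¹ * z⁻¹ = (g * z * g⁻¹)⁻¹ * (g * z * g⁻¹ * z)⁻¹ * (g * z * g⁻¹) := by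
              group
            rw [h6]
            have h7 := (inferInstance : N.Normal).conj_mem _ (inv_mem h4) (g * z * g⁻¹)⁻¹
            rwa [inv_inv] at h7 }
    have hxΛ : x ∈ Λ := ⟨hx, fun g hg => ⟨id, id⟩⟩
    have hyΛ : y ∈ Λ := by
      refine ⟨hy, fun g hg => ⟨fun h3 => ?_, fun h3 => ?_⟩⟩
      · rcases hy' g hg with h4 | h4
        · exact h4
        · exact absurd h4 (h1 g hg h3)
      · rcases hy' g hg with h4 | h4
        · exact absurd h3 (h2 g hg h4)
        · exact h4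
    obtain ⟨b⟩ := A.nonempty
    have hΛP : Λ ≤ P := fun z hz => hz.1
    have htriv : ∀ z ∈ Λ, (∀ w ∈ W b, z • w = w) → z ∈ N := by
      rintro z ⟨hz, hz1⟩ hzb
      apply mem_N_of_blocks I
      intro c w hw
      obtain ⟨g, hg, rfl⟩ := A.tr b c
      have h3 := conj_trivial I (h := g) hzb w hw
      rcases hx' g hg with h4 | h4
      · have h5 := (hz1 g hg).1 h4
        have h6 : g * z * g⁻¹ = ⁅g, z⁆ * z := by rw [commutatorElement_def]; group
        rw [h6, mul_smul, trivial_of_N I h5] at h3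
        exact h3
      · have h5 := (hz1 g hg).2 h4
        have h6 : g * z * g⁻¹ = (g * z * g⁻¹ * z) * z⁻¹ := by group
        rw [h6, mul_smul, trivial_of_N I h5, inv_smul_eq_iff] at h3
        exact h3.symm
    -- the cyclic group on `W b`
    let τ := blk I b ⟨t b, R.PQ (R.tP b)⟩
    let f : Λ →* Subgroup.zpowers τ :=
      ((blk I b).comp (Subgroup.inclusion (hΛP.trans R.PQ))).codRestrict (Subgroup.zpowers τ) (by
        intro z
        obtain ⟨j, hj⟩ := R.gen b z (hΛP z.2)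
        refine ⟨j, ?_⟩
        change τ ^ (j : ℤ) = _
        rw [zpow_natCast]
        symm
        change blk I b (Subgroup.inclusion (hΛP.trans R.PQ) z) = blk I b ⟨t b, _⟩ ^ j
        rw [← map_pow, blk_eq_iff]
        exact hj)
    have hf : f.ker ≤ Subgroup.center Λ := by
      intro z hz
      have h3 : (z : H) ∈ N := by
        refine htriv z z.2 ?_
        have h4 : blk I b (Subgroup.inclusion (hΛP.trans R.PQ) z) = 1 := congrArg Subtype.val hz
        rw [blk_eq_one_iff] at h4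
        exact h4
      rw [Subgroup.mem_center_iff]
      intro g
      exact Subtype.ext (hN _ h3 g)
    have h3 := MonoidHom.isMulCommutative_of_isCyclic_of_ker_le_center f hf
    exact congrArg Subtype.val (h3.is_comm.comm (⟨x, hxΛ⟩ : Λ) ⟨y, hyΛ⟩)
  have h1 : Subgroup.closure (EigP K N P) ≤ Subgroup.centralizer (EigP K N P) := by
    rw [Subgroup.closure_le]
    intro x hx
    rw [SetLike.mem_coe, Subgroup.mem_centralizer_iff]
    exact fun y hy => key y hy x hx
  have h2 : Subgroup.closure (EigP K N P) ≤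
      Subgroup.centralizer (Subgroup.closure (EigP K N P) : Set H) := by
    rw [Subgroup.closure_le]
    intro x hx
    rw [SetLike.mem_coe, Subgroup.mem_centralizer_iff]
    intro y hy
    exact ((Subgroup.mem_centralizer_iff.1 (h1 hy)) x hx).symm
  intro x hx y hy
  exact ((Subgroup.mem_centralizer_iff.1 (h2 (hcl hx))) y (hcl hy)).symm

/-- L8 -/
theorem Q_comm_P (I : ImpC (V := V) p q W K N Q φ) (R : RData r a W N Q P t)
    (hQ : ∀ k ∈ Q, ∀ x ∈ P, ⁅k, x⁆ ∈ N) (hP : ∀ x ∈ P, ∀ y ∈ P, x * y = y * x) :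
    ∀ k ∈ Q, ∀ x ∈ P, k * x = x * k := by
  intro k hk x hx
  have hN : ∀ n ∈ N, ∀ g : H, g * n = n * g := fun n hn g => N_central I hn g
  set n := ⁅k, x⁆ with hn
  have hnN := hQ k hk x hx
  have hc : ∀ g : H, Commute g n := hN n hnN
  have e1 : k * x * k⁻¹ = n * x := by rw [hn, commutatorElement_def]; group
  have e2 : ∀ m : ℕ, k ^ m * x * (k ^ m)⁻¹ = n ^ m * x := by
    intro m
    induction m with
    | zero => simp
    | succ m ih =>
      have : k ^ (m + 1) * x * (k ^ (m + 1))⁻¹ = k * (k ^ m * x * (k ^ m)⁻¹) * k⁻¹ := by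
        rw [pow_succ']; group
      rw [this, ih]
      have h2 : k * (n ^ m * x) * k⁻¹ = n ^ m * (k * x * k⁻¹) := by
        rw [← mul_assoc k, ((hc k).pow_right m).eq]; simp only [mul_assoc]
      rw [h2, e1, pow_succ]; simp only [mul_assoc]
  haveI : (P.subgroupOf Q).Normal := R.nP.subgroupOf _
  have e3 : k ^ P.relIndex Q ∈ P := by
    have h1 := Subgroup.pow_index_mem (P.subgroupOf Q) (⟨k, hk⟩ : Q)
    exact Subgroup.mem_subgroupOf.1 h1
  have e4 : n ^ P.relIndex Q = 1 := by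
    have h1 := e2 (P.relIndex Q)
    rw [hP _ e3 x hx, mul_inv_cancel_right] at h1
    exact (mul_eq_right.1 h1.symm)
  obtain ⟨s, hs⟩ := R.pg ⟨x, hx⟩
  have hs' : x ^ r ^ s = 1 := congrArg Subtype.val hs
  have e5 : n ^ r ^ s = 1 := by
    have h1 : (k * x * k⁻¹) ^ r ^ s = 1 := by
      rw [← MulAut.conj_apply, ← map_pow, hs', map_one]
    rw [e1, ((hc x).symm).mul_pow, hs', mul_one] at h1
    exact h1
  have e6 : Nat.Coprime (P.relIndex Q) (r ^ s) :=
    (Nat.Coprime.pow_left s ((Nat.Prime.coprime_iff_not_dvd R.prime).2 R.idx)).symm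
  have e7 := Nat.eq_one_of_dvd_coprimes e6 (orderOf_dvd_of_pow_eq_one e4) (orderOf_dvd_of_pow_eq_one e5)
  exact commutatorElement_eq_one_iff_mul_comm.1 (orderOf_eq_one_iff.1 e7)

end imp

end part5

end Cfsg.Agent.H32.NX9
end

-- part: H37/NX/NoInv
section
/-!
# S4979, layer (I): no element of `Q` inverts `t i` (helper37)

For `p = 3` the order of a block is not `1` modulo `3`, so its dimension is odd; if `k` inverts `t i` on `W i`, then
`s = t i - (t i)⁻¹` is invertible and `k s k⁻¹ = - s`, so `det s = (-1) ^ n det s` and `n` is even.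
-/

set_option autoImplicit false
set_option linter.style.haveILetI false
set_option linter.unusedSectionVars false

open Cfsg
open scoped Pointwise commutatorElement

namespace Cfsg.Agent.H37.NX

open Cfsg.Agent.H32.NX9 MulAction

variable {p q : ℕ} {H V B : Type*} [Group H] [Finite H] [AddCommGroup V] [Finite V]
  [DistribMulAction H V] [Finite B] [MulAction H B] {W : B → AddSubgroup V} {K N Q : Subgroup H} {φ : N →* ℂˣ}

/-- The number of nonzero vectors of a block is prime to `p`. -/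
theorem ImpC.not_dvd_card_sub_one (I : ImpC (V := V) p q W K N Q φ) (i : B) :
    ¬ p ∣ Nat.card (W i) - 1 := by
  classical
  intro hd
  by_cases hW : ∃ v ∈ W i, v ≠ 0
  swap
  · push Not at hW
    haveI := I.core.nt
    -- all blocks are trivial
    have h1 : ∀ j, W j = ⊥ := by
      intro j
      obtain ⟨h, hh⟩ := trans_blocks I j i
      rw [AddSubgroup.eq_bot_iff_forall]
      intro w hw
      have h2 : h • w ∈ W i := by
        rw [← hh]
        exact smul_mem_block I h hw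
      exact (smul_eq_zero_iff_eq h).1 (hW _ h2)
    have h2 := I.top
    simp only [h1, iSup_bot] at h2
    obtain ⟨v, hv⟩ := exists_ne (0 : V)
    have : v ∈ (⊤ : AddSubgroup V) := trivial
    rw [← h2] at this
    exact hv this
  obtain ⟨v, hv, hv0⟩ := hW
  let M : Subgroup H := stabilizer H i
  have hle : stabilizer H v ≤ M := by
    intro h hh
    rw [mem_stabilizer_iff] at hh ⊢
    by_contra hcon
    have h1 : Disjoint (W i) (W (h • i)) := I.ind.pairwiseDisjoint (Ne.symm hcon)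
    have h2 : v ∈ W (h • i) := by
      have := smul_mem_block I h hv
      rwa [hh] at this
    exact hv0 (AddSubgroup.disjoint_def.1 h1 hv h2)
  have h1 : (stabilizer H v).relIndex M = Nat.card (W i) - 1 := by
    have h2 : (stabilizer H v).subgroupOf M = stabilizer M v := by
      ext x
      rfl
    change ((stabilizer H v).subgroupOf M).index = _
    rw [h2, index_stabilizer]
    have h3 : orbit M v = (W i : Set V) \ {0} := by
      ext w
      constructor
      · rintro ⟨m, rfl⟩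
        refine ⟨?_, ?_⟩
        · have := smul_mem_block I (m : H) hv
          rwa [m.2] at this
        · intro h0
          exact hv0 ((smul_eq_zero_iff_eq (m : H)).1 h0)
      · rintro ⟨hw, hw0⟩
        obtain ⟨m, hm, hmw⟩ := I.trans i v hv w hw hv0 hw0
        exact ⟨⟨m, hm⟩, hmw⟩
    rw [h3, Set.ncard_sdiff_singleton_of_mem (W i).zero_mem]
    rfl
  have h2 := Subgroup.relIndex_mul_index hle
  apply I.core.P1 v
  rw [← h2, h1]
  exact Dvd.dvd.mul_right hd _

/-- The order of `H` is even. -/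
theorem ImpC.even_card (I : ImpC (V := V) p q W K N Q φ) : 2 ∣ Nat.card H := by
  classical
  have h3 : 3 ≤ Nat.card B := by
    have := I.card
    have := I.hp.one_lt
    omega
  haveI : Nontrivial B := Finite.one_lt_card_iff_nontrivial.1 (by omega)
  obtain ⟨i, j, hij⟩ := exists_pair_ne B
  obtain ⟨k, hk1, hk2⟩ := three_le I i j
  obtain ⟨h, h1, h2, -⟩ := I.t3 i j k j i k hij (Ne.symm hk1) (Ne.symm hk2) (Ne.symm hij)
    (Ne.symm hk2) (Ne.symm hk1)
  by_contra hcon
  have h4 : ¬ 2 ∣ orderOf h := fun hd => hcon (hd.trans (orderOf_dvd_natCard h))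
  have h5 : (h ^ 2) • i = i := by rw [pow_two, mul_smul, h1, h2]
  have h6 : ∀ m : ℕ, (h ^ 2) ^ m • i = i := by
    intro m
    induction m with
    | zero => rw [pow_zero, one_smul]
    | succ m ih => rw [pow_succ, mul_smul, h5, ih]
  have h7 : h ^ orderOf h • i = i := by rw [pow_orderOf_eq_one, one_smul]
  obtain ⟨m, hm⟩ : ∃ m, orderOf h = 2 * m + 1 := ⟨orderOf h / 2, by omega⟩
  rw [hm, pow_succ, pow_mul, mul_smul, h1] at h7
  have h8 : (h ^ 2) • j = j := by rw [pow_two, mul_smul, h2, h1]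
  have h9 : ∀ m : ℕ, (h ^ 2) ^ m • j = j := by
    intro m
    induction m with
    | zero => rw [pow_zero, one_smul]
    | succ m ih => rw [pow_succ, mul_smul, h8, ih]
  rw [h9] at h7
  exact hij h7.symm

/-- An invertible `s` with `k s = - s k`, `k` invertible: the dimension is even. -/
theorem even_finrank_of_anti {F M : Type*} [Field F] [AddCommGroup M] [Module F M] [FiniteDimensional F M]
    (h2 : (-1 : F) ≠ 1) {s k : M →ₗ[F] M} (hs : Function.Injective s) (hk : Function.Injective k)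
    (h : k ∘ₗ s = -(s ∘ₗ k)) : Even (Module.finrank F M) := by
  have h1 := congrArg LinearMap.det h
  rw [LinearMap.det_comp, ← neg_one_smul F (s ∘ₗ k), LinearMap.det_smul, LinearMap.det_comp] at h1
  have hs' : LinearMap.det s ≠ 0 := by
    intro h0
    exact (LinearMap.bot_lt_ker_of_det_eq_zero h0).ne' (LinearMap.ker_eq_bot.2 hs)
  have hk' : LinearMap.det k ≠ 0 := by
    intro h0
    exact (LinearMap.bot_lt_ker_of_det_eq_zero h0).ne' (LinearMap.ker_eq_bot.2 hk)
  have h3 : (-1 : F) ^ Module.finrank F M = 1 := by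
    have h4 : (1 : F) * (LinearMap.det s * LinearMap.det k) =
        (-1 : F) ^ Module.finrank F M * (LinearMap.det s * LinearMap.det k) := by
      rw [one_mul, ← h1, mul_comm]
    exact (mul_right_cancel₀ (mul_ne_zero hs' hk') h4).symm
  exact (neg_one_pow_eq_one_iff_even h2).1 h3

theorem even_of_anti {M : Type*} [AddCommGroup M] [Finite M] {q : ℕ} [Fact q.Prime] [Module (ZMod q) M]
    (hq2 : q ≠ 2) (k t t' : M →+ M) (h1 : ∀ x, t (t' x) = x)
    (hk : Function.Injective k) (hkt : ∀ x, k (t x) = t' (k x)) (hfix : ∀ x, t (t x) = x → x = 0) :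
    Even (Module.finrank (ZMod q) M) := by
  have hq : q.Prime := Fact.out
  have hfin : FiniteDimensional (ZMod q) M := Module.Finite.of_finite
  have hne : (-1 : ZMod q) ≠ 1 := by
    intro h
    have h1 : (2 : ZMod q) = 0 := by
      calc (2 : ZMod q) = 1 + 1 := by norm_num
        _ = -1 + 1 := by rw [h]
        _ = 0 := by ring
    have h2 : ((2 : ℕ) : ZMod q) = 0 := by exact_mod_cast h1
    rw [ZMod.natCast_eq_zero_iff] at h2
    exact hq2 ((Nat.prime_dvd_prime_iff_eq hq Nat.prime_two).1 h2)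
  have hs : Function.Injective ((t - t').toZModLinearMap q) := by
    rw [injective_iff_map_eq_zero]
    intro w hw
    have h3 : t w - t' w = 0 := hw
    apply hfix
    rw [sub_eq_zero.1 h3, h1]
  have hk' : Function.Injective (k.toZModLinearMap q) := hk
  refine even_finrank_of_anti hne hs hk' ?_
  apply LinearMap.ext
  intro w
  change k (t w - t' w) = -(t (k w) - t' (k w))
  have h3 : k (t' w) = t (k w) := by
    have := hkt (t' w)
    rw [h1] at this
    rw [this, h1]
  rw [map_sub, hkt, h3, neg_sub]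

theorem card_eq_pow_of_zmod {M : Type*} [AddCommGroup M] [Finite M] {q : ℕ} [Fact q.Prime] [Module (ZMod q) M] :
    Nat.card M = q ^ Module.finrank (ZMod q) M := by
  have hfin : Module.Finite (ZMod q) M := Module.Finite.of_finite
  have h5 : Nat.card M = Nat.card (ZMod q) ^ Module.finrank (ZMod q) M := Module.natCard_eq_pow_finrank
  rw [h5, Nat.card_zmod]

/-- `k` inverts `t` on the elementary abelian group `M` of exponent `q ≠ 2`, `t ^ 2` has no fixed points: the order of
`M` is a square of a power of `q`. -/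
theorem square_of_anti {M : Type*} [AddCommGroup M] [Finite M] {q : ℕ} (hq : q.Prime) (hq2 : q ≠ 2)
    (hM : ∀ x : M, q • x = 0) (k t t' : M →+ M) (h1 : ∀ x, t (t' x) = x)
    (hk : Function.Injective k) (hkt : ∀ x, k (t x) = t' (k x)) (hfix : ∀ x, t (t x) = x → x = 0) :
    ∃ n : ℕ, Nat.card M = (q ^ 2) ^ n := by
  haveI : Fact q.Prime := ⟨hq⟩
  letI : Module (ZMod q) M := AddCommGroup.zmodModule hM
  obtain ⟨n, hn⟩ := even_of_anti (q := q) hq2 k t t' h1 hk hkt hfix
  refine ⟨n, ?_⟩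
  rw [card_eq_pow_of_zmod (q := q), hn, ← two_mul, pow_mul]

/-- The endomorphism of the block `W i` given by an element fixing `i`. -/
def blkEnd (I : ImpC (V := V) p q W K N Q φ) (i : B) (g : H) (hg : g • i = i) : W i →+ W i where
  toFun w := ⟨g • (w : V), by
    have := smul_mem_block I g w.2
    rwa [hg] at this⟩
  map_zero' := Subtype.ext (smul_zero g)
  map_add' a b := Subtype.ext (smul_add g _ _)

/-- For `p = 3` no element of `Q` inverts `t i` on `W i`. -/
theorem ImpC.noinv (I : ImpC (V := V) p q W K N Q φ) (hp3 : p = 3) {r a : ℕ} {P : Subgroup H} {t : B → H}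
    (R : RData r a W N Q P t) : ∀ i, ∀ k ∈ Q, ¬ ∀ w ∈ W i, k • t i • w = (t i)⁻¹ • k • w := by
  classical
  subst hp3
  intro i k hk hinv
  have hq2 : q ≠ 2 := by
    rintro rfl
    exact I.cop (ImpC.even_card I)
  have hq3 : q ≠ 3 := Ne.symm I.core.ne
  have hki : k • i = i := (I.memQ k).1 hk i
  have hti : t i • i = i := (I.memQ _).1 (R.PQ (R.tP i)) i
  have hti' : (t i)⁻¹ • i = i := (I.memQ _).1 (Q.inv_mem (R.PQ (R.tP i))) i
  obtain ⟨n, hn⟩ := square_of_anti I.hq hq2 (M := W i) (fun x => Subtype.ext (I.core.exp (x : V)))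
    (blkEnd I i k hki) (blkEnd I i (t i) hti) (blkEnd I i (t i)⁻¹ hti')
    (fun x => Subtype.ext (smul_inv_smul (t i) (x : V)))
    (by
      rw [injective_iff_map_eq_zero]
      intro w hw
      have h1 : k • (w : V) = 0 := congrArg Subtype.val hw
      exact Subtype.ext ((smul_eq_zero_iff_eq k).1 h1))
    (fun x => Subtype.ext (hinv (x : V) x.2))
    (by
      intro w hw
      by_contra hw0
      have h2 : (t i) ^ 2 • (w : V) = w := by
        rw [pow_two, mul_smul]
        exact congrArg Subtype.val hw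
      have h3 := R.free i (t i ^ 2) (P.pow_mem (R.tP i) 2) (w : V) w.2
        (fun h => hw0 (Subtype.ext h)) h2
      have h4 := (R.ord i 2).1 h3
      have h5 : r ∣ 2 := (dvd_pow_self r (by have := R.ha; omega)).trans h4
      exact R.odd ((Nat.prime_dvd_prime_iff_eq R.prime Nat.prime_two).1 h5))
  apply ImpC.not_dvd_card_sub_one I i
  rw [hn]
  have h1 : q ^ 2 % 3 = 1 := by
    have h2 : q % 3 ≠ 0 := fun h => hq3 ((Nat.prime_dvd_prime_iff_eq (by norm_num) I.hq).1
      (Nat.dvd_of_mod_eq_zero h)).symm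
    have h3 : q % 3 = 1 ∨ q % 3 = 2 := by omega
    rcases h3 with h3 | h3 <;> rw [Nat.pow_mod, h3]
  have h2 : (q ^ 2) ^ n % 3 = 1 := by
    rw [Nat.pow_mod, h1, one_pow]
    norm_num
  omega

end Cfsg.Agent.H37.NX
end

-- part: H32/NX9/AglC
section
/-!
# S4979, layer (I): the degree 8 case, a good prime is impossible (helper32)
-/

set_option autoImplicit false
set_option linter.unusedSectionVars false
set_option linter.style.haveILetI false

open Cfsg
open scoped commutatorElement Pointwise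

namespace Cfsg.Agent.H32.NX9

section part6

section final
variable {H B : Type*} [Group H] [Finite H] [MulAction H B] [Finite B] {K Q : Subgroup H}
  {X : Type*} [CommGroup X] (α : H →* MulAut X) (D : Subgroup X)

theorem sq_inj [Finite D] (hodd : ¬ 2 ∣ Nat.card D) {x : X} (hx : x ∈ D) (h : x * x = 1) : x = 1 := by
  have h1 : (⟨x, hx⟩ : D) ^ 2 = 1 := Subtype.ext (by rw [pow_two]; exact h)
  have h2 : orderOf (⟨x, hx⟩ : D) ∣ 2 := orderOf_dvd_of_pow_eq_one h1
  have h3 : orderOf (⟨x, hx⟩ : D) ∣ Nat.card D := orderOf_dvd_natCard _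
  rcases (Nat.dvd_prime Nat.prime_two).1 h2 with h4 | h4
  · exact congrArg Subtype.val (orderOf_eq_one_iff.1 h4)
  · rw [h4] at h3
    exact absurd h3 hodd

/-- averaging -/
theorem exists_fixed [Finite D] (hodd : ¬ 2 ∣ Nat.card D) (hD : ∀ h, ∀ x ∈ D, α h x ∈ D)
    (hsq : ∀ k ∈ K, ∀ x, α k (α k x) = x) (hcm : ∀ k ∈ K, ∀ l ∈ K, ∀ x, α k (α l x) = α l (α k x))
    (ψ₁ : X) (hψ₁ : ∀ h, α h ψ₁ * ψ₁⁻¹ ∈ D) : ∃ ψ, ψ * ψ₁⁻¹ ∈ D ∧ ∀ k ∈ K, α k ψ = ψ := by
  classical
  have key : ∀ l : List H, (∀ k ∈ l, k ∈ K) → ∃ ψ, ψ * ψ₁⁻¹ ∈ D ∧ ∀ k ∈ l, α k ψ = ψ := by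
    intro l
    induction l with
    | nil => exact fun _ => ⟨ψ₁, by rw [mul_inv_cancel]; exact one_mem _, fun k hk => absurd hk (by simp)⟩
    | cons s l ih =>
      intro hl
      obtain ⟨ψ, h1, h2⟩ := ih (fun k hk => hl k (List.mem_cons_of_mem _ hk))
      have hs : s ∈ K := hl s List.mem_cons_self
      set δ := α s ψ * ψ⁻¹ with hδ
      have hδD : δ ∈ D := by
        have h3 := hD s _ h1
        have h4 := hψ₁ s
        have h5 : δ = α s (ψ * ψ₁⁻¹) * (α s ψ₁ * ψ₁⁻¹) * (ψ * ψ₁⁻¹)⁻¹ := by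
          rw [hδ, map_mul, map_inv]; group
        rw [h5]
        exact mul_mem (mul_mem h3 h4) (inv_mem h1)
      have hδs : α s δ = δ⁻¹ := by
        rw [hδ, map_mul, map_inv, hsq s hs, mul_inv, inv_inv, mul_comm]
      have hδk : ∀ k ∈ l, α k δ = δ := by
        intro k hk
        rw [hδ, map_mul, map_inv, hcm k (hl k (List.mem_cons_of_mem _ hk)) s hs, h2 k hk]
      -- `2 m = 1` modulo the order of `D`
      obtain ⟨m, hm⟩ : ∃ m, Nat.card D + 1 = 2 * m := by
        have : Nat.card D % 2 = 1 := by omega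
        exact ⟨(Nat.card D + 1) / 2, by omega⟩
      have hδm : δ ^ (2 * m) = δ := by
        rw [← hm, pow_succ]
        have h3 : (⟨δ, hδD⟩ : D) ^ Nat.card D = 1 := pow_card_eq_one'
        have h4 : δ ^ Nat.card D = 1 := congrArg Subtype.val h3
        rw [h4, one_mul]
      refine ⟨ψ * δ ^ m, ?_, ?_⟩
      · have h3 : ψ * δ ^ m * ψ₁⁻¹ = ψ * ψ₁⁻¹ * δ ^ m := by
          rw [mul_assoc, mul_comm (δ ^ m), ← mul_assoc]
        rw [h3]
        exact mul_mem h1 (pow_mem hδD m)
      · intro k hk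
        rcases List.mem_cons.1 hk with rfl | hk
        · have h3 : α k ψ = ψ * δ := by rw [hδ, mul_comm ψ, inv_mul_cancel_right]
          rw [map_mul, map_pow, hδs, h3, inv_pow, mul_assoc]
          congr 1
          rw [mul_inv_eq_iff_eq_mul, ← pow_add, ← two_mul, hδm]
        · rw [map_mul, map_pow, hδk k hk, h2 k hk]
  haveI : Fintype H := Fintype.ofFinite H
  obtain ⟨ψ, h1, h2⟩ := key ((Finset.univ.filter (· ∈ K)).toList) (by simp)
  exact ⟨ψ, h1, fun k hk => h2 k (by simpa using hk)⟩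

/-- one step: `g` maps `λ` to `λ` or `λ'` -/
theorem swap_step [Finite D] (hodd : ¬ 2 ∣ Nat.card D) (hD : ∀ h, ∀ x ∈ D, α h x ∈ D) (nK : K.Normal)
    {ψ l m : X} (hl : l ∈ D) (hm : m ∈ D) (hl1 : l ≠ 1) (hm1 : m ≠ 1)
    (hle : ∀ k ∈ K, α k l = l ∨ α k l = l⁻¹) (hme : ∀ k ∈ K, α k m = m ∨ α k m = m⁻¹)
    (hψ : ∀ k ∈ K, α k ψ = ψ) {k₁ : H} (hk₁ : k₁ ∈ K) (hk₁l : α k₁ l = l⁻¹) (hk₁m : α k₁ m = m) {g : H}
    (hg : α g (ψ * l * m) = ψ * l * m) : α g l = l ∨ α g l = m := by
  have sq : ∀ x ∈ D, x * x = 1 → x = 1 := fun x hx h => sq_inj D hodd hx h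
  set k' := g * k₁ * g⁻¹ with hk'
  have hk'K : k' ∈ K := nK.conj_mem _ hk₁ g
  -- `α g (l⁻²)`
  have e1 : α k₁ (ψ * l * m) = (ψ * l * m) * (l * l)⁻¹ := by
    rw [map_mul, map_mul, hψ _ hk₁, hk₁l, hk₁m, mul_inv]
    rw [mul_right_comm ψ l m, mul_right_comm ψ l⁻¹ m, mul_assoc (ψ * m) l, mul_inv_cancel_left]
  have e2 : α k' (ψ * l * m) = (ψ * l * m) * (α g (l * l))⁻¹ := by
    have h1 : α k' (α g (ψ * l * m)) = α g (α k₁ (ψ * l * m)) := by
      rw [← MulAut.mul_apply, ← MulAut.mul_apply, ← map_mul, ← map_mul, hk', inv_mul_cancel_right]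
    rw [hg] at h1
    rw [h1, e1, map_mul, hg, map_inv]
  have hgl : α g l ∈ D := hD g l hl
  -- `α g l` is an eigenvector
  have hgle : ∀ k ∈ K, α k (α g l) = α g l ∨ α k (α g l) = (α g l)⁻¹ := by
    intro k hk
    have h1 : α k (α g l) = α g (α (g⁻¹ * k * g) l) := by
      rw [← MulAut.mul_apply, ← MulAut.mul_apply, ← map_mul, ← map_mul]
      congr 2
      group
    have h2 : g⁻¹ * k * g ∈ K := by
      have := nK.conj_mem _ hk g⁻¹
      rwa [inv_inv] at this
    rw [h1]
    rcases hle _ h2 with h3 | h3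
    · left; rw [h3]
    · right; rw [h3, map_inv]
  have e3 : α k' (ψ * l * m) = ψ * α k' l * α k' m := by
    rw [map_mul, map_mul, hψ _ hk'K]
  have hne : α g l ≠ 1 := by
    intro h
    exact hl1 ((α g).injective (by rw [h, map_one]))
  have sqeq : ∀ x ∈ D, ∀ y ∈ D, x * x = y * y → x = y := by
    intro x hx y hy h
    have h1 : (x * y⁻¹) * (x * y⁻¹) = 1 := by
      rw [mul_mul_mul_comm, h, ← mul_inv, mul_inv_cancel]
    have h2 := sq _ (mul_mem hx (inv_mem hy)) h1
    exact mul_inv_eq_one.1 h2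
  rw [e3] at e2
  rcases hle k' hk'K with h1 | h1 <;> rcases hme k' hk'K with h2 | h2
  · exfalso
    rw [h1, h2, left_eq_mul, inv_eq_one, map_mul] at e2
    exact hne (sq _ hgl e2)
  · right
    rw [h1, h2, map_mul] at e2
    have h3 : (α g l * α g l) = m * m := by
      have h4 : ψ * l * m⁻¹ = ψ * l * m * (m * m)⁻¹ := by
        rw [mul_inv, mul_assoc (ψ * l) m, mul_inv_cancel_left]
      rw [h4] at e2
      exact (inv_injective (mul_left_cancel e2)).symm
    exact sqeq _ hgl _ hm h3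
  · left
    rw [h1, h2, map_mul] at e2
    have h3 : (α g l * α g l) = l * l := by
      have h4 : ψ * l⁻¹ * m = ψ * l * m * (l * l)⁻¹ := by
        rw [mul_inv, mul_right_comm ψ l m, mul_right_comm ψ l⁻¹ m, mul_assoc (ψ * m) l, mul_inv_cancel_left]
      rw [h4] at e2
      exact (inv_injective (mul_left_cancel e2)).symm
    exact sqeq _ hgl _ hl h3
  · exfalso
    rw [h1, h2, map_mul] at e2
    have h3 : (α g l * α g l) = (l * m) * (l * m) := by
      have h4 : ψ * l⁻¹ * m⁻¹ = ψ * l * m * ((l * m) * (l * m))⁻¹ := by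
        rw [mul_inv, mul_assoc ψ l m, mul_assoc ψ _ ((l * m)⁻¹ * (l * m)⁻¹), mul_inv_cancel_left, mul_inv,
          mul_assoc]
      rw [h4] at e2
      exact (inv_injective (mul_left_cancel e2)).symm
    have h4 := sqeq _ hgl _ (mul_mem hl hm) h3
    have h5 : α k₁ (l * m) = l⁻¹ * m := by rw [map_mul, hk₁l, hk₁m]
    rcases hgle k₁ hk₁ with h6 | h6
    · rw [h4, h5] at h6
      have h7 := mul_right_cancel h6
      exact hl1 (sq l hl (by nth_rewrite 1 [← h7]; exact inv_mul_cancel l))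
    · rw [h4, h5, mul_inv] at h6
      have h7 := mul_left_cancel h6
      exact hm1 (sq m hm (by nth_rewrite 1 [h7]; exact inv_mul_cancel m))

/-- the final contradiction -/
theorem Agl.final (A : Agl B K Q) [Finite D] (hodd : ¬ 2 ∣ Nat.card D) (hD : ∀ h, ∀ x ∈ D, α h x ∈ D)
    (hQ : ∀ k ∈ Q, ∀ x, α k x = x) (ψ₁ : X) (hψ₁ : ∀ h, α h ψ₁ * ψ₁⁻¹ ∈ D)
    (hK : ∃ k ∈ K, ∃ x ∈ D, α k x ≠ x)
    (hfix : ∀ ψ, ψ * ψ₁⁻¹ ∈ D → ∃ g : H, g ∉ K ∧ ¬ 2 ∣ orderOf g ∧ α g ψ = ψ)
    (maxK : ∀ M : Subgroup H, M.Normal → M ≠ ⊤ → M ≤ K) : False := by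
  classical
  haveI := A.nQ
  have mulα : ∀ (g h : H) (x : X), α (g * h) x = α g (α h x) := by
    intro g h x
    rw [map_mul, MulAut.mul_apply]
  have hsq : ∀ k ∈ K, ∀ x, α k (α k x) = x := by
    intro k hk x
    rw [← mulα]
    exact hQ _ (A.sq k hk) x
  have hcm : ∀ k ∈ K, ∀ l ∈ K, ∀ x, α k (α l x) = α l (α k x) := by
    intro k hk l hl x
    have h3 : (l * k)⁻¹ * (k * l) ∈ Q := by
      have := A.cm k⁻¹ (inv_mem hk) l⁻¹ (inv_mem hl)
      rw [commutatorElement_def, inv_inv, inv_inv] at this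
      rw [mul_inv_rev, ← mul_assoc]
      exact this
    have h4 := hQ _ h3 x
    rw [← mulα, ← mulα]
    have h5 : k * l = (l * k) * ((l * k)⁻¹ * (k * l)) := by group
    rw [h5, mulα (l * k), h4]
  obtain ⟨ψ, hψD, hψK⟩ := exists_fixed α D hodd hD hsq hcm ψ₁ hψ₁
  -- an eigenvector
  have hex : ∃ l ∈ D, (∀ k ∈ K, α k l = l ∨ α k l = l⁻¹) ∧ ∃ k ∈ K, α k l ≠ l := by
    by_contra hcon
    push Not at hcon
    obtain ⟨k, hk, x, hx, hne⟩ := hK
    apply hne
    let β : K →* MulAut D :=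
      { toFun := fun k =>
          { toFun := fun x => ⟨α k x, hD k x x.2⟩
            invFun := fun x => ⟨α (k : H) x, hD k x x.2⟩
            left_inv := fun x => Subtype.ext (hsq k k.2 x)
            right_inv := fun x => Subtype.ext (hsq k k.2 x)
            map_mul' := fun x y => Subtype.ext (map_mul (α (k : H)) (x : X) y) }
        map_one' := by
          ext x
          change α ((1 : K) : H) (x : X) = x
          rw [OneMemClass.coe_one, map_one, MulAut.one_apply]
        map_mul' := by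
          intro a b
          ext x
          exact mulα a b x }
    have hβ : ∀ (k : K) (x : D), ((β k x : D) : X) = α k x := fun _ _ => rfl
    have h1 := closure_eig hodd β (fun g x => Subtype.ext (hsq g g.2 x))
      (fun g h x => Subtype.ext (hcm g g.2 h h.2 x))
    have h2 : (⊤ : Subgroup D) ≤ (β ⟨k, hk⟩).toMonoidHom.eqLocus (MonoidHom.id D) := by
      rw [← h1, Subgroup.closure_le]
      intro y hy
      apply Subtype.ext
      refine hcon y y.2 (fun k hk => ?_) k hk
      rcases hy ⟨k, hk⟩ with h3 | h3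
      · left; exact congrArg Subtype.val h3
      · right; exact congrArg Subtype.val h3
    have h3 : β ⟨k, hk⟩ ⟨x, hx⟩ = ⟨x, hx⟩ := h2 (Subgroup.mem_top _)
    exact congrArg Subtype.val h3
  obtain ⟨l, hlD, hle, k₀, hk₀, hk₀l⟩ := hex
  have hl1 : l ≠ 1 := by
    rintro rfl
    exact hk₀l (map_one _)
  have sq : ∀ x ∈ D, x * x = 1 → x = 1 := fun x hx h => sq_inj D hodd hx h
  have hinv : ∀ x ∈ D, x ≠ 1 → x⁻¹ ≠ x := by
    intro x hx hx1 h
    exact hx1 (sq x hx (by nth_rewrite 1 [← h]; exact inv_mul_cancel x))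
  -- the stabilisers in `K`
  let U : X → Subgroup H := fun x =>
    { carrier := {k | k ∈ K ∧ α k x = x}
      one_mem' := ⟨one_mem _, by rw [map_one, MulAut.one_apply]⟩
      mul_mem' := by
        rintro a b ⟨ha, ha'⟩ ⟨hb, hb'⟩
        exact ⟨mul_mem ha hb, by rw [mulα, hb', ha']⟩
      inv_mem' := by
        rintro a ⟨ha, ha'⟩
        refine ⟨inv_mem ha, ?_⟩
        rw [map_inv, MulAut.inv_apply, MulEquiv.symm_apply_eq, ha'] }
  have hUmem : ∀ x k, k ∈ U x ↔ k ∈ K ∧ α k x = x := fun _ _ => Iff.rfl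
  have hQU : ∀ x, Q ≤ U x := fun x k hk => ⟨A.QK hk, hQ k hk x⟩
  -- `U l` is not normal
  have hUn : ∃ h : H, ∃ u ∈ U l, h * u * h⁻¹ ∉ U l := by
    by_contra hcon
    push Not at hcon
    have hUN : (U l).Normal := ⟨fun u hu h => hcon h u hu⟩
    obtain ⟨b⟩ := A.nonempty
    obtain ⟨u, hu, hub⟩ : ∃ u ∈ U l, u • b ≠ b := by
      obtain ⟨x, hx, hx1⟩ := A.pick b {b} (by rw [Finset.card_singleton]; norm_num)
      obtain ⟨y, hy, hy1⟩ := A.pick b {b, x • b} ((Finset.card_le_two).trans (by norm_num))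
      simp only [Finset.mem_insert, Finset.mem_singleton, not_or] at hx1 hy1
      rcases hle x hx with h1 | h1
      · exact ⟨x, ⟨hx, h1⟩, hx1⟩
      rcases hle y hy with h2 | h2
      · exact ⟨y, ⟨hy, h2⟩, hy1.1⟩
      refine ⟨x⁻¹ * y, ⟨mul_mem (inv_mem hx) hy, ?_⟩, ?_⟩
      · have h4 : α x⁻¹ l = l⁻¹ := by
          apply (α x).injective
          rw [← mulα, mul_inv_cancel, map_one, MulAut.one_apply, map_inv, h1, inv_inv]
        rw [mulα, h2, map_inv, h4, inv_inv]
      · intro h3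
        rw [mul_smul, inv_smul_eq_iff] at h3
        exact hy1.2 h3
    obtain ⟨v, hv, hvb⟩ := normal_trans A.card A.t3 (U l) hUN hu hub b (k₀ • b)
    have h1 : v⁻¹ * k₀ ∈ Q := by
      refine A.reg _ (mul_mem (inv_mem hv.1) hk₀) b ?_
      rw [mul_smul, ← hvb, inv_smul_smul]
    have h2 : k₀ ∈ U l := by
      have h3 := mul_mem hv (hQU l h1)
      rwa [mul_inv_cancel_left] at h3
    exact hk₀l h2.2
  obtain ⟨h, u, hu, huh⟩ := hUn
  set m := α h l with hm
  have hmD : m ∈ D := hD h l hlD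
  have hm1 : m ≠ 1 := by
    intro h1
    exact hl1 ((α h).injective (by rw [← hm, h1, map_one]))
  have hme : ∀ k ∈ K, α k m = m ∨ α k m = m⁻¹ := by
    intro k hk
    have h1 : α k (α h l) = α h (α (h⁻¹ * k * h) l) := by
      rw [← mulα, ← mulα]
      congr 2
      group
    have h2 : h⁻¹ * k * h ∈ K := by
      have := A.nK.conj_mem _ hk h⁻¹
      rwa [inv_inv] at this
    rw [hm, h1]
    rcases hle _ h2 with h3 | h3
    · left; rw [h3]
    · right; rw [h3, map_inv]
  -- `k₁` inverts `l` and fixes `m`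
  obtain ⟨k₁, hk₁, hk₁l, hk₁m⟩ : ∃ k ∈ K, α k l = l⁻¹ ∧ α k m = m := by
    have h0 : h * u * h⁻¹ ∈ K := A.nK.conj_mem _ hu.1 h
    refine ⟨h * u * h⁻¹, h0, ?_, ?_⟩
    · rcases hle _ h0 with h3 | h3
      · exact absurd ⟨h0, h3⟩ huh
      · exact h3
    · rw [hm, ← mulα, inv_mul_cancel_right, mulα, hu.2]
  -- `k₂` inverts `m` and fixes `l`
  obtain ⟨k₂, hk₂, hk₂l, hk₂m⟩ : ∃ k ∈ K, α k l = l ∧ α k m = m⁻¹ := by
    have h0 : h * k₀ * h⁻¹ ∈ K := A.nK.conj_mem _ hk₀ h
    have h1 : α (h * k₀ * h⁻¹) m = m⁻¹ := by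
      rw [hm, ← mulα, inv_mul_cancel_right, mulα]
      rcases hle k₀ hk₀ with h2 | h2
      · exact absurd h2 hk₀l
      · rw [h2, map_inv]
    rcases hle _ h0 with h2 | h2
    · exact ⟨_, h0, h2, h1⟩
    · refine ⟨h * k₀ * h⁻¹ * k₁, mul_mem h0 hk₁, ?_, ?_⟩
      · rw [mulα, hk₁l, map_inv, h2, inv_inv]
      · rw [mulα, hk₁m, h1]
  -- the element `g`
  obtain ⟨g, hgK, hg2, hg⟩ := hfix (ψ * l * m) (by
    have h1 : ψ * l * m * ψ₁⁻¹ = ψ * ψ₁⁻¹ * (l * m) := by
      rw [mul_assoc ψ l m, mul_right_comm]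
    rw [h1]
    exact mul_mem hψD (mul_mem hlD hmD))
  have s1 : α g l = l ∨ α g l = m :=
    swap_step α D hodd hD A.nK hlD hmD hl1 hm1 hle hme hψK hk₁ hk₁l hk₁m hg
  have s2 : α g m = m ∨ α g m = l := by
    refine swap_step α D hodd hD A.nK hmD hlD hm1 hl1 hme hle hψK hk₂ hk₂m hk₂l ?_
    rw [mul_right_comm]
    exact hg
  have hlm : l ≠ m := by
    intro h1
    rw [← h1, hk₁l] at hk₁m
    exact hinv l hlD hl1 hk₁m
  have f1 : α (g * g) l = l ∧ α (g * g) m = m := by
    rw [mulα, mulα]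
    rcases s1 with s1 | s1 <;> rcases s2 with s2 | s2
    · exact ⟨by rw [s1, s1], by rw [s2, s2]⟩
    · exact absurd ((α g).injective (s1.trans s2.symm)) hlm
    · exact absurd ((α g).injective (s1.trans s2.symm)) hlm
    · exact ⟨by rw [s1, s2], by rw [s2, s1]⟩
  -- `g₂ = g²`
  set g₂ := g * g with hg₂
  let U₀ : Subgroup H := U l ⊓ U m
  have hcomm : ∀ x, α g₂ x = x → (∀ k ∈ K, α k x = x ∨ α k x = x⁻¹) → ∀ k ∈ K, ⁅g₂, k⁆ ∈ U x := by
    intro x hx hxe k hk
    have hK1 : g₂ * k * g₂⁻¹ ∈ K := A.nK.conj_mem _ hk g₂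
    have h1 : α (g₂ * k * g₂⁻¹) x = α k x := by
      have h2 : α g₂⁻¹ x = x := by rw [map_inv, MulAut.inv_apply, MulEquiv.symm_apply_eq, hx]
      rw [mulα, mulα, h2]
      rcases hxe k hk with h3 | h3
      · rw [h3, hx]
      · rw [h3, map_inv, hx]
    refine ⟨mul_mem hK1 (inv_mem hk), ?_⟩
    rw [commutatorElement_def, mulα]
    have h2 : α k⁻¹ x = α k x := by
      rw [map_inv, MulAut.inv_apply, MulEquiv.symm_apply_eq, hsq k hk]
    rw [h2]
    rcases hxe k hk with h3 | h3
    · rw [h3, h1, h3]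
    · rw [h3, map_inv, h1, h3, inv_inv]
  have hc0 : ∀ k ∈ K, ⁅g₂, k⁆ ∈ U₀ := fun k hk =>
    ⟨hcomm l f1.1 hle k hk, hcomm m f1.2 hme k hk⟩
  -- `Q` has index at most two in `U₀`
  have hU₀K : U₀ ≤ K := fun x hx => hx.1.1
  have hUlK : U l ≤ K := fun x hx => hx.1
  have hQU₀ : Q ≤ U₀ := le_inf (hQU l) (hQU m)
  have hidx : Q.relIndex U₀ ≤ 2 := by
    have i1 : Q.relIndex U₀ * U₀.relIndex K = 8 := by
      rw [Subgroup.relIndex_mul_relIndex _ _ _ hQU₀ hU₀K, A.rel]
    have i2 : U₀.relIndex (U l) * (U l).relIndex K = U₀.relIndex K :=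
      Subgroup.relIndex_mul_relIndex _ _ _ inf_le_left hUlK
    have i3 : (U l).relIndex K ≠ 1 := by
      intro h1
      exact hk₀l ((Subgroup.relIndex_eq_one.1 h1) hk₀).2
    have i4 : U₀.relIndex (U l) ≠ 1 := by
      intro h1
      have h2 := (Subgroup.relIndex_eq_one.1 h1) ⟨hk₂, hk₂l⟩
      have h3 : α k₂ m = m := h2.2.2
      rw [hk₂m] at h3
      exact hinv m hmD hm1 h3
    have i5 : (U l).relIndex K ≠ 0 := Subgroup.index_ne_zero_of_finite
    have i6 : U₀.relIndex (U l) ≠ 0 := Subgroup.index_ne_zero_of_finite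
    have i7 : 4 ≤ U₀.relIndex K := by
      rw [← i2]
      calc 4 = 2 * 2 := rfl
        _ ≤ _ := Nat.mul_le_mul (by omega) (by omega)
    by_contra hcon
    push Not at hcon
    have : 3 * 4 ≤ Q.relIndex U₀ * U₀.relIndex K := Nat.mul_le_mul (by omega) i7
    omega
  have hpair : ∀ c ∈ U₀, ∀ c' ∈ U₀, c ∉ Q → c' ∉ Q → c⁻¹ * c' ∈ Q := by
    intro c hc c' hc' hcQ hcQ'
    have h0 : Q.relIndex U₀ ≠ 0 := Subgroup.index_ne_zero_of_finite
    have h1 : Q.relIndex U₀ ≠ 1 := by
      intro h1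
      exact hcQ ((Subgroup.relIndex_eq_one.1 h1) hc)
    have h2 : (Q.subgroupOf U₀).index = 2 := by
      change Q.relIndex U₀ = 2
      omega
    have h3 := Subgroup.mul_mem_iff_of_index_two h2 (a := (⟨c, hc⟩ : U₀)⁻¹) (b := ⟨c', hc'⟩)
    have h4 : (⟨c, hc⟩ : U₀)⁻¹ * ⟨c', hc'⟩ ∈ Q.subgroupOf U₀ := by
      rw [h3, inv_mem_iff, Subgroup.mem_subgroupOf, Subgroup.mem_subgroupOf]
      exact ⟨fun h => absurd h hcQ, fun h => absurd h hcQ'⟩
    exact Subgroup.mem_subgroupOf.1 h4
  -- `g₂²` centralises `K / Q`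
  have hZ1 : g₂ * g₂ ∈ CenP Q K := by
    rw [mem_cenP]
    intro k hk
    set c := ⁅g₂, k⁆ with hc
    have hcU := hc0 k hk
    have hcK := hU₀K hcU
    have h1 := hc0 c hcK
    have h2 : g₂ * c * g₂⁻¹ ∈ U₀ := by
      have h3 : g₂ * c * g₂⁻¹ = ⁅g₂, c⁆ * c := by rw [commutatorElement_def]; group
      rw [h3]
      exact mul_mem h1 hcU
    have h3 : c⁻¹ * (g₂ * c * g₂⁻¹) ∈ Q := by
      by_cases hcQ : c ∈ Q
      · exact mul_mem (inv_mem hcQ) (A.nQ.conj_mem _ hcQ g₂)
      · refine hpair c hcU _ h2 hcQ ?_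
        intro h4
        apply hcQ
        have h5 := A.nQ.conj_mem _ h4 g₂⁻¹
        have h6 : g₂⁻¹ * (g₂ * c * g₂⁻¹) * g₂⁻¹⁻¹ = c := by group
        rwa [h6] at h5
    have h4 : ⁅g₂ * g₂, k⁆ = c * (c⁻¹ * (g₂ * c * g₂⁻¹)) * c⁻¹ * (c * c) := by
      rw [hc]; simp only [commutatorElement_def]; group
    rw [h4]
    exact mul_mem (A.nQ.conj_mem _ h3 c) (A.sq c hcK)
  have hZn : (CenP Q K).Normal := cenP_normal A.nK
  have hZtop : CenP Q K = ⊤ := by
    by_contra hcon
    have h1 := maxK _ hZn hcon hZ1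
    -- `g⁴ ∈ K` implies `g ∈ K`
    apply hgK
    have h2 : g ^ 4 ∈ K := by
      have : g ^ 4 = g₂ * g₂ := by rw [hg₂]; simp only [pow_succ, pow_zero, one_mul, mul_assoc]
      rw [this]
      exact h1
    have h3 : Nat.Coprime (orderOf g) 4 := by
      have : Nat.Coprime (orderOf g) (2 ^ 2) := Nat.Coprime.pow_right 2
        ((Nat.Prime.coprime_iff_not_dvd Nat.prime_two).2 hg2).symm
      exact this
    obtain ⟨n, hn⟩ := exists_pow_eq_self_of_coprime h3.symm
    rw [← hn]
    exact pow_mem h2 n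
  -- contradiction with double transitivity
  obtain ⟨b⟩ := A.nonempty
  obtain ⟨x, hx, hx1⟩ := A.pick b {b} (by rw [Finset.card_singleton]; norm_num)
  obtain ⟨y, hy, hy1⟩ := A.pick b {b, x • b} ((Finset.card_le_two).trans (by norm_num))
  simp only [Finset.mem_insert, Finset.mem_singleton, not_or] at hx1 hy1
  have hxQ : x ∉ Q := fun h => hx1 ((A.memQ x).1 h b)
  have hyQ : y ∉ Q := fun h => hy1.1 ((A.memQ y).1 h b)
  obtain ⟨h', -, k, hk, e⟩ := A.move1 b hx hy hxQ hyQ
  have h1 : h' ∈ CenP Q K := by rw [hZtop]; trivial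
  have h2 := mem_cenP.1 h1 x hx
  rw [commutatorElement_def, e] at h2
  have h3 := (A.memQ _).1 h2 (x • b)
  rw [mul_smul, mul_smul, inv_smul_smul, (A.memQ k).1 hk] at h3
  exact hy1.2 h3

end final

end part6

section part7

open Cfsg.Agent.H37.NX Cfsg.Agent.H672

universe u v

variable {p q : ℕ} {H V : Type u} {B : Type v} [Group H] [Finite H] [AddCommGroup V] [Finite V]
  [DistribMulAction H V] [Finite B] [MulAction H B] {W : B → AddSubgroup V} {K N Q : Subgroup H} {φ : N →* ℂˣ}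

/-- **[I-fg']** a good prime is impossible, `AGL_3(2)`. -/
theorem good_false_agl (I : ImpC (V := V) p q W K N Q φ) {r : ℕ} (hr : GoodPr p r W Q) (hp3 : p = 3)
    (hn : Nat.card B = 8) (hQi : Q.index = 1344) : False := by
  classical
  haveI : Fact p.Prime := ⟨I.hp⟩
  haveI hNn := N_normal I
  obtain ⟨a, P, t, R⟩ := Cfsg.Agent.H37.NX.exists_rdata I hr
  haveI : Fact r.Prime := ⟨R.prime⟩
  have S := Cfsg.Agent.H322.NX.scal_of_rdata I R
  have A := agl_of_impC I hn hQi
  have hni := Cfsg.Agent.H37.NX.ImpC.noinv I hp3 R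
  have hle := cenP_le I A R hQi
  have hge := Q_le_cenP I A R S hni
  have hQN : ∀ k ∈ Q, ∀ x ∈ P, ⁅k, x⁆ ∈ N := fun k hk => mem_cenP.1 (hge hk)
  have hab := P_comm I A R hQN
  have hQP := Q_comm_P I R hQN hab
  have hcN : ∀ n ∈ N, ∀ g : H, g * n = n * g := fun n hn g => N_central I hn g
  -- the abelian normal subgroup
  haveI := R.nP
  let Y : Subgroup H := P ⊔ N
  have hPY : P ≤ Y := le_sup_left
  have hNY : N ≤ Y := le_sup_right
  have hYmem : ∀ y ∈ Y, ∃ x ∈ P, ∃ n ∈ N, x * n = y := by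
    intro y hy
    exact Subgroup.mem_sup_of_normal_right.1 hy
  haveI hYn : Y.Normal := Subgroup.sup_normal P N
  have hYab : ∀ y ∈ Y, ∀ z ∈ Y, y * z = z * y := by
    intro y hy z hz
    obtain ⟨x, hx, n, hn, rfl⟩ := hYmem y hy
    obtain ⟨x', hx', n', hn', rfl⟩ := hYmem z hz
    have c1 : Commute x x' := hab x hx x' hx'
    have c2 : ∀ g, Commute g n := hcN n hn
    have c3 : ∀ g, Commute g n' := hcN n' hn'
    exact (((c1.mul_right (c3 x))).mul_left ((c2 (x' * n')).symm)).eq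
  have hQY : ∀ k ∈ Q, ∀ y ∈ Y, k⁻¹ * y * k = y := by
    intro k hk y hy
    obtain ⟨x, hx, n, hn, rfl⟩ := hYmem y hy
    have c1 : Commute k x := hQP k hk x hx
    have c2 : Commute k n := hcN n hn k
    have c3 := (c1.mul_right c2).eq
    rw [mul_assoc, ← c3, inv_mul_cancel_left]
  letI : CommGroup Y :=
    { (inferInstance : Group Y) with
      mul_comm := fun a b => Subtype.ext (hYab a a.2 b b.2) }
  let c : H → Y →* Y := fun h => (MulAut.conjNormal (H := Y) h).toMonoidHom
  have hc : ∀ (h : H) (y : Y), ((c h y : Y) : H) = h * y * h⁻¹ := fun h y => rfl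
  have hc1 : ∀ g h : H, (c g).comp (c h) = c (g * h) := by
    intro g h
    ext y
    change (g * (h * y * h⁻¹) * g⁻¹ : H) = (g * h) * y * (g * h)⁻¹
    group
  have hc2 : c 1 = MonoidHom.id Y := by
    ext y
    change (1 * y * 1⁻¹ : H) = y
    group
  let α : H →* MulAut (Y →* ℂˣ) :=
    { toFun := fun h =>
        { toFun := fun ψ => ψ.comp (c h⁻¹)
          invFun := fun ψ => ψ.comp (c h)
          left_inv := fun ψ => by
            change (ψ.comp (c h⁻¹)).comp (c h) = ψ
            rw [MonoidHom.comp_assoc, hc1, inv_mul_cancel, hc2, MonoidHom.comp_id]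
          right_inv := fun ψ => by
            change (ψ.comp (c h)).comp (c h⁻¹) = ψ
            rw [MonoidHom.comp_assoc, hc1, mul_inv_cancel, hc2, MonoidHom.comp_id]
          map_mul' := fun ψ ψ' => by
            ext y
            rfl }
      map_one' := by
        ext ψ y
        change ((ψ (c 1⁻¹ y) : ℂˣ) : ℂ) = ψ y
        rw [inv_one, hc2]
        rfl
      map_mul' := by
        intro g h
        ext ψ y
        change ((ψ (c (g * h)⁻¹ y) : ℂˣ) : ℂ) = ψ (c h⁻¹ (c g⁻¹ y))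
        rw [mul_inv_rev, ← hc1]
        rfl }
  have hα : ∀ (h : H) (ψ : Y →* ℂˣ) (y : Y), α h ψ y = ψ (c h⁻¹ y) := fun _ _ _ => rfl
  let NY : Subgroup Y := N.subgroupOf Y
  let D : Subgroup (Y →* ℂˣ) := (MonoidHom.domRestrictHom NY ℂˣ).ker
  have hD : ∀ δ : Y →* ℂˣ, δ ∈ D ↔ ∀ y : Y, (y : H) ∈ N → δ y = 1 := by
    intro δ
    constructor
    · intro h y hy
      have h1 : MonoidHom.domRestrictHom NY ℂˣ δ = 1 := h
      exact congrArg (fun f => f (⟨y, hy⟩ : NY)) h1
    · intro h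
      change MonoidHom.domRestrictHom NY ℂˣ δ = 1
      ext y
      have := h y (Subgroup.mem_subgroupOf.1 y.2)
      change ((δ (y : Y) : ℂˣ) : ℂ) = 1
      rw [this, Units.val_one]
  have hcardD : Nat.card D = N.relIndex Y := CommGroup.card_domRestrictHom_ker ℂ NY
  obtain ⟨e, he⟩ : ∃ e, Nat.card D = r ^ e := by
    have h1 : Nat.card D ∣ Nat.card P := by
      rw [hcardD, Subgroup.relIndex_sup_right]
      exact Subgroup.relIndex_dvd_card _ _
    obtain ⟨m, hm⟩ := IsPGroup.iff_card.1 R.pg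
    rw [hm] at h1
    obtain ⟨n, -, hn⟩ := (Nat.dvd_prime_pow R.prime).1 h1
    exact ⟨n, hn⟩
  haveI : Finite D := Nat.finite_of_card_ne_zero (by rw [he]; exact pow_ne_zero _ R.prime.ne_zero)
  have hodd : ¬ 2 ∣ Nat.card D := by
    rw [he]
    intro h
    exact R.odd ((Nat.prime_dvd_prime_iff_eq Nat.prime_two R.prime).1 (Nat.prime_two.dvd_of_dvd_pow h)).symm
  have hcn : ∀ (h : H) (y : Y), (y : H) ∈ N → c h y = y := by
    intro h y hy
    apply Subtype.ext
    rw [hc, hcN _ hy, mul_inv_cancel_right]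
  -- an extension of `φ`
  obtain ⟨ψ₁, hψ₁⟩ : ∃ ψ₁ : Y →* ℂˣ, ∀ n (hn : n ∈ N), ψ₁ ⟨n, hNY hn⟩ = φ ⟨n, hn⟩ := by
    obtain ⟨ψ₁, h1⟩ := MonoidHom.domRestrict_surjective ℂ NY
      (φ.comp (Subgroup.subgroupOfEquivOfLe hNY).toMonoidHom)
    refine ⟨ψ₁, fun n hn => ?_⟩
    exact congrArg (fun f => f (⟨⟨n, hNY hn⟩, hn⟩ : NY)) h1
  refine A.final α D hodd ?_ ?_ ψ₁ ?_ ?_ ?_ I.core.maxK
  · intro h δ hδ
    rw [hD] at hδ ⊢
    intro y hy
    rw [hα, hcn _ _ hy]
    exact hδ y hy
  · intro k hk ψ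
    ext y
    rw [hα]
    congr 2
    apply Subtype.ext
    rw [hc, inv_inv]
    exact hQY k hk y y.2
  · intro h
    rw [hD]
    intro y hy
    rw [MonoidHom.mul_apply, MonoidHom.inv_apply, hα, hcn _ _ hy, mul_inv_cancel]
  · by_contra hcon
    push Not at hcon
    have h1 : K ≤ CenP N P := by
      intro k hk
      rw [mem_cenP]
      intro x hx
      have h2 : ⁅k, x⁆ ∈ Y := hPY (mul_mem (R.nP.conj_mem x hx k) (inv_mem hx))
      have h3 : (⟨⁅k, x⁆, h2⟩ : Y) ∈ NY := by
        rw [← CommGroup.forall_monoidHom_apply_eq_one_iff ℂ NY]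
        intro ψ hψ
        have h4 : ψ ∈ D := by
          rw [hD]
          exact fun y hy => hψ y hy
        have h5 := hcon k⁻¹ (inv_mem hk) ψ h4
        have h6 : ψ (c k ⟨x, hPY hx⟩) = ψ ⟨x, hPY hx⟩ := by
          have h7 := congrArg (fun f : Y →* ℂˣ => f ⟨x, hPY hx⟩) h5
          simp only [hα, inv_inv] at h7
          exact h7
        have h7 : (⟨⁅k, x⁆, h2⟩ : Y) = c k ⟨x, hPY hx⟩ * (⟨x, hPY hx⟩ : Y)⁻¹ := rfl
        rw [h7, map_mul, h6, map_inv, mul_inv_cancel]
      exact h3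
    have h2 := Subgroup.relIndex_eq_one.2 (h1.trans hle)
    rw [A.rel] at h2
    norm_num at h2
  · intro ψ hψ
    rw [hD] at hψ
    have hψN : ∀ n (hn : n ∈ N), ψ ⟨n, hNY hn⟩ = φ ⟨n, hn⟩ := by
      intro n hn
      have h1 := hψ ⟨n, hNY hn⟩ hn
      rw [MonoidHom.mul_apply, MonoidHom.inv_apply, mul_inv_eq_one] at h1
      rw [h1]
      exact hψ₁ n hn
    obtain ⟨-, T, -, hT⟩ := Cfsg.Agent.H20.NX.normal_char I.core (0 : V) Y hNY
      (fun y _ => smul_zero y) (fun g _ y hy => hYn.conj_mem y hy g) (isIrr_lf ψ) (by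
        intro n hn
        rw [lf_apply, lf_apply, hψN n hn, map_one, Units.val_one, one_mul])
    obtain ⟨g, hgT, hgK⟩ : ∃ g ∈ (T : Subgroup H), g ∉ K := by
      by_contra hcon
      push Not at hcon
      have h1 : p ∣ Nat.card H := I.core.pS.trans (Subgroup.index_dvd_card K)
      have h2 := T.dvd_card_of_dvd_card h1
      exact I.core.pK (h2.trans (Subgroup.card_dvd_of_le hcon))
    refine ⟨g, hgK, ?_, ?_⟩
    · obtain ⟨k, hk⟩ := T.isPGroup' ⟨g, hgT⟩
      have hk' : g ^ p ^ k = 1 := congrArg Subtype.val hk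
      intro h2
      have h3 := (h2.trans (orderOf_dvd_of_pow_eq_one hk'))
      have h4 := Nat.prime_two.dvd_of_dvd_pow h3
      rw [hp3] at h4
      norm_num at h4
    · ext y
      rw [hα]
      have h1 := hT g⁻¹ (inv_mem hgT) y (by
        have := (c g⁻¹ y).2
        exact this)
      exact h1

end part7

end Cfsg.Agent.H32.NX9
end

-- part: H32/NX9/Five
section
/-!
# S4979, layer (I): the blocks of order `19 ^ 2` with a normal `SL(2, 5)`, without `NoComp` (helper32)

After helper37's `SLFive.lean`.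
-/

set_option autoImplicit false
set_option linter.style.haveILetI false
set_option linter.unusedSectionVars false

open Cfsg
open scoped Pointwise commutatorElement

namespace Cfsg.Agent.H32.NX9.Five

open Cfsg.Agent.H32.NX9 Cfsg.Agent.H37.NX MulAction

abbrev SL5 := Matrix.SpecialLinearGroup (Fin 2) (ZMod 5)

/-- a unipotent element -/
def uu : SL5 := ⟨!![1, 1; 0, 1], by decide⟩

/-- an element of order four -/
def vv : SL5 := ⟨!![0, 1; -1, 0], by decide⟩

theorem uu_pow : uu ^ 5 = 1 := by decide +kernel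

theorem vv_pow : vv ^ 4 = 1 := by decide +kernel

theorem uu_vv : uu * vv ≠ vv * uu := by decide +kernel

theorem uu_not_mem : uu ∉ Subgroup.center SL5 := fun h => uu_vv (Subgroup.mem_center_iff.1 h vv).symm

theorem vv_not_mem : vv ∉ Subgroup.center SL5 := fun h => uu_vv (Subgroup.mem_center_iff.1 h uu)

theorem card_SL5 : Nat.card SL5 = 120 := by
  rw [Nat.card_eq_fintype_card]
  decide +kernel

/-- H acts trivially on the Sylow `5`-subgroups of a section `R / X ≅ PSL(2, 5)` -/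
theorem section_false {H : Type*} [Group H] [Finite H] (K : Subgroup H)
    (maxK : ∀ M : Subgroup H, M.Normal → M ≠ ⊤ → M ≤ K) (h7 : 7 ∣ K.index) (R X : Subgroup H) (hRn : R.Normal)
    (hXn : X.Normal) (g : R →* SL5) (hg : Function.Surjective g)
    (hgX : ∀ x : R, g x ∈ Subgroup.center SL5 ↔ (x : H) ∈ X) : False := by
  classical
  haveI : Fact (Nat.Prime 5) := ⟨by norm_num⟩
  have h5 : 3 < Fintype.card (ZMod 5) := by rw [ZMod.card]; norm_num
  let X' : Subgroup R := X.subgroupOf R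
  haveI hX'n : X'.Normal := hXn.subgroupOf R
  haveI hs : IsSimpleGroup (SL5 ⧸ Subgroup.center SL5) := TwoFusion.SLTwoFacts.isSimpleGroup_psl h5
  let ψ : R →* SL5 ⧸ Subgroup.center SL5 := (QuotientGroup.mk' _).comp g
  have hψ : Function.Surjective ψ := (QuotientGroup.mk'_surjective _).comp hg
  have hker : X' = ψ.ker := by
    ext x
    rw [Subgroup.mem_subgroupOf, ← hgX, MonoidHom.mem_ker]
    exact (QuotientGroup.eq_one_iff (N := Subgroup.center SL5) (g x)).symm
  let e : R ⧸ X' ≃* SL5 ⧸ Subgroup.center SL5 :=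
    (QuotientGroup.quotientMulEquivOfEq hker).trans (QuotientGroup.quotientKerEquivOfSurjective ψ hψ)
  haveI hsG : IsSimpleGroup (R ⧸ X') := e.isSimpleGroup_congr.2 hs
  have hone : ∀ x : R, (x : R ⧸ X') = 1 ↔ g x ∈ Subgroup.center SL5 := by
    intro x
    rw [QuotientGroup.eq_one_iff, Subgroup.mem_subgroupOf, hgX]
  -- orders
  have hcard : Nat.card (R ⧸ X') ∣ 120 := by
    rw [Nat.card_congr e.toEquiv, ← card_SL5]
    exact Subgroup.card_quotient_dvd_card _
  -- no normal Sylow 5-subgroup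
  have hnn : ∀ P : Sylow 5 (R ⧸ X'), ¬ (P : Subgroup (R ⧸ X')).Normal := by
    intro P hP
    rcases hP.eq_bot_or_eq_top with h1 | h1
    · obtain ⟨x, hx⟩ := hg uu
      have h2 : (x : R ⧸ X') ^ 5 = 1 := by
        rw [← QuotientGroup.mk_pow, hone, map_pow, hx, uu_pow]
        exact one_mem _
      have h3 : (x : R ⧸ X') ≠ 1 := by
        rw [Ne, hone, hx]
        exact uu_not_mem
      have h4 : orderOf (x : R ⧸ X') = 5 := orderOf_eq_prime h2 h3
      have h5 : 5 ∣ Nat.card (R ⧸ X') := by rw [← h4]; exact orderOf_dvd_natCard _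
      have h6 := P.dvd_card_of_dvd_card h5
      rw [h1, Subgroup.card_bot] at h6
      norm_num at h6
    · obtain ⟨x, hx⟩ := hg vv
      have h2 : (x : R ⧸ X') ^ 4 = 1 := by
        rw [← QuotientGroup.mk_pow, hone, map_pow, hx, vv_pow]
        exact one_mem _
      have h3 : (x : R ⧸ X') ≠ 1 := by
        rw [Ne, hone, hx]
        exact vv_not_mem
      have h4 : (x : R ⧸ X') ∈ (P : Subgroup (R ⧸ X')) := by rw [h1]; trivial
      obtain ⟨k, hk⟩ := P.isPGroup' ⟨_, h4⟩
      have hk' : (x : R ⧸ X') ^ 5 ^ k = 1 := congrArg Subtype.val hk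
      have h6 : Nat.Coprime 4 (5 ^ k) := Nat.Coprime.pow_right k (by norm_num)
      have h7 := Nat.eq_one_of_dvd_coprimes h6 (orderOf_dvd_of_pow_eq_one h2) (orderOf_dvd_of_pow_eq_one hk')
      exact h3 (orderOf_eq_one_iff.1 h7)
  -- the number of Sylow 5-subgroups
  have hsyl : Nat.card (Sylow 5 (R ⧸ X')) ≤ 6 := by
    obtain ⟨P⟩ : Nonempty (Sylow 5 (R ⧸ X')) := inferInstance
    have h1 : Nat.card (Sylow 5 (R ⧸ X')) ≡ 1 [MOD 5] := card_sylow_modEq_one 5 _
    have h2 : Nat.card (Sylow 5 (R ⧸ X')) ∣ 24 := by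
      refine (P.card_dvd_index).trans ?_
      have h3 : (P : Subgroup (R ⧸ X')).index ∣ 24 * 5 :=
        (Subgroup.index_dvd_card _).trans (by simpa only [_root_.Nat.reduceMul] using hcard)
      refine Nat.Coprime.dvd_of_dvd_mul_right ?_ h3
      exact ((Nat.Prime.coprime_iff_not_dvd (by norm_num)).2 P.not_dvd_index).symm
    have h3 := Nat.le_of_dvd (by norm_num) h2
    generalize Nat.card (Sylow 5 (R ⧸ X')) = n at h1 h2 h3 ⊢
    by_contra hcon
    push Not at hcon
    unfold Nat.ModEq at h1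
    interval_cases n <;> (clear * - h1 h2; omega)
  -- the action of `H`
  let c : H →* MulAut R := MulAut.conjNormal
  have hc : ∀ (h : H) (x : R), ((c h x : R) : H) = h * x * h⁻¹ := fun _ _ => rfl
  have hmap : ∀ h : H, X'.map (c h : R ≃* R).toMonoidHom = X' := by
    intro h
    ext x
    constructor
    · rintro ⟨y, hy, rfl⟩
      exact hXn.conj_mem _ hy h
    · intro hx
      refine ⟨(c h).symm x, ?_, (c h).apply_symm_apply x⟩
      have h1 : (((c h).symm x : R) : H) = h⁻¹ * x * h := by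
        rw [← MulAut.inv_apply, ← map_inv, hc, inv_inv]
      change (((c h).symm x : R) : H) ∈ X
      rw [h1]
      have := hXn.conj_mem _ hx h⁻¹
      rwa [inv_inv] at this
  let Φ : H →* MulAut (R ⧸ X') :=
    { toFun := fun h => QuotientGroup.congr X' X' (c h) (hmap h)
      map_one' := by
        apply MulEquiv.ext
        intro x
        obtain ⟨x, rfl⟩ := QuotientGroup.mk_surjective x
        change (QuotientGroup.mk (c 1 x) : R ⧸ X') = QuotientGroup.mk x
        rw [map_one, MulAut.one_apply]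
      map_mul' := by
        intro a b
        apply MulEquiv.ext
        intro x
        obtain ⟨x, rfl⟩ := QuotientGroup.mk_surjective x
        change (QuotientGroup.mk (c (a * b) x) : R ⧸ X') = QuotientGroup.mk (c a (c b x))
        rw [map_mul, MulAut.mul_apply] }
  have hΦ : ∀ (h : H) (x : R), Φ h (x : R ⧸ X') = ((c h x : R) : R ⧸ X') := fun _ _ => rfl
  letI : MulDistribMulAction H (R ⧸ X') := MulDistribMulAction.compHom _ Φ
  have hsm : ∀ (h : H) (x : R ⧸ X'), h • x = Φ h x := fun _ _ => rfl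
  let Ψ : H →* Equiv.Perm (Sylow 5 (R ⧸ X')) := MulAction.toPermHom H (Sylow 5 (R ⧸ X'))
  have hidx : Ψ.ker.index ∣ Nat.factorial (Nat.card (Sylow 5 (R ⧸ X'))) := by
    rw [Subgroup.index_ker, ← Nat.card_perm]
    exact Subgroup.card_subgroup_dvd_card _
  have htop : Ψ.ker = ⊤ := by
    by_contra hcon
    have h1 := maxK Ψ.ker inferInstance hcon
    have h2 : 7 ∣ Nat.factorial (Nat.card (Sylow 5 (R ⧸ X'))) :=
      (h7.trans (Subgroup.index_dvd_of_le h1)).trans hidx
    rw [Nat.Prime.dvd_factorial (by norm_num)] at h2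
    omega
  obtain ⟨P⟩ : Nonempty (Sylow 5 (R ⧸ X')) := inferInstance
  apply hnn P
  constructor
  intro y hy x
  obtain ⟨x, rfl⟩ := QuotientGroup.mk_surjective x
  have h1 : (x : H) ∈ Ψ.ker := by rw [htop]; trivial
  have h2 : (x : H) • P = P := congrArg (fun f => f P) (MonoidHom.mem_ker.1 h1)
  obtain ⟨z, rfl⟩ := QuotientGroup.mk_surjective y
  have h3 : (x : H) • (z : R ⧸ X') ∈ (((x : H) • P : Sylow 5 (R ⧸ X')) : Subgroup (R ⧸ X')) := by
    rw [Sylow.pointwise_smul_def]
    exact Subgroup.smul_mem_pointwise_smul _ _ _ hy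
  rw [h2, hsm, hΦ] at h3
  have h4 : c (x : H) z = x * z * x⁻¹ := Subtype.ext (hc _ _)
  rw [h4] at h3
  exact h3

universe u v

section resid

variable {p q : ℕ} {H V : Type u} {B : Type v} [Group H] [Finite H] [AddCommGroup V] [Finite V]
  [DistribMulAction H V] [Finite B] [MulAction H B] {W : B → AddSubgroup V} {K N Q : Subgroup H} {φ : N →* ℂˣ}

/-- the perfect residual (helper37's argument) -/
theorem exists_resid (I : ImpC (V := V) p q W K N Q φ) {S : Type*} [Group S] (hS : commutator S = ⊤)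
    (h : ∀ i, ∃ (E : Subgroup H) (f : E →* S), E ≤ Q ∧ Function.Surjective f ∧
      (∀ x : E, f x = 1 ↔ ∀ w ∈ W i, (x : H) • w = w) ∧ ∃ k, dser Q k ≤ E) :
    ∃ R : Subgroup H, R.Normal ∧ R ≤ Q ∧ ⁅R, R⁆ = R ∧ ∀ i, ∃ g : R →* S, Function.Surjective g ∧
      ∀ x : R, g x = 1 ↔ ∀ w ∈ W i, (x : H) • w = w := by
  classical
  haveI := Q_normal I
  obtain ⟨k₀, hperf, hmin⟩ := exists_stable (Q := Q)
  refine ⟨dser Q k₀, dser_normal k₀, dser_antitone (Nat.zero_le k₀), hperf, ?_⟩
  intro i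
  obtain ⟨E, f, hEQ, hf, hker, k, hk⟩ := h i
  have hRE : dser Q k₀ ≤ E := (hmin k).trans hk
  have himg : ∀ m, ((dser Q m).subgroupOf E).map f = ⊤ := by
    intro m
    induction m with
    | zero =>
      rw [dser_zero, Subgroup.subgroupOf_eq_top.2 hEQ, ← MonoidHom.range_eq_map,
        MonoidHom.range_eq_top.2 hf]
    | succ m ih =>
      rw [eq_top_iff, ← hS, commutator_def, ← ih, ← Subgroup.map_commutator]
      apply Subgroup.map_mono
      rw [Subgroup.commutator_le]
      intro a ha b hb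
      exact Subgroup.commutator_mem_commutator (G := H) ha hb
  refine ⟨f.comp (Subgroup.inclusion hRE), ?_, fun x => hker _⟩
  intro s
  have h1 : s ∈ ((dser Q k₀).subgroupOf E).map f := by rw [himg]; trivial
  obtain ⟨x, hx, rfl⟩ := h1
  exact ⟨⟨x, hx⟩, rfl⟩

theorem map_conj_dser {A A' : Subgroup H} (h : H) (hA : ∀ x ∈ A, h * x * h⁻¹ ∈ A') (m : ℕ) :
    ∀ x ∈ dser A m, h * x * h⁻¹ ∈ dser A' m := by
  have key : (dser A m).map (MulAut.conj h).toMonoidHom ≤ dser A' m := by
    induction m with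
    | zero =>
      rintro _ ⟨x, hx, rfl⟩
      exact hA x hx
    | succ m ih =>
      rw [dser_succ, dser_succ, Subgroup.map_commutator]
      exact Subgroup.commutator_mono ih ih
  intro x hx
  exact key ⟨x, hx, rfl⟩

theorem two_trans_blocks (I : ImpC (V := V) p q W K N Q φ) {i j i' j' : B} (hij : i ≠ j) (hij' : i' ≠ j') :
    ∃ h : H, h • i = i' ∧ h • j = j' := by
  obtain ⟨k, hk1, hk2⟩ := three_le I i j
  obtain ⟨k', hk1', hk2'⟩ := three_le I i' j'
  obtain ⟨h, h1, h2, -⟩ := I.t3 i j k i' j' k' hij hk1.symm hk2.symm hij' hk1'.symm hk2'.symm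
  exact ⟨h, h1, h2⟩

theorem mult_inj {S : Type u} [Group S] [Finite S] (hS : commutator S = ⊤) (σ : S →* SL5)
    (hσ : Function.Surjective σ) (hker : σ.ker ≤ Subgroup.center S) : Function.Injective σ := by
  haveI : Fact (Nat.Prime 5) := ⟨by norm_num⟩
  obtain ⟨M, hM1, hM2, ⟨e⟩⟩ := Finite.exists_type_univ_nonempty_mulEquiv.{u, 0} S
  let τ : M →* SL5 := σ.comp e.symm.toMonoidHom
  have h1 := (Cfsg.Agent.S2117.result (F := ZMod 5) (by rw [ZMod.card]; norm_num)
    (by rw [ZMod.card]; norm_num)).2 M τ ⟨hσ.comp e.symm.surjective, ?_, ?_⟩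
  · obtain ⟨π, hπ⟩ := h1
    have h2 : τ.ker = ⊥ := by
      rw [eq_bot_iff]
      intro x hx
      obtain ⟨a, ha⟩ := hπ ⟨x, hx⟩
      have h3 : a = 1 := by
        have : Subsingleton (Multiplicative (ZMod 1)) := inferInstance
        exact Subsingleton.elim _ _
      rw [h3, map_one] at ha
      exact Subgroup.mem_bot.2 (congrArg Subtype.val ha).symm
    have h3 := (MonoidHom.ker_eq_bot_iff τ).1 h2
    intro x y hxy
    have h4 : τ (e x) = τ (e y) := by
      change σ (e.symm (e x)) = σ (e.symm (e y))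
      rw [e.symm_apply_apply, e.symm_apply_apply, hxy]
    exact e.injective (h3 h4)
  · intro x hx
    rw [Subgroup.mem_center_iff]
    intro g
    have h2 : e.symm x ∈ Subgroup.center S := hker hx
    have h3 := Subgroup.mem_center_iff.1 h2 (e.symm g)
    rw [← map_mul, ← map_mul] at h3
    exact e.symm.injective h3
  · have h2 : commutator M = ⊤ := by
      rw [commutator_def, ← Subgroup.map_top_of_surjective e.toMonoidHom e.surjective,
        ← Subgroup.map_commutator, ← commutator_def, hS]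
    rw [h2]
    exact le_top

theorem resid5_false (I : ImpC (V := V) p q W K N Q φ) (hp7 : p = 7) (R : Subgroup H) (hRn : R.Normal)
    (hRQ : R ≤ Q) (hRp : ⁅R, R⁆ = R) (hg : ∀ i, ∃ g : R →* SL5, Function.Surjective g ∧
      ∀ x : R, g x = 1 ↔ ∀ w ∈ W i, (x : H) • w = w) : False := by
  classical
  haveI : Fact (Nat.Prime 5) := ⟨by norm_num⟩
  have h5 : 3 < Fintype.card (ZMod 5) := by rw [ZMod.card]; norm_num
  have hS : commutator SL5 = ⊤ := TwoFusion.SLTwoFacts.commutator_eq_top h5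
  haveI : Fintype B := Fintype.ofFinite B
  haveI := Q_normal I
  choose g hgs hgk using hg
  have hcen : ∀ i (x : R), g i x ∈ Subgroup.center SL5 ↔ ∀ y ∈ R, ∀ w ∈ W i, ⁅(x : H), y⁆ • w = w := by
    intro i x
    rw [Subgroup.mem_center_iff]
    constructor
    · intro h y hy
      have h1 := (hgk i ⁅x, ⟨y, hy⟩⁆).1 (by
        rw [map_commutatorElement, commutatorElement_eq_one_iff_mul_comm]
        exact (h _).symm)
      exact h1
    · intro h s
      obtain ⟨y, rfl⟩ := hgs i s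
      have h1 := (hgk i ⁅x, y⁆).2 (h y y.2)
      rw [map_commutatorElement, commutatorElement_eq_one_iff_mul_comm] at h1
      exact h1.symm
  let X : B → Subgroup H := fun i => ((Subgroup.center SL5).comap (g i)).map R.subtype
  have hgX : ∀ i (x : R), g i x ∈ Subgroup.center SL5 ↔ (x : H) ∈ X i := by
    intro i x
    constructor
    · intro h; exact ⟨x, h, rfl⟩
    · rintro ⟨y, hy, hyx⟩
      have : y = x := Subtype.ext hyx
      rw [← this]; exact hy
  have hXR : ∀ i, X i ≤ R := fun i => Subgroup.map_subtype_le _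
  have hX : ∀ i x, x ∈ X i ↔ x ∈ R ∧ ∀ y ∈ R, ∀ w ∈ W i, ⁅x, y⁆ • w = w := by
    intro i x
    constructor
    · intro h
      exact ⟨hXR i h, (hcen i ⟨x, hXR i h⟩).1 ((hgX i ⟨x, hXR i h⟩).2 h)⟩
    · rintro ⟨h1, h2⟩
      exact (hgX i ⟨x, h1⟩).1 ((hcen i ⟨x, h1⟩).2 h2)
  have hXc : ∀ (h : H) i x, x ∈ X i → h * x * h⁻¹ ∈ X (h • i) := by
    intro h i x hx
    rw [hX] at hx ⊢
    refine ⟨hRn.conj_mem _ hx.1 h, fun y hy => ?_⟩
    have h1 : h⁻¹ * y * h ∈ R := by
      have := hRn.conj_mem _ hy h⁻¹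
      rwa [inv_inv] at this
    have h2 := conj_trivial I (h := h) (hx.2 _ h1)
    have h3 : h * ⁅x, h⁻¹ * y * h⁆ * h⁻¹ = ⁅h * x * h⁻¹, y⁆ := by
      simp only [commutatorElement_def]; group
    rwa [h3] at h2
  have hXc' : ∀ (h : H) i x, h⁻¹ * x * h ∈ X i → x ∈ X (h • i) := by
    intro h i x hx
    have := hXc h i _ hx
    have h3 : h * (h⁻¹ * x * h) * h⁻¹ = x := by group
    rwa [h3] at this
  by_cases hE : ∃ i j, i ≠ j ∧ X i = X j
  · -- all equal
    obtain ⟨i, j, hij, he⟩ := hE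
    have hall : ∀ i' j', i' ≠ j' → X i' ≤ X j' := by
      intro i' j' hij' x hx
      obtain ⟨h, h1, h2⟩ := two_trans_blocks I hij hij'
      rw [← h2]
      apply hXc'
      rw [← he]
      have h3 := hXc h⁻¹ _ _ hx
      rw [inv_inv] at h3
      have h4 : h⁻¹ • i' = i := by rw [inv_smul_eq_iff, h1]
      rwa [h4] at h3
    have hn : (X i).Normal := by
      constructor
      intro x hx h
      have h1 := hXc h i x hx
      by_cases h2 : h • i = i
      · rwa [h2] at h1
      · exact hall _ _ h2 h1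
    refine section_false K I.core.maxK ?_ R (X i) hRn hn (g i) (hgs i) (hgX i)
    rw [← hp7]
    exact I.core.pS
  · -- pairwise different
    push Not at hE
    have hXn : ∀ i, ((X i).subgroupOf R).Normal := by
      intro i
      constructor
      intro x hx y
      have h1 := hXc (y : H) i x hx
      rwa [(I.memQ _).1 (hRQ y.2) i] at h1
    have hne : ∀ i j, i ≠ j → ¬ X j ≤ X i := by
      intro i j hij hle
      apply hE i j hij
      apply le_antisymm _ hle
      obtain ⟨h, h1, h2⟩ := two_trans_blocks I hij hij.symm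
      intro x hx
      rw [← h1]
      apply hXc'
      apply hle
      have h3 := hXc h⁻¹ _ _ hx
      rw [inv_inv] at h3
      have h4 : h⁻¹ • i = j := by rw [inv_smul_eq_iff, h2]
      rwa [h4] at h3
    have himg : ∀ i j, i ≠ j → ((X j).subgroupOf R).map (g i) = ⊤ := by
      intro i j hij
      haveI := hXn j
      have h1 : (((X j).subgroupOf R).map (g i)).Normal := (hXn j).map _ (hgs i)
      rcases sl25_normal _ h1 with h2 | h2
      · exfalso
        apply hne i j hij
        intro x hx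
        exact (hgX i ⟨x, hXR j hx⟩).1 (h2 ⟨⟨x, hXR j hx⟩, hx, rfl⟩)
      · exact h2
    -- the intersections
    let A : Finset B → Subgroup H := fun s => R ⊓ ⨅ j ∈ s, X j
    have hA : ∀ s x, x ∈ A s ↔ x ∈ R ∧ ∀ j ∈ s, x ∈ X j := by
      intro s x
      simp only [A, Subgroup.mem_inf, Subgroup.mem_iInf]
    have hAn : ∀ s, ∀ x ∈ A s, ∀ y ∈ R, y * x * y⁻¹ ∈ A s := by
      intro s x hx y hy
      rw [hA] at hx ⊢
      refine ⟨hRn.conj_mem _ hx.1 y, fun j hj => ?_⟩
      have h1 := hXc y j x (hx.2 j hj)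
      rwa [(I.memQ _).1 (hRQ hy) j] at h1
    have himgA : ∀ (i : B) (s : Finset B), i ∉ s → ((A s).subgroupOf R).map (g i) = ⊤ := by
      intro i s
      induction s using Finset.induction_on with
      | empty =>
        intro _
        have h1 : (A ∅).subgroupOf R = ⊤ := by
          rw [Subgroup.subgroupOf_eq_top]
          intro x hx
          rw [hA]
          exact ⟨hx, fun j hj => absurd hj (by simp)⟩
        rw [h1, ← MonoidHom.range_eq_map, MonoidHom.range_eq_top.2 (hgs i)]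
      | insert j s hj ih =>
        intro hi
        rw [Finset.mem_insert, not_or] at hi
        rw [eq_top_iff]
        calc (⊤ : Subgroup SL5) = ⁅(⊤ : Subgroup SL5), ⊤⁆ := by rw [← commutator_def, hS]
          _ = ⁅((A s).subgroupOf R).map (g i), ((X j).subgroupOf R).map (g i)⁆ := by
            rw [ih hi.2, himg i j hi.1]
          _ = ⁅(A s).subgroupOf R, (X j).subgroupOf R⁆.map (g i) := (Subgroup.map_commutator _ _ _).symm
          _ ≤ _ := by
            apply Subgroup.map_mono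
            rw [Subgroup.commutator_le]
            intro a ha b hb
            change ((⁅a, b⁆ : R) : H) ∈ A (insert j s)
            have ha' : (a : H) ∈ A s := ha
            have hb' : (b : H) ∈ X j := hb
            rw [hA]
            refine ⟨(⁅a, b⁆ : R).2, fun l hl => ?_⟩
            change (a : H) * b * (a : H)⁻¹ * (b : H)⁻¹ ∈ X l
            rcases Finset.mem_insert.1 hl with rfl | hl
            · have h1 := hXc (a : H) l b hb'
              rw [(I.memQ _).1 (hRQ a.2) l] at h1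
              exact mul_mem h1 (inv_mem hb')
            · have h1 := ((hA s a).1 ha').2 l hl
              have h2 := hXc (b : H) l _ (inv_mem h1)
              rw [(I.memQ _).1 (hRQ b.2) l] at h2
              have h3 : (a : H) * b * (a : H)⁻¹ * (b : H)⁻¹ = a * (b * (a : H)⁻¹ * (b : H)⁻¹) := by group
              rw [h3]
              exact mul_mem h1 h2
    let Ri : B → Subgroup H := fun i => A (Finset.univ.erase i)
    have hRi : ∀ i x, x ∈ Ri i ↔ x ∈ R ∧ ∀ j, j ≠ i → x ∈ X j := by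
      intro i x
      rw [hA]
      simp only [Finset.mem_erase, Finset.mem_univ, and_true]
    have hRic : ∀ (h : H) i, ∀ x ∈ Ri i, h * x * h⁻¹ ∈ Ri (h • i) := by
      intro h i x hx
      rw [hRi] at hx ⊢
      refine ⟨hRn.conj_mem _ hx.1 h, fun j hj => ?_⟩
      have h1 : h⁻¹ • j ≠ i := by
        intro h2
        rw [inv_smul_eq_iff] at h2
        exact hj h2
      have h2 := hXc h _ x (hx.2 _ h1)
      rwa [smul_inv_smul] at h2
    let Si : B → Subgroup H := fun i => ⨅ m, dser (Ri i) m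
    have hSi : ∀ i x, x ∈ Si i ↔ ∀ m, x ∈ dser (Ri i) m := fun i x => Subgroup.mem_iInf
    have hSk : ∀ i, ∃ k, Si i = dser (Ri i) k ∧ ⁅Si i, Si i⁆ = Si i := by
      intro i
      obtain ⟨k, h1, h2⟩ := exists_stable (Q := Ri i)
      have h3 : Si i = dser (Ri i) k := le_antisymm (iInf_le _ k) (le_iInf h2)
      exact ⟨k, h3, by rw [h3]; exact h1⟩
    have hSc : ∀ (h : H) i, ∀ x ∈ Si i, h * x * h⁻¹ ∈ Si (h • i) := by
      intro h i x hx
      rw [hSi] at hx ⊢
      exact fun m => map_conj_dser h (hRic h i) m x (hx m)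
    have hSR : ∀ i, Si i ≤ R := by
      intro i x hx
      exact ((hRi i x).1 ((hSi i x).1 hx 0)).1
    have hSt : ∀ i j, i ≠ j → ∀ x ∈ Si i, ∀ w ∈ W j, x • w = w := by
      intro i j hij x hx
      have h1 : dser (Ri i) 1 ≤ trivOn W R {j} := by
        change ⁅Ri i, Ri i⁆ ≤ _
        rw [Subgroup.commutator_le]
        intro a ha b hb
        have ha' := (hRi i a).1 ha
        have hb' := (hRi i b).1 hb
        refine ⟨?_, ?_⟩
        · rw [← hRp]
          exact Subgroup.commutator_mem_commutator ha'.1 hb'.1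
        · intro l hl
          rw [Set.mem_singleton_iff] at hl
          subst hl
          exact ((hX l a).1 (ha'.2 l hij.symm)).2 b hb'.1
      exact (h1 ((hSi i x).1 hx 1)).2 j rfl
    have himgS : ∀ i, ∀ s : SL5, ∃ x, ∃ hx : x ∈ Si i, g i ⟨x, hSR i hx⟩ = s := by
      intro i s
      have h1 : ∀ m, ((dser (Ri i) m).subgroupOf R).map (g i) = ⊤ := by
        intro m
        induction m with
        | zero => exact himgA i _ (Finset.notMem_erase i _)
        | succ m ih =>
          rw [eq_top_iff, ← hS, commutator_def, ← ih, ← Subgroup.map_commutator]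
          apply Subgroup.map_mono
          rw [Subgroup.commutator_le]
          intro a ha b hb
          exact Subgroup.commutator_mem_commutator (G := H) ha hb
      obtain ⟨k, hk, -⟩ := hSk i
      have h2 : s ∈ ((dser (Ri i) k).subgroupOf R).map (g i) := by rw [h1]; trivial
      obtain ⟨x, hx, rfl⟩ := h2
      have hx' : (x : H) ∈ Si i := by rw [hk]; exact hx
      exact ⟨x, hx', rfl⟩
    -- the isomorphism
    have hSinj : ∀ i, ∀ x (hx : x ∈ Si i), g i ⟨x, hSR i hx⟩ = 1 → x = 1 := by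
      intro i
      have hperf : commutator (Si i) = ⊤ := by
        obtain ⟨k, -, hk⟩ := hSk i
        have h1 : (commutator (Si i)).map (Si i).subtype = (⊤ : Subgroup (Si i)).map (Si i).subtype := by
          rw [commutator_def, Subgroup.map_commutator, ← MonoidHom.range_eq_map, Subgroup.range_subtype, hk]
        exact Subgroup.map_injective (Si i).subtype_injective h1
      have h1 := mult_inj hperf ((g i).comp (Subgroup.inclusion (hSR i))) (by
        intro s
        obtain ⟨x, hx, h2⟩ := himgS i s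
        exact ⟨⟨x, hx⟩, h2⟩) (by
        intro x hx
        have h2 : (x : H) ∈ N := by
          apply mem_N_of_blocks I
          intro j
          by_cases hj : j = i
          · subst hj
            exact (hgk j _).1 hx
          · exact hSt i j (Ne.symm hj) x x.2
        rw [Subgroup.mem_center_iff]
        intro y
        exact Subtype.ext ((Subgroup.mem_center_iff.1 (I.core.cen h2) (y : H))))
      intro x hx h2
      have h3 : (⟨x, hx⟩ : Si i) = 1 := h1 (by
        rw [map_one]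
        exact h2)
      exact congrArg Subtype.val h3
    -- the centres
    let T : B → Subgroup H := fun i => Si i ⊓ X i
    have hTc : ∀ i, ∀ a ∈ T i, ∀ b ∈ Si i, a * b = b * a := by
      rintro i a ⟨ha, ha'⟩ b hb
      have h1 := ((hX i a).1 ha').2 b (hSR i hb)
      have h2 : ⁅a, b⁆ ∈ Si i := mul_mem (mul_mem (mul_mem ha hb) (inv_mem ha)) (inv_mem hb)
      have h3 := hSinj i _ h2 ((hgk i _).2 h1)
      exact commutatorElement_eq_one_iff_mul_comm.1 h3
    have hTT : ∀ i j, i ≠ j → ∀ a ∈ Si i, ∀ b ∈ Si j, a * b = b * a := by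
      intro i j hij a ha b hb
      have h1 : ⁅a, b⁆ ∈ Si i := by
        have h2 := hSc b i _ (inv_mem ha)
        rw [(I.memQ _).1 (hRQ (hSR j hb)) i] at h2
        have h3 : ⁅a, b⁆ = a * (b * a⁻¹ * b⁻¹) := by rw [commutatorElement_def]; group
        rw [h3]
        exact mul_mem ha h2
      have h2 : ∀ w ∈ W i, ⁅a, b⁆ • w = w :=
        comm_trivial_right I (hRQ (hSR i ha)) (hSt j i (Ne.symm hij) b hb)
      exact commutatorElement_eq_one_iff_mul_comm.1 (hSinj i _ h1 ((hgk i _).2 h2))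
    have hab : ∀ i j, ∀ a ∈ T i, ∀ b ∈ T j, a * b = b * a := by
      intro i j a ha b hb
      by_cases hij : i = j
      · subst hij
        exact hTc i a ha b hb.1
      · exact hTT i j hij a ha.1 b hb.1
    refine Cfsg.Agent.H912.NX.prod_false I T (fun i => inf_le_left.trans ((hSR i).trans hRQ)) ?_ ?_ ?_ hab ?_
    · intro h i x hx
      exact ⟨hSc h i x hx.1, hXc h i x hx.2⟩
    · intro i j hij x hx
      exact hSt i j hij x hx.1
    · intro i hTi
      obtain ⟨x, hx, hxs⟩ := himgS i (-1)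
      have h1 : x ∈ T i := by
        refine ⟨hx, (hgX i ⟨x, hSR i hx⟩).1 ?_⟩
        rw [hxs, Subgroup.mem_center_iff]
        intro s
        rw [mul_neg, mul_one, neg_mul, one_mul]
      rw [hTi, Subgroup.mem_bot] at h1
      subst h1
      have h2 : g i ⟨1, hSR i hx⟩ = 1 := map_one (g i)
      rw [hxs] at h2
      revert h2
      decide +kernel
    · rw [eq_bot_iff]
      rintro x ⟨hx, hxN⟩
      have hcomm : Pairwise fun i j => ∀ a b : H, a ∈ T i → b ∈ T j → Commute a b :=
        fun i j _ a b ha hb => hab i j a ha b hb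
      rw [← Subgroup.noncommPiCoprod_range (hcomm := hcomm)] at hx
      obtain ⟨f, rfl⟩ := hx
      have h1 : ∀ i, ∀ w ∈ W i, Subgroup.noncommPiCoprod hcomm f • w = (f i : H) • w := by
        intro i w hw
        have h2 : f = Pi.mulSingle i (f i) * Function.update f i 1 := by
          funext j
          by_cases hj : j = i
          · subst hj
            simp
          · simp only [hj, _root_.Pi.mul_apply, _root_.ne_eq, _root_.not_false_eq_true, _root_.Pi.mulSingle_eq_of_ne, _root_.Function.update_of_ne, _root_.one_mul]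
        have h3 : ∀ w ∈ W i, Subgroup.noncommPiCoprod hcomm (Function.update f i 1) • w = w := by
          rw [Subgroup.noncommPiCoprod_apply]
          refine Finset.noncommProd_induction _ _ _ (fun y => ∀ w ∈ W i, y • w = w) ?_ ?_ ?_
          · intro a b ha hb w hw
            rw [mul_smul, hb w hw, ha w hw]
          · intro w _
            exact one_smul H w
          · intro j _ w hw
            by_cases hj : j = i
            · subst hj
              rw [Function.update_self]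
              exact one_smul H w
            · rw [Function.update_of_ne hj]
              exact hSt j i hj _ (f j).2.1 w hw
        rw [h2, map_mul, mul_smul, h3 w hw, Subgroup.noncommPiCoprod_mulSingle]
        simp only [_root_.Pi.mul_apply, _root_.Pi.mulSingle_eq_same, _root_.Function.update_self, _root_.mul_one]
      have h2 : f = 1 := by
        funext i
        apply Subtype.ext
        refine hSinj i _ (f i).2.1 ((hgk i _).2 ?_)
        intro w hw
        rw [← h1 i w hw]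
        exact trivial_of_N I hxN w
      rw [h2, map_one]
      exact one_mem _

/-- the data of the `SL(2, 5)` rows (helper37's argument) -/
theorem slfive_data (I : ImpC (V := V) p q W K N Q φ)
    (hq : q = 11 ∨ q = 19 ∨ q = 29 ∨ q = 59)
    (h : ∀ i, Nat.card (W i) = q ^ 2 ∧ ∃ A : Subgroup (Equiv.Perm (W i)),
      (∀ x ∈ A, ∃ g ∈ Q, ∀ w : W i, g • (w : V) = x w) ∧
      (∀ m : H, m • i = i → ∀ x ∈ A, ∃ y ∈ A, ∀ w w' : W i, (w' : V) = m • (w : V) →
        (y w' : V) = m • (x w : V)) ∧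
      Nonempty (A ≃* Matrix.SpecialLinearGroup (Fin 2) (ZMod 5))) :
    ∀ i, ∃ (E : Subgroup H) (f : E →* SL5), E ≤ Q ∧ Function.Surjective f ∧
      (∀ x : E, f x = 1 ↔ ∀ w ∈ W i, (x : H) • w = w) ∧ ∃ k, dser Q k ≤ E := by
  classical
  haveI : Fact (Nat.Prime 5) := ⟨by norm_num⟩
  intro i
  obtain ⟨hW, A, hA, hAn, ⟨e⟩⟩ := h i
  have hAr : A ≤ (blk I i).range := by
    intro x hx
    obtain ⟨g, hg, hgx⟩ := hA x hx
    refine ⟨⟨g, hg⟩, ?_⟩
    ext w
    exact hgx w
  let E : Subgroup Q := A.comap (blk I i)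
  let f₀ : E →* A := (blk I i).subgroupComap A
  have hf₀ : ∀ x : E, ((f₀ x : A) : Equiv.Perm (W i)) = blk I i x := fun _ => rfl
  have hf₀s : Function.Surjective f₀ := by
    rintro ⟨x, hx⟩
    obtain ⟨g, rfl⟩ := hAr hx
    exact ⟨⟨g, hx⟩, rfl⟩
  haveI hEn : E.Normal := by
    constructor
    intro x hx m
    change blk I i (m * x * m⁻¹) ∈ A
    obtain ⟨y, hy, hyx⟩ := hAn (m : H) ((I.memQ _).1 m.2 i) _ hx
    have : blk I i (m * x * m⁻¹) = y := by
      ext w
      have h1 := hyx (blk I i m⁻¹ w) w (by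
        rw [blk_apply]
        exact (smul_inv_smul (m : H) (w : V)).symm)
      rw [h1]
      rw [blk_apply, blk_apply]
      change ((m : H) * x * (m : H)⁻¹) • (w : V) = (m : H) • (x : H) • ((m : H)⁻¹ • (w : V))
      rw [mul_smul, mul_smul]
    rw [this]
    exact hy
  -- the index
  have hA120 : Nat.card A = 120 := by
    rw [Nat.card_congr e.toEquiv, Nat.card_eq_fintype_card]
    decide +kernel
  have hker : (blk I i).ker ≤ E := by
    intro x hx
    change blk I i x ∈ A
    rw [MonoidHom.mem_ker.1 hx]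
    exact one_mem _
  have hrel : (blk I i).ker.relIndex E = 120 := by
    have h1 : (blk I i).ker.subgroupOf E = f₀.ker := by
      ext x
      rw [Subgroup.mem_subgroupOf, MonoidHom.mem_ker, MonoidHom.mem_ker, ← hf₀]
      constructor
      · intro h; exact Subtype.ext h
      · intro h; rw [h]; rfl
    change ((blk I i).ker.subgroupOf E).index = 120
    rw [h1, Subgroup.index_ker, MonoidHom.range_eq_top.2 hf₀s, Subgroup.card_top, hA120]
  have hidx : 120 * E.index ∣ (q ^ 2 - 1) * (q ^ 2 - q) := by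
    rw [← hrel, Subgroup.relIndex_mul_index hker]
    exact index_blk_dvd I i hW
  have hqE : ¬ q ∣ E.index := by
    intro hd
    apply I.cop
    exact hd.trans ((Subgroup.index_dvd_card E).trans (Subgroup.card_subgroup_dvd_card Q))
  have hqc : Nat.Coprime E.index q :=
    ((Nat.Prime.coprime_iff_not_dvd I.hq).2 hqE).symm
  haveI hsol : Group.IsSolvable (Q ⧸ E) := by
    have hc : Nat.card (Q ⧸ E) = E.index := rfl
    rcases hq with rfl | rfl | rfl | rfl
    · have h1 : E.index ∣ 10 * 11 := Nat.dvd_of_mul_dvd_mul_left (by norm_num : 0 < 120)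
        (by norm_num only [] at hidx ⊢; exact hidx)
      exact solvable_of_dvd (r := 5) (u := 1) (v := 1) (by norm_num) (by
        rw [hc]; exact Nat.Coprime.dvd_of_dvd_mul_right hqc (by simpa using h1))
    · have h1 : E.index ∣ 54 * 19 := Nat.dvd_of_mul_dvd_mul_left (by norm_num : 0 < 120)
        (by norm_num only [] at hidx ⊢; exact hidx)
      exact solvable_of_dvd (r := 3) (u := 1) (v := 3) (by norm_num) (by
        rw [hc]; exact Nat.Coprime.dvd_of_dvd_mul_right hqc (by simpa using h1))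
    · have h1 : E.index ∣ 196 * 29 := Nat.dvd_of_mul_dvd_mul_left (by norm_num : 0 < 120)
        (by norm_num only [] at hidx ⊢; exact hidx)
      exact solvable_of_dvd (r := 7) (u := 2) (v := 2) (by norm_num) (by
        rw [hc]; exact Nat.Coprime.dvd_of_dvd_mul_right hqc (by simpa using h1))
    · have h1 : E.index ∣ 1682 * 59 := Nat.dvd_of_mul_dvd_mul_left (by norm_num : 0 < 120)
        (by norm_num only [] at hidx ⊢; exact hidx)
      exact solvable_of_dvd (r := 29) (u := 1) (v := 2) (by norm_num) (by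
        rw [hc]; exact Nat.Coprime.dvd_of_dvd_mul_right hqc (by simpa using h1))
  obtain ⟨n, hn⟩ := hsol
  have hnE : derivedSeries Q n ≤ E := by
    have h1 := map_derivedSeries_eq (QuotientGroup.mk'_surjective E) n
    rw [hn, Subgroup.map_eq_bot_iff, QuotientGroup.ker_mk'] at h1
    exact h1
  let ε : E ≃* E.map Q.subtype := E.equivMapOfInjective Q.subtype Q.subtype_injective
  refine ⟨E.map Q.subtype, (e.toMonoidHom.comp f₀).comp ε.symm.toMonoidHom, Subgroup.map_subtype_le E,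
    (e.surjective.comp hf₀s).comp ε.symm.surjective, ?_, n, ?_⟩
  · intro x
    obtain ⟨y, rfl⟩ := ε.surjective x
    have h1 : ((ε y : E.map Q.subtype) : H) = ((y : Q) : H) := rfl
    change e (f₀ (ε.symm (ε y))) = 1 ↔ _
    rw [ε.symm_apply_apply, h1, ← blk_eq_one_iff I (i := i) (g := (y : Q)), ← hf₀]
    constructor
    · intro h
      have h2 : f₀ y = 1 := e.injective (h.trans (map_one e).symm)
      rw [h2]; rfl
    · intro h
      have h2 : f₀ y = 1 := Subtype.ext h
      rw [h2, map_one]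
  · rw [dser_eq_map]
    exact Subgroup.map_mono hnE

/-- **The row `q = 19`, `p = 7`.** -/
theorem nineteen_false (I : ImpC (V := V) p q W K N Q φ) (hq : q = 19) (hp7 : p = 7)
    (h : ∀ i, Nat.card (W i) = 361 ∧ ∃ A : Subgroup (Equiv.Perm (W i)),
      (∀ x ∈ A, ∃ g ∈ Q, ∀ w : W i, g • (w : V) = x w) ∧
      (∀ m : H, m • i = i → ∀ x ∈ A, ∃ y ∈ A, ∀ w w' : W i, (w' : V) = m • (w : V) →
        (y w' : V) = m • (x w : V)) ∧
      Nonempty (A ≃* Matrix.SpecialLinearGroup (Fin 2) (ZMod 5))) : False := by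
  haveI : Fact (Nat.Prime 5) := ⟨by norm_num⟩
  have h5 : 3 < Fintype.card (ZMod 5) := by rw [ZMod.card]; norm_num
  obtain ⟨R, hRn, hRQ, hRp, hg⟩ := exists_resid I (TwoFusion.SLTwoFacts.commutator_eq_top h5)
    (slfive_data I (Or.inr (Or.inl hq)) (fun i => ⟨by rw [(h i).1, hq]; norm_num, (h i).2⟩))
  exact resid5_false I hp7 R hRn hRQ hRp hg

end resid

end Cfsg.Agent.H32.NX9.Five
end

-- part: H605/NX/Glue
section
/-!
# S4979, layer (I): the Hering step for the blocks (helper605)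
-/

set_option autoImplicit false
set_option linter.style.haveILetI false
set_option linter.unusedSectionVars false
set_option linter.unusedFintypeInType false
set_option linter.unusedDecidableInType false

open scoped Pointwise

namespace Cfsg.Agent.H605.NX

open MulAction Cfsg.Agent.H32.NX9 Cfsg.Agent.H37.NX

universe u v w

variable {p q : ℕ} {H : Type u} {V : Type v} {B : Type w} [Group H] [Finite H] [AddCommGroup V] [Finite V]
  [DistribMulAction H V] [Finite B] [MulAction H B] {W : B → AddSubgroup V} {K N Q : Subgroup H} {φ : N →* ℂˣ}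

/-- the action of the stabilizer of a block on the block -/
@[reducible] def blkAct (I : ImpC (V := V) p q W K N Q φ) (i : B) :
    DistribMulAction (stabilizer H i) (W i) where
  smul m w := ⟨(m : H) • (w : V), by
    have h := smul_mem_block I (m : H) w.2
    have hm : (m : H) • i = i := m.2
    rwa [hm] at h⟩
  one_smul w := Subtype.ext (one_smul _ _)
  mul_smul a b w := Subtype.ext (mul_smul _ _ _)
  smul_zero a := Subtype.ext (smul_zero _)
  smul_add a v w := Subtype.ext (smul_add _ _ _)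

theorem W_nontrivial (I : ImpC (V := V) p q W K N Q φ) (i : B) : Nontrivial (W i) := by
  haveI := I.core.nt
  rw [AddSubgroup.nontrivial_iff_ne_bot]
  intro h
  have h1 : ∀ j, W j = ⊥ := by
    intro j
    obtain ⟨g, hg⟩ := trans_blocks I i j
    rw [← hg, ← I.smulW, h]
    rw [eq_bot_iff]
    rintro _ ⟨w, hw, rfl⟩
    have hw' : w = 0 := hw
    subst hw'
    exact smul_zero g
  have h2 := I.top
  simp only [h1, iSup_bot] at h2
  exact bot_ne_top h2

/-- two-transitivity on the blocks -/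
theorem two_trans (I : ImpC (V := V) p q W K N Q φ) {i j i' j' : B} (h : i ≠ j) (h' : i' ≠ j') :
    ∃ g : H, g • i = i' ∧ g • j = j' := by
  obtain ⟨k, hk1, hk2⟩ := three_le I i j
  obtain ⟨k', hk1', hk2'⟩ := three_le I i' j'
  obtain ⟨g, h1, h2, -⟩ := I.t3 i j k i' j' k' h hk1.symm hk2.symm h' hk1'.symm hk2'.symm
  exact ⟨g, h1, h2⟩

theorem index_stab (I : ImpC (V := V) p q W K N Q φ) (i : B) : (stabilizer H i).index = Nat.card B := by
  rw [index_stabilizer]
  have : orbit H i = Set.univ := by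
    ext j
    simp only [Set.mem_univ, iff_true]
    obtain ⟨g, hg⟩ := trans_blocks I i j
    exact ⟨g, hg⟩
  rw [this, Set.ncard_univ]

theorem Q_le_stab (I : ImpC (V := V) p q W K N Q φ) (i : B) : Q ≤ stabilizer H i :=
  fun g hg => (I.memQ g).1 hg i

/-- the affine case: the block stabilizer induces `H / K` -/
theorem agl_quot (hB : Big8Stmt) (I : ImpC (V := V) p q W K N Q φ) (hn : Nat.card B = 8)
    (hQ : Q.index = 1344) (i : B) [hn' : (Q.subgroupOf (stabilizer H i)).Normal] :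
    haveI := I.core.nK
    Nonempty ((stabilizer H i) ⧸ (Q.subgroupOf (stabilizer H i)) ≃* H ⧸ K) := by
  haveI := I.core.nK
  have hK := ImpC.index_K hB I hn hQ
  have hM := index_stab I i
  rw [hn] at hM
  -- `K` moves a block
  obtain ⟨k, hk, b, hb⟩ : ∃ k ∈ K, ∃ b : B, k • b ≠ b := by
    by_contra hcon
    push Not at hcon
    have h1 : K ≤ Q := fun k hk => (I.memQ k).2 (hcon k hk)
    have h2 : K = Q := le_antisymm h1 I.QK
    rw [h2, hQ] at hK
    omega
  have htrK : ∀ c : B, c ≠ i → ∃ k ∈ K, k • i = c := by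
    intro c hc
    obtain ⟨g, h1, h2⟩ := two_trans I hb.symm hc.symm
    refine ⟨g * k * g⁻¹, I.core.nK.conj_mem k hk g, ?_⟩
    rw [mul_smul, mul_smul, ← h1, inv_smul_smul, h2]
  let f : stabilizer H i →* H ⧸ K := (QuotientGroup.mk' K).comp (stabilizer H i).subtype
  have hf : Function.Surjective f := by
    intro x
    obtain ⟨g, rfl⟩ := QuotientGroup.mk'_surjective K x
    by_cases hg : g⁻¹ • i = i
    · refine ⟨⟨g, ?_⟩, rfl⟩
      rw [mem_stabilizer_iff]
      rw [inv_smul_eq_iff] at hg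
      exact hg.symm
    · obtain ⟨k, hk, hki⟩ := htrK _ hg
      refine ⟨⟨g * k, ?_⟩, ?_⟩
      · rw [mem_stabilizer_iff, mul_smul, hki, smul_inv_smul]
      · show QuotientGroup.mk' K (g * k) = QuotientGroup.mk' K g
        have hk1 : QuotientGroup.mk' K k = 1 := (QuotientGroup.eq_one_iff k).2 hk
        rw [map_mul, hk1, mul_one]
  have hker : f.ker = Q.subgroupOf (stabilizer H i) := by
    have h1 : f.ker = K.subgroupOf (stabilizer H i) := by
      ext m
      rw [MonoidHom.mem_ker, Subgroup.mem_subgroupOf]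
      exact QuotientGroup.eq_one_iff _
    have h2 : f.ker.index = 168 := by
      have h3 := Nat.card_congr (QuotientGroup.quotientKerEquivOfSurjective f hf).toEquiv
      have h4 : Nat.card (H ⧸ K) = 168 := hK
      rw [h4] at h3
      exact h3
    have h5 : (Q.subgroupOf (stabilizer H i)).index = 168 := by
      have h6 := Subgroup.relIndex_mul_index (Q_le_stab I i)
      rw [hM, hQ] at h6
      change Q.relIndex (stabilizer H i) = 168
      omega
    symm
    apply Subgroup.eq_of_le_of_card_ge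
    · rw [h1]
      intro x hx
      exact I.QK hx
    · have h7 := Subgroup.card_mul_index f.ker
      have h8 := Subgroup.card_mul_index (Q.subgroupOf (stabilizer H i))
      rw [h2] at h7
      rw [h5] at h8
      omega
  exact ⟨(QuotientGroup.quotientMulEquivOfEq hker.symm).trans
    (QuotientGroup.quotientKerEquivOfSurjective f hf)⟩

/-- `q` exceeds the number of blocks in the alternating case -/
theorem lt_q (I : ImpC (V := V) p q W K N Q φ) (hA : IsAlt H B) : Nat.card B < q := by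
  obtain ⟨i1, i2, hA⟩ := hA
  have hnt : Nontrivial B := by
    have h3 : 3 ≤ Nat.card B := by
      have := I.card
      have := I.hp.one_lt
      omega
    rw [← Finite.one_lt_card_iff_nontrivial]
    omega
  have h1 : (toPermHom H B).range = alternatingGroup B := by
    ext σ
    rw [Equiv.Perm.mem_alternatingGroup, MonoidHom.mem_range, hA]
    constructor
    · rintro ⟨h, rfl⟩
      exact ⟨h, fun b => rfl⟩
    · rintro ⟨h, hh⟩
      exact ⟨h, Equiv.ext hh⟩
  have h2 : Nat.card (alternatingGroup B) ∣ Nat.card H := by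
    rw [← h1]
    exact Subgroup.card_range_dvd _
  by_contra hcon
  push Not at hcon
  have h3 : q ∣ Nat.factorial (Nat.card B) := (Nat.Prime.dvd_factorial I.hq).2 hcon
  rw [← Nat.card_perm, ← two_mul_nat_card_alternatingGroup, Nat.Prime.dvd_mul I.hq] at h3
  rcases h3 with h3 | h3
  · have h4 := (Nat.prime_dvd_prime_iff_eq I.hq Nat.prime_two).1 h3
    apply I.cop
    rw [h4]
    exact ImpC.even_card I
  · exact I.cop (h3.trans h2)

theorem five_le_q (I : ImpC (V := V) p q W K N Q φ) : 5 ≤ q := by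
  rcases I.type with ⟨-, hA, h⟩ | ⟨-, -, h⟩
  · have h1 := lt_q I hA
    rcases h with ⟨-, h⟩ | h <;> omega
  · have h1 : ∀ m, m ∣ 1344 → q ≠ m := by
      rintro m hm rfl
      exact I.cop (hm.trans (h ▸ Subgroup.index_dvd_card Q))
    have h2 := h1 2 (by norm_num)
    have h3 := h1 3 (by norm_num)
    have h4 := h1 4 (by norm_num)
    have h5 := I.hq.two_le
    omega

/-- the quotient of the block stabilizer -/
theorem quot_case (hB : Big8Stmt) (I : ImpC (V := V) p q W K N Q φ) (h2p : 2 * p ≤ Nat.card B + 1) (i : B)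
    [hn' : (Q.subgroupOf (stabilizer H i)).Normal] :
    (IsSimpleGroup ((stabilizer H i) ⧸ (Q.subgroupOf (stabilizer H i))) ∧
      ¬ IsMulCommutative ((stabilizer H i) ⧸ (Q.subgroupOf (stabilizer H i))) ∧
        (p = 3 ∨ (2 * p - 1 < q ∧ 14400 < Nat.card ((stabilizer H i) ⧸ (Q.subgroupOf (stabilizer H i)))))) ∨
      (p = 3 ∧ Nonempty ((stabilizer H i) ⧸ (Q.subgroupOf (stabilizer H i)) ≃* alternatingGroup (Fin 4))) := by
  classical
  rcases I.type with ⟨-, hA, h⟩ | ⟨h3, h8, h⟩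
  · have hq := lt_q I hA
    obtain ⟨i1, i2, hA⟩ := hA
    obtain ⟨e⟩ := alt_quot hA I.memQ i
    have hc : Nat.card {b : B // b ≠ i} = Nat.card B - 1 := by
      rw [Nat.card_eq_fintype_card, Nat.card_eq_fintype_card]
      simp only [Fintype.card_subtype_compl, _root_.ne_eq, _root_.Fintype.card_unique]
    rcases h with ⟨h3, h5⟩ | h8
    · right
      rw [h5] at hc
      have e' : {b : B // b ≠ i} ≃ Fin 4 := Finite.equivFinOfCardEq hc
      exact ⟨h3, ⟨e.trans (Equiv.altCongrHom e')⟩⟩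
    · left
      have h5 : 5 ≤ Nat.card {b : B // b ≠ i} := by rw [hc]; omega
      haveI : IsSimpleGroup (alternatingGroup {b : B // b ≠ i}) := alternatingGroup.isSimpleGroup h5
      haveI : Nontrivial {b : B // b ≠ i} := by
        rw [← Finite.one_lt_card_iff_nontrivial]; omega
      refine ⟨e.isSimpleGroup, ?_, ?_⟩
      · intro hcomm
        have h6 : Subgroup.center (alternatingGroup {b : B // b ≠ i}) = ⊥ :=
          alternatingGroup.center_eq_bot (by omega)
        have h7 : Subgroup.center (alternatingGroup {b : B // b ≠ i}) = ⊤ := by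
          rw [eq_top_iff]
          intro a _
          rw [Subgroup.mem_center_iff]
          intro b
          apply e.symm.injective
          rw [map_mul, map_mul]
          exact hcomm.is_comm.comm _ _
        rw [h6] at h7
        exact bot_ne_top h7
      · by_cases h3 : p = 3
        · exact Or.inl h3
        · right
          refine ⟨by omega, ?_⟩
          have hp5 : 5 ≤ p := by
            have h6 := I.hp.two_le
            have h7 := I.core.odd
            have h4 : p ≠ 4 := by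
              intro h
              have := I.hp
              rw [h] at this
              revert this; decide
            omega
          rw [Nat.card_congr e.toEquiv]
          have h9 : 2 * Nat.card (alternatingGroup {b : B // b ≠ i}) = (Nat.card B - 1).factorial := by
            rw [two_mul_nat_card_alternatingGroup, Nat.card_perm, hc]
          have h10 : (8 : ℕ).factorial ≤ (Nat.card B - 1).factorial := Nat.factorial_le (by omega)
          have h11 : (8 : ℕ).factorial = 40320 := by decide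
          omega
  · left
    haveI := I.core.nK
    haveI := I.core.simp
    obtain ⟨e⟩ := agl_quot hB I h8 h i
    refine ⟨e.isSimpleGroup, ?_, Or.inl h3⟩
    intro hcomm
    apply I.core.na
    refine ⟨⟨fun a b => ?_⟩⟩
    apply e.symm.injective
    rw [map_mul, map_mul]
    exact hcomm.is_comm.comm _ _

end Cfsg.Agent.H605.NX
end

-- part: H605/NX/GoodOrBad
section
/-!
# S4979, layer (I), piece [I-b]: good prime, Fermat blocks or `SL(2,5)` (helper605)
-/

set_option autoImplicit false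
set_option linter.style.haveILetI false
set_option linter.unusedSectionVars false

open scoped Pointwise

namespace Cfsg.Agent.H605.NX

open MulAction Cfsg.Agent.H32.NX9 Cfsg.Agent.H37.NX

universe u v w

variable {p q : ℕ} {H : Type u} {V : Type v} {B : Type w} [Group H] [Finite H] [AddCommGroup V] [Finite V]
  [DistribMulAction H V] [Finite B] [MulAction H B] {W : B → AddSubgroup V} {K N Q : Subgroup H} {φ : N →* ℂˣ}

/-- the good alternative at one block -/
def GoodAt (Q : Subgroup H) (U : AddSubgroup V) (r : ℕ) : Prop :=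
  ∃ t ∈ Q, (∃ k : ℕ, ∀ w ∈ U, t ^ r ^ k • w = w) ∧ (∃ w ∈ U, t • w ≠ w) ∧
    ∀ x ∈ Q, (∃ k : ℕ, ∀ w ∈ U, x ^ r ^ k • w = w) → ∃ j : ℕ, ∀ w ∈ U, x • w = t ^ j • w

/-- the group induced on a block has a normal subgroup `SL(2,5)` induced by `Q` -/
def SLAt (Q : Subgroup H) (W : B → AddSubgroup V) (i : B) : Prop :=
  ∃ A : Subgroup (Equiv.Perm (W i)), (∀ x ∈ A, ∃ g ∈ Q, ∀ w : W i, g • (w : V) = x w) ∧
    (∀ m : H, m • i = i → ∀ x ∈ A, ∃ y ∈ A, ∀ w w' : W i, (w' : V) = m • (w : V) →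
      (y w' : V) = m • (x w : V)) ∧
    Nonempty (A ≃* Matrix.SpecialLinearGroup (Fin 2) (ZMod 5))

/-- the Hering step at one block -/
theorem blk_step (hher : HerStmt.{v}) (hB : Big8Stmt) (I : ImpC (V := V) p q W K N Q φ)
    (h2p : 2 * p ≤ Nat.card B + 1) (i : B) :
    (∀ a ∈ W i, ∀ b ∈ W i, a ≠ 0 → b ≠ 0 → ∃ g ∈ Q, g • a = b) ∧
    ((∃ r, r.Prime ∧ r ≠ 2 ∧ r ≠ p ∧ GoodAt Q (W i) r) ∨
      (Nat.card (W i) = q ∧ ∃ a : ℕ, q = 2 ^ a + 1 ∧ 2 ≤ a) ∨
      (q = 19 ∧ Nat.card (W i) = q ^ 2 ∧ SLAt Q W i)) := by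
  classical
  haveI := Fact.mk I.hp
  haveI := Fact.mk I.hq
  haveI := Q_normal I
  haveI := W_nontrivial I i
  letI := blkAct I i
  have hact : ∀ (m : stabilizer H i) (w : W i), ((m • w : W i) : V) = (m : H) • (w : V) := fun m w => rfl
  have hmain := hering_step (p := p) (q := q) (M := stabilizer H i) (W := W i) hher I.core.odd (five_le_q I)
    (fun w => Subtype.ext (I.core.exp (w : V)))
    (fun h => I.cop (h.trans (Subgroup.card_subgroup_dvd_card _)))
    (by
      intro v w hv hw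
      obtain ⟨m, hm, hmv⟩ := I.trans i v v.2 w w.2 (fun h => hv (Subtype.ext h)) (fun h => hw (Subtype.ext h))
      exact ⟨⟨m, hm⟩, Subtype.ext hmv⟩)
    (ImpC.not_dvd_card_sub_one I i) (Q.subgroupOf (stabilizer H i)) (quot_case hB I h2p i)
  obtain ⟨h1, h2, h3⟩ := hmain
  refine ⟨?_, ?_⟩
  · intro a ha b hb ha0 hb0
    obtain ⟨g, hg, hgab⟩ := h1 ⟨a, ha⟩ ⟨b, hb⟩ (fun h => ha0 (congrArg Subtype.val h))
      (fun h => hb0 (congrArg Subtype.val h))
    exact ⟨g, hg, congrArg Subtype.val hgab⟩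
  rcases h3 with ⟨r, a, C, c, G⟩ | ⟨h4, a, ha⟩ | ⟨h4, h5, h6, A, hA, ⟨ψ⟩⟩
  · left
    have hcQ : (c : H) ∈ Q := G.CQ G.cC
    refine ⟨r, G.pr, G.r2, ?_, (c : H), hcQ, ?_, ?_, ?_⟩
    · -- `r ≠ p`
      rintro rfl
      have h7 : r ∣ orderOf c := by
        refine (dvd_pow_self r (by have := G.a1; omega)).trans ((G.ord _).1 fun w => ?_)
        rw [pow_orderOf_eq_one, one_smul]
      have h8 : r ∣ Nat.card K := by
        have h9 : orderOf (c : H) ∣ Nat.card K := by
          have := orderOf_dvd_natCard (⟨(c : H), I.QK hcQ⟩ : K)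
          rwa [← Subgroup.orderOf_coe] at this
        rw [Subgroup.orderOf_coe] at h9
        exact h7.trans h9
      exact I.core.pK h8
    · refine ⟨a, fun w hw => ?_⟩
      exact congrArg Subtype.val ((G.ord (r ^ a)).2 dvd_rfl ⟨w, hw⟩)
    · by_contra hcon
      push Not at hcon
      have h7 := (G.ord 1).1 (fun w => Subtype.ext (by
        rw [pow_one]
        exact hcon w w.2))
      have h8 := Nat.dvd_one.1 h7
      have h9 := G.pr.one_lt
      have h10 : 1 < r ^ a := Nat.one_lt_pow (by have := G.a1; omega) h9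
      omega
    · rintro x hx ⟨k, hk⟩
      have hxM : x ∈ stabilizer H i := Q_le_stab I i hx
      have h7 : (⟨x, hxM⟩ : stabilizer H i) ∈ C :=
        G.mem ⟨x, hxM⟩ hx ⟨k, fun w => Subtype.ext (hk w w.2)⟩
      obtain ⟨j, hj⟩ := G.gen _ h7
      exact ⟨j, fun w hw => congrArg Subtype.val (hj ⟨w, hw⟩)⟩
  · right; left
    refine ⟨h4, a, ha, ?_⟩
    by_contra hcon
    have h7 := five_le_q I
    have h8 : a = 0 ∨ a = 1 := by omega
    rcases h8 with rfl | rfl <;> omega
  · right; right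
    have h7 : IsSimpleGroup ((stabilizer H i) ⧸ (Q.subgroupOf (stabilizer H i))) ∧
        ¬ IsMulCommutative ((stabilizer H i) ⧸ (Q.subgroupOf (stabilizer H i))) := by
      rcases quot_case hB I h2p i with ⟨h8, h9, -⟩ | ⟨h8, -⟩
      · exact ⟨h8, h9⟩
      · omega
    have hsame := h2 h7.1 h7.2
    refine ⟨h4, by rw [h6, h4], A.map (toPermHom (stabilizer H i) (W i)).range.subtype, ?_, ?_, ?_⟩
    · rintro _ ⟨⟨_, m, rfl⟩, hx, rfl⟩
      obtain ⟨g, hg, hgm⟩ := hsame m
      exact ⟨g, hg, fun w => (congrArg Subtype.val (hgm w)).symm⟩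
    · rintro m hm _ ⟨x, hx, rfl⟩
      let m' : stabilizer H i := ⟨m, hm⟩
      let ρm : (toPermHom (stabilizer H i) (W i)).range := ⟨toPermHom _ _ m', m', rfl⟩
      refine ⟨_, ⟨ρm * x * ρm⁻¹, hA.conj_mem x hx ρm, rfl⟩, ?_⟩
      intro w w' hww
      have h8 : w' = toPermHom _ _ m' w := Subtype.ext hww
      have h9 : ((ρm * x * ρm⁻¹ : (toPermHom (stabilizer H i) (W i)).range) : Equiv.Perm (W i)) w' =
          toPermHom _ _ m' ((x : Equiv.Perm (W i)) w) := by
        show (toPermHom _ _ m') ((x : Equiv.Perm (W i)) ((toPermHom _ _ m')⁻¹ w')) = _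
        rw [h8]
        exact congrArg _ (congrArg _ ((toPermHom (stabilizer H i) (W i) m').symm_apply_apply w))
      exact congrArg Subtype.val h9
    · exact ⟨(A.equivMapOfInjective _ (Subgroup.subtype_injective _)).symm.trans ψ⟩

/-- transport of the good alternative to all blocks -/
theorem goodPr_of (I : ImpC (V := V) p q W K N Q φ) {i : B} {r : ℕ} (hr : r.Prime) (hr2 : r ≠ 2) (hrp : r ≠ p)
    (h : GoodAt Q (W i) r) : GoodPr p r W Q := by
  refine ⟨hr, hr2, hrp, fun j => ?_⟩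
  obtain ⟨g, hg⟩ := trans_blocks I i j
  have hQn := Q_normal I
  obtain ⟨t, ht, ⟨k, hk⟩, ⟨w, hw, hwt⟩, hx⟩ := h
  have hback : ∀ u ∈ W j, g⁻¹ • u ∈ W i := by
    intro u hu
    have h1 := smul_mem_block I g⁻¹ hu
    rwa [← hg, inv_smul_smul] at h1
  have hpow : ∀ (x : H) (n : ℕ), (g * x * g⁻¹) ^ n = g * x ^ n * g⁻¹ := fun x n => by
    rw [← MulAut.conj_apply, ← map_pow, MulAut.conj_apply]
  refine ⟨g * t * g⁻¹, hQn.conj_mem t ht g, ⟨k, fun u hu => ?_⟩, ⟨g • w, ?_, ?_⟩, ?_⟩
  · rw [hpow, mul_smul, mul_smul, hk _ (hback u hu), smul_inv_smul]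
  · have h1 := smul_mem_block I g hw
    rwa [hg] at h1
  · rw [mul_smul, mul_smul, inv_smul_smul]
    intro h1
    exact hwt (MulAction.injective g h1)
  · rintro x hxQ ⟨l, hl⟩
    have h1 : ∀ w ∈ W i, (g⁻¹ * x * g) ^ r ^ l • w = w := by
      intro w hw
      have h2 : (g⁻¹ * x * g) ^ r ^ l = g⁻¹ * x ^ r ^ l * g := by
        have := Cfsg.Agent.H37.NX.conj_pow g⁻¹ x (r ^ l)
        rwa [inv_inv] at this
      have h3 := smul_mem_block I g hw
      rw [hg] at h3
      rw [h2, mul_smul, mul_smul, hl _ h3, inv_smul_smul]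
    have hc : g⁻¹ * x * g ∈ Q := by
      have := hQn.conj_mem x hxQ g⁻¹
      rwa [inv_inv] at this
    obtain ⟨j', hj'⟩ := hx _ hc ⟨l, h1⟩
    refine ⟨j', fun u hu => ?_⟩
    have h4 := hj' _ (hback u hu)
    rw [mul_smul, mul_smul, smul_inv_smul, inv_smul_eq_iff] at h4
    rw [h4, hpow, mul_smul, mul_smul]

/-- [I-b]: a good prime (and then `Q` is transitive on the nonzero vectors of each block), or the blocks have Fermat
prime order, or `SL(2,5)` on `19 ^ 2`. -/
theorem good_or_bad (hher : HerStmt.{v}) (hB : Big8Stmt) (I : ImpC (V := V) p q W K N Q φ)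
    (h2p : 2 * p ≤ Nat.card B + 1) :
    ((∃ r, GoodPr p r W Q) ∧ ∀ i, ∀ a ∈ W i, ∀ b ∈ W i, a ≠ 0 → b ≠ 0 → ∃ g ∈ Q, g • a = b) ∨ Bad q W ∨
      (q = 19 ∧ ∀ i, Nat.card (W i) = q ^ 2 ∧ SLAt Q W i) := by
  classical
  have hstep := fun i => blk_step hher hB I h2p i
  by_cases h1 : ∃ i, ∃ r, r.Prime ∧ r ≠ 2 ∧ r ≠ p ∧ GoodAt Q (W i) r
  · obtain ⟨i, r, hr, hr2, hrp, h⟩ := h1
    exact Or.inl ⟨⟨r, goodPr_of I hr hr2 hrp h⟩, fun i => (hstep i).1⟩
  by_cases h2 : ∃ i, Nat.card (W i) = q ∧ ∃ a : ℕ, q = 2 ^ a + 1 ∧ 2 ≤ a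
  · obtain ⟨i, hi, ha⟩ := h2
    refine Or.inr (Or.inl ⟨fun j => ?_, ha⟩)
    obtain ⟨g, hg⟩ := trans_blocks I i j
    rw [← hi]
    refine Nat.card_congr
      { toFun := fun u => ⟨g⁻¹ • (u : V), ?_⟩
        invFun := fun w => ⟨g • (w : V), ?_⟩
        left_inv := fun u => Subtype.ext (smul_inv_smul _ _)
        right_inv := fun w => Subtype.ext (inv_smul_smul _ _) }
    · have h1 := smul_mem_block I g⁻¹ u.2
      have h3 : g⁻¹ • j = i := by rw [← hg, inv_smul_smul]
      rwa [h3] at h1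
    · have h1 := smul_mem_block I g w.2
      rwa [hg] at h1
  · right; right
    have h3 : ∀ i, q = 19 ∧ Nat.card (W i) = q ^ 2 ∧ SLAt Q W i := by
      intro i
      rcases (hstep i).2 with h | h | h
      · exact absurd ⟨i, h⟩ h1
      · exact absurd ⟨i, h⟩ h2
      · exact h
    obtain ⟨i⟩ : Nonempty B := by
      have h4 := I.card
      by_contra hcon
      rw [not_nonempty_iff] at hcon
      rw [Nat.card_of_isEmpty] at h4
      omega
    exact ⟨(h3 i).1, fun i => (h3 i).2⟩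

end Cfsg.Agent.H605.NX
end

-- part: H239/NX/Good
section
/-!
# S4979, layer (I): a good prime is impossible, alternating action (helper239)
-/

set_option autoImplicit false

open scoped Pointwise

namespace Cfsg.Agent.H239.NX

open Cfsg.Agent.H32.NX9

universe u v

variable {p q : ℕ} {H V : Type u} {B : Type v} [Group H] [Finite H] [AddCommGroup V] [Finite V]
  [DistribMulAction H V] [Finite B] [MulAction H B] {W : B → AddSubgroup V} {K N Q : Subgroup H} {φ : N →* ℂˣ}

/-- [I-fg] (I4): a good prime is impossible, alternating case. -/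
theorem good_false_alt (I : ImpC (V := V) p q W K N Q φ) {r : ℕ} (hr : GoodPr p r W Q)
    (trQ : ∀ i, ∀ u ∈ W i, ∀ w ∈ W i, u ≠ 0 → w ≠ 0 → ∃ g ∈ Q, g • u = w)
    (hA : IsAlt H B) (hn : (p = 3 ∧ Nat.card B = 5) ∨ 8 ≤ Nat.card B) : False := by
  obtain ⟨a, P, t, R⟩ := Cfsg.Agent.H37.NX.exists_rdata I hr
  obtain ⟨x, mul, ker, kerN, conj, hNR, hnR, hRQ, hidx, htriv, hunit⟩ :=
    Cfsg.Agent.H322.NX.perm_data I R hA hn
  obtain ⟨i, -, -, -⟩ := ImpC_three I
  have : Fact (1 < r ^ a) := ⟨Nat.one_lt_pow (by have := R.ha; omega) R.prime.one_lt⟩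
  exact perm_false I hA hn R.prime R.odd hr.ne trQ
    (P := { NR := hNR, nR := hnR, mul := mul, ker := ker, kerN := kerN, conj := conj }) hRQ hidx
    ⟨t i, (le_sup_left : P ≤ P ⊔ N) (R.tP i), i, (hunit i).ne_zero⟩ htriv

end Cfsg.Agent.H239.NX
end

-- part: H239/NX/Bad
section
/-!
# S4979, layer (I): the Fermat case, alternating action (helper239)
-/

set_option autoImplicit false
set_option linter.unusedSectionVars false

open scoped commutatorElement Pointwise

namespace Cfsg.Agent.H239.NX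

open Cfsg.Agent.H32.NX9 MulAction

universe u

section
variable {p q : ℕ} {H V : Type u} {B : Type*} [Group H] [Finite H] [AddCommGroup V] [Finite V] [DistribMulAction H V]
  [Finite B] [MulAction H B] {W : B → AddSubgroup V} {K N Q : Subgroup H} {φ : N →* ℂˣ}

/-- blocks of prime order: the scalars -/
theorem exists_scalar (I : ImpC (V := V) p q W K N Q φ) (hb : ∀ i, Nat.card (W i) = q) :
    ∃ (w : B → V) (c : H → B → (ZMod q)ˣ), (∀ i, w i ∈ W i) ∧ (∀ i, w i ≠ 0) ∧
      (∀ i, ∀ u ∈ W i, ∃ k : ℕ, u = k • w i) ∧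
      (∀ h i, h • w i = ((c h i : ZMod q).val) • w (h • i)) ∧
      (∀ k l : ℕ, ∀ i, k • w i = l • w i → (k : ZMod q) = (l : ZMod q)) := by
  classical
  have hqp : Fact q.Prime := ⟨I.hq⟩
  choose w hw hw0 using exists_ne_zero I
  have hord : ∀ i, addOrderOf (w i) = q := by
    intro i
    exact addOrderOf_eq_prime (I.core.exp _) (hw0 i)
  have hgen : ∀ i, ∀ u ∈ W i, ∃ k : ℕ, u = k • w i := by
    intro i u hu
    have h1 : AddSubgroup.zmultiples (w i) = W i := by
      apply AddSubgroup.eq_of_le_of_card_ge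
      · rw [AddSubgroup.zmultiples_le]
        exact hw i
      · rw [hb, Nat.card_zmultiples, hord]
    rw [← h1] at hu
    obtain ⟨k, hk⟩ := AddSubgroup.mem_zmultiples_iff.1 hu
    have h2 : u ∈ AddSubmonoid.multiples (w i) := by
      rw [mem_multiples_iff_mem_zmultiples]
      exact hu
    obtain ⟨l, hl⟩ := AddSubmonoid.mem_multiples_iff _ _ |>.1 h2
    exact ⟨l, hl.symm⟩
  have hcan : ∀ k l : ℕ, ∀ i, k • w i = l • w i → (k : ZMod q) = (l : ZMod q) := by
    intro k l i h
    rw [ZMod.natCast_eq_natCast_iff]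
    have h1 := (nsmul_eq_nsmul_iff_modEq (x := w i) (n := k) (m := l)).1 h
    rwa [hord] at h1
  have hex : ∀ (h : H) (i : B), ∃ c : (ZMod q)ˣ, h • w i = ((c : ZMod q).val) • w (h • i) := by
    intro h i
    have h1 : h • w i ∈ W (h • i) := by
      rw [← I.smulW]
      exact AddSubgroup.smul_mem_pointwise_smul _ h (W i) (hw i)
    obtain ⟨k, hk⟩ := hgen _ _ h1
    have hk' : h • w i = ((k : ZMod q).val) • w (h • i) := by
      rw [hk, ZMod.val_natCast, ← hord (h • i), mod_addOrderOf_nsmul]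
    have hk0 : (k : ZMod q) ≠ 0 := by
      intro h0
      rw [h0, ZMod.val_zero, zero_smul] at hk'
      exact hw0 i ((smul_eq_zero_iff_eq h).1 hk')
    exact ⟨Units.mk0 _ hk0, hk'⟩
  choose c hc using hex
  exact ⟨w, c, hw, hw0, hgen, hc, hcan⟩

/-- (I5) -/
theorem bad_false_alt (I : ImpC (V := V) p q W K N Q φ) (hbad : Bad q W)
    (hA : IsAlt H B) (hn : (p = 3 ∧ Nat.card B = 5) ∨ 8 ≤ Nat.card B) : False := by
  classical
  obtain ⟨hb, a, hqa, ha2⟩ := hbad
  have hqp : Fact q.Prime := ⟨I.hq⟩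
  obtain ⟨w, c, hw, hw0, hgen, hc, hcan⟩ := exists_scalar I hb
  -- multiples
  have hsm : ∀ (h : H) (k : ℕ) (v : V), h • (k • v) = k • (h • v) := fun h k v =>
    map_nsmul (DistribSMul.toAddMonoidHom V h) k v
  have hval : ∀ (u v : (ZMod q)ˣ) (i : B), (u : ZMod q).val • w i = (v : ZMod q).val • w i → u = v := by
    intro u v i h
    have h1 := hcan _ _ i h
    rw [ZMod.natCast_zmod_val, ZMod.natCast_zmod_val] at h1
    exact Units.ext h1
  have hmulv : ∀ (u v : (ZMod q)ˣ) (i : B), (u : ZMod q).val • (v : ZMod q).val • w i =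
      ((u * v : (ZMod q)ˣ) : ZMod q).val • w i := by
    intro u v i
    have h1 : (q : ℕ) • w i = 0 := I.core.exp _
    rw [Units.val_mul, ZMod.val_mul, smul_smul]
    conv_lhs => rw [← Nat.mod_add_div ((u : ZMod q).val * (v : ZMod q).val) q, add_smul, mul_comm q, mul_smul, h1,
      smul_zero, add_zero]
  have hcoc : ∀ g h i, c (g * h) i = c g (h • i) * c h i := by
    intro g h i
    apply hval _ _ ((g * h) • i)
    rw [← hc, mul_smul, hc h i, hsm, hc g (h • i), hmulv, mul_smul g h i, mul_comm]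
  have hc1 : ∀ g, (∀ v : V, g • v = v) → (∀ i : B, g • i = i) → ∀ i, c g i = 1 := by
    intro g hg hgi i
    apply hval _ _ i
    have h1 := hc g i
    rw [hg, hgi] at h1
    rw [← h1, Units.val_one, ZMod.val_one, one_smul]
  have hccon : ∀ (h g : H) (i : B), (∀ i : B, g • i = i) → c (h * g * h⁻¹) (h • i) = c g i := by
    intro h g i hg
    have h1 : c (h * g * h⁻¹ * h) i = c (h * g) i := by rw [inv_mul_cancel_right]
    rw [hcoc (h * g * h⁻¹) h i, hcoc h g i, hg, mul_comm (c h i)] at h1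
    exact mul_right_cancel h1
  -- the group of units
  have hcard : Nat.card (ZMod q)ˣ = 2 ^ a := by
    rw [Nat.card_eq_fintype_card, ZMod.card_units q, hqa, Nat.add_sub_cancel]
  have hpow : ∀ u : (ZMod q)ˣ, u ^ 2 ^ a = 1 := by
    intro u
    rw [← hcard]
    exact pow_card_eq_one'
  obtain ⟨γ, hγ⟩ := IsCyclic.exists_generator (α := (ZMod q)ˣ)
  have hγo : orderOf γ = 2 ^ a := by
    rw [← hcard]
    exact orderOf_eq_card_of_forall_mem_zpowers hγ
  -- an element with different scalars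
  obtain ⟨ρ, hρ, i, j, hij, hne⟩ : ∃ ρ ∈ Q, ∃ i j : B, i ≠ j ∧
      c ρ i ^ 2 ^ (a - 1) ≠ c ρ j ^ 2 ^ (a - 1) := by
    by_contra hcon
    push Not at hcon
    let σ : H → B → (ZMod q)ˣ := fun h i => c h i ^ 2 ^ (a - 1)
    have hσ : ∀ g h i, σ (g * h) i = σ g (h • i) * σ h i := by
      intro g h i
      change c (g * h) i ^ _ = c g (h • i) ^ _ * c h i ^ _
      rw [hcoc, mul_pow]
    have hσs : ∀ (g h : H) (i : B), h • i = i → σ (g * h) i = σ g i * σ h i := by
      intro g h i hi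
      rw [hσ, hi]
    have hrel : ∀ h i j, i ≠ j → h • i = i → h • j = j → σ h i = σ h j := by
      intro h i j hij hi hj
      let f : ↥(stabilizer H i ⊓ stabilizer H j) →* (ZMod q)ˣ :=
        MonoidHom.mk' (fun g => σ g i * (σ g j)⁻¹) fun u v => by
          change σ ((u : H) * (v : H)) i * (σ ((u : H) * (v : H)) j)⁻¹ = _
          rw [hσs _ _ i v.2.1, hσs _ _ j v.2.2, mul_inv]
          exact mul_mul_mul_comm _ _ _ _
      have h1 := alt_hom_two hA Nat.prime_two (Or.inl (by norm_num)) mul_comm f (fun g hg => by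
        change σ (g : H) i * (σ (g : H) j)⁻¹ = 1
        rw [mul_inv_eq_one]
        exact hcon g ((I.memQ _).2 hg) i j hij) (fun u => ⟨a, hpow _⟩) ⟨h, hi, hj⟩
      exact mul_inv_eq_one.1 h1
    have hfin : ∀ g : H, (∀ i : B, g • i = i) → ∀ i, σ g i = 1 := fun g hg i =>
      edge_cocycle σ hσ hrel I.core.perf (ImpC_three I) I.t3 hg i
    -- the block stabilizer
    obtain ⟨i, -, -, -⟩ := ImpC_three I
    let f : ↥(stabilizer H i) →* (ZMod q)ˣ :=
      MonoidHom.mk' (fun g => σ g i) fun u v => hσs _ _ i v.2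
    have h1 : ∀ g : ↥(stabilizer H i), f g = 1 := by
      intro g
      refine alt_hom hA Nat.prime_two (M := stabilizer H i) (F := fun b => b = i) (fun g => ?_)
        (Or.inl (by norm_num)) mul_comm f (fun g hg => hfin g hg i) (fun u => ⟨a, hpow _⟩) g
      rw [mem_stabilizer_iff]
      constructor
      · rintro h1 b rfl
        exact h1
      · intro h1
        exact h1 i rfl
    obtain ⟨m, hm1, hm2⟩ := I.trans i (w i) (hw i) ((γ : ZMod q).val • w i) ((W i).nsmul_mem (hw i) _) (hw0 i) (by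
      intro h0
      have h2 := hcan ((γ : ZMod q).val) 0 i (by rw [h0, zero_smul])
      rw [ZMod.natCast_zmod_val, Nat.cast_zero] at h2
      exact γ.ne_zero h2)
    have h2 : c m i = γ := by
      apply hval _ _ i
      have h3 := hc m i
      rw [hm2, hm1] at h3
      exact h3.symm
    have h3 : c m i ^ 2 ^ (a - 1) = 1 := h1 ⟨m, hm1⟩
    rw [h2] at h3
    have h4 := orderOf_dvd_of_pow_eq_one h3
    rw [hγo] at h4
    have h5 := Nat.le_of_dvd (by positivity) h4
    have h6 : 2 ^ (a - 1) < 2 ^ a := Nat.pow_lt_pow_right (by norm_num) (by omega)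
    omega
  -- discrete logarithm
  let θ : Multiplicative (ZMod (Nat.card (ZMod q)ˣ)) ≃* (ZMod q)ˣ := zmodCyclicMulEquiv inferInstance
  let x : H → B → ZMod (Nat.card (ZMod q)ˣ) := fun g i => Multiplicative.toAdd (θ.symm (c g i))
  have hx0 : ∀ g i, x g i = 0 → c g i = 1 := by
    intro g i h
    have h1 : θ.symm (c g i) = 1 := h
    rw [← θ.apply_symm_apply (c g i), h1, map_one]
  have htriv : ∀ ρ ∈ Q, ∀ i, x ρ i = 0 → ∀ u ∈ W i, ρ • u = u := by
    intro ρ hρ i h u hu
    obtain ⟨k, rfl⟩ := hgen i u hu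
    rw [hsm, hc, hx0 ρ i h, (I.memQ ρ).1 hρ, Units.val_one, ZMod.val_one, one_smul]
  have P : PM (Nat.card (ZMod q)ˣ) N Q x :=
    { NR := by
        intro n hn
        rw [I.memQ]
        intro i
        by_contra hne
        have h1 : n • w i ∈ W (n • i) := by
          rw [← I.smulW]
          exact AddSubgroup.smul_mem_pointwise_smul _ n (W i) (hw i)
        rw [(I.core.ker n).2 hn] at h1
        exact hw0 i (AddSubgroup.disjoint_def.1 (I.ind.pairwiseDisjoint hne) h1 (hw i))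
      nR := ⟨fun g hg h => by
        rw [I.memQ]
        intro i
        rw [mul_smul, mul_smul, (I.memQ g).1 hg, smul_inv_smul]⟩
      mul := by
        intro g _ h hh i
        change Multiplicative.toAdd (θ.symm (c (g * h) i)) = _
        rw [hcoc, (I.memQ h).1 hh, map_mul, toAdd_mul]
      ker := by
        intro g hg h
        refine (I.core.ker g).1 fun v => ?_
        let U : AddSubgroup V :=
          { carrier := {v | g • v = v}
            zero_mem' := smul_zero g
            add_mem' := by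
              intro u v hu hv
              change g • (u + v) = u + v
              rw [smul_add, hu, hv]
            neg_mem' := by
              intro u hu
              change g • (-u) = -u
              rw [smul_neg, hu] }
        have h1 : (⊤ : AddSubgroup V) ≤ U := by
          rw [← I.top]
          exact iSup_le fun i u hu => htriv g hg i (h i) u hu
        exact h1 (AddSubgroup.mem_top v)
      kerN := by
        intro g hg i
        have hgv : ∀ v : V, g • v = v := (I.core.ker g).2 hg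
        have hgi : ∀ i : B, g • i = i := by
          intro i
          by_contra hne
          have h1 : g • w i ∈ W (g • i) := by
            rw [← I.smulW]
            exact AddSubgroup.smul_mem_pointwise_smul _ g (W i) (hw i)
          rw [hgv] at h1
          exact hw0 i (AddSubgroup.disjoint_def.1 (I.ind.pairwiseDisjoint hne) h1 (hw i))
        change Multiplicative.toAdd (θ.symm (c g i)) = 0
        rw [hc1 g hgv hgi, map_one, toAdd_one]
      conj := by
        intro h g hg i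
        change Multiplicative.toAdd (θ.symm (c (h * g * h⁻¹) (h • i))) = _
        rw [hccon h g i ((I.memQ g).1 hg)] }
  have h5 : 5 ≤ Nat.card B := by
    rcases hn with ⟨-, h⟩ | h
    · exact h.ge
    · omega
  have E : Pat 3 Q x := alt_pat_three hA h5 P I.core.cen
  obtain ⟨z, hz, hz1⟩ := E.avg ρ hρ i j hij
  have hm0 : (2 : ZMod (Nat.card (ZMod q)ˣ)) ^ a = 0 := by
    have h1 : ((2 ^ a : ℕ) : ZMod (Nat.card (ZMod q)ˣ)) = 0 :=
      (ZMod.natCast_eq_zero_iff _ _).2 (dvd_of_eq hcard)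
    rw [Nat.cast_pow] at h1
    exact_mod_cast h1
  have hv0 : (2 : ZMod (Nat.card (ZMod q)ˣ)) ^ (a - 1) * (x ρ i - x ρ j) ≠ 0 := by
    intro h0
    apply hne
    apply θ.symm.injective
    apply Multiplicative.toAdd.injective
    have e1 : ∀ i, Multiplicative.toAdd (θ.symm (c ρ i ^ 2 ^ (a - 1))) =
        ((2 ^ (a - 1) : ℕ) : ZMod (Nat.card (ZMod q)ˣ)) * x ρ i := by
      intro i
      rw [show θ.symm (c ρ i ^ 2 ^ (a - 1)) = θ.symm (c ρ i) ^ 2 ^ (a - 1) from map_pow θ.symm _ _, toAdd_pow,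
        nsmul_eq_mul]
    rw [e1, e1]
    rw [mul_sub, sub_eq_zero] at h0
    exact_mod_cast h0
  have hrel : (2 : ZMod (Nat.card (ZMod q)ˣ)) * (2 ^ (a - 1) * (x ρ i - x ρ j)) = 0 := by
    rw [← mul_assoc, ← pow_succ', Nat.sub_add_cancel (by omega), hm0, zero_mul]
  have hpw : (2 : ZMod (Nat.card (ZMod q)ˣ)) ^ (a - 1) = 2 * 2 ^ (a - 2) := by
    rw [← pow_succ']
    congr 1
    omega
  have ht : ((2 * 3 ^ 2 : ℕ) : ZMod (Nat.card (ZMod q)ˣ)) * (((2 ^ (a - 2) : ℕ) : ZMod (Nat.card (ZMod q)ˣ)) *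
      (((3 : ℕ) : ZMod (Nat.card (ZMod q)ˣ)) * (x ρ i - x ρ j))) =
      27 * ((2 : ZMod (Nat.card (ZMod q)ˣ)) ^ (a - 1) * (x ρ i - x ρ j)) := by
    rw [hpw]
    push_cast
    ring
  refine zero_end I Nat.prime_two P E le_rfl (by rw [Subgroup.relIndex_self]; norm_num)
    (fun i j hij f hf hf' g => ?_) htriv (s := ((2 ^ (a - 2) : ℕ) : ZMod (Nat.card (ZMod q)ˣ)) *
      (((3 : ℕ) : ZMod (Nat.card (ZMod q)ˣ)) * (x ρ i - x ρ j)))
    ⟨i, j, hij, z ^ 2 ^ (a - 2), pow_mem hz _, P.isZ_pow hz hz1 _⟩ ?_ ?_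
  · have hf1 : ∀ c, ∃ k : ℕ, f c ^ 2 ^ k = 1 := fun c => ⟨1, by rw [pow_one]; exact hf' c⟩
    exact alt_hom_two hA Nat.prime_two (Or.inl (by norm_num))
      (fun a b => Subtype.ext (Subgroup.mem_center_iff.1 b.2 a)) f hf hf1 g
  · rw [ht, mul_left_comm]
    push_cast
    rw [hrel, mul_zero]
  · intro h0
    apply hv0
    rw [ht] at h0
    have h1 : (2 : ZMod (Nat.card (ZMod q)ˣ)) ^ (a - 1) * (x ρ i - x ρ j) =
        27 * (2 ^ (a - 1) * (x ρ i - x ρ j)) - 13 * (2 * (2 ^ (a - 1) * (x ρ i - x ρ j))) := by ring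
    rw [h1, h0, hrel, mul_zero, sub_zero]

end

end Cfsg.Agent.H239.NX
end

-- part: H37/NX/ImpC
section
/-!
# S4979, layer (I): piece [I-a], `impC_of_impP` (helper37)
-/

set_option autoImplicit false
set_option linter.style.haveILetI false
set_option linter.unusedSectionVars false

open scoped Pointwise

namespace Cfsg.Agent.H37.NX

open MulAction Cfsg.Agent.H511.Wt Cfsg.Agent.H586.GW Cfsg.Agent.H32.NX9

/-- three points -/
theorem exists_of_three {G α : Type*} [Group G] [MulAction G α] (h : IsMultiplyPretransitive G α 3)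
    {i j k i' j' k' : α} (h1 : i ≠ j) (h2 : i ≠ k) (h3 : j ≠ k) (h4 : i' ≠ j') (h5 : i' ≠ k')
    (h6 : j' ≠ k') : ∃ g : G, g • i = i' ∧ g • j = j' ∧ g • k = k' := by
  have hinj : ∀ {a b c : α}, a ≠ b → a ≠ c → b ≠ c → Function.Injective ![a, b, c] := by
    intro a b c hab hac hbc x y hxy
    fin_cases x <;> fin_cases y <;> simp at hxy ⊢
    · exact hab hxy
    · exact hac hxy
    · exact hab hxy.symm
    · exact hbc hxy
    · exact hac hxy.symm
    · exact hbc hxy.symm
  obtain ⟨g, hg⟩ := MulAction.exists_smul_eq G (⟨![i, j, k], hinj h1 h2 h3⟩ : Fin 3 ↪ α)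
    ⟨![i', j', k'], hinj h4 h5 h6⟩
  refine ⟨g, ?_, ?_, ?_⟩
  · exact congrArg (fun w : Fin 3 ↪ α => w 0) hg
  · exact congrArg (fun w : Fin 3 ↪ α => w 1) hg
  · exact congrArg (fun w : Fin 3 ↪ α => w 2) hg

variable {p q : ℕ} {H V : Type*} [Group H] [Finite H] [AddCommGroup V] [Finite V] [DistribMulAction H V]
  {K N : Subgroup H} {φ : N →* ℂˣ}

/-- [I-a], with the bound `2 p ≤ n + 1`. -/
theorem impC_of_impP2 (h3513 : S3513Stmt) (hp : p.Prime) (hq : q.Prime)
    (C : Core2 (V := V) p q K N φ) (hqH : ¬ q ∣ Nat.card H)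
    (h : ImpP H V) : ∃ (M : Subgroup H) (W : H ⧸ M → AddSubgroup V) (Q : Subgroup H),
      ImpC (V := V) p q W K N Q φ ∧ 2 * p ≤ Nat.card (H ⧸ M) + 1 := by
  classical
  haveI : Fact p.Prime := ⟨hp⟩
  obtain ⟨M, W, hM, hW, hind, htop⟩ := h
  obtain ⟨n, e, ρ, I⟩ := C.imp h3513 hM hW hind htop
  have hp2 := C.odd
  have hp3 : 3 ≤ p := by
    have := hp.two_le
    omega
  have hcard : Nat.card (H ⧸ M) = n := by rw [Nat.card_congr e, Nat.card_fin]
  have hmemQ : ∀ g : H, g ∈ ρ.ker ↔ ∀ i : H ⧸ M, g • i = i := by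
    intro g
    rw [MonoidHom.mem_ker]
    constructor
    · intro h i
      apply e.injective
      rw [← I.equiv, h]
      rfl
    · intro h
      ext i : 1
      obtain ⟨b, rfl⟩ := e.surjective i
      rw [I.equiv, h]
      rfl
  have htr3 : IsMultiplyPretransitive ρ.range (Fin n) 3 := by
    rcases I.shape with ⟨h5, -, -, hA, -⟩ | ⟨hn, -, hprim, hc, -⟩
    · rw [hA]
      have h1 := alternatingGroup.isMultiplyPretransitive (Fin n)
      rw [Nat.card_fin] at h1
      haveI := h1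
      refine MulAction.isMultiplyPretransitive_of_le (n := n - 2) (by omega) (by
        rw [Nat.card_fin]; omega)
    · subst hn
      exact three_trans_eight hprim hc
  refine ⟨M, W, ρ.ker, ⟨C, hp, hq, hqH, hW, hind, htop, hmemQ, ?_, ?_, ?_, ?_, ?_, ?_⟩, ?_⟩
  · rcases I.shape with ⟨-, -, -, -, hk⟩ | ⟨-, -, -, -, hk⟩
    · exact hk.le
    · exact hk
  · rw [hcard]
    rcases I.shape with ⟨h5, h2p, -⟩ | ⟨hn, hp3', -⟩ <;> omega
  · intro Γ b hb hΓ T hTb hTΓ
    by_contra hT
    exact I.no_label hp2 hT Γ (by rw [Nat.card_coe_set_eq]; exact hΓ) hb hTb hTΓ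
  · intro i a ha b hb ha0 hb0
    exact C.imp_trans hW hind I i ha hb ha0 hb0
  · intro i j k i' j' k' h1 h2 h3 h4 h5 h6
    have hne : ∀ {a b : H ⧸ M}, a ≠ b → e a ≠ e b := fun hab h => hab (e.injective h)
    obtain ⟨⟨_, g, rfl⟩, hg1, hg2, hg3⟩ := exists_of_three htr3 (hne h1) (hne h2) (hne h3) (hne h4)
      (hne h5) (hne h6)
    refine ⟨g, ?_, ?_, ?_⟩
    · exact e.injective ((I.equiv g i).symm.trans hg1)
    · exact e.injective ((I.equiv g j).symm.trans hg2)
    · exact e.injective ((I.equiv g k).symm.trans hg3)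
  · rcases I.shape with ⟨h5, h2p, ⟨a, s, hs, ha, hap, hn, hne⟩, hA, hk⟩ | ⟨hn, hp3', -, hc, -⟩
    · left
      refine ⟨hk, ?_, ?_⟩
      · letI : Fintype (H ⧸ M) := Fintype.ofFinite _
        refine ⟨inferInstance, inferInstance, fun σ => ?_⟩
        have h1 : Equiv.Perm.sign σ = 1 ↔ e.permCongr σ ∈ ρ.range := by
          rw [hA, Equiv.Perm.mem_alternatingGroup, Equiv.Perm.sign_permCongr]
        rw [h1]
        constructor
        · rintro ⟨g, hg⟩
          refine ⟨g, fun b => ?_⟩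
          apply e.injective
          rw [← I.equiv, hg]
          simp
        · rintro ⟨g, hg⟩
          refine ⟨g, ?_⟩
          ext i : 1
          obtain ⟨b, rfl⟩ := e.surjective i
          rw [I.equiv, hg]
          simp
      · rw [hcard]
        by_cases h8 : 8 ≤ n
        · exact Or.inr h8
        · left
          have hp3' : p = 3 ∨ p = 4 := by omega
          have hp3'' : p = 3 := by
            rcases hp3' with h | h
            · exact h
            · rw [h] at hp
              exact absurd hp (by decide)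
          subst hp3''
          refine ⟨rfl, ?_⟩
          have h3 : 3 ∣ n + 1 := by
            rw [hn]
            exact (dvd_pow_self 3 (by omega)).mul_left a
          omega
    · right
      refine ⟨hp3', by rw [hcard, hn], ?_⟩
      rw [Subgroup.index_ker]
      exact hc
  · rw [hcard]
    rcases I.shape with ⟨h5, h2p, -⟩ | ⟨hn, hp3', -⟩ <;> omega

end Cfsg.Agent.H37.NX
end

-- part: H32/NX9/LayerI
section
/-!
# S4979, layer (I): assembly (helper32)
-/

set_option autoImplicit false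
set_option linter.unusedSectionVars false
set_option linter.style.haveILetI false

open Cfsg
open scoped Pointwise commutatorElement

namespace Cfsg.Agent.H32.NX9

open Cfsg.Agent.H37.NX Cfsg.Agent.H511.Wt

universe u v

section imp

variable {p q : ℕ} {H V : Type u} {B : Type v} [Group H] [Finite H] [AddCommGroup V] [Finite V]
  [DistribMulAction H V] [Finite B] [MulAction H B] {W : B → AddSubgroup V} {K N Q : Subgroup H} {φ : N →* ℂˣ}

theorem card_lt_of_alt (I : ImpC (V := V) p q W K N Q φ) (hA : IsAlt H B) : Nat.card B < q := by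
  classical
  by_contra hcon
  push Not at hcon
  obtain ⟨_, _, hA⟩ := hA
  haveI : Fact q.Prime := ⟨I.hq⟩
  have hq2 : q ≠ 2 := by
    rintro rfl
    exact I.cop (even_iff_two_dvd.1 (by
      have := ImpC.even_card I
      exact even_iff_two_dvd.2 this))
  have h1 : q ∣ Nat.card (alternatingGroup B) := by
    have h2 : 2 * Nat.card (alternatingGroup B) = Nat.factorial (Nat.card B) := by
      haveI : Nontrivial B := by
        rw [← Finite.one_lt_card_iff_nontrivial]
        have := I.hq.two_le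
        omega
      rw [Nat.card_eq_fintype_card, two_mul_card_alternatingGroup, Fintype.card_perm, Nat.card_eq_fintype_card]
    have h3 : q ∣ 2 * Nat.card (alternatingGroup B) := by
      rw [h2]
      exact (I.hq.dvd_factorial).2 hcon
    rcases (I.hq.dvd_mul).1 h3 with h4 | h4
    · exact absurd ((Nat.prime_dvd_prime_iff_eq I.hq Nat.prime_two).1 h4) hq2
    · exact h4
  obtain ⟨σ, hσ⟩ := exists_prime_orderOf_dvd_card' q h1
  obtain ⟨h, hh⟩ := (hA σ).1 (Equiv.Perm.mem_alternatingGroup.1 σ.2)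
  have h2 : MulAction.toPermHom H B h = (σ : Equiv.Perm B) := by
    ext b
    exact hh b
  have h3 : orderOf (MulAction.toPermHom H B h) ∣ orderOf h := orderOf_map_dvd _ _
  rw [h2, Subgroup.orderOf_coe, hσ] at h3
  exact I.cop (h3.trans (orderOf_dvd_natCard h))

/-- the situation `ImpC` is impossible -/
theorem impC_false (hher : H605.NX.HerStmt.{u}) (hB : Big8Stmt) (I : ImpC (V := V) p q W K N Q φ)
    (h2p : 2 * p ≤ Nat.card B + 1) : False := by
  classical
  rcases H605.NX.good_or_bad hher hB I h2p with ⟨⟨r, hr⟩, htr⟩ | hb | ⟨hq, h19⟩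
  · rcases I.type with ⟨-, h2, h3⟩ | ⟨h1, h2, h3⟩
    · exact H239.NX.good_false_alt I hr htr h2 h3
    · exact good_false_agl I hr h1 h2 h3
  · rcases I.type with ⟨-, h2, h3⟩ | ⟨h1, h2, h3⟩
    · exact H239.NX.bad_false_alt I hb h2 h3
    · exact ImpC.bad_false_agl hB I hb h1 h2 h3
  · obtain ⟨i⟩ : Nonempty B := by
      rw [← Finite.card_pos_iff]
      have := I.card
      omega
    have h1 : ¬ p ∣ 360 := by
      have h2 := ImpC.not_dvd_card_sub_one I i
      rw [(h19 i).1, hq] at h2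
      norm_num at h2
      exact h2
    have hp2 := I.core.odd
    have hp3 : p ≠ 3 := by rintro rfl; exact h1 (by norm_num)
    have hp5 : p ≠ 5 := by rintro rfl; exact h1 (by norm_num)
    rcases I.type with ⟨-, h2, -⟩ | ⟨h2, -, -⟩
    · have h4 := card_lt_of_alt I h2
      have h5 : p ≤ 9 := by omega
      have hp7 : p = 7 := by
        have h6 := I.hp
        interval_cases p <;> first | omega | (revert h6; norm_num)
      exact Five.nineteen_false I hq hp7 (fun i => ⟨by rw [(h19 i).1, hq]; norm_num, (h19 i).2⟩)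
    · exact hp3 h2

end imp

/-- **Layer (I).** -/
theorem layerI_of (hher : H605.NX.HerStmt.{u}) (hB : Big8Stmt) (h3513 : H586.GW.S3513Stmt) {p q : ℕ}
    (hp : p.Prime) (hq : q.Prime) : H229.NX.LayerI.{u} p q := by
  intro H V _ _ _ _ _ K N φ hqH C h
  obtain ⟨M, W, Q, I, h2p⟩ := impC_of_impP2 h3513 hp hq C hqH h
  exact impC_false hher hB I h2p

end Cfsg.Agent.H32.NX9
end

private theorem dce_9b498fe94f73 : _root_.True := by
  try have : _root_.True := by simp only [_root_.Cfsg.Agent.H37.NX.blk.congr_simp]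
  try have : _root_.True := by simp only [_root_.Cfsg.Agent.H32.NX9.CenP.eq_1]
  exact _root_.True.intro
end

-- part: H586/NX/LayerB
section
prune_inst 0x5607a655a80100000048086c1007e92cd000180000b880800840e440f0ab80a49008e200480280e102a008000040028130000a00240000004840400000100009088540472910c19c6009700008801020020000000000000000080000004100401c010000
set_option linter.all false
open scoped Cfsg.Agent.FastGrp

-- part: H447/NX/Eigen
section
/-!
# S4979, layer (B), [B6]: eigenvectors for odd `s` (helper447, for helper586)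

`exists_eigen` : some element of `L` outside `Z` has an eigenvector in `W` (`s` odd): `l ↦ l ^ s` modulo `s`-th powers is a
homomorphism from `U` to a cyclic group of order `s`.
-/

set_option autoImplicit false
set_option linter.unusedSectionVars false

open scoped commutatorElement
open Module Polynomial

namespace Cfsg.Agent.H447.NX

open Cfsg.Agent.H586.NX Cfsg.Agent.H20.GWX
open Cfsg.Agent.H684.GW (FD exists_FD)

universe u v

/-- `(BA)^k` for `AB = κ BA` -/
theorem pow_of_comm {F E : Type*} [Field F] [Ring E] [Algebra F E] {A B : E} {κ : F} (h : A * B = κ • (B * A)) :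
    ∀ k : ℕ, (B * A) ^ k = κ ^ (k * (k - 1) / 2) • (B ^ k * A ^ k) := by
  have h1 : ∀ k : ℕ, A ^ k * B = κ ^ k • (B * A ^ k) := by
    intro k
    induction k with
    | zero => rw [pow_zero, pow_zero, one_mul, mul_one, one_smul]
    | succ k ih =>
      rw [pow_succ', mul_assoc, ih, mul_smul_comm, ← mul_assoc, h, smul_mul_assoc, smul_smul, mul_assoc, pow_succ]
  intro k
  induction k with
  | zero => simp only [_root_.pow_zero, _root_.zero_tsub, _root_.MulZeroClass.mul_zero, _root_.Nat.zero_div, _root_.mul_one, _root_.one_smul]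
  | succ k ih =>
    have h2 : (k + 1) * (k + 1 - 1) / 2 = k * (k - 1) / 2 + k := by
      rcases k with _ | k
      · rfl
      · rw [Nat.add_sub_cancel, Nat.add_sub_cancel]
        have h3 : (k + 1 + 1) * (k + 1) = (k + 1) * k + (k + 1) * 2 := by ring
        rw [h3, Nat.add_mul_div_right _ _ (by norm_num)]
    rw [pow_succ, ih, smul_mul_assoc, h2, pow_add, mul_smul]
    congr 1
    calc B ^ k * A ^ k * (B * A) = B ^ k * (A ^ k * B) * A := by simp only [mul_assoc]
      _ = κ ^ k • (B ^ k * (B * A ^ k) * A) := by rw [h1, mul_smul_comm, smul_mul_assoc]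
      _ = κ ^ k • (B ^ (k + 1) * A ^ (k + 1)) := by rw [pow_succ B, pow_succ A]; simp only [mul_assoc]

/-- a product of linear factors of an operator that kills a vector -/
theorem exists_eig {F W : Type*} [Field F] [AddCommGroup W] [Module F W] (M : Module.End F W) (S : Finset F) :
    ∀ w : W, w ≠ 0 → (aeval M (∏ c ∈ S, (X - C c))) w = 0 → ∃ c ∈ S, ∃ v : W, v ≠ 0 ∧ M v = c • v := by
  classical
  induction S using Finset.induction_on with
  | empty =>
    intro w hw h
    rw [Finset.prod_empty, map_one, Module.End.one_apply] at h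
    exact absurd h hw
  | insert b S hb ih =>
    intro w hw h
    rw [Finset.prod_insert hb, map_mul, Module.End.mul_apply] at h
    by_cases h1 : (aeval M (∏ c ∈ S, (X - C c))) w = 0
    · obtain ⟨c, hc, v, hv⟩ := ih w hw h1
      exact ⟨c, Finset.mem_insert_of_mem hc, v, hv⟩
    · refine ⟨b, Finset.mem_insert_self _ _, _, h1, ?_⟩
      rw [map_sub, aeval_X, aeval_C, LinearMap.sub_apply, Module.algebraMap_end_apply, sub_eq_zero] at h
      exact h

/-- an operator of order dividing `s` over a field with a primitive `s`-th root of unity -/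
theorem exists_eig_of_pow {F W : Type*} [Field F] [AddCommGroup W] [Module F W] [Nontrivial W] (M : Module.End F W)
    {s : ℕ} (hs : 0 < s) {ω : F} (hω : IsPrimitiveRoot ω s) (hM : M ^ s = 1) : ∃ c : F, ∃ v : W, v ≠ 0 ∧ M v = c • v := by
  obtain ⟨w, hw⟩ := exists_ne (0 : W)
  have h1 : (aeval M (∏ c ∈ nthRootsFinset s (1 : F), (X - C c))) w = 0 := by
    rw [← X_pow_sub_one_eq_prod hs hω, map_sub, map_pow, aeval_X, map_one, hM, sub_self, LinearMap.zero_apply]
  obtain ⟨c, -, v, hv⟩ := exists_eig M _ w hw h1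
  exact ⟨c, v, hv⟩

section

variable {p q s n : ℕ} {G : Type v} {W : Type u} {Y U : Type*} [Group G] [Finite G] [AddCommGroup W] [Finite W]
    [DistribMulAction G W] [Group Y] [Finite Y] [AddCommGroup U] [Finite U] [DistribMulAction Y U]
    {L Z : Subgroup G} {π : G →* Y} {a : L →* Multiplicative U}

/-- the scalar `l ^ s` -/
theorem exists_zeta (h : LX (W := W) p q s n L Z π a) {F : Type u} [Field F] [Finite F] [Module F W]
    (D : FD (W := W) F L) (l : L) : ∃ c : Fˣ, D.op l ^ s = (c : F) • 1 := by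
  have := h.nt
  obtain ⟨c, hc⟩ := Z_scal h D (h.expL l l.2)
  have h1 : D.op l ^ s = c • 1 := by
    rw [← map_pow]
    ext w
    rw [FD.op_apply, Subgroup.coe_pow, hc]
    rfl
  have hc0 : c ≠ 0 := by
    intro h0
    rw [h0, zero_smul, ← map_pow] at h1
    exact D.op_ne _ h1
  exact ⟨Units.mk0 c hc0, h1⟩

theorem comm_pow (h : LX (W := W) p q s n L Z π a) {F : Type u} [Field F] [Finite F] [Module F W]
    (D : FD (W := W) F L) (l l' : L) {c : F} (hc : D.op l * D.op l' = c • (D.op l' * D.op l)) : c ^ s = 1 := by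
  have := h.nt
  have hpow : ∀ k : ℕ, D.op l ^ k * D.op l' = c ^ k • (D.op l' * D.op l ^ k) := by
    intro k
    induction k with
    | zero => rw [pow_zero, pow_zero, one_mul, mul_one, one_smul]
    | succ k ih =>
      rw [pow_succ', mul_assoc, ih, mul_smul_comm, ← mul_assoc, hc, smul_mul_assoc, smul_smul, mul_assoc,
        pow_succ]
  have h5 := hpow s
  rw [← map_pow] at h5
  have h6 : D.op (l ^ s) * D.op l' = D.op l' * D.op (l ^ s) := by
    ext w
    exact h.scal _ (by rw [Subgroup.coe_pow]; exact h.expL l l.2) _ l'.2 w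
  rw [h6] at h5
  have h7 : D.op l' * D.op (l ^ s) = D.op (l' * l ^ s) := by rw [map_mul]
  rw [h7] at h5
  have h8 : (1 - c ^ s) • D.op (l' * l ^ s) = 0 := by rw [sub_smul, one_smul, ← h5, sub_self]
  exact (sub_eq_zero.1 ((smul_eq_zero.1 h8).resolve_right (D.op_ne _))).symm

theorem smul_one_inj [Nontrivial W] {F : Type u} [Field F] [Module F W] {c d : F}
    (h : c • (1 : Module.End F W) = d • 1) : c = d := by
  obtain ⟨w, hw⟩ := exists_ne (0 : W)
  have h1 : c • w = d • w := LinearMap.congr_fun h w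
  by_contra hne
  have h2 : (c - d) • w = 0 := by rw [sub_smul, h1, sub_self]
  exact hw ((smul_eq_zero.1 h2).resolve_left (sub_ne_zero.2 hne))

/-- eigenvectors, `s` odd -/
theorem exists_eigen_aux (hs : s ≠ 2) (h : LX (W := W) p q s n L Z π a) :
    ∃ w : W, w ≠ 0 ∧ ∃ u ∈ Tw L a w, u ≠ 0 := by
  have := h.nt
  have hsp := h.hs
  obtain ⟨F, _, _, _, D⟩ := exists_FD (W := W) (L := L) h.nL h.irr
  choose ζ hζ using exists_zeta h D
  -- a primitive root of unity
  obtain ⟨ω, hω⟩ : ∃ ω : F, IsPrimitiveRoot ω s := by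
    have := Fact.mk h.hs
    have h1 := dvd_card h D
    rw [← Nat.card_units] at h1
    obtain ⟨ω, hω⟩ := exists_prime_orderOf_dvd_card' s h1
    exact ⟨ω, (IsPrimitiveRoot.coe_units_iff.2 (hω ▸ IsPrimitiveRoot.orderOf ω))⟩
  have hodd : s ∣ s * (s - 1) / 2 := by
    have h1 : 2 ∣ s - 1 := by
      have h2 := hsp.eq_two_or_odd
      omega
    rw [Nat.mul_div_assoc _ h1]
    exact dvd_mul_right _ _
  -- `l ↦ l ^ s` is a homomorphism
  let Φ : L →* Fˣ :=
    { toFun := ζ
      map_one' := by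
        apply Units.ext
        apply smul_one_inj (W := W)
        rw [← hζ, map_one, one_pow, Units.val_one, one_smul]
      map_mul' := fun l l' => by
        apply Units.ext
        apply smul_one_inj (W := W)
        obtain ⟨c, hc⟩ := exists_comm h D l' l
        have h1 := comm_pow h D l' l hc
        obtain ⟨t, ht⟩ := hodd
        rw [← hζ, map_mul, pow_of_comm hc, ht, pow_mul, h1, one_pow, one_smul, hζ, hζ, Units.val_mul,
          smul_mul_smul_comm, one_mul] }
  -- the index of the `s`-th powers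
  have hidx : (powMonoidHom s : Fˣ →* Fˣ).range.index ≤ s := by
    have h1 : Nat.card (powMonoidHom s : Fˣ →* Fˣ).ker ≤ s := by
      have := Fintype.ofFinite Fˣ
      classical
      have h2 : Nat.card (powMonoidHom s : Fˣ →* Fˣ).ker = (Finset.univ.filter fun x : Fˣ => x ^ s = 1).card := by
        rw [← Fintype.card_subtype, ← Nat.card_eq_fintype_card]
        rfl
      rw [h2]
      exact IsCyclic.card_pow_eq_one_le hsp.pos
    have h2 := Subgroup.index_mul_card (powMonoidHom s : Fˣ →* Fˣ).range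
    have h3 := Subgroup.index_ker (powMonoidHom s : Fˣ →* Fˣ)
    have h4 := Subgroup.index_mul_card (powMonoidHom s : Fˣ →* Fˣ).ker
    rw [h3, ← h2, mul_comm] at h4
    have h5 : 0 < Nat.card (powMonoidHom s : Fˣ →* Fˣ).range := Nat.card_pos
    rw [← Nat.eq_of_mul_eq_mul_right h5 h4]
    exact h1
  -- an element outside `Z` whose `s`-th power is an `s`-th power of a scalar
  obtain ⟨l, hl, c, hc⟩ : ∃ l : L, a l ≠ 1 ∧ ∃ c : Fˣ, c ^ s = ζ l := by
    by_contra hcon
    push Not at hcon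
    have h1 : (powMonoidHom s : Fˣ →* Fˣ).range.comap Φ ≤ a.ker := by
      rintro l ⟨c, hc⟩
      by_contra hl
      exact hcon l hl c hc
    have h2 := Subgroup.index_dvd_of_le h1
    have h3 : a.ker.index = s ^ (2 * n) := by
      rw [Subgroup.index_ker, MonoidHom.range_eq_top.2 h.surj, Subgroup.card_top, ← h.card]
      rfl
    rw [h3] at h2
    have h4 : ((powMonoidHom s : Fˣ →* Fˣ).range.comap Φ).index ∣ (powMonoidHom s : Fˣ →* Fˣ).range.index := by
      rw [Subgroup.index_comap]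
      exact Subgroup.relIndex_dvd_index_of_normal _ _
    have h5 : s ^ (2 * n) ≤ s := (Nat.le_of_dvd (Nat.pos_of_ne_zero Subgroup.index_ne_zero_of_finite) (h2.trans h4)).trans hidx
    have h6 : s ^ 1 < s ^ (2 * n) := Nat.pow_lt_pow_right hsp.one_lt (by have := h.hn; omega)
    rw [pow_one] at h6
    omega
  -- the eigenvector
  have hM : (((c⁻¹ : Fˣ) : F) • D.op l) ^ s = 1 := by
    rw [_root_.smul_pow, hζ, smul_smul, ← hc, ← Units.val_pow_eq_pow_val, ← Units.val_mul, inv_pow, inv_mul_cancel, Units.val_one,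
      one_smul]
  obtain ⟨r, v, hv, hr⟩ := exists_eig_of_pow _ hsp.pos hω hM
  refine ⟨v, hv, Multiplicative.toAdd (a l), ⟨l, rfl, DistribSMul.toAddMonoidHom W ((c : F) * r), ?_, ?_⟩, hl⟩
  · intro l' hl' w
    exact (D.lin l' hl' _ w).symm
  · show (l : G) • v = ((c : F) * r) • v
    rw [LinearMap.smul_apply, FD.op_apply] at hr
    rw [mul_smul, ← hr, smul_smul, ← Units.val_mul, mul_inv_cancel, Units.val_one, one_smul]

/-- eigenvectors, `s` odd -/
theorem exists_eigen {X : Subgroup Y} {B : U → U → ZMod s} (hs : s ≠ 2) (_S : SX (U := U) p q s n X B)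
    (h : LB (W := W) p q s n L Z π a B) : ∃ w : W, w ≠ 0 ∧ ∃ u ∈ Tw L a w, u ≠ 0 :=
  exists_eigen_aux hs h.lx

end

end Cfsg.Agent.H447.NX
end

-- part: H586/NX/Kill
section
/-!
# S4979, layer (B), B7: assembly of the generic vectors (helper473's theorems with their hypotheses filled in)
-/

set_option autoImplicit false

namespace Cfsg.Agent.H586.NX

open Cfsg.Agent.H473.NX

section
variable {p q s n : ℕ} {G W Y U : Type*} [Group G] [Finite G] [AddCommGroup W] [Finite W]
    [DistribMulAction G W] [Group Y] [Finite Y] [AddCommGroup U] [Finite U] [DistribMulAction Y U]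
    {L Z : Subgroup G} {π : G →* Y} {a : L →* Multiplicative U} {X : Subgroup Y}

theorem fx {B : U → U → ZMod s} (S : SX (U := U) p q s n X B) : Fx p s n Y U := by
  intro x hx
  obtain ⟨j, h1, h2, h3, h4, -⟩ := exists_fix S hx
  exact ⟨j, h1, h2, h3, h4⟩

theorem sq {B : U → U → ZMod s} (S : SX (U := U) p q s n X B) : Sq (Y := Y) p s B :=
  fun x hx T hiso hT => card_sq_le S hx T hiso hT

theorem kill_ge_five {B : U → U → ZMod 2} (S : SX (U := U) p q 2 n X B) (h : LB (W := W) p q 2 n L Z π a B) {Q : ℕ}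
    (hQ : Nat.card W = Q ^ (2 ^ n)) (hQ5 : 5 ≤ Q) (hQ6 : Q ≠ 6) (hp5 : p = 5 → 7 ≤ Q)
    (hcase : (p = 5 ∧ n ≤ 4) ∨ (p = 7 ∧ n ≤ 4) ∨ (p = 17 ∧ n = 4)) : False :=
  kill_ge_five' S h (fx S) (sq S) (fun w hw => Cfsg.Agent.H921.NX.exists_T h hw)
    (fun i hi hb => Cfsg.Agent.H921.NX.exists_gen S h hQ hi hb)
    (fun h5 i hi => Cfsg.Agent.H232.NX.exists_gen_five S h (h5 ▸ hQ) hi) hQ5 hQ6 hp5 hcase

theorem kill_three {B : U → U → ZMod 3} (S : SX (U := U) 5 q 3 2 X B) (h : LB (W := W) 5 q 3 2 L Z π a B) : False :=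
  kill_three' S h (fx S) (sq S) (fun w hw => Cfsg.Agent.H921.NX.exists_T h hw)
    (Cfsg.Agent.H447.NX.exists_eigen (by norm_num) S h)

theorem exists_fixed {B : U → U → ZMod 2} (S : SX (U := U) 3 q 2 n X B) (h : LB (W := W) 3 q 2 n L Z π a B) {Q : ℕ}
    (hQ : Nat.card W = Q ^ (2 ^ n)) (hQ5 : 5 ≤ Q) (hQ6 : Q ≠ 6) (hn : 2 ≤ n) (hn5 : n ≤ 5)
    (hQ7 : n = 2 → 7 ≤ Q) :
    ∀ P : Sylow 3 Y, ∃ u : U, u ≠ 0 ∧ ∀ x ∈ P, x • u = u :=
  exists_fixed' S h (fun w hw => Cfsg.Agent.H921.NX.exists_T h hw)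
    (fun i hi hb => Cfsg.Agent.H921.NX.exists_gen S h hQ hi hb)
    (fun h5 i hi => Cfsg.Agent.H232.NX.exists_gen_five S h (h5 ▸ hQ) hi) hQ5 hQ6 hn hn5 hQ7

end

end Cfsg.Agent.H586.NX
end

-- part: H991/NX/NotFive
section
/-!
# S4979, layer (B): simple groups of order prime to 5 (piece B1b)
-/

set_option autoImplicit false

namespace Cfsg.Agent.H991.NX

open Cfsg Cfsg.Agent.OrdDiv

theorem card_of_not_five {S : Type*} [Group S] [Finite S] [IsSimpleGroup S] (hna : ¬ IsMulCommutative S)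
    (h5 : ¬ 5 ∣ Nat.card S) (hd : Nat.card S ∣ 2 ^ 16 * 3 ^ 5 * 5 ^ 2 * 7 * 17) :
    Nat.card S = 168 ∨ Nat.card S = 504 ∨ Nat.card S = 2448 ∨ Nat.card S = 6048 := by
  have hc : (Nat.card S).Coprime (5 ^ 2) :=
    Nat.Coprime.pow_right 2 (((Nat.Prime.coprime_iff_not_dvd (by norm_num)).2 h5).symm)
  have hd' : Nat.card S ∣ 2 ^ 16 * 3 ^ 5 * 7 * 17 := by
    have h1 : (2 ^ 16 * 3 ^ 5 * 5 ^ 2 * 7 * 17 : ℕ) = (2 ^ 16 * 3 ^ 5 * 7 * 17) * 5 ^ 2 := by norm_num
    rw [h1] at hd
    exact hc.dvd_of_dvd_mul_right hd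
  obtain ⟨g, hg, -, hcard⟩ := exists_good table (S := S) Cfsg.Agent.S0000.result
    (fun h => hna ⟨⟨h⟩⟩) (l := [(2, 16), (3, 5), (7, 1), (17, 1)]) (N := 2 ^ 16 * 3 ^ 5 * 7 * 17)
    (by decide +kernel) hd'
  have hj : ((cands [(2, 16), (3, 5), (7, 1), (17, 1)] (2 ^ 16 * 3 ^ 5 * 7 * 17)).map ordN).all
      (fun o => o == 168 || o == 504 || o == 2448 || o == 6048) = true := by decide +kernel
  rw [List.all_eq_true] at hj
  have hj' := hj _ (List.mem_map.2 ⟨g, hg, rfl⟩)
  rw [← hcard] at hj'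
  simp only [Bool.or_eq_true, beq_iff_eq] at hj'
  (clear * - hj'; tauto)

end Cfsg.Agent.H991.NX
end

-- part: H586/NX/NotNine
section
/-!
# S4979, layer (B): simple groups of order not divisible by 9 (piece B1a; after helper991's `NotFive`)
-/

set_option autoImplicit false

namespace Cfsg.Agent.H586.NX

open Cfsg Cfsg.Agent.OrdDiv

theorem card_of_not_nine {S : Type*} [Group S] [Finite S] [IsSimpleGroup S] (hna : ¬ IsMulCommutative S)
    (h3 : 3 ∣ Nat.card S) (h9 : ¬ 9 ∣ Nat.card S) (hd : Nat.card S ∣ 2 ^ 25 * 3 ^ 6 * 5 ^ 2 * 7 * 11 * 17 * 31) :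
    Nat.card S = 60 ∨ Nat.card S = 168 ∨ Nat.card S = 660 ∨ Nat.card S = 4080 ∨ Nat.card S = 14880 ∨
      Nat.card S = 32736 := by
  obtain ⟨m, hm⟩ := h3
  have hm3 : ¬ 3 ∣ m := by
    rintro ⟨k, rfl⟩
    exact h9 ⟨k, by rw [hm]; ring⟩
  have hd' : Nat.card S ∣ 2 ^ 25 * 3 * 5 ^ 2 * 7 * 11 * 17 * 31 := by
    have hc : m.Coprime (3 ^ 5) :=
      Nat.Coprime.pow_right 5 (((Nat.Prime.coprime_iff_not_dvd Nat.prime_three).2 hm3).symm)
    rw [hm] at hd ⊢
    have h1 : (2 ^ 25 * 3 ^ 6 * 5 ^ 2 * 7 * 11 * 17 * 31 : ℕ) = 3 * ((2 ^ 25 * 5 ^ 2 * 7 * 11 * 17 * 31) * 3 ^ 5) := by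
      norm_num
    have h2 : (2 ^ 25 * 3 * 5 ^ 2 * 7 * 11 * 17 * 31 : ℕ) = 3 * (2 ^ 25 * 5 ^ 2 * 7 * 11 * 17 * 31) := by norm_num
    rw [h1] at hd
    rw [h2]
    exact Nat.mul_dvd_mul_left 3 (hc.dvd_of_dvd_mul_right (Nat.dvd_of_mul_dvd_mul_left (by norm_num) hd))
  obtain ⟨g, hg, -, hcard⟩ := exists_good table (S := S) Cfsg.Agent.S0000.result
    (fun h => hna ⟨⟨h⟩⟩) (l := [(2, 25), (3, 1), (5, 2), (7, 1), (11, 1), (17, 1), (31, 1)])
    (N := 2 ^ 25 * 3 * 5 ^ 2 * 7 * 11 * 17 * 31)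
    (by decide +kernel) hd'
  have hj : ((cands [(2, 25), (3, 1), (5, 2), (7, 1), (11, 1), (17, 1), (31, 1)]
      (2 ^ 25 * 3 * 5 ^ 2 * 7 * 11 * 17 * 31)).map ordN).all
      (fun o => o == 60 || o == 168 || o == 660 || o == 4080 || o == 14880 || o == 32736 || !(o % 3 == 0)) = true := by
    decide +kernel
  rw [List.all_eq_true] at hj
  have hj' := hj _ (List.mem_map.2 ⟨g, hg, rfl⟩)
  rw [← hcard] at hj'
  simp only [Bool.or_eq_true, beq_iff_eq, Bool.not_eq_true', beq_eq_false_iff_ne] at hj'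
  have h4 : Nat.card S % 3 = 0 := by omega
  (clear * - hj' h4; tauto)

end Cfsg.Agent.H586.NX
end

-- part: H196/NX/Three
section
/-!
# S4979, layer (B), piece B2b: the prime `q` is not `3` (helper196)

`not_three_of_le`: if `3 ∤ |Y|` then the simple top `Y / X` is a simple group of order prime to `3`, so it has the order of a
Suzuki group; such an order does not divide `|Sp_{10}(2)|`, so `6 ≤ n`.
-/

set_option autoImplicit false

open scoped commutatorElement

namespace Cfsg.Agent.H196.NX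

open Cfsg.Agent.H586.NX

/-- `|Sp_{2n}(2)|` divides `|Sp_{10}(2)|` for `n ≤ 5` -/
theorem dvd_five {n : ℕ} (hn : n ≤ 5) :
    2 ^ (n ^ 2) * ∏ i ∈ Finset.range n, (2 ^ (2 * (i + 1)) - 1) ∣ 2 ^ 25 * 3 ^ 6 * 5 ^ 2 * 7 * 11 * 17 * 31 := by
  interval_cases n <;> simp only [Finset.prod_range_succ, Finset.prod_range_zero] <;> norm_num

/-- the order of a Suzuki group does not divide `|Sp_{10}(2)|` -/
theorem not_suzuki_dvd {m : ℕ} (hm : 1 ≤ m) :
    ¬ (2 ^ (2 * m + 1)) ^ 2 * ((2 ^ (2 * m + 1)) ^ 2 + 1) * (2 ^ (2 * m + 1) - 1) ∣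
      2 ^ 25 * 3 ^ 6 * 5 ^ 2 * 7 * 11 * 17 * 31 := by
  intro h
  have h1 : (2 : ℕ) ^ ((2 * m + 1) * 2) ∣ 2 ^ 25 * 3 ^ 6 * 5 ^ 2 * 7 * 11 * 17 * 31 := by
    rw [pow_mul]
    exact (Dvd.intro _ (mul_assoc _ _ _).symm).trans h
  have h2 : (2 : ℕ) ^ ((2 * m + 1) * 2) ∣ 2 ^ 25 := by
    have h3 : (2 ^ 25 * 3 ^ 6 * 5 ^ 2 * 7 * 11 * 17 * 31 : ℕ) = 2 ^ 25 * (3 ^ 6 * 5 ^ 2 * 7 * 11 * 17 * 31) := by norm_num
    rw [h3] at h1
    exact Nat.Coprime.dvd_of_dvd_mul_right (Nat.Coprime.pow_left _ (by norm_num)) h1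
  have h4 : (2 * m + 1) * 2 ≤ 25 := (Nat.pow_dvd_pow_iff_le_right (by norm_num : 1 < 2)).1 h2
  have h5 : m ≤ 5 := by omega
  have h6 : ((2 ^ (2 * m + 1)) ^ 2 + 1 : ℕ) ∣ 2 ^ 25 * 3 ^ 6 * 5 ^ 2 * 7 * 11 * 17 * 31 :=
    (Dvd.intro_left _ rfl).trans ((Dvd.intro _ rfl).trans h)
  clear h h1 h2 h4
  interval_cases m <;> revert h6 <;> norm_num

/-- the simple top of a perfect group -/
theorem top_simple {Y : Type*} [Group Y] (perf : commutator Y = ⊤) {X : Subgroup Y} [X.Normal] (Xt : X ≠ ⊤)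
    (maxX : ∀ M : Subgroup Y, M.Normal → M ≠ ⊤ → M ≤ X) :
    IsSimpleGroup (Y ⧸ X) ∧ ∃ a b : Y ⧸ X, a * b ≠ b * a := by
  have hnt : Nontrivial (Y ⧸ X) := by
    obtain ⟨g, hg⟩ : ∃ g : Y, g ∉ X := by
      by_contra hc
      push Not at hc
      exact Xt (Subgroup.eq_top_iff' X |>.2 hc)
    exact ⟨⟨(g : Y ⧸ X), 1, fun he => hg ((QuotientGroup.eq_one_iff g).1 he)⟩⟩
  refine ⟨⟨fun M hM => ?_⟩, ?_⟩
  · by_cases hc : M.comap (QuotientGroup.mk' X) = ⊤
    · right
      rw [eq_top_iff]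
      intro y _
      obtain ⟨g, rfl⟩ := QuotientGroup.mk'_surjective X y
      have : g ∈ M.comap (QuotientGroup.mk' X) := by rw [hc]; exact Subgroup.mem_top g
      exact this
    · left
      have hle := maxX _ (hM.comap _) hc
      rw [eq_bot_iff]
      intro y hy
      obtain ⟨g, rfl⟩ := QuotientGroup.mk'_surjective X y
      exact (QuotientGroup.eq_one_iff g).2 (hle hy)
  · by_contra hc
    push Not at hc
    apply Xt
    rw [eq_top_iff, ← perf, commutator_def, Subgroup.commutator_le]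
    intro a _ b _
    have he : QuotientGroup.mk' X (a * b * a⁻¹ * b⁻¹) = 1 := by
      rw [map_mul, map_mul, map_mul, map_inv, map_inv, hc (QuotientGroup.mk' X a)]
      group
    exact (QuotientGroup.eq_one_iff _).1 he

/-- [B2b] `q = 3`: the top is a Suzuki group -/
theorem not_three_of_le {p n : ℕ} {Y U : Type*} [Group Y] [Finite Y] [AddCommGroup U] [Finite U] [DistribMulAction Y U]
    {X : Subgroup Y} {B : U → U → ZMod 2} (h : SX (U := U) p 3 2 n X B) : 6 ≤ n := by
  by_contra hn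
  have := h.nX
  obtain ⟨hs, hna⟩ := top_simple h.perf h.Xt h.maxX
  have := hs
  have h1 : Nat.card (Y ⧸ X) ∣ Nat.card Y := Subgroup.card_quotient_dvd_card X
  obtain ⟨-, m, hm, hc⟩ := Cfsg.Agent.S0336.result hna fun h3 => h.qY (h3.trans h1)
  have h2 := Cfsg.Agent.H727.GW.card_dvd_sp h.hs B h.faith h.exp h.card h.addl h.addr h.alt h.nd h.inv
  exact not_suzuki_dvd hm (hc ▸ (h1.trans h2).trans (dvd_five (by omega)))

end Cfsg.Agent.H196.NX
end

-- part: H111/NX/Num
section
/-!
# S4979, layer (B), numerics of `p = 3` (helper111)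
-/

set_option autoImplicit false

namespace Cfsg.Agent.H111.NX

open Cfsg.Agent.H37.NW (P)

theorem P1 : P 2 1 = 6 := by norm_num [P]
theorem P2 : P 2 2 = 720 := by norm_num [P, Finset.prod_range_succ]
theorem P3 : P 2 3 = 1451520 := by norm_num [P, Finset.prod_range_succ]
theorem P4 : P 2 4 = 47377612800 := by norm_num [P, Finset.prod_range_succ]
theorem P5 : P 2 5 = 24815256521932800 := by norm_num [P, Finset.prod_range_succ]

theorem bd {Q e a D C M Pn Q₀ : ℕ} (hQ : 0 < Q) (hM : M * D ≤ Pn) (hI : Q ^ (e + a) ≤ C * M * Q ^ a)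
    (h0 : C * Pn < Q₀ ^ e * D) : Q < Q₀ := by
  rw [pow_add] at hI
  have h1 : Q ^ e ≤ C * M := Nat.le_of_mul_le_mul_right hI (Nat.pow_pos hQ)
  by_contra h
  have h2 : Q₀ ^ e ≤ Q ^ e := Nat.pow_le_pow_left (not_lt.1 h) e
  have h3 : Q₀ ^ e * D ≤ C * M * D := Nat.mul_le_mul_right D (h2.trans h1)
  rw [mul_assoc] at h3
  have h4 := Nat.mul_le_mul_left C hM
  omega

theorem odd_of {q f : ℕ} (hq : q.Prime) (hq5 : 5 ≤ q) (hf : 1 ≤ f) : 5 ≤ q ^ f ∧ ¬ 2 ∣ q ^ f ∧ ¬ 3 ∣ q ^ f := by
  refine ⟨hq5.trans (Nat.le_self_pow (by omega) q), fun h => ?_, fun h => ?_⟩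
  · have h1 := (Nat.prime_dvd_prime_iff_eq Nat.prime_two hq).1 (Nat.prime_two.dvd_of_dvd_pow h)
    omega
  · have h1 := (Nat.prime_dvd_prime_iff_eq Nat.prime_three hq).1 (Nat.prime_three.dvd_of_dvd_pow h)
    omega

/-- `p = 3`, untwisted case (`3 a = 2 ^ n + 2 (-1) ^ k 2 ^ (n - k)`) -/
theorem num_u {q f n k a M : ℕ} (hq : q.Prime) (hq5 : 5 ≤ q) (hf : 1 ≤ f) (hn : 2 ≤ n) (hn5 : n ≤ 5) (hk : 1 ≤ k)
    (hkn : k + 1 ≤ n) (ha : (3 * a : ℤ) = 2 ^ n + 2 * (-1) ^ k * 2 ^ (n - k)) (ha1 : 1 ≤ a)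
    (hM : M * (2 * 3 ^ k * Cfsg.Agent.H37.NW.P 2 (n - k)) ≤ Cfsg.Agent.H37.NW.P 2 n)
    (hI : (q ^ f) ^ (2 ^ n) ≤ 2 ^ (2 * k) * M * (q ^ f) ^ a) :
    (n = 3 ∧ k = 2) ∨ (n = 4 ∧ k = 2 ∧ q ^ f ≤ 7) ∨ (n = 4 ∧ k = 3 ∧ q ^ f = 5) ∨ (n = 5 ∧ k = 4 ∧ q ^ f = 5) := by
  obtain ⟨h5, h2, h3⟩ := odd_of hq hq5 hf
  generalize q ^ f = Q at *
  have key : ∀ {e a D C Pn Q₀ : ℕ}, M * D ≤ Pn → Q ^ (e + a) ≤ C * M * Q ^ a → C * Pn < Q₀ ^ e * D → Q < Q₀ :=
    fun h1 h2 h3 => bd (by omega) h1 h2 h3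
  have hkn' : k < n := hkn
  clear hkn
  interval_cases n
  · interval_cases k
    norm_num at ha; omega
  · interval_cases k
    · norm_num at ha; omega
    · left; exact ⟨rfl, rfl⟩
  · interval_cases k
    · norm_num at ha; omega
    · have e : a = 8 := by norm_num at ha; omega
      subst e
      rw [show 4 - 2 = 2 from rfl, P2, P4] at hM
      have := key (e := 8) (a := 8) (Q₀ := 10) hM hI (by norm_num)
      right; left
      refine ⟨rfl, rfl, ?_⟩
      omega
    · have e : a = 4 := by norm_num at ha; omega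
      subst e
      rw [show 4 - 3 = 1 from rfl, P1, P4] at hM
      have := key (e := 12) (a := 4) (Q₀ := 7) hM hI (by norm_num)
      right; right; left
      refine ⟨rfl, rfl, ?_⟩
      omega
  · interval_cases k
    · norm_num at ha; omega
    · have e : a = 16 := by norm_num at ha; omega
      subst e
      rw [show 5 - 2 = 3 from rfl, P3, P5] at hM
      have := key (e := 16) (a := 16) (Q₀ := 5) hM hI (by norm_num)
      omega
    · have e : a = 8 := by norm_num at ha; omega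
      subst e
      rw [show 5 - 3 = 2 from rfl, P2, P5] at hM
      have := key (e := 24) (a := 8) (Q₀ := 5) hM hI (by norm_num)
      omega
    · have e : a = 12 := by norm_num at ha; omega
      subst e
      rw [show 5 - 4 = 1 from rfl, P1, P5] at hM
      have := key (e := 20) (a := 12) (Q₀ := 7) hM hI (by norm_num)
      right; right; right
      refine ⟨rfl, rfl, ?_⟩
      omega

/-- `p = 3`, twisted case (`3 b = 2 ^ n - (-1) ^ k 2 ^ (n - k)`, `3 ∣ Q - 1`) -/
theorem num_t {q f n k b M : ℕ} (hq : q.Prime) (hq5 : 5 ≤ q) (hf : 1 ≤ f) (hn : 2 ≤ n) (hn5 : n ≤ 5) (hk : 1 ≤ k)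
    (hkn : k + 1 ≤ n) (hb : (3 * b : ℤ) = 2 ^ n - (-1) ^ k * 2 ^ (n - k)) (h3 : 3 ∣ q ^ f - 1)
    (hM : M * (2 * 3 ^ k * Cfsg.Agent.H37.NW.P 2 (n - k)) ≤ Cfsg.Agent.H37.NW.P 2 n)
    (hI : (q ^ f) ^ (2 ^ n) ≤ 2 ^ (2 * k) * M * (q ^ f) ^ b) :
    (n = 2 ∧ k = 1 ∧ q ^ f = 7) ∨ (n = 3 ∧ k = 2 ∧ q ^ f = 7) ∨ (n = 4 ∧ k = 3 ∧ q ^ f = 7) := by
  obtain ⟨h5, h2, h3'⟩ := odd_of hq hq5 hf
  generalize q ^ f = Q at *
  have key : ∀ {e a D C Pn Q₀ : ℕ}, M * D ≤ Pn → Q ^ (e + a) ≤ C * M * Q ^ a → C * Pn < Q₀ ^ e * D → Q < Q₀ :=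
    fun h1 h2 h3 => bd (by omega) h1 h2 h3
  have hkn' : k < n := hkn
  clear hkn
  interval_cases n
  · interval_cases k
    have e : b = 2 := by norm_num at hb; omega
    subst e
    rw [show 2 - 1 = 1 from rfl, P1, P2] at hM
    have := key (e := 2) (a := 2) (Q₀ := 9) hM hI (by norm_num)
    left
    refine ⟨rfl, rfl, ?_⟩
    (clear * - h3 h5 this; omega)
  · interval_cases k
    · have e : b = 4 := by norm_num at hb; omega
      subst e
      rw [show 3 - 1 = 2 from rfl, P2, P3] at hM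
      have := key (e := 4) (a := 4) (Q₀ := 7) hM hI (by norm_num)
      (clear * - h3 h5 this; omega)
    · have e : b = 2 := by norm_num at hb; omega
      subst e
      rw [show 3 - 2 = 1 from rfl, P1, P3] at hM
      have := key (e := 6) (a := 2) (Q₀ := 8) hM hI (by norm_num)
      right; left
      refine ⟨rfl, rfl, ?_⟩
      (clear * - h3 h5 this; omega)
  · interval_cases k
    · have e : b = 8 := by norm_num at hb; omega
      subst e
      rw [show 4 - 1 = 3 from rfl, P3, P4] at hM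
      have := key (e := 8) (a := 8) (Q₀ := 5) hM hI (by norm_num)
      omega
    · have e : b = 4 := by norm_num at hb; omega
      subst e
      rw [show 4 - 2 = 2 from rfl, P2, P4] at hM
      have := key (e := 12) (a := 4) (Q₀ := 5) hM hI (by norm_num)
      omega
    · have e : b = 6 := by norm_num at hb; omega
      subst e
      rw [show 4 - 3 = 1 from rfl, P1, P4] at hM
      have := key (e := 10) (a := 6) (Q₀ := 10) hM hI (by norm_num)
      right; right
      refine ⟨rfl, rfl, ?_⟩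
      (clear * - h3 h5 this; omega)
  · interval_cases k
    · have e : b = 16 := by norm_num at hb; omega
      subst e
      rw [show 5 - 1 = 4 from rfl, P4, P5] at hM
      have := key (e := 16) (a := 16) (Q₀ := 5) hM hI (by norm_num)
      omega
    · have e : b = 8 := by norm_num at hb; omega
      subst e
      rw [show 5 - 2 = 3 from rfl, P3, P5] at hM
      have := key (e := 24) (a := 8) (Q₀ := 5) hM hI (by norm_num)
      omega
    · have e : b = 12 := by norm_num at hb; omega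
      subst e
      rw [show 5 - 3 = 2 from rfl, P2, P5] at hM
      have := key (e := 20) (a := 12) (Q₀ := 5) hM hI (by norm_num)
      omega
    · have e : b = 10 := by norm_num at hb; omega
      subst e
      rw [show 5 - 4 = 1 from rfl, P1, P5] at hM
      have := key (e := 22) (a := 10) (Q₀ := 6) hM hI (by norm_num)
      (clear * - h3 h5 this; omega)

end Cfsg.Agent.H111.NX
end

-- part: H4/NX/NumThree
section
/-!
# S4979, layer (B): numerics for `q = 3` (helper4)
-/

set_option autoImplicit false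
set_option exponentiation.threshold 2000

namespace Cfsg.Agent.H4.NX

open Cfsg.Agent.H662.GW Cfsg.Agent.H37.NW

/-- explicit contradiction -/
theorem small {p q e N F : ℕ} (e₀ : ℕ) (hp : 5 ≤ p) (hq : 3 ≤ q) (h1 : (p - 1) * N ≤ p * e)
    (he₀ : 5 * (e₀ - 1) < 4 * N) (he₁ : 1 ≤ e₀) (h : p * q ^ e ≤ F) (hF : F < 5 * 3 ^ e₀) : False := by
  have h1' : e₀ ≤ e := by
    by_contra hlt
    have h2 : e ≤ e₀ - 1 := by omega
    have h3 := Nat.mul_le_mul_left p h2
    obtain ⟨p, rfl⟩ : ∃ p', p = p' + 5 := ⟨p - 5, by omega⟩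
    have h4 : (p + 5 - 1) * N = p * N + 4 * N := by
      rw [show p + 5 - 1 = p + 4 by omega]; ring
    have h5 : (p + 5) * (e₀ - 1) = p * (e₀ - 1) + 5 * (e₀ - 1) := by ring
    have h6 : p * (e₀ - 1) ≤ p * N := Nat.mul_le_mul_left p (by omega)
    omega
  have h2 : 5 * 3 ^ e₀ ≤ p * q ^ e :=
    Nat.mul_le_mul hp ((Nat.pow_le_pow_left hq _).trans (Nat.pow_le_pow_right (by omega) h1'))
  omega

theorem P26 : P 2 6 = 2 ^ 36 * (3 * 15 * 63 * 255 * 1023 * 4095) := by
  unfold P
  norm_num [Finset.prod_range_succ]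

/-- `q = 3` -/
theorem num_three {p n j f M : ℕ} (hp : p.Prime) (hp5 : 5 ≤ p) (hn : 6 ≤ n) (hj : 1 ≤ j) (hjn : j ≤ n)
    (hd : ∃ i, 1 ≤ i ∧ i ≤ j ∧ p ∣ 2 ^ (2 * i) - 1) (hf : 1 ≤ f)
    (hM : M * (p * Cfsg.Agent.H37.NW.P 2 (n - j)) ≤ Cfsg.Agent.H37.NW.P 2 n)
    (hM' : M * p * 3 ^ n ≤ Cfsg.Agent.H37.NW.P 2 n)
    (hI : Cfsg.Agent.H662.GW.Ineq p 2 n j (3 ^ f) M) : False := by
  obtain ⟨m, rfl⟩ : ∃ m, n = m + j := ⟨n - j, by omega⟩
  rw [Nat.add_sub_cancel] at hM
  have hq : 3 ≤ 3 ^ f := by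
    calc 3 = 3 ^ 1 := rfl
      _ ≤ 3 ^ f := Nat.pow_le_pow_right (by norm_num) hf
  obtain ⟨e, h1, h2, h3⟩ := base (by omega) le_rfl (by omega) hM hI
  have hj2 : 2 ≤ j := by
    by_contra hlt
    obtain ⟨i, hi, hij, hdv⟩ := hd
    obtain rfl : i = 1 := by omega
    have := Nat.le_of_dvd (by norm_num) hdv
    omega
  rcases Nat.lt_or_ge (m + j) 8 with h8 | h8
  · have hcase : m + j = 6 ∨ m + j = 7 := by omega
    rcases hcase with h | h
    · have hj6 : j ≤ 6 := by omega
      obtain rfl : m = 6 - j := by omega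
      rcases Nat.lt_or_ge j 5 with hj5 | hj5
      · interval_cases j
        · exact small 39 hp5 hq h1 (by norm_num) (by norm_num) h2 (by norm_num)
        · exact small 45 hp5 hq h1 (by norm_num) (by norm_num) h2 (by norm_num)
        · exact small 48 hp5 hq h1 (by norm_num) (by norm_num) h2 (by norm_num)
      · rw [h, P26] at hM'
        have h4 : p * (3 ^ f) ^ e * 3 ^ 6 ≤ 2 ^ (2 * j) * (2 ^ 36 * (3 * 15 * 63 * 255 * 1023 * 4095)) :=
          calc p * (3 ^ f) ^ e * 3 ^ 6 ≤ 2 ^ (2 * j) * (p * M) * 3 ^ 6 := Nat.mul_le_mul_right _ h3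
            _ = 2 ^ (2 * j) * (M * p * 3 ^ 6) := by ring
            _ ≤ _ := Nat.mul_le_mul_left _ hM'
        have h5 : p * (3 ^ f) ^ e ≤ 2 ^ (2 * j) * (2 ^ 36 * (3 * 15 * 63 * 255 * 1023 * 4095)) / 3 ^ 6 :=
          (Nat.le_div_iff_mul_le (by norm_num)).2 h4
        interval_cases j
        · exact small 50 hp5 hq h1 (by norm_num) (by norm_num) h5 (by norm_num)
        · exact small 51 hp5 hq h1 (by norm_num) (by norm_num) h5 (by norm_num)
    · have hj7 : j ≤ 7 := by omega
      obtain rfl : m = 7 - j := by omega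
      interval_cases j
      · exact small 77 hp5 hq h1 (by norm_num) (by norm_num) h2 (by norm_num)
      · exact small 90 hp5 hq h1 (by norm_num) (by norm_num) h2 (by norm_num)
      · exact small 96 hp5 hq h1 (by norm_num) (by norm_num) h2 (by norm_num)
      · exact small 100 hp5 hq h1 (by norm_num) (by norm_num) h2 (by norm_num)
      · exact small 101 hp5 hq h1 (by norm_num) (by norm_num) h2 (by norm_num)
      · exact small 102 hp5 hq h1 (by norm_num) (by norm_num) h2 (by norm_num)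
  · have h4 : (3 ^ f) ^ e ≤ 2 ^ (4 * m * j + 2 * j ^ 2 + 3 * j) := by
      refine le_trans ?_ h2
      exact Nat.le_mul_of_pos_left _ (by omega)
    have h5 := two_ge (m := m) (i := 2) hj2
    have h6 : 2 ^ (m + j) = 4 * 2 ^ (m + j - 2) := by
      rw [show (4 : ℕ) = 2 ^ 2 by norm_num, ← pow_add]; congr 1; omega
    refine big 3 5 3 3 2 8 152 hq h4 (n := m + j) ?_
      (lin 8 152 (E_le m j) h8 (by norm_num) (by norm_num)) h8 (by norm_num) (by norm_num) (by norm_num)
    rw [h6]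
    generalize 2 ^ m * (2 ^ j - 1) = N at h1 h5
    generalize 2 ^ (m + j - 2) = R at h5
    norm_num at h5
    -- `5 (p - 1) ≥ 4 p`
    obtain ⟨p, rfl⟩ : ∃ p', p = p' + 5 := ⟨p - 5, by omega⟩
    have h7 : (p + 5) * (4 * N) ≤ (p + 5) * (5 * e) := by
      calc (p + 5) * (4 * N) ≤ 5 * ((p + 5 - 1) * N) := by
            rw [show p + 5 - 1 = p + 4 by omega]
            linarith only [Nat.zero_le (p * N)]
        _ ≤ 5 * ((p + 5) * e) := Nat.mul_le_mul_left _ h1
        _ = (p + 5) * (5 * e) := by ring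
    have h8 := Nat.le_of_mul_le_mul_left h7 (by omega)
    omega

end Cfsg.Agent.H4.NX
end

-- part: H586/NX/Main
section
/-!
# S4979, layer (B): the final assembly of the numerical half (helper586)

`false_B` : `SB` and `LB` are contradictory.
-/

set_option autoImplicit false
set_option linter.unusedSectionVars false
set_option linter.unusedVariables false

open Subgroup
open scoped commutatorElement

namespace Cfsg.Agent.H586.NX

open Cfsg.Agent.H20.NX (normalizer_index_le)

open Cfsg.Agent.H991.NX (card_of_not_five)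
open Cfsg.Agent.H610.NX (X_central)
open Cfsg.Agent.H196.NX (not_three_of_le)
open Cfsg.Agent.H994.NX (not_nine nine_four)
open Cfsg.Agent.H111.NX (num_u num_t)
open Cfsg.Agent.H4.NX (num_three)
open Cfsg.Agent.H20.NX (count_three mult_three untw_mul untw_cube)

section three

variable {q n Q f : ℕ} {G W Y U : Type*} [Group G] [Finite G] [AddCommGroup W] [Finite W]
    [DistribMulAction G W] [Group Y] [Finite Y] [AddCommGroup U] [Finite U] [DistribMulAction Y U]
    {L Z : Subgroup G} {π : G →* Y} {a : L →* Multiplicative U} {X : Subgroup Y} {B : U → U → ZMod 2}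

/-- the survivors -/
def Lst (n k a Q : ℕ) : Prop :=
  (n = 3 ∧ k = 2 ∧ a = 4) ∨ (n = 4 ∧ k = 2 ∧ a = 8 ∧ Q ≤ 7) ∨ (n = 4 ∧ k = 3 ∧ a = 4 ∧ Q = 5) ∨
    (n = 5 ∧ k = 4 ∧ a = 12 ∧ Q = 5) ∨ (n = 2 ∧ k = 1 ∧ a = 2 ∧ Q = 7) ∨ (n = 3 ∧ k = 2 ∧ a = 2 ∧ Q = 7) ∨
    (n = 4 ∧ k = 3 ∧ a = 6 ∧ Q = 7)

theorem pi_order (h : LB (W := W) 3 q 2 n L Z π a B) {x : G} (hx : orderOf x = 3) : orderOf (π x) = 3 := by
  have h1 : orderOf (π x) ∣ 3 := hx ▸ orderOf_map_dvd π x
  rcases (Nat.dvd_prime Nat.prime_three).1 h1 with h2 | h2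
  · exfalso
    rw [orderOf_eq_one_iff] at h2
    apply h.lx.pker
    have := _root_.orderOf_dvd_natCard (⟨x, MonoidHom.mem_ker.2 h2⟩ : π.ker)
    rwa [Subgroup.orderOf_mk, hx] at this
  · exact h2

theorem fixed_pos (h : LB (W := W) 3 q 2 n L Z π a B) {x : G} (hx : orderOf x = 3) :
    ∃ w : W, w ≠ 0 ∧ x • w = w := by
  have hf : Fact (Nat.Prime 3) := ⟨Nat.prime_three⟩
  have := h.lx.nt
  obtain ⟨w, hw⟩ := exists_ne (0 : W)
  have hP : IsPGroup 3 (zpowers x) := IsPGroup.of_card (n := 1) (by rw [Nat.card_zpowers, hx, pow_one])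
  obtain ⟨g, hg⟩ := exists_conj_le (MulAction.stabilizer G w) (h.P1 w) hP
  have h1 := hg x (mem_zpowers x)
  rw [MulAction.mem_stabilizer_iff, mul_smul, mul_smul] at h1
  refine ⟨g⁻¹ • w, ?_, ?_⟩
  · intro h2
    rw [inv_smul_eq_iff, smul_zero] at h2
    exact hw h2
  · rw [eq_inv_smul_iff]
    exact h1

theorem one_lt_card_fixed (h : LB (W := W) 3 q 2 n L Z π a B) {x : G} (hx : orderOf x = 3) :
    1 < Nat.card {w : W // x • w = w} := by
  obtain ⟨w, hw, hxw⟩ := fixed_pos h hx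
  have : Nontrivial {w : W // x • w = w} := ⟨⟨⟨w, hxw⟩, ⟨0, smul_zero x⟩, fun h1 => hw (congrArg Subtype.val h1)⟩⟩
  exact Finite.one_lt_card

theorem fix_le (S : SX (U := U) 3 q 2 n X B) (hfx : ∀ P : Sylow 3 Y, ∃ u : U, u ≠ 0 ∧ ∀ x ∈ P, x • u = u) {y : Y}
    (hy : orderOf y = 3) : ∃ k : ℕ, 1 ≤ k ∧ k + 1 ≤ n ∧ Nat.card {u : U // y • u = u} = 2 ^ (2 * (n - k)) := by
  have hf : Fact (Nat.Prime 3) := ⟨Nat.prime_three⟩
  obtain ⟨k, hk1, hkn, hk, -, -⟩ := exists_fix S hy
  refine ⟨k, hk1, ?_, hk⟩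
  rcases Nat.lt_or_ge k n with h1 | h1
  · omega
  · exfalso
    have h2 : n - k = 0 := by omega
    rw [h2, mul_zero, pow_zero] at hk
    have hP : IsPGroup 3 (zpowers y) := IsPGroup.of_card (n := 1) (by rw [Nat.card_zpowers, hy, pow_one])
    obtain ⟨P, hP'⟩ := hP.exists_le_sylow
    obtain ⟨u, hu, hPu⟩ := hfx P
    have h3 : y • u = u := hPu y (hP' (mem_zpowers y))
    have h4 := (Nat.card_eq_one_iff_unique.1 hk).1
    exact hu (congrArg Subtype.val (Subsingleton.elim (⟨u, h3⟩ : {u : U // y • u = u}) ⟨0, smul_zero y⟩))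

/-- elements of order `3` of `G` -/
theorem elt (S : SX (U := U) 3 q 2 n X B) (h : LB (W := W) 3 q 2 n L Z π a B) (hQ : Nat.card W = Q ^ (2 ^ n))
    (hQf : Q = q ^ f) (hq5 : 5 ≤ q) (hf : 1 ≤ f) (hn : 2 ≤ n) (hn5 : n ≤ 5)
    (hfx : ∀ P : Sylow 3 Y, ∃ u : U, u ≠ 0 ∧ ∀ x ∈ P, x • u = u) {x : G} (hx : orderOf x = 3) :
    ∃ k b : ℕ, k ≤ n ∧ Nat.card {u : U // π x • u = u} = 2 ^ (2 * (n - k)) ∧ Nat.card {w : W // x • w = w} = Q ^ b ∧
      Q ^ (2 ^ n) ≤ 2 ^ (2 * k) * (normalizer ((zpowers (π x) : Subgroup Y) : Set Y)).index * Q ^ b ∧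
      Lst n k b Q := by
  have hpx := pi_order h hx
  obtain ⟨k, hk1, hkn, hk⟩ := fix_le S hfx hpx
  have hkn' : k ≤ n := by omega
  have hc := count_three S h hx hkn' hk
  have hM := normalizer_index_le S hpx hkn' hk
  have hpos := one_lt_card_fixed h hx
  rcases mult_three S h hQ hx hkn' hk with ⟨b, hb, hcb⟩ | ⟨b, hb, h3, hcb⟩
  · rw [hcb, hQ] at hc
    refine ⟨k, b, hkn', hk, hcb, hc, ?_⟩
    have hb1 : 1 ≤ b := by
      rcases Nat.eq_zero_or_pos b with h0 | h0
      · rw [hcb, h0, pow_zero] at hpos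
        omega
      · exact h0
    have := num_u S.hq hq5 hf hn hn5 hk1 hkn hb hb1 hM (hQf ▸ hc)
    rw [← hQf] at this
    rcases this with ⟨rfl, rfl⟩ | ⟨rfl, rfl, h1⟩ | ⟨rfl, rfl, h1⟩ | ⟨rfl, rfl, h1⟩
    · left
      refine ⟨rfl, rfl, ?_⟩
      norm_num at hb
      omega
    · right; left
      refine ⟨rfl, rfl, ?_, h1⟩
      norm_num at hb
      omega
    · right; right; left
      refine ⟨rfl, rfl, ?_, h1⟩
      norm_num at hb
      omega
    · right; right; right; left
      refine ⟨rfl, rfl, ?_, h1⟩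
      norm_num at hb
      omega
  · rw [hcb, hQ] at hc
    refine ⟨k, b, hkn', hk, hcb, hc, ?_⟩
    have := num_t S.hq hq5 hf hn hn5 hk1 hkn hb (hQf ▸ h3) hM (hQf ▸ hc)
    rw [← hQf] at this
    rcases this with ⟨rfl, rfl, h1⟩ | ⟨rfl, rfl, h1⟩ | ⟨rfl, rfl, h1⟩
    · right; right; right; right; left
      refine ⟨rfl, rfl, ?_, h1⟩
      norm_num at hb
      omega
    · right; right; right; right; right; left
      refine ⟨rfl, rfl, ?_, h1⟩
      norm_num at hb
      omega
    · right; right; right; right; right; right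
      refine ⟨rfl, rfl, ?_, h1⟩
      norm_num at hb
      omega

theorem card_fix_conj' (t y : Y) : Nat.card {u : U // (t * y * t⁻¹) • u = u} = Nat.card {u : U // y • u = u} := by
  refine Nat.card_congr ⟨fun u => ⟨t⁻¹ • u.1, ?_⟩, fun u => ⟨t • u.1, ?_⟩, fun u => ?_, fun u => ?_⟩
  · rw [eq_inv_smul_iff, smul_smul, smul_smul]
    exact u.2
  · rw [mul_smul, mul_smul, inv_smul_smul, u.2]
  · apply Subtype.ext
    exact smul_inv_smul t u.1
  · apply Subtype.ext
    exact inv_smul_smul t u.1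

/-- lifting of `3`-subgroups -/
theorem lift_three (h : LB (W := W) 3 q 2 n L Z π a B) {A : Subgroup Y} (hA : IsPGroup 3 A) :
    ∃ (t : Y) (σ : A →* G), (∀ b : A, π (σ b) = t * b * t⁻¹) ∧ Function.Injective σ := by
  have hF : Fact (Nat.Prime 3) := ⟨Nat.prime_three⟩
  obtain ⟨t, σ, hσ⟩ := exists_lift π h.lx.pker h.ip hA
  refine ⟨t, σ, hσ, ?_⟩
  rw [injective_iff_map_eq_one]
  intro b hb
  have h1 := hσ b
  rw [hb, map_one] at h1
  apply Subtype.ext
  have h4 : t * (b : Y) = t := by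
    have := congrArg (· * t) h1
    simpa only [_root_.mul_eq_left, _root_.OneMemClass.coe_eq_one, _root_.inv_mul_cancel_right, _root_.one_mul] using this.symm
  simpa only [_root_.OneMemClass.coe_one, _root_.OneMemClass.coe_eq_one, _root_.mul_eq_left] using h4

theorem exists_x (h : LB (W := W) 3 q 2 n L Z π a B) {y : Y} (hy : orderOf y = 3) :
    ∃ (x : G) (t : Y), orderOf x = 3 ∧ π x = t * y * t⁻¹ := by
  have hP : IsPGroup 3 (zpowers y) := IsPGroup.of_card (n := 1) (by rw [Nat.card_zpowers, hy, pow_one])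
  obtain ⟨t, σ, hσ, hinj⟩ := lift_three h hP
  refine ⟨σ ⟨y, mem_zpowers y⟩, t, ?_, hσ _⟩
  rw [orderOf_injective σ hinj, Subgroup.orderOf_mk, hy]

/-- elements of order `3` of `Y` -/
theorem elt' (S : SX (U := U) 3 q 2 n X B) (h : LB (W := W) 3 q 2 n L Z π a B) (hQ : Nat.card W = Q ^ (2 ^ n))
    (hQf : Q = q ^ f) (hq5 : 5 ≤ q) (hf : 1 ≤ f) (hn : 2 ≤ n) (hn5 : n ≤ 5)
    (hfx : ∀ P : Sylow 3 Y, ∃ u : U, u ≠ 0 ∧ ∀ x ∈ P, x • u = u) {y : Y} (hy : orderOf y = 3) :
    ∃ k b : ℕ, Nat.card {u : U // y • u = u} = 2 ^ (2 * (n - k)) ∧ Lst n k b Q := by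
  obtain ⟨x, t, hx, h1⟩ := exists_x h hy
  obtain ⟨k, b, -, hk, -, -, hl⟩ := elt S h hQ hQf hq5 hf hn hn5 hfx hx
  rw [h1, card_fix_conj'] at hk
  exact ⟨k, b, hk, hl⟩

theorem P_two : Cfsg.Agent.H37.NW.P 2 2 = 720 := by
  norm_num [Cfsg.Agent.H37.NW.P, Finset.prod_range_succ]

theorem P_three : Cfsg.Agent.H37.NW.P 2 3 = 1451520 := by
  norm_num [Cfsg.Agent.H37.NW.P, Finset.prod_range_succ]

theorem P_four : Cfsg.Agent.H37.NW.P 2 4 = 2 ^ 16 * 3 ^ 5 * 5 ^ 2 * 7 * 17 := by
  norm_num [Cfsg.Agent.H37.NW.P, Finset.prod_range_succ]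

theorem P_five : Cfsg.Agent.H37.NW.P 2 5 = 2 ^ 25 * 3 ^ 6 * 5 ^ 2 * 7 * 11 * 17 * 31 := by
  norm_num [Cfsg.Agent.H37.NW.P, Finset.prod_range_succ]

/-- the elements of order `3` of `Y` have fixed space of order `4` if `n ≠ 4` -/
theorem fix_four (S : SX (U := U) 3 q 2 n X B) (h : LB (W := W) 3 q 2 n L Z π a B) (hQ : Nat.card W = Q ^ (2 ^ n))
    (hQf : Q = q ^ f) (hq5 : 5 ≤ q) (hf : 1 ≤ f) (hn : 2 ≤ n) (hn5 : n ≤ 5)
    (hfx : ∀ P : Sylow 3 Y, ∃ u : U, u ≠ 0 ∧ ∀ x ∈ P, x • u = u) (hn4 : n ≠ 4) (y : Y) (hy : orderOf y = 3) :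
    Nat.card {u : U // y • u = u} = 4 := by
  obtain ⟨k, b, hk, hl⟩ := elt' S h hQ hQf hq5 hf hn hn5 hfx hy
  rw [hk]
  rcases hl with ⟨rfl, rfl, -⟩ | ⟨rfl, -⟩ | ⟨rfl, -⟩ | ⟨rfl, rfl, -⟩ | ⟨rfl, rfl, -⟩ | ⟨rfl, rfl, -⟩ | ⟨rfl, -⟩
  · norm_num
  · exact absurd rfl hn4
  · exact absurd rfl hn4
  · norm_num
  · norm_num
  · norm_num
  · exact absurd rfl hn4

/-- `n = 4`, `Q = 7`: the Sylow `3`-subgroup has order `3` -/
theorem not_nine_four (S : SX (U := U) 3 q 2 4 X B) (h : LB (W := W) 3 q 2 4 L Z π a B)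
    (hQ : Nat.card W = 7 ^ (2 ^ 4)) (hQf : 7 = q ^ f) (hq5 : 5 ≤ q) (hf : 1 ≤ f)
    (hfx : ∀ P : Sylow 3 Y, ∃ u : U, u ≠ 0 ∧ ∀ x ∈ P, x • u = u) : ¬ 9 ∣ Nat.card Y := by
  intro h9
  have hF : Fact (Nat.Prime 3) := ⟨Nat.prime_three⟩
  have hall : ∀ x : Y, orderOf x = 3 → Nat.card {u : U // x • u = u} = 16 ∨ Nat.card {u : U // x • u = u} = 4 := by
    intro y hy
    obtain ⟨k, b, hk, hl⟩ := elt' S h hQ hQf hq5 hf (by norm_num) (by norm_num) hfx hy
    rw [hk]
    rcases hl with ⟨h1, -⟩ | ⟨-, rfl, -⟩ | ⟨-, rfl, -⟩ | ⟨h1, -⟩ | ⟨h1, -⟩ | ⟨h1, -⟩ | ⟨-, rfl, -⟩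
    · omega
    · left; norm_num
    · right; norm_num
    · omega
    · omega
    · omega
    · right; norm_num
  -- no element of order 3 of `G` of type 3 is untwisted
  have hno : ∀ x : G, orderOf x = 3 → Nat.card {u : U // π x • u = u} = 4 → ∀ b : ℕ,
      (3 * b : ℤ) = 2 ^ 4 + 2 * (-1) ^ 3 * 2 ^ (4 - 3) → Nat.card {w : W // x • w = w} = 7 ^ b → False := by
    intro x hx hx4 b hb hcb
    obtain ⟨k, c, -, hk, hcc, -, hl⟩ := elt S h hQ hQf hq5 hf (by norm_num) (by norm_num) hfx hx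
    rw [hcb] at hcc
    have hbc : b = c := Nat.pow_right_injective (le_refl 2 |>.trans (by norm_num)) hcc
    norm_num at hb
    rw [hx4] at hk
    rcases hl with ⟨h1, -⟩ | ⟨-, rfl, -⟩ | ⟨-, rfl, -, h1⟩ | ⟨h1, -⟩ | ⟨h1, -⟩ | ⟨h1, -⟩ | ⟨-, rfl, h1, -⟩
    · omega
    · norm_num at hk
    · omega
    · omega
    · omega
    · omega
    · omega
  -- elements of type 2 are untwisted
  have hyes : ∀ x : G, orderOf x = 3 → Nat.card {u : U // π x • u = u} = 16 → ∃ b : ℕ,
      (3 * b : ℤ) = 2 ^ 4 + 2 * (-1) ^ 2 * 2 ^ (4 - 2) ∧ Nat.card {w : W // x • w = w} = 7 ^ b := by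
    intro x hx hx4
    obtain ⟨k, c, -, hk, hcc, -, hl⟩ := elt S h hQ hQf hq5 hf (by norm_num) (by norm_num) hfx hx
    rw [hx4] at hk
    rcases hl with ⟨h1, -⟩ | ⟨-, rfl, rfl, -⟩ | ⟨-, rfl, -, h1⟩ | ⟨h1, -⟩ | ⟨h1, -⟩ | ⟨h1, -⟩ | ⟨-, rfl, h1, -⟩
    · omega
    · exact ⟨8, by norm_num, hcc⟩
    · norm_num at hk
    · omega
    · omega
    · omega
    · norm_num at hk
  rcases nine_four S hall hfx h9 with ⟨y, hy9, hy4⟩ | ⟨x, y, hx, hy, hxy, hne, hx16, hy16, hxy4⟩
  · have hP : IsPGroup 3 (zpowers y) := IsPGroup.of_card (n := 2) (by rw [Nat.card_zpowers, hy9]; norm_num)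
    obtain ⟨t, σ, hσ, hinj⟩ := lift_three h hP
    set g := σ ⟨y, mem_zpowers y⟩ with hg
    have hg9 : orderOf g = 9 := by rw [hg, orderOf_injective σ hinj, Subgroup.orderOf_mk, hy9]
    have hπg : π g = t * y * t⁻¹ := hσ _
    have hπ3 : π (g ^ 3) = t * y ^ 3 * t⁻¹ := by rw [map_pow, hπg, conj_pow]
    have hg3 : orderOf (g ^ 3) = 3 := by
      rw [orderOf_pow' g (by norm_num), hg9]
      norm_num
    have h4 : Nat.card {u : U // π (g ^ 3) • u = u} = 4 := by rw [hπ3, card_fix_conj', hy4]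
    obtain ⟨b, hb, hcb⟩ := untw_cube S h hQ (by norm_num) hg9 (k := 3) (by norm_num) (by rw [h4]; norm_num)
    exact hno _ hg3 h4 b hb hcb
  · -- the subgroup generated by `x`, `y`
    have hP : IsPGroup 3 (zpowers x ⊔ zpowers y : Subgroup Y) := by
      have h1 : IsPGroup 3 (zpowers x) := IsPGroup.of_card (n := 1) (by rw [Nat.card_zpowers, hx, pow_one])
      have h2 : IsPGroup 3 (zpowers y) := IsPGroup.of_card (n := 1) (by rw [Nat.card_zpowers, hy, pow_one])
      refine IsPGroup.to_sup_of_normal_right' h1 h2 ?_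
      intro c hc
      exact centralizer_le_normalizer_zpowers y (by
        obtain ⟨k, rfl⟩ := hc
        rw [mem_centralizer_singleton_iff]
        exact (show Commute x y from hxy).zpow_left k)
    obtain ⟨t, σ, hσ, hinj⟩ := lift_three h hP
    have hxm : x ∈ (zpowers x ⊔ zpowers y : Subgroup Y) := (le_sup_left : zpowers x ≤ _) (mem_zpowers x)
    have hym : y ∈ (zpowers x ⊔ zpowers y : Subgroup Y) := (le_sup_right : zpowers y ≤ _) (mem_zpowers y)
    set g := σ ⟨x, hxm⟩ with hg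
    set g' := σ ⟨y, hym⟩ with hg'
    have hg3 : orderOf g = 3 := by rw [hg, orderOf_injective σ hinj, Subgroup.orderOf_mk, hx]
    have hg3' : orderOf g' = 3 := by rw [hg', orderOf_injective σ hinj, Subgroup.orderOf_mk, hy]
    have hπg : π g = t * x * t⁻¹ := hσ _
    have hπg' : π g' = t * y * t⁻¹ := hσ _
    have hcomm : g * g' = g' * g := by
      rw [hg, hg', ← map_mul, ← map_mul]
      congr 1
      exact Subtype.ext hxy
    have hgg : g * g' = σ ⟨x * y, mul_mem hxm hym⟩ := by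
      rw [hg, hg', ← map_mul]
      rfl
    have hgg3 : orderOf (g * g') = 3 := by
      rw [hgg, orderOf_injective σ hinj, Subgroup.orderOf_mk]
      refine orderOf_eq_prime ?_ ?_
      · rw [(show Commute x y from hxy).mul_pow, ← hx, pow_orderOf_eq_one, hx, ← hy, pow_orderOf_eq_one, mul_one]
      · intro h1
        apply hne
        have h2 : y = x⁻¹ := (inv_eq_of_mul_eq_one_right h1).symm
        rw [h2]
        exact inv_mem (mem_zpowers x)
    have hπgg : π (g * g') = t * (x * y) * t⁻¹ := by rw [map_mul, hπg, hπg']; group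
    have e1 : Nat.card {u : U // π g • u = u} = 16 := by rw [hπg, card_fix_conj', hx16]
    have e2 : Nat.card {u : U // π g' • u = u} = 16 := by rw [hπg', card_fix_conj', hy16]
    have e3 : Nat.card {u : U // π (g * g') • u = u} = 4 := by rw [hπgg, card_fix_conj', hxy4]
    obtain ⟨b, hb, hcb⟩ := untw_mul S h hQ hg3 hg3' hcomm hgg3 (k := 2) (l := 2) (m := 3) (by norm_num) (by norm_num)
      (by norm_num) (by rw [e1]; norm_num) (by rw [e2]; norm_num) (by rw [e3]; norm_num) (hyes g hg3 e1) (hyes g' hg3' e2)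
    exact hno _ hgg3 e3 b hb hcb

/-- **`p = 3`** -/
theorem false_three (S : SX (U := U) 3 q 2 n X B) (h : LB (W := W) 3 q 2 n L Z π a B) (hQ : Nat.card W = Q ^ (2 ^ n))
    (hQf : Q = q ^ f) (hq5 : 5 ≤ q) (hf : 1 ≤ f) (hn5 : n ≤ 5) (hX : X.Normal) (hs : IsSimpleGroup (Y ⧸ X))
    (hna : ¬ IsMulCommutative (Y ⧸ X)) (h3S : 3 ∣ Nat.card (Y ⧸ X)) : False := by
  have hF : Fact (Nat.Prime 3) := ⟨Nat.prime_three⟩
  have hSY : Nat.card (Y ⧸ X) ∣ Nat.card Y := Subgroup.card_quotient_dvd_card X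
  have hYP := card_dvd S
  have hSP := hSY.trans hYP
  have hn1 := S.hn
  have hXc := X_central S hn5
  have hq5Y : q = 5 → ¬ 5 ∣ Nat.card (Y ⧸ X) := fun h1 h2 => S.qY (h1 ▸ h2.trans hSY)
  have hQ6 : Q ≠ 6 := by
    rintro rfl
    have h1 : q ∣ 6 := hQf ▸ dvd_pow_self q (by omega)
    have h2 := Nat.le_of_dvd (by norm_num) h1
    have h3 : q = 5 ∨ q = 6 := by omega
    rcases h3 with rfl | rfl
    · omega
    · exact absurd S.hq (by norm_num)
  have hQ5 : 5 ≤ Q := by rw [hQf]; exact hq5.trans (Nat.le_self_pow (by omega) q)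
  have hQ5q : Q = 5 → q = 5 := by
    intro h1
    have h2 : q ∣ 5 := by rw [← h1, hQf]; exact dvd_pow_self q (by omega)
    exact (Nat.prime_dvd_prime_iff_eq S.hq (by norm_num)).1 h2
  have hP4 : n ≤ 4 → Nat.card (Y ⧸ X) ∣ 2 ^ 16 * 3 ^ 5 * 5 ^ 2 * 7 * 17 := by
    intro h1
    refine hSP.trans ?_
    rw [← P_four]
    interval_cases n
    · norm_num [Cfsg.Agent.H37.NW.P, Finset.prod_range_succ]
    · rw [P_two, P_four]; norm_num
    · rw [P_three, P_four]; norm_num
    · exact dvd_rfl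
  have hP5 : Nat.card (Y ⧸ X) ∣ 2 ^ 25 * 3 ^ 6 * 5 ^ 2 * 7 * 11 * 17 * 31 := by
    rcases Nat.lt_or_ge n 5 with h1 | h1
    · refine (hP4 (by omega)).trans ?_
      norm_num
    · obtain rfl : n = 5 := by omega
      rw [← P_five]
      exact hSP
  -- 5-free
  have hfive : q = 5 → n ≤ 4 → Nat.card (Y ⧸ X) = 168 ∨ Nat.card (Y ⧸ X) = 504 ∨ Nat.card (Y ⧸ X) = 2448 ∨
      Nat.card (Y ⧸ X) = 6048 := fun h1 h2 => card_of_not_five hna (hq5Y h1) (hP4 h2)
  -- 9-free
  have hnine : ¬ 9 ∣ Nat.card Y → Nat.card (Y ⧸ X) = 60 ∨ Nat.card (Y ⧸ X) = 168 ∨ Nat.card (Y ⧸ X) = 660 ∨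
      Nat.card (Y ⧸ X) = 4080 ∨ Nat.card (Y ⧸ X) = 14880 ∨ Nat.card (Y ⧸ X) = 32736 := fun h1 =>
    card_of_not_nine hna h3S (fun h2 => h1 (h2.trans hSY)) hP5
  -- `n = 1`
  rcases Nat.lt_or_ge n 2 with hn2 | hn2
  · obtain rfl : n = 1 := by omega
    have h1 : Cfsg.Agent.H37.NW.P 2 1 = 6 := by norm_num [Cfsg.Agent.H37.NW.P, Finset.prod_range_succ]
    rw [h1] at hYP
    have h9 : ¬ 9 ∣ Nat.card Y := fun h2 => by
      have := Nat.le_of_dvd (by norm_num) (h2.trans hYP)
      omega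
    have h2 := Nat.le_of_dvd (by norm_num) (hSY.trans hYP)
    rcases hnine h9 with h3 | h3 | h3 | h3 | h3 | h3 <;> (clear * - h3S h2 h3; omega)
  -- `n = 2`, `Q = 5`
  have hQ7 : n = 2 → 7 ≤ Q := by
    rintro rfl
    by_contra h1
    have h2 : Q = 5 := by (clear * - hQ6 hQ5 h1; omega)
    rw [P_two] at hSP
    rcases hfive (hQ5q h2) (by norm_num) with h3 | h3 | h3 | h3 <;> rw [h3] at hSP <;> omega
  have hfx := exists_fixed S h hQ hQ5 hQ6 hn2 hn5 hQ7
  -- an element of order 3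
  obtain ⟨y, hy⟩ := exists_prime_orderOf_dvd_card' 3 S.pY
  obtain ⟨x, t, hx, -⟩ := exists_x h hy
  have hpx := pi_order h hx
  obtain ⟨k, b, -, hk, -, hI, hl⟩ := elt S h hQ hQf hq5 hf hn2 hn5 hfx hx
  set N := (normalizer ((zpowers (π x) : Subgroup Y) : Set Y)).index with hN
  have h3N : N * 3 ≤ Nat.card (Y ⧸ X) := index_three hXc hpx S.pX
  have h6N : ¬ 9 ∣ Nat.card Y → N * 6 ≤ Nat.card (Y ⧸ X) := fun h9 => index_six hXc S.perf hpx S.pX h9
  rcases Nat.lt_or_ge n 4 with hn4 | hn4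
  · -- `n = 2, 3`
    have h9 := not_nine S (by omega) (fix_four S h hQ hQf hq5 hf hn2 hn5 hfx (by omega))
    have h6 := h6N h9
    have hS := hnine h9
    rcases hl with ⟨rfl, rfl, rfl⟩ | ⟨rfl, -⟩ | ⟨rfl, -⟩ | ⟨rfl, -⟩ | ⟨rfl, rfl, rfl, hQ'⟩ | ⟨rfl, rfl, rfl, hQ'⟩ |
      ⟨rfl, -⟩
    · rw [P_three] at hSP
      have hS' : Nat.card (Y ⧸ X) ≤ 168 := by
        rcases hS with h3 | h3 | h3 | h3 | h3 | h3 <;> rw [h3] at hSP ⊢ <;> omega
      have hN28 : N ≤ 28 := by omega
      have h1 : Q ^ 8 ≤ 448 * Q ^ 4 := by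
        calc Q ^ 8 ≤ 2 ^ (2 * 2) * N * Q ^ 4 := hI
          _ ≤ 2 ^ (2 * 2) * 28 * Q ^ 4 := Nat.mul_le_mul_right _ (Nat.mul_le_mul_left _ hN28)
          _ = _ := by norm_num
      have h2 : 5 ^ 4 ≤ Q ^ 4 := Nat.pow_le_pow_left hQ5 4
      have h4 : Q ^ 8 = Q ^ 4 * Q ^ 4 := by ring
      rw [h4] at h1
      have h5 := Nat.le_of_mul_le_mul_right h1 (by positivity)
      omega
    · omega
    · omega
    · omega
    · rw [P_two] at hSP
      have hS' : Nat.card (Y ⧸ X) ≤ 60 := by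
        rcases hS with h3 | h3 | h3 | h3 | h3 | h3 <;> rw [h3] at hSP ⊢ <;> (clear * - hSP; omega)
      have hN10 : N ≤ 10 := by omega
      subst hQ'
      norm_num at hI
      omega
    · rw [P_three] at hSP
      have hS' : Nat.card (Y ⧸ X) ≤ 168 := by
        rcases hS with h3 | h3 | h3 | h3 | h3 | h3 <;> rw [h3] at hSP ⊢ <;> omega
      have hN28 : N ≤ 28 := by omega
      subst hQ'
      norm_num at hI
      omega
    · omega
  · rcases Nat.lt_or_ge 4 n with hn4' | hn4'
    · -- `n = 5`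
      obtain rfl : n = 5 := by omega
      have h9 := not_nine S (by omega) (fix_four S h hQ hQf hq5 hf hn2 hn5 hfx (by omega))
      have h6 := h6N h9
      have hS := hnine h9
      rcases hl with ⟨h1, -⟩ | ⟨h1, -⟩ | ⟨h1, -⟩ | ⟨-, rfl, rfl, hQ'⟩ | ⟨h1, -⟩ | ⟨h1, -⟩ | ⟨h1, -⟩
      · omega
      · omega
      · omega
      · have hN' : N ≤ 5456 := by
          rcases hS with h3 | h3 | h3 | h3 | h3 | h3 <;> (clear * - h6 h3; omega)
        subst hQ'
        norm_num at hI
        omega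
      · omega
      · omega
      · omega
    · -- `n = 4`
      obtain rfl : n = 4 := by omega
      have hQ57 : Q = 5 ∨ Q = 7 := by
        rcases hl with ⟨h1, -⟩ | ⟨-, -, -, h1⟩ | ⟨-, -, -, h1⟩ | ⟨h1, -⟩ | ⟨h1, -⟩ | ⟨h1, -⟩ | ⟨-, -, -, h1⟩ <;> (clear * - h1 hQ6 hQ5 hQf; omega)
      rcases hQ57 with rfl | rfl
      · have hN' : N ≤ 2016 := by
          rcases hfive (hQ5q rfl) le_rfl with h3 | h3 | h3 | h3 <;> omega
        rcases hl with ⟨h1, -⟩ | ⟨-, rfl, rfl, h1⟩ | ⟨-, rfl, rfl, h1⟩ | ⟨h1, -⟩ | ⟨h1, -⟩ | ⟨h1, -⟩ | ⟨-, -, -, h1⟩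
        · omega
        · norm_num at hI
          omega
        · norm_num at hI
          omega
        · omega
        · omega
        · omega
        · omega
      · have h9 := not_nine_four S h hQ hQf hq5 hf hfx
        have h6 := h6N h9
        have hS := hnine h9
        rw [P_four] at hSP
        have hN' : N ≤ 680 := by
          rcases hS with h3 | h3 | h3 | h3 | h3 | h3
          · omega
          · omega
          · rw [h3] at hSP; omega
          · omega
          · rw [h3] at hSP; omega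
          · rw [h3] at hSP; omega
        rcases hl with ⟨h1, -⟩ | ⟨-, rfl, rfl, h1⟩ | ⟨-, rfl, rfl, h1⟩ | ⟨h1, -⟩ | ⟨h1, -⟩ | ⟨h1, -⟩ | ⟨-, rfl, rfl, h1⟩
        · omega
        · norm_num at hI
          omega
        · omega
        · omega
        · omega
        · omega
        · norm_num at hI
          omega

end three

/-- **the numerical half of layer (B)** -/
theorem false_B {p q s n f : ℕ} {G W Y U : Type*} [Group G] [Finite G] [AddCommGroup W] [Finite W]
    [DistribMulAction G W] [Group Y] [Finite Y] [AddCommGroup U] [Finite U] [DistribMulAction Y U]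
    {L Z : Subgroup G} {π : G →* Y} {a : L →* Multiplicative U} {X : Subgroup Y} {B : U → U → ZMod s}
    (h : Cfsg.Agent.H20.NX.SB p q s n f X B) (hL : LB (W := W) p q s n L Z π a B)
    (hW : Nat.card W = (q ^ f) ^ (s ^ n)) : False := by
  have S := SX.of_SB h
  have hF : Fact p.Prime := ⟨h.hp⟩
  have hX := h.nX
  have hs := h.simp
  have hSY : Nat.card (Y ⧸ X) ∣ Nat.card Y := Subgroup.card_quotient_dvd_card X
  have hdvd := card_dvd S
  obtain ⟨x, hx⟩ := exists_prime_orderOf_dvd_card' p S.pY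
  obtain ⟨j, hj1, hjn, hfix, hd, hM⟩ := exists_fix S hx
  have hI := h.ineq x hx j hjn hfix
  set M := (Subgroup.centralizer ({x} : Set Y)).index with hMdef
  have hq2 : q ≠ 2 := by
    rintro rfl
    have hodd : Odd (Nat.card (Y ⧸ X)) := by
      rw [← Nat.not_even_iff_odd, even_iff_two_dvd]
      exact fun h2 => h.qY (h2.trans hSY)
    have h1 := Cfsg.Agent.S0205.result hodd
    exact h.na ⟨⟨IsSimpleGroup.comm_iff_isSolvable.2 h1⟩⟩
  have hq3 : ¬ (q = 3 ∧ s = 2) := by
    rintro ⟨rfl, rfl⟩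
    have hp5 : 5 ≤ p := by
      have h1 := h.hp.two_le
      have h2 := h.odd
      have h3 := h.hpq
      have h4 : p ≠ 4 := by rintro rfl; exact absurd h.hp (by norm_num)
      omega
    have hn6 := not_three_of_le S
    refine num_three h.hp hp5 hn6 hj1 hjn hd h.hf hM ?_ hI
    -- `|Y| * 3 ^ n ∣ P 2 n`
    have h3Y : (Nat.card Y).Coprime (3 ^ n) :=
      Nat.Coprime.pow_right n ((Nat.Prime.coprime_iff_not_dvd Nat.prime_three).2 h.qY).symm
    have h3P : 3 ^ n ∣ Cfsg.Agent.H37.NW.P 2 n := by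
      unfold Cfsg.Agent.H37.NW.P
      refine Dvd.dvd.mul_left ?_ _
      have h1 : ∏ i ∈ Finset.range n, 3 ∣ ∏ i ∈ Finset.range n, (2 ^ (2 * (i + 1)) - 1) := by
        refine Finset.prod_dvd_prod_of_dvd _ _ fun i _ => ?_
        have h2 := Nat.sub_dvd_pow_sub_pow (2 ^ 2) 1 (i + 1)
        rw [← pow_mul, one_pow] at h2
        norm_num at h2
        exact h2
      rwa [Finset.prod_const, Finset.card_range] at h1
    have h1 := Nat.le_of_dvd (Cfsg.Agent.H37.NW.P_pos le_rfl n) (h3Y.mul_dvd_of_dvd_of_dvd hdvd h3P)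
    refine le_trans ?_ h1
    refine Nat.mul_le_mul_right _ ?_
    have h2 := (Subgroup.centralizer ({x} : Set Y)).card_mul_index
    rw [← h2, mul_comm M p]
    refine Nat.mul_le_mul_right _ (Nat.le_of_dvd Nat.card_pos ?_)
    have h3 : zpowers x ≤ Subgroup.centralizer ({x} : Set Y) := by
      rw [zpowers_le, mem_centralizer_singleton_iff]
    have h4 := card_dvd_of_le h3
    rwa [Nat.card_zpowers, hx] at h4
  have hnum := Cfsg.Agent.H37.NW.num_r h.hp h.hs h.hq h.hps h.hpq.symm h.odd hj1 hjn hd h.hf h.hsf hM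
    (fun h1 h2 _ => absurd ⟨h1, h2⟩ hq3) hI
  have hqf : q ≤ q ^ f := Nat.le_self_pow (by have := h.hf; omega) q
  rcases hnum with ⟨rfl, hc⟩ | ⟨rfl, rfl, rfl, -⟩ | ⟨-, -, -, -, h1, -⟩
  · -- `s = 2`
    have hq5 : 5 ≤ q := by
      have h1 := h.hq.two_le
      have h3 : q ≠ 3 := fun h3 => hq3 ⟨h3, rfl⟩
      have h4 : q ≠ 4 := by rintro rfl; exact absurd h.hq (by norm_num)
      (clear * - hq2 h1 h3 h4; omega)
    rcases hc with ⟨rfl, hn5⟩ | hc
    · exact false_three S hL hW rfl hq5 h.hf hn5 hX hs h.na h.pY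
    · have hQ6 : q ^ f ≠ 6 := by
        intro h6
        have h1 : q ∣ 6 := h6 ▸ dvd_pow_self q (by have := h.hf; omega)
        have h2 := Nat.le_of_dvd (by norm_num) h1
        have h3 : q = 5 ∨ q = 6 := by omega
        rcases h3 with rfl | rfl
        · omega
        · exact absurd h.hq (by norm_num)
      refine kill_ge_five S hL hW (hq5.trans hqf) hQ6 ?_ ?_
      · rintro rfl
        have h1 := h.hpq
        have h2 : q ≠ 6 := by rintro rfl; exact absurd h.hq (by norm_num)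
        omega
      · rcases hc with h1 | h1 | ⟨h1, h2, -⟩
        · exact Or.inl h1
        · exact Or.inr (Or.inl h1)
        · exact Or.inr (Or.inr ⟨h1, h2⟩)
  · exact kill_three S hL
  · exact hq2 h1

end Cfsg.Agent.H586.NX
end

-- part: H586/NX/LayerB
section
/-!
# S4979, layer (B) (helper586, helper20)

`layerB` : the extraspecial layer does not occur.
-/

set_option autoImplicit false

open Cfsg
open scoped commutatorElement

namespace Cfsg.Agent.H586.NX

open Cfsg.Agent.H662.GW Cfsg.Agent.H37.NX Cfsg.Agent.H511.Wt Cfsg.Agent.H229.NX Cfsg.Agent.H20.NX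

universe u

/-- **layer (B)** -/
theorem layerB {p q : ℕ} [hp : Fact p.Prime] [hq : Fact q.Prime] : LayerB.{u} p q := by
  intro H V _ _ _ _ _ K N φ hqH C himp _ E hE hEK hEc hmin hcls
  have hX : ExtraSp K E :=
    { nE := hE
      EK := hEK
      nc := hEc
      min := fun M hM hME hne => hmin M hM (lt_of_le_of_ne hME hne)
      cls := fun a ha b hb => hcls (Subgroup.commutator_mem_commutator ha hb) }
  obtain ⟨s, n, f, U, Y, h88⟩ :=
    struct_B' C hqH hX (qpe_of_not_impP C himp E)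
  revert h88; rintro ⟨_, _, _, _, _, h88⟩
  revert h88; rintro ⟨B, π, -, hSB, -, h88⟩
  revert h88; rintro ⟨G, W, _, _, _, h88⟩
  revert h88; rintro ⟨_, _, L, Z, π₀, h88⟩
  revert h88; rintro ⟨a, hLB, hW⟩
  exact false_B hSB hLB hW

end Cfsg.Agent.H586.NX
end

private theorem dce_4d1ae13da3e1 : _root_.True := by
  try have : _root_.True := by simp only [_root_.Cfsg.Agent.H37.NW.P.eq_1]
  exact _root_.True.intro
end

-- part: H152/QA/Partial
section
prune_inst 0x7a204000000000008080910002044c0004200000880848800a440b08200840808040040020040222008100000020000000200000000000000000000100009000420460c10000860010000080400000200000000000000000800000000000008000000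
set_option linter.all false
open scoped Cfsg.Agent.FastGrp

-- part: H299/QA/Psln
section
/-!
# S4979, layer (A), the row `PSL_n(q)`, `n ≥ 3` (A-RL, helper299)

`row_psln` : for every prime `p` and every linear character `lam ≠ 1` of `Z(SL_n(q))` there is an irreducible character of
`SL_n(q)` over `lam` of degree divisible by `p`:

* `p ∣ q` : constituents of Harish-Chandra induced characters with a factor `St` of `GL_2(q)`;
* `p ∣ q^i - 1`, `1 ≤ i < n` : of the cuspidal characters;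
* `p ∣ q^n - 1`, `p ∤ q - 1` : of the characters induced from the stabiliser of a hyperplane.
-/

set_option autoImplicit false
set_option linter.unusedSectionVars false
set_option linter.style.haveILetI false

open Cfsg Matrix
open scoped ComplexConjugate

namespace Cfsg.Agent.H299.QA

open Cfsg.Agent.Characters.Core Cfsg.Agent.H80.Fpf Cfsg.Agent.H152.QA

universe u v

/-! ### restriction to a normal subgroup, with a central character -/

theorem exists_irr_over {S : Type u} {Q : Type v} [Group S] [Group Q] [Finite S] [Finite Q] (f : S →* Q)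
    (hn : f.range.Normal) {χ : Q → ℂ} (hχ : IsIrrCharacter Q χ) {d : ℕ} (hd : χ 1 = d)
    {Z : Subgroup S} (hZ : Z ≤ Subgroup.center S) (hZQ : ∀ z : Z, f z ∈ Subgroup.center Q) (μ : Z → ℂ)
    (hμ₁ : ∀ z : Z, χ (f z) = χ 1 * μ z) :
    ∃ (φ : S → ℂ) (t : ℕ), IsIrrCharacter S φ ∧ t ∣ f.range.index ∧ charDegree φ * t = d ∧
      ∀ z : Z, φ z = φ 1 * μ z := by
  classical
  have : Fintype S := Fintype.ofFinite S
  have : Fintype Q := Fintype.ofFinite Q
  have : Fintype f.range := Fintype.ofFinite _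
  have hres : IsCharacter f.range (fun n : f.range => χ n) :=
    isCharacter_comp f.range.subtype (isIrr_isCharacter hχ)
  have h0 : (fun n : f.range => χ n) ≠ 0 := by
    intro h
    have := congrFun h 1
    exact isIrr_apply_one_ne_zero hχ this
  obtain ⟨θ, hθ, hne⟩ := Cfsg.Agent.H113.NormTwoChar.exists_constituent hres h0
  obtain ⟨e, he0, he⟩ := isIrr_apply_one hθ
  obtain ⟨h1, h2⟩ := Cfsg.Agent.S0887.result f.range χ hχ θ hθ hne d e hd he
  have hφ : IsIrrCharacter S (θ ∘ f.rangeRestrict) := isIrr_comp f.rangeRestrict f.rangeRestrict_surjective hθ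
  refine ⟨θ ∘ f.rangeRestrict, d / e, hφ, h2, ?_, ?_⟩
  · have h3 : charDegree (θ ∘ f.rangeRestrict) = e := by
      apply Blocks.Basic.charDegree_of_eq
      rw [Function.comp_apply, map_one, he]
    rw [h3, Nat.mul_div_cancel' h1]
  · intro z
    have hμ : ∀ x : S, χ (f z * f x) = μ z * χ (f x) := by
      obtain ⟨c, -, hcχ⟩ := Blocks.CentralizerSum.exists_central_scalar hχ (hZQ z)
      have h7 := hcχ 1
      rw [mul_one, hμ₁, mul_comm] at h7
      intro x
      rw [hcχ, mul_right_cancel₀ (isIrr_apply_one_ne_zero hχ) h7]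
    have hzc : f.rangeRestrict z ∈ Subgroup.center f.range := by
      rw [Subgroup.mem_center_iff]
      intro y
      obtain ⟨x, rfl⟩ := f.rangeRestrict_surjective y
      rw [← map_mul, ← map_mul, Subgroup.mem_center_iff.1 (hZ z.2)]
    obtain ⟨c, hc, hcθ⟩ := Blocks.CentralizerSum.exists_central_scalar hθ hzc
    have h4 : classInner (fun n : f.range => χ n) θ = (μ z * conj c) * classInner (fun n : f.range => χ n) θ := by
      rw [classInner_def, mul_left_comm]
      congr 1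
      rw [Finset.mul_sum, ← Fintype.sum_equiv (Equiv.mulLeft (f.rangeRestrict z)) (fun n : f.range =>
        (fun n : f.range => χ n) (f.rangeRestrict z * n) * conj (θ (f.rangeRestrict z * n)))
        (fun n : f.range => χ n * conj (θ n)) fun n => rfl]
      refine Finset.sum_congr rfl fun n _ => ?_
      obtain ⟨x, rfl⟩ := f.rangeRestrict_surjective n
      have h5 : χ (((f.rangeRestrict z * f.rangeRestrict x : f.range)) : Q) = μ z * χ (f x) := hμ x
      have h6 : χ ((f.rangeRestrict x : f.range) : Q) = χ (f x) := rfl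
      change χ ((f.rangeRestrict z * f.rangeRestrict x : f.range) : Q) * conj (θ (f.rangeRestrict z * f.rangeRestrict x)) =
        μ z * conj c * (χ ((f.rangeRestrict x : f.range) : Q) * conj (θ (f.rangeRestrict x)))
      rw [hcθ, map_mul, h5, h6]
      ring
    have h5 : μ z * conj c = 1 := by
      have h6 : (1 - μ z * conj c) * classInner (fun n : f.range => χ n) θ = 0 := by
        rw [sub_mul, one_mul, ← h4, sub_self]
      rcases mul_eq_zero.1 h6 with h7 | h7
      · exact (sub_eq_zero.1 h7).symm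
      · exact absurd h7 hne
    have h6 : c = μ z := by
      calc c = (μ z * conj c) * c := by rw [h5, one_mul]
        _ = μ z * (c * conj c) := by ring
        _ = μ z := by rw [hc, mul_one]
    have h7 := hcθ 1
    rw [mul_one] at h7
    change θ (f.rangeRestrict z) = θ (f.rangeRestrict 1) * μ z
    rw [h7, map_one, h6, mul_comm]

/-! ### the cuspidal characters with a given central character -/

section theta

open Cfsg.Agent.H139.Cusp

variable {F : Type u} {L : Type v} [Field F] [Finite F] [Field L] [Finite L] [Algebra F L]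

/-- every linear character of `F^*` extends to a regular one of `L^*` -/
theorem exists_theta_ext {n : ℕ} (hn : 2 ≤ n) (hL : Module.finrank F L = n) (ω : Fˣ →* ℂˣ) :
    ∃ θ : L →*₀ ℂ, Regular F n θ ∧ ∀ c : Fˣ, θ (algebraMap F L c) = ω c := by
  obtain ⟨θ, hθ⟩ := exists_theta L
  have hq : 2 ≤ Nat.card F := Finite.one_lt_card
  obtain ⟨g, hg⟩ := IsCyclic.exists_generator (α := Fˣ)
  have hog : orderOf g = Nat.card F - 1 := by
    rw [orderOf_eq_card_of_forall_mem_zpowers hg, Nat.card_units]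
  -- the primitive root
  let ζ : ℂ := θ (algebraMap F L g)
  have hζ : IsPrimitiveRoot ζ (Nat.card F - 1) := by
    have h1 : orderOf ζ = orderOf g := by
      let f : Fˣ →* ℂ := (θ : L →* ℂ).comp ((algebraMap F L : F →* L).comp (Units.coeHom F))
      have hf : Function.Injective f := by
        intro x y hxy
        exact Units.ext ((algebraMap F L).injective (hθ hxy))
      exact orderOf_injective f hf g
    rw [← hog, ← h1]
    exact IsPrimitiveRoot.orderOf ζ
  have h2 : ((ω g : ℂˣ) : ℂ) ^ (Nat.card F - 1) = 1 := by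
    rw [← Units.val_pow_eq_pow_val, ← map_pow, ← hog, pow_orderOf_eq_one, map_one, Units.val_one]
  have hnz : NeZero (Nat.card F - 1) := ⟨by omega⟩
  obtain ⟨i, hi, hi'⟩ := hζ.eq_pow_of_pow_eq_one h2
  -- the exponent in `[1, q - 1]`
  obtain ⟨a, ha0, ha1, ha⟩ : ∃ a : ℕ, a ≠ 0 ∧ a ≤ Nat.card F - 1 ∧ ζ ^ a = ω g := by
    rcases Nat.eq_zero_or_pos i with h0 | h0
    · refine ⟨Nat.card F - 1, by omega, le_rfl, ?_⟩
      rw [hζ.pow_eq_one, ← hi', h0, pow_zero]
    · exact ⟨i, h0.ne', hi.le, hi'⟩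
  refine ⟨powTheta θ a ha0, ?_, ?_⟩
  · rw [regular_powTheta_iff hθ ha0 hL]
    intro j hj hjn hdvd
    have h3 : 0 < Nat.card F ^ j - 1 := Nat.sub_pos_of_lt (Nat.one_lt_pow (by omega) hq)
    have h4 := Nat.le_of_dvd (Nat.mul_pos (Nat.pos_of_ne_zero ha0) h3) hdvd
    have h5 : a * (Nat.card F ^ j - 1) ≤ (Nat.card F - 1) * (Nat.card F ^ (n - 1) - 1) :=
      Nat.mul_le_mul ha1 (Nat.sub_le_sub_right (Nat.pow_le_pow_right (by omega) (by omega)) 1)
    have h6 : Nat.card F ^ n = Nat.card F * Nat.card F ^ (n - 1) := by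
      rw [← pow_succ']
      congr 1
      omega
    have h7 : 2 ≤ Nat.card F ^ (n - 1) := hq.trans (Nat.le_self_pow (by omega) _)
    obtain ⟨x, hx⟩ := Nat.exists_eq_add_of_le hq
    obtain ⟨y, hy⟩ := Nat.exists_eq_add_of_le h7
    rw [hx] at h4 h5 h6 hy
    rw [h6, hy] at h4
    rw [hy] at h5
    have e1 : 2 + x - 1 = x + 1 := by omega
    have e2 : 2 + y - 1 = y + 1 := by omega
    have e3 : (2 + x) * (2 + y) - 1 = x * y + 2 * x + 2 * y + 3 := by
      have : (2 + x) * (2 + y) = x * y + 2 * x + 2 * y + 4 := by ring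
      (clear * - this; omega)
    rw [e1, e2] at h5
    rw [e3] at h4
    have e4 : (x + 1) * (y + 1) = x * y + x + y + 1 := by ring
    rw [e4] at h5
    (clear * - h5 h4; omega)
  · intro c
    obtain ⟨k, rfl⟩ := (mem_powers_iff_mem_zpowers.2 (hg c))
    have h8 : ((g ^ k : Fˣ) : F) = (g : F) ^ k := by push_cast; rfl
    change θ (algebraMap F L ((g ^ k : Fˣ) : F)) ^ a = ((ω (g ^ k) : ℂˣ) : ℂ)
    rw [h8, map_pow, map_pow, ← pow_mul, mul_comm k a, pow_mul, map_pow, Units.val_pow_eq_pow_val]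
    congr 1

end theta

/-! ### central characters -/

/-- extension along an injective homomorphism -/
theorem exists_extend_inj {A : Type u} {B : Type v} [Group A] [CommGroup B] [Finite B] (e : A →* B)
    (he : Function.Injective e) (lam : A →* ℂˣ) : ∃ ω : B →* ℂˣ, ∀ a, ω (e a) = lam a := by
  obtain ⟨ω, hω⟩ := MonoidHom.domRestrict_surjective (M := ℂ) e.range (lam.comp (MonoidHom.ofInjective he).symm.toMonoidHom)
  refine ⟨ω, fun a => ?_⟩
  have h1 := DFunLike.congr_fun hω (MonoidHom.ofInjective he a)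
  have h2 : (MonoidHom.ofInjective he).symm (MonoidHom.ofInjective he a) = a := MulEquiv.symm_apply_apply _ _
  change ω (e a) = lam ((MonoidHom.ofInjective he).symm (MonoidHom.ofInjective he a)) at h1
  rw [h1, h2]

section sl

variable {F : Type u} [Field F] {n : ℕ}

theorem scalar_injective (hn : 1 ≤ n) : Function.Injective (GeneralLinearGroup.scalar (Fin n) (R := F)) := by
  intro c d h
  have h1 := congrArg (fun A : GL (Fin n) F => (A : Matrix (Fin n) (Fin n) F) ⟨0, by omega⟩ ⟨0, by omega⟩) h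
  simp only [GeneralLinearGroup.coe_scalar, Matrix.scalar_apply, Matrix.diagonal_apply_eq] at h1
  exact Units.ext h1

/-- the scalar of a central element of `SL_n` -/
theorem exists_scal (hn : 1 ≤ n) : ∃ ι : Subgroup.center (_root_.Matrix.SpecialLinearGroup (Fin n) F) →* Fˣ, Function.Injective ι ∧
    ∀ z : Subgroup.center (_root_.Matrix.SpecialLinearGroup (Fin n) F),
      SpecialLinearGroup.toGL (z : _root_.Matrix.SpecialLinearGroup (Fin n) F) = GeneralLinearGroup.scalar (Fin n) (ι z) := by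
  let s : Fˣ →* GL (Fin n) F := GeneralLinearGroup.scalar (Fin n)
  have hs : Function.Injective s := scalar_injective hn
  have hmem : ∀ z : Subgroup.center (_root_.Matrix.SpecialLinearGroup (Fin n) F),
      SpecialLinearGroup.toGL (z : _root_.Matrix.SpecialLinearGroup (Fin n) F) ∈ s.range := by
    intro z
    have h1 := (SpecialLinearGroup.toGL_mem_center_iff (z : _root_.Matrix.SpecialLinearGroup (Fin n) F)).2 z.2
    rwa [GeneralLinearGroup.center_eq_range_scalar] at h1
  let f : Subgroup.center (_root_.Matrix.SpecialLinearGroup (Fin n) F) →* s.range :=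
    (SpecialLinearGroup.toGL.comp (Subgroup.center (_root_.Matrix.SpecialLinearGroup (Fin n) F)).subtype).codRestrict s.range hmem
  let ι := (MonoidHom.ofInjective hs).symm.toMonoidHom.comp f
  have hι : ∀ z, s (ι z) = SpecialLinearGroup.toGL (z : _root_.Matrix.SpecialLinearGroup (Fin n) F) := by
    intro z
    have h1 : MonoidHom.ofInjective hs (ι z) = f z := MulEquiv.apply_symm_apply _ _
    exact congrArg Subtype.val h1
  refine ⟨ι, fun x y hxy => ?_, fun z => (hι z).symm⟩
  apply Subtype.ext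
  apply SpecialLinearGroup.toGL_injective
  rw [← hι x, ← hι y, hxy]

theorem range_toGL : (SpecialLinearGroup.toGL (n := Fin n) (R := F)).range =
    (GeneralLinearGroup.det (n := Fin n) (R := F)).ker := by
  ext g
  constructor
  · rintro ⟨x, rfl⟩
    rw [MonoidHom.mem_ker]
    apply Units.ext
    rw [GeneralLinearGroup.val_det_apply]
    exact x.2
  · intro hg
    rw [MonoidHom.mem_ker] at hg
    refine ⟨⟨(g : Matrix _ _ F), by rw [← GeneralLinearGroup.val_det_apply, hg, Units.val_one]⟩, Units.ext rfl⟩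

/-- **From `GL_n(q)` to `SL_n(q)`.** -/
theorem exists_irr_sl [Fintype F] {χ : GL (Fin n) F → ℂ} (hχ : IsIrrCharacter _ χ) {ω : Fˣ →* ℂˣ}
    (hz : ∀ c : Fˣ, χ (GeneralLinearGroup.scalar (Fin n) c) = χ 1 * ω c) {d : ℕ} (hd : χ 1 = d)
    {ι : Subgroup.center (_root_.Matrix.SpecialLinearGroup (Fin n) F) →* Fˣ}
    (hι : ∀ z : Subgroup.center (_root_.Matrix.SpecialLinearGroup (Fin n) F),
      SpecialLinearGroup.toGL (z : _root_.Matrix.SpecialLinearGroup (Fin n) F) = GeneralLinearGroup.scalar (Fin n) (ι z)) :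
    ∃ (φ : _root_.Matrix.SpecialLinearGroup (Fin n) F → ℂ) (t : ℕ), IsIrrCharacter _ φ ∧ t ∣ Fintype.card F - 1 ∧
      charDegree φ * t = d ∧ ∀ z : Subgroup.center (_root_.Matrix.SpecialLinearGroup (Fin n) F), φ z = φ 1 * ω (ι z) := by
  classical
  have hnorm : (SpecialLinearGroup.toGL (n := Fin n) (R := F)).range.Normal := by
    rw [range_toGL]; infer_instance
  obtain ⟨φ, t, h1, h2, h3, h4⟩ := exists_irr_over (SpecialLinearGroup.toGL (n := Fin n) (R := F)) hnorm hχ hd le_rfl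
    (fun z => (SpecialLinearGroup.toGL_mem_center_iff _).2 z.2) (fun z => ((ω (ι z) : ℂˣ) : ℂ))
    (fun z => by rw [hι, hz])
  refine ⟨φ, t, h1, h2.trans ?_, h3, h4⟩
  rw [range_toGL, Subgroup.index_ker, ← Fintype.card_units, ← Nat.card_eq_fintype_card]
  exact Subgroup.card_subgroup_dvd_card _

end sl

/-! ### characters of `GL_n(q)` -/

section gl

open Cfsg.Agent.H53.HC Cfsg.Agent.Characters MulAction Module
open Cfsg.Agent.H113.PSL.Para Cfsg.Agent.H113.PSL.Hyper Cfsg.Agent.H113.PSL.Degrees Cfsg.Agent.H113.PSL.Three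

/-- the value at a scalar -/
theorem paraChar_scalar_mul {K : Type u} [Field K] {V : Type v} [AddCommGroup V] [Module K V] {a b : ℕ} {G : Type*}
    [Group G] [Fintype G] (ρ : G →* (V ≃ₗ[K] V)) [Fintype (dimSet K V a)] {Ψ : GL (Fin a) K → ℂ}
    (hΨ : IsClassFunction _ Ψ) {Φ : GL (Fin b) K → ℂ}
    (hΦ : IsClassFunction _ Φ) [FiniteDimensional K V] (hn : finrank K V = a + b) {z : G} {c : Kˣ}
    (hz : ∀ v, ρ z v = (c : K) • v) {w : ℂ}
    (hc : Ψ (GeneralLinearGroup.scalar (Fin a) c) * Φ (GeneralLinearGroup.scalar (Fin b) c) = Ψ 1 * Φ 1 * w) :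
    paraChar ρ Ψ Φ z = paraChar ρ Ψ Φ 1 * w := by
  classical
  rw [paraChar_one ρ hΨ hΦ hn]
  unfold paraChar
  have h1 : ∀ W : dimSet K V a, paraTerm ρ Ψ Φ z W.1 = Ψ 1 * Φ 1 * w := by
    intro W
    have h : W.1.map (ρ z : V →ₗ[K] V) = W.1 := map_eq_of_le ρ fun w hw => by
      rw [hz]; exact W.1.smul_mem _ hw
    have hW : finrank K W.1 = a := W.2
    have hW' : finrank K (V ⧸ W.1) = b := by
      have := Submodule.finrank_quotient_add_finrank W.1
      omega
    rw [paraTerm_of ρ Ψ Φ h, cl_eq hΨ (finBasisOfFinrankEq K W.1 hW), cl_eq hΦ (finBasisOfFinrankEq K _ hW'), ← hc,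
      glE_smul _ c _ (fun w => Subtype.ext (hz w)), glE_smul _ c _ (fun w => by
        obtain ⟨w, rfl⟩ := Submodule.Quotient.mk_surjective _ w
        rw [quo_mk, hz]
        rfl)]
  rw [Finset.sum_congr rfl fun W _ => h1 W, Finset.sum_const, Finset.card_univ, ← Nat.card_eq_fintype_card,
    nsmul_eq_mul]
  ring

variable {F : Type u} [Field F] [Fintype F]

/-- cuspidal characters with a given central character -/
theorem exists_cusp_gl {n : ℕ} (hn : 2 ≤ n) (ω : Fˣ →* ℂˣ) : ∃ Ψ : GL (Fin n) F → ℂ, IsIrrCharacter _ Ψ ∧ _root_.Cfsg.Agent.H53.HC.IsCusp Ψ ∧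
    Ψ 1 = ((∏ i ∈ Finset.range (n - 1), (Fintype.card F ^ (i + 1) - 1) : ℕ) : ℂ) ∧
    ∀ c : Fˣ, Ψ (GeneralLinearGroup.scalar (Fin n) c) = Ψ 1 * ω c := by
  classical
  obtain ⟨p, hp⟩ := CharP.exists F
  have hpp : Fact p.Prime := ⟨CharP.char_is_prime F p⟩
  have hnz : NeZero n := ⟨by omega⟩
  let L := FiniteField.Extension F p n
  have hL : Module.finrank F L = n := FiniteField.finrank_extension F p n
  obtain ⟨θ, hreg, h1⟩ := exists_theta_ext (F := F) (L := L) hn hL ω
  refine ⟨H139.Cusp.psi L θ, H139.Cusp.psi_isIrr θ hL hreg, H139.Cusp.psi_isCusp L θ, ?_, ?_⟩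
  · rw [H139.Cusp.psi_one L θ (by omega), H139.Cusp.degP, Nat.card_eq_fintype_card]
  · intro c
    have h3 := H139.Cusp.psi_scalar θ hL c 1
    rw [mul_one, h1 c, mul_comm] at h3
    exact h3

/-- the standard representation -/
noncomputable def stdρ (F : Type u) [Field F] (n : ℕ) : GL (Fin n) F →* ((Fin n → F) ≃ₗ[F] (Fin n → F)) :=
  (glE (Pi.basisFun F (Fin n))).symm.toMonoidHom

theorem stdρ_surjective (n : ℕ) : Function.Surjective (stdρ F n) := (glE (Pi.basisFun F (Fin n))).symm.surjective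

theorem stdρ_scalar (n : ℕ) (c : Fˣ) (v : Fin n → F) : stdρ F n (GeneralLinearGroup.scalar (Fin n) c) v = (c : F) • v := by
  have e1 : stdρ F n (GeneralLinearGroup.scalar (Fin n) c) = LinearEquiv.smulOfUnit c := by
    change (glE (Pi.basisFun F (Fin n))).symm _ = _
    rw [MulEquiv.symm_apply_eq]
    exact (glE_smul _ c _ (fun w => rfl)).symm
  rw [e1]
  rfl

theorem linDet_one (γ : Fˣ →* ℂˣ) (n : ℕ) : linDet γ n 1 = 1 := by simp only [linDet, _root_.map_one, _root_.Units.val_one]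

theorem linDet_scalar (γ : Fˣ →* ℂˣ) (c : Fˣ) : linDet γ 1 (GeneralLinearGroup.scalar (Fin 1) c) = γ c := by
  unfold linDet
  congr 2
  apply Units.ext
  rw [GeneralLinearGroup.val_det_apply, GeneralLinearGroup.coe_scalar]
  simp

/-- the character induced from the stabiliser of a hyperplane, from a cuspidal character -/
theorem exists_hyper_gl {m : ℕ} (hm : 2 ≤ m) (ω : Fˣ →* ℂˣ) : ∃ (χ : GL (Fin (m + 1)) F → ℂ) (d : ℕ),
    IsIrrCharacter _ χ ∧ χ 1 = d ∧ d * (Fintype.card F - 1) =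
      (Fintype.card F ^ (m + 1) - 1) * ∏ i ∈ Finset.range (m - 1), (Fintype.card F ^ (i + 1) - 1) ∧
    ∀ c : Fˣ, χ (GeneralLinearGroup.scalar (Fin (m + 1)) c) = χ 1 * ω c := by
  classical
  obtain ⟨Ψ, h1, h2, h3, h4⟩ := exists_cusp_gl (F := F) hm (1 : Fˣ →* ℂˣ)
  have hΦ := isIrr_linDet (F := F) (n := 1) ω
  have hfr : finrank F (Fin (m + 1) → F) = m + 1 := by rw [finrank_fin_fun]
  letI : Fintype (dimSet F (Fin (m + 1) → F) m) := Fintype.ofFinite _
  letI : Fintype (GL (Fin (m + 1)) F) := Fintype.ofFinite _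
  have hirr := isIrr_paraChar (stdρ F (m + 1)) (stdρ_surjective _) (by omega : 1 < m) hfr h1 h2 hΦ
  have c1 := Core.isIrr_isClassFunction h1
  have c2 := Core.isIrr_isClassFunction hΦ
  refine ⟨_, Nat.card {W : Submodule F (Fin (m + 1) → F) // finrank F W = m} *
    ∏ i ∈ Finset.range (m - 1), (Fintype.card F ^ (i + 1) - 1), hirr, ?_, ?_, fun c => ?_⟩
  · rw [paraChar_one _ c1 c2 hfr, h3, linDet_one]
    push_cast
    rw [mul_one]
    rfl
  · rw [mul_right_comm, card_hyper (by rw [finrank_fin_fun])]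
  · refine paraChar_scalar_mul _ c1 c2 hfr (c := c) (stdρ_scalar _ c) ?_
    rw [h4, linDet_scalar, linDet_one]
    simp

variable [DecidableEq F]

/-- a character of degree divisible by `q` -/
theorem exists_q_gl {n : ℕ} (hn : 3 ≤ n) (ω : Fˣ →* ℂˣ) (hω : ω ≠ 1) : ∃ (χ : GL (Fin n) F → ℂ) (d : ℕ),
    IsIrrCharacter _ χ ∧ χ 1 = d ∧ Fintype.card F ∣ d ∧
    ∀ c : Fˣ, χ (GeneralLinearGroup.scalar (Fin n) c) = χ 1 * ω c := by
  have hst := isIrr_st (F := F) (1 : MulChar F ℂ)
  have cst := Core.isIrr_isClassFunction hst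
  have hsc : ∀ c : Fˣ, st (1 : MulChar F ℂ) (GeneralLinearGroup.scalar (Fin 2) c) = st (1 : MulChar F ℂ) 1 := by
    intro c
    rw [st_scalar, st_one, MulChar.one_apply_coe, one_mul, mul_one]
  rcases Nat.eq_or_lt_of_le hn with rfl | hn4
  · -- `n = 3`
    have hγ := isIrr_linDet (F := F) (n := 1) ω
    have hγc := Core.isIrr_isClassFunction hγ
    have hfr : finrank F (Fin 3 → F) = 2 + 1 := by rw [finrank_fin_fun]
    letI : Fintype (dimSet F (Fin 3 → F) 2) := Fintype.ofFinite _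
    letI : Fintype (GL (Fin 3) F) := Fintype.ofFinite _
    have hsum : ∑ c : Fˣ, ((ω c : ℂˣ) : ℂ) = 0 := by
      have h1 : (Units.coeHom ℂ).comp ω ≠ 1 := by
        intro h
        apply hω
        ext c
        exact DFunLike.congr_fun h c
      exact sum_hom_units_eq_zero _ h1
    have hno : NoFix (st (1 : MulChar F ℂ)) ω := by
      refine noFix_of cst _ ?_
      rw [Finset.sum_congr rfl (g := fun c : Fˣ => (Fintype.card F : ℂ) * conj ((ω c : ℂˣ) : ℂ))]
      · rw [← Finset.mul_sum, ← map_sum, hsum, map_zero, mul_zero]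
      · intro c _
        rw [← Finset.sum_mul, sum_st, MulChar.one_apply_coe, mul_one]
    have hirr := isIrr_paraChar_hyper (stdρ F 3) (stdρ_surjective 3) hfr hst ω hγ hno
    refine ⟨_, Nat.card (dimSet F (Fin 3 → F) 2) * Fintype.card F, hirr, ?_, dvd_mul_left _ _, fun c => ?_⟩
    · rw [paraChar_one _ cst hγc hfr, st_one, linDet_one]
      push_cast
      ring
    · refine paraChar_scalar_mul _ cst hγc hfr (c := c) (stdρ_scalar _ c) ?_
      rw [hsc, linDet_scalar, linDet_one, mul_one]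
  · -- `n ≥ 4`
    obtain ⟨a, rfl⟩ : ∃ a, n = a + 2 := ⟨n - 2, by omega⟩
    obtain ⟨Ψ, h1, h2, h3, h4⟩ := exists_cusp_gl (F := F) (n := a) (by omega) ω
    have hfr : finrank F (Fin (a + 2) → F) = a + 2 := by rw [finrank_fin_fun]
    letI : Fintype (dimSet F (Fin (a + 2) → F) a) := Fintype.ofFinite _
    letI : Fintype (GL (Fin (a + 2)) F) := Fintype.ofFinite _
    have c1 := Core.isIrr_isClassFunction h1
    have hirr : IsIrrCharacter _ (paraChar (stdρ F (a + 2)) Ψ (st (1 : MulChar F ℂ))) := by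
      rcases Nat.eq_or_lt_of_le (show 2 ≤ a by omega) with rfl | ha
      · refine isIrr_paraChar_eq (stdρ F (2 + 2)) (stdρ_surjective _) hfr h1 h2 hst fun h => ?_
        have h5 : Ψ 1 = st (1 : MulChar F ℂ) 1 := by rw [h]
        rw [h3, st_one] at h5
        have h6 : ∏ i ∈ Finset.range (2 - 1), (Fintype.card F ^ (i + 1) - 1) = Fintype.card F := by exact_mod_cast h5
        simp only [_root_.Nat.add_one_sub_one, _root_.Finset.range_one, _root_.Finset.prod_singleton, _root_.zero_add, _root_.pow_one] at h6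
        have := Fintype.one_lt_card (α := F)
        omega
      · exact isIrr_paraChar (stdρ F (a + 2)) (stdρ_surjective _) ha hfr h1 h2 hst
    refine ⟨_, Nat.card (dimSet F (Fin (a + 2) → F) a) *
      ((∏ i ∈ Finset.range (a - 1), (Fintype.card F ^ (i + 1) - 1)) * Fintype.card F), hirr, ?_,
      (dvd_mul_left _ _).mul_left _, fun c => ?_⟩
    · rw [paraChar_one _ c1 cst hfr, h3, st_one]
      push_cast
      ring
    · refine paraChar_scalar_mul _ c1 cst hfr (c := c) (stdρ_scalar _ c) ?_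
      rw [hsc, h4]
      ring

end gl

/-! ### the row -/

section row

variable {F : Type} [Field F] [Fintype F] {n : ℕ}

/-- the primes dividing the order of `GL_n(q)` -/
theorem dvd_or {p : ℕ} (hp : p.Prime) (h : p ∣ Nat.card (GL (Fin n) F)) :
    p ∣ Fintype.card F ∨ ∃ i, 1 ≤ i ∧ i ≤ n ∧ p ∣ Fintype.card F ^ i - 1 := by
  rw [Matrix.card_GL_field] at h
  obtain ⟨i, -, hi⟩ := (Prime.dvd_finsetProd_iff hp.prime _).1 h
  have h1 : Fintype.card F ^ n - Fintype.card F ^ (i : ℕ) =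
      Fintype.card F ^ (i : ℕ) * (Fintype.card F ^ (n - i) - 1) := by
    rw [Nat.mul_sub, mul_one, ← pow_add]
    congr 2
    have := i.2
    omega
  rw [h1, hp.dvd_mul] at hi
  rcases hi with hi | hi
  · exact Or.inl (hp.dvd_of_dvd_pow hi)
  · exact Or.inr ⟨n - i, by have := i.2; omega, by omega, hi⟩

/-- the characters -/
theorem exists_chi (hn : 3 ≤ n) {p : ℕ} (hp : p.Prime) (h : p ∣ Nat.card (GL (Fin n) F)) (ω : Fˣ →* ℂˣ) (hω : ω ≠ 1)
    {ι : Subgroup.center (_root_.Matrix.SpecialLinearGroup (Fin n) F) →* Fˣ}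
    (hι : ∀ z : Subgroup.center (_root_.Matrix.SpecialLinearGroup (Fin n) F),
      SpecialLinearGroup.toGL (z : _root_.Matrix.SpecialLinearGroup (Fin n) F) = GeneralLinearGroup.scalar (Fin n) (ι z)) :
    ∃ φ : _root_.Matrix.SpecialLinearGroup (Fin n) F → ℂ, IsIrrCharacter _ φ ∧
      (∀ z : Subgroup.center (_root_.Matrix.SpecialLinearGroup (Fin n) F), φ z = φ 1 * ω (ι z)) ∧ p ∣ charDegree φ := by
  classical
  have hq := Fintype.one_lt_card (α := F)
  have hsub : ∀ i, Fintype.card F - 1 ∣ Fintype.card F ^ i - 1 := fun i => by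
    simpa only [_root_.one_pow] using Nat.sub_dvd_pow_sub_pow (Fintype.card F) 1 i
  by_cases hpq : p ∣ Fintype.card F
  · obtain ⟨χ, d, h1, h2, h3, h4⟩ := exists_q_gl (F := F) hn ω hω
    obtain ⟨φ, t, h5, h6, h7, h8⟩ := exists_irr_sl h1 h4 h2 hι
    refine ⟨φ, h5, h8, ?_⟩
    have h9 : ¬ p ∣ t := by
      intro h9
      have h10 := (Nat.dvd_sub hpq (h9.trans h6))
      rw [Nat.sub_sub_self hq.le] at h10
      exact hp.one_lt.ne' (Nat.dvd_one.1 h10)
    exact (hp.dvd_mul.1 (h7 ▸ hpq.trans h3)).resolve_right h9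
  obtain ⟨j, hj1, hjn, hj⟩ := (dvd_or hp h).resolve_left hpq
  by_cases hex : ∃ i, 1 ≤ i ∧ i < n ∧ p ∣ Fintype.card F ^ i - 1
  · obtain ⟨i, hi1, hin, hi⟩ := hex
    obtain ⟨χ, h1, -, h2, h4⟩ := exists_cusp_gl (F := F) (n := n) (by omega) ω
    obtain ⟨φ, t, h5, h6, h7, h8⟩ := exists_irr_sl h1 h4 h2 hι
    refine ⟨φ, h5, h8, ?_⟩
    by_cases hp1 : p ∣ Fintype.card F - 1
    · -- `(q - 1)^2` divides the degree
      have h9 : (Fintype.card F - 1) * (Fintype.card F - 1) ∣
          ∏ i ∈ Finset.range (n - 1), (Fintype.card F ^ (i + 1) - 1) := by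
        have e : n - 1 = (n - 3) + 1 + 1 := by omega
        rw [e, Finset.prod_range_succ, Finset.prod_range_succ, mul_assoc]
        exact (mul_dvd_mul (hsub _) (hsub _)).mul_left _
      obtain ⟨c, hc⟩ := h9
      obtain ⟨r, hr⟩ := h6
      have ht : 0 < t := Nat.pos_of_ne_zero (by rintro rfl; omega)
      rw [hc] at h7
      have h10 : charDegree φ = r * ((Fintype.card F - 1) * c) := by
        apply Nat.eq_of_mul_eq_mul_right ht
        rw [h7]
        nth_rewrite 1 [hr]
        ring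
      rw [h10]
      exact (hp1.mul_right _).mul_left _
    · have h9 : ¬ p ∣ t := fun h9 => hp1 (h9.trans h6)
      have h10 : p ∣ charDegree φ * t := by
        rw [h7]
        refine hi.trans ?_
        have := Finset.dvd_prod_of_mem (fun i => Fintype.card F ^ (i + 1) - 1) (Finset.mem_range.2 (show i - 1 < n - 1 by omega))
        simpa only [Nat.sub_add_cancel hi1] using this
      exact (hp.dvd_mul.1 h10).resolve_right h9
  · have hp1 : ¬ p ∣ Fintype.card F - 1 := fun h1 => hex ⟨1, le_rfl, by omega, by rwa [pow_one]⟩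
    have hjn' : j = n := by
      by_contra hne
      exact hex ⟨j, hj1, by omega, hj⟩
    subst hjn'
    obtain ⟨m, rfl⟩ : ∃ m, j = m + 1 := ⟨j - 1, by omega⟩
    obtain ⟨χ, d, h1, h2, h3, h4⟩ := exists_hyper_gl (F := F) (m := m) (by omega) ω
    obtain ⟨φ, t, h5, h6, h7, h8⟩ := exists_irr_sl h1 h4 h2 hι
    refine ⟨φ, h5, h8, ?_⟩
    have h9 : ¬ p ∣ t := fun h9 => hp1 (h9.trans h6)
    have h10 : p ∣ d := by
      have h11 : p ∣ d * (Fintype.card F - 1) := by
        rw [h3]
        exact hj.mul_right _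
      exact (hp.dvd_mul.1 h11).resolve_right hp1
    exact (hp.dvd_mul.1 (h7 ▸ h10)).resolve_right h9

/-- the projection -/
abbrev pr (F : Type) [Field F] (n : ℕ) : _root_.Matrix.SpecialLinearGroup (Fin n) F →* ProjectiveSpecialLinearGroup (Fin n) F :=
  QuotientGroup.mk' (Subgroup.center (_root_.Matrix.SpecialLinearGroup (Fin n) F))

theorem isCover_pr (hn : 3 ≤ n) : IsCover (pr F n) where
  surj := QuotientGroup.mk'_surjective _
  central := by rw [QuotientGroup.ker_mk']
  perf := Cfsg.Agent.LieClassical.SLGen.commutator_eq_top (by simpa only [_root_.Fintype.card_fin] using hn)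

/-- **The row `PSL_n(q)`, `n ≥ 3`.** -/
theorem row_psln (n : ℕ) (hn : 3 ≤ n) (h32 : ¬ (n = 3 ∧ Fintype.card F = 2))
    (h34 : ¬ (n = 3 ∧ Fintype.card F = 4)) (h42 : ¬ (n = 4 ∧ Fintype.card F = 2)) :
    NoSit (Matrix.ProjectiveSpecialLinearGroup (Fin n) F) := by
  classical
  have hsimple : IsSimpleGroup (Matrix.ProjectiveSpecialLinearGroup (Fin n) F) := S0249.result n hn
  have h0 : Nat.gcd n (Fintype.card F - 1) ≠ 0 := (Nat.gcd_pos_of_pos_left _ (by omega)).ne'
  have hm : MultDvd (Matrix.ProjectiveSpecialLinearGroup (Fin n) F) (Nat.gcd n (Fintype.card F - 1)) := by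
    refine multDvd_of_cyclic h0 (S2086.result rfl n (by omega) (fun h => by omega) fun h => ?_)
    simp only [Set.mem_insert_iff, Set.mem_singleton_iff, Prod.mk.injEq] at h
    omega
  have hker : (pr F n).ker = Subgroup.center (_root_.Matrix.SpecialLinearGroup (Fin n) F) := QuotientGroup.ker_mk' _
  obtain ⟨ι, hinj, hι⟩ := exists_scal (F := F) (n := n) (by omega)
  refine Cfsg.Agent.H759.QA.noSit_of_chars h0 hm (isCover_pr hn) ?_ ?_
  · rw [hker, S0280.card_center_SL (by omega)]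
  · intro p hp _ hpS lam hlam _
    let e : (pr F n).ker ≃* Subgroup.center (_root_.Matrix.SpecialLinearGroup (Fin n) F) := MulEquiv.subgroupCongr hker
    obtain ⟨ω, hω⟩ := exists_extend_inj (ι.comp e.toMonoidHom) (hinj.comp e.injective) lam
    have hω1 : ω ≠ 1 := by
      rintro rfl
      apply hlam
      ext z
      rw [← hω z]
      rfl
    have hpG : p ∣ Nat.card (GL (Fin n) F) := by
      refine hpS.trans ((Subgroup.card_quotient_dvd_card _).trans ?_)
      exact Subgroup.card_dvd_of_injective _ (SpecialLinearGroup.toGL_injective (n := Fin n) (R := F))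
    obtain ⟨φ, h1, h2, h3⟩ := exists_chi hn hp hpG ω hω1 hι
    refine ⟨φ, h1, fun z => ?_, h3⟩
    rw [← hω z]
    exact h2 (e z)

end row

end Cfsg.Agent.H299.QA
end

-- part: H546/QA/Dim
section
/-!
# S4979, layer (A): degree bounds when the multiplier is cyclic of prime power order (helper546)

In a situation over `S` the group `L / N` is a *proper* quotient of the universal cover. If the multiplier of `S` is cyclic of order
`r ^ (a + 1)` and `O` is a cover of `S` with kernel of order `r ^ a` then `L / N` is a quotient of `O`; hence a degree bound for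
`O` is enough: `dimOK_of_quot`.
-/

set_option autoImplicit false
set_option linter.style.haveILetI false
set_option linter.unusedSectionVars false

open Cfsg

namespace Cfsg.Agent.H546.QA

open Cfsg.Agent.H80.Fpf Cfsg.Agent.H152.QA Cfsg.Agent.H306.QA
open scoped commutatorElement

/-- a stem extension of a perfect group is a cover -/
theorem cover_of_stem {Γ S : Type} [Group Γ] [Group S] {σ : Γ →* S} (hS : commutator S = ⊤)
    (h : Cfsg.IsStemExtension σ) : IsCover σ := by
  refine ⟨h.1, h.2.1, ?_⟩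
  rw [eq_top_iff]
  intro x _
  have h1 : σ x ∈ (commutator Γ).map σ := by
    rw [map_commutator_of_surj h.1, hS]
    trivial
  obtain ⟨y, hy, hyx⟩ := h1
  have h2 : x * y⁻¹ ∈ σ.ker := by
    rw [MonoidHom.mem_ker, map_mul, map_inv, hyx, mul_inv_cancel]
  have h3 := mul_mem (h.2.2 h2) hy
  rwa [inv_mul_cancel_right] at h3

/-- in a finite cyclic group of prime power order the subgroup of prime order is contained in all subgroups `≠ 1` -/
theorem le_of_cyclic {Γ : Type*} [Group Γ] [Finite Γ] {K K0 Z : Subgroup Γ} (hZ : IsCyclic Z) (hK0 : K0 ≤ Z)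
    (hK : K ≤ Z) {r a : ℕ} (hr : r.Prime) (hcard : Nat.card Z = r ^ a) (h0 : Nat.card K0 = r) (hne : K ≠ ⊥) :
    K0 ≤ K := by
  classical
  haveI := Fintype.ofFinite Z
  haveI : Fact r.Prime := ⟨hr⟩
  have hrK : r ∣ Nat.card K := by
    have h1 : Nat.card K ∣ r ^ a := by rw [← hcard]; exact Subgroup.card_dvd_of_le hK
    obtain ⟨b, -, hb⟩ := (Nat.dvd_prime_pow hr).1 h1
    rcases Nat.eq_zero_or_pos b with h2 | h2
    · exfalso
      rw [h2, pow_zero] at hb
      exact hne (Subgroup.card_eq_one.1 hb)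
    · rw [hb]
      exact dvd_pow_self r (by omega)
  obtain ⟨x, hx⟩ := exists_prime_orderOf_dvd_card' r hrK
  have hxo : orderOf (x : Γ) = r := by rw [Subgroup.orderOf_coe]; exact hx
  have h1 : Finset.univ.filter (fun z : Z => (z : Γ) ∈ K0) ⊆ Finset.univ.filter (fun z : Z => z ^ r = 1) := by
    intro z hz
    rw [Finset.mem_filter] at hz ⊢
    refine ⟨hz.1, ?_⟩
    have h2 : (⟨(z : Γ), hz.2⟩ : K0) ^ r = 1 := by
      rw [← h0]
      exact pow_card_eq_one'
    apply Subtype.ext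
    exact (congrArg Subtype.val h2 : (z : Γ) ^ r = 1)
  have h2 : (Finset.univ.filter (fun z : Z => z ^ r = 1)).card ≤ r := IsCyclic.card_pow_eq_one_le hr.pos
  have h3 : (Finset.univ.filter (fun z : Z => (z : Γ) ∈ K0)).card = r := by
    rw [← h0, ← Nat.card_congr (Subgroup.subgroupOfEquivOfLe hK0).toEquiv, Nat.card_eq_fintype_card,
      Fintype.card_subtype]
    rfl
  have h4 := Finset.eq_of_subset_of_card_le h1 (by rw [h3]; exact h2)
  have h5 : (x : Γ) ∈ K0 := by
    have h6 : (⟨(x : Γ), hK x.2⟩ : Z) ∈ Finset.univ.filter (fun z : Z => z ^ r = 1) := by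
      rw [Finset.mem_filter]
      refine ⟨Finset.mem_univ _, ?_⟩
      apply Subtype.ext
      rw [Subgroup.coe_pow, Subgroup.coe_one]
      change (x : Γ) ^ r = 1
      rw [← hxo]
      exact pow_orderOf_eq_one _
    rw [← h4, Finset.mem_filter] at h6
    exact h6.2
  have h6 : Subgroup.zpowers (x : Γ) = K0 := by
    apply Subgroup.eq_of_le_of_card_ge
    · rw [Subgroup.zpowers_le]; exact h5
    · rw [h0, Nat.card_zpowers, hxo]
  rw [← h6, Subgroup.zpowers_le]
  exact x.2

/-- a `Sit` over `S`: the group `L / N` is a quotient of the cover `O` of `S` if the multiplier is cyclic of order `r ^ (a + 1)`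
and the kernel of `O → S` has order `r ^ a`. -/
theorem Sit.exists_quot {p q : ℕ} {L V S : Type} [Group L] [Finite L] [AddCommGroup V] [Finite V] [DistribMulAction L V]
    [Group S] [Finite S] [IsSimpleGroup S] {π : L →* S} {N : Subgroup L} {φ : N →* ℂˣ}
    (h : Sit (V := V) p q N φ) (hπ : IsCover π)
    {O : Type} [Group O] [Finite O] {υ : O →* S} (hυ : IsCover υ) {r a : ℕ} (hr : r.Prime)
    (hm : Cfsg.HasCyclicSchurMultiplier S (r ^ (a + 1))) (hcard : Nat.card υ.ker = r ^ a) :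
    ∃ (G : Type) (_ : Group G) (_ : Finite G) (_ : DistribMulAction G V) (ψ : G →* S) (θ : O →* G),
      IsCover ψ ∧ PSit p q G V ∧ Function.Surjective θ ∧ ∀ x, ψ (θ x) = υ x := by
  obtain ⟨G, _, _, _, f, ψ, hf, hfk, -, hψ, hc, hP⟩ := h.exists_pSit hπ
  have hS : commutator S = ⊤ := by
    rw [← map_commutator_of_surj hυ.surj, hυ.perf, ← MonoidHom.range_eq_map]
    exact MonoidHom.range_eq_top.2 hυ.surj
  have hm0 : r ^ (a + 1) ≠ 0 := pow_ne_zero _ hr.ne_zero
  have hmd := multDvd_of_cyclic hm0 hm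
  haveI : NeZero (r ^ (a + 1)) := ⟨hm0⟩
  obtain ⟨⟨Γ, _, _, σ, hσ, ⟨e⟩⟩, -⟩ := hm
  have hσc : IsCover σ := cover_of_stem hS hσ
  have hcardσ : Nat.card σ.ker = r ^ (a + 1) := by
    rw [Nat.card_congr e.toEquiv, Nat.card_congr Multiplicative.toAdd, Nat.card_zmod]
  have hcyc : IsCyclic σ.ker := isCyclic_of_surjective e.symm.toMonoidHom e.symm.surjective
  obtain ⟨θL, hθL, hθLc⟩ := exists_of_universal hm0 hmd hσc hcardσ hπ
  obtain ⟨θO, hθO, hθOc⟩ := exists_of_universal hm0 hmd hσc hcardσ hυ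
  have hcardG : ∀ {X : Type} [Group X] [Finite X] (θ : X →* S), Function.Surjective θ →
      Nat.card X = Nat.card θ.ker * Nat.card S := by
    intro X _ _ θ hθ
    rw [← Subgroup.card_mul_index θ.ker, Subgroup.index_ker, MonoidHom.range_eq_top.2 hθ, Subgroup.card_top]
  have h0 : Nat.card θO.ker = r := by
    have h1 : Nat.card Γ = Nat.card θO.ker * Nat.card O := by
      rw [← Subgroup.card_mul_index θO.ker, Subgroup.index_ker, MonoidHom.range_eq_top.2 hθO, Subgroup.card_top]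
    rw [hcardG σ hσc.surj, hcardG υ hυ.surj, hcard, hcardσ] at h1
    have h2 : 0 < r ^ a * Nat.card S := Nat.mul_pos (pow_pos hr.pos a) Nat.card_pos
    apply Nat.eq_of_mul_eq_mul_right h2
    rw [← h1]
    ring
  have hle : θO.ker ≤ (f.comp θL).ker := by
    refine le_of_cyclic hcyc ?_ ?_ hr hcardσ h0 ?_
    · intro x hx
      rw [MonoidHom.mem_ker] at hx ⊢
      rw [← hθOc, hx, map_one]
    · intro x hx
      rw [MonoidHom.mem_ker] at hx ⊢
      rw [← hθLc, ← hc]
      have h1 : f (θL x) = 1 := hx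
      rw [h1, map_one]
    · intro hbot
      apply h.Nne
      rw [eq_bot_iff]
      intro n hn
      obtain ⟨x, rfl⟩ := hθL n
      have h1 : x ∈ (f.comp θL).ker := by
        rw [MonoidHom.mem_ker]
        change f (θL x) = 1
        rw [← MonoidHom.mem_ker, hfk]
        exact hn
      rw [hbot, Subgroup.mem_bot] at h1
      rw [h1, map_one]
      exact Subgroup.mem_bot.2 rfl
  let θ : O →* G := θO.liftOfSurjective hθO ⟨f.comp θL, hle⟩
  have hθ : ∀ x, θ (θO x) = f (θL x) := fun x =>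
    MonoidHom.liftOfRightInverse_comp_apply _ _ (Function.rightInverse_surjInv hθO) ⟨f.comp θL, hle⟩ x
  refine ⟨G, inferInstance, inferInstance, inferInstance, ψ, θ, hψ, hP, ?_, ?_⟩
  · intro g
    obtain ⟨l, rfl⟩ := hf g
    obtain ⟨x, rfl⟩ := hθL l
    exact ⟨θO x, hθ x⟩
  · intro y
    obtain ⟨x, rfl⟩ := hθO y
    rw [hθ, hc, hθLc, hθOc]

/-- **Degree bound from a cover `O` of `S` of index `r` in the universal cover** (cyclic multiplier of order `r ^ (a + 1)`). -/
theorem dimOK_of_quot {S : Type} [Group S] [Finite S] [IsSimpleGroup S]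
    {O : Type} [Group O] [Finite O] {υ : O →* S} (hυ : IsCover υ) {r a : ℕ} (hr : r.Prime)
    (hm : Cfsg.HasCyclicSchurMultiplier S (r ^ (a + 1))) (hcard : Nat.card υ.ker = r ^ a) {B : ℕ}
    (hB : Cfsg.Agent.H122.MinDeg O B) : DimOK S B := by
  intro p q L V _ _ _ _ _ π N φ hπ h
  obtain ⟨G, _, _, _, ψ, θ, hψ, hP, hθ, -⟩ := Sit.exists_quot h hπ hυ hr hm hcard
  haveI : Fact q.Prime := ⟨hP.hq⟩
  have hne : ∃ (g : G) (v : V), g • v ≠ v := by
    by_contra hcon
    push Not at hcon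
    have h1 : Nat.card G = 1 := by
      haveI : Subsingleton G := ⟨fun x y => by rw [hP.faith x (hcon x), hP.faith y (hcon y)]⟩
      exact Nat.card_unique
    have h2 := hP.pG
    rw [h1] at h2
    exact hP.hp.one_lt.ne' (Nat.dvd_one.1 h2)
  obtain ⟨n, ρ, hn, g, hg⟩ := Cfsg.Agent.H724.QA.exists_rep_ne hP.exp hP.qG hne
  refine ⟨n, hn, ?_⟩
  obtain ⟨x, rfl⟩ := hθ g
  have h1 := hB (Fin n → ℂ) (ρ.comp θ) ⟨x, hg⟩
  rwa [Module.finrank_fin_fun] at h1

end Cfsg.Agent.H546.QA
end

-- part: H546/QA/OMinus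
section
/-!
# S4979, layer (A), row A-RO-: `PΩ⁻_{2m}(s)` (helper546)

`row_minus`. For `s` even the multiplier is trivial. For `s` odd the multiplier is cyclic of order `2` or `4` and `Ω⁻_{2m}(s)` is a
cover of index `2` in the universal one; the degree bound is S2346 and the CR criterion applies.
-/

set_option autoImplicit false
set_option linter.style.haveILetI false
set_option linter.unusedSectionVars false

open Cfsg Cfsg.Lie

namespace Cfsg.Agent.H546.QA

open Cfsg.Agent.H80.Fpf Cfsg.Agent.H152.QA Cfsg.Agent.H306.QA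
open Cfsg.Agent.LieClassical.OrthCore Cfsg.Agent.LieClassical.OrthTrans Cfsg.Agent.LieClassical.OrthFinite
  Cfsg.Agent.LieClassical.OrthForms Cfsg.Agent.LieClassical.OmegaReindex Cfsg.Agent.LieClassical.PomegaCard

/-! ### Numbers -/

theorem crude {B x p N n : ℕ} (hp : 3 ≤ p) (hN : N ≤ 2 ^ x) (h1 : (p + 1) ^ (n - 1) ≤ N) (hx : x * (x + 2) < 6 * B) :
    N ^ n < 11 ^ B := by
  have h2 : 2 ^ (2 * (n - 1)) ≤ 2 ^ x := by
    rw [pow_mul]
    calc (2 ^ 2) ^ (n - 1) ≤ (p + 1) ^ (n - 1) := Nat.pow_le_pow_left (by omega) _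
      _ ≤ N := h1
      _ ≤ 2 ^ x := hN
  have h3 : 2 * (n - 1) ≤ x := (Nat.pow_le_pow_iff_right (by norm_num)).1 h2
  have h4 : x * n < 3 * B := by
    have h5 : 2 * (x * n) ≤ x * (x + 2) := by
      have h6 : 2 * n ≤ x + 2 := by omega
      calc 2 * (x * n) = x * (2 * n) := by ring
        _ ≤ x * (x + 2) := Nat.mul_le_mul_left _ h6
    omega
  calc N ^ n ≤ (2 ^ x) ^ n := Nat.pow_le_pow_left hN n
    _ = 2 ^ (x * n) := by rw [pow_mul]
    _ < 2 ^ (3 * B) := Nat.pow_lt_pow_right (by norm_num) h4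
    _ = (2 ^ 3) ^ B := by rw [pow_mul]
    _ ≤ 11 ^ B := Nat.pow_le_pow_left (by norm_num) B

theorem num_step {s k e : ℕ} (hs : 2 ≤ s)
    (h : ((k + 4) * (2 * k + 7) * e) * ((k + 4) * (2 * k + 7) * e + 2) < 6 * s ^ (2 * k + 5)) :
    ((k + 5) * (2 * k + 9) * e) * ((k + 5) * (2 * k + 9) * e + 2) < 6 * s ^ (2 * k + 7) := by
  have h1 : (k + 5) * (2 * k + 9) * e ≤ 2 * ((k + 4) * (2 * k + 7) * e) := by
    have h2 : (k + 5) * (2 * k + 9) ≤ 2 * ((k + 4) * (2 * k + 7)) := by nlinarith only []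
    calc (k + 5) * (2 * k + 9) * e ≤ (2 * ((k + 4) * (2 * k + 7))) * e := Nat.mul_le_mul_right _ h2
      _ = _ := by ring
  generalize (k + 5) * (2 * k + 9) * e = y at *
  generalize (k + 4) * (2 * k + 7) * e = x at *
  have h3 : s ^ (2 * k + 7) = s ^ 2 * s ^ (2 * k + 5) := by
    rw [← pow_add]
    congr 1
    omega
  have h4 : 4 ≤ s ^ 2 := by nlinarith only [hs]
  calc y * (y + 2) ≤ (2 * x) * (2 * x + 2) := Nat.mul_le_mul h1 (by omega)
    _ ≤ 4 * (x * (x + 2)) := by linarith only []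
    _ < 4 * (6 * s ^ (2 * k + 5)) := Nat.mul_lt_mul_of_pos_left h (by norm_num)
    _ ≤ s ^ 2 * (6 * s ^ (2 * k + 5)) := Nat.mul_le_mul_right _ h4
    _ = 6 * s ^ (2 * k + 7) := by rw [h3]; ring

theorem num_three (k : ℕ) :
    ((k + 5) * (2 * k + 9) * 2) * ((k + 5) * (2 * k + 9) * 2 + 2) < 6 * 3 ^ (2 * k + 7) := by
  induction k with
  | zero => norm_num
  | succ k ih => exact num_step (k := k + 1) (by norm_num) ih

theorem num_five {s : ℕ} (hs : 5 ≤ s) (k : ℕ) :
    ((k + 4) * (2 * k + 7) * (s - 2)) * ((k + 4) * (2 * k + 7) * (s - 2) + 2) < 6 * s ^ (2 * k + 5) := by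
  induction k with
  | zero =>
    obtain ⟨t, rfl⟩ : ∃ t, s = t + 2 := ⟨s - 2, by omega⟩
    rw [Nat.add_sub_cancel]
    have h3 : (t + 2) ^ (2 * 0 + 5) = (t + 2) ^ 3 * (t + 2) ^ 2 := by ring
    rw [h3]
    rcases Nat.eq_or_lt_of_le (show 3 ≤ t by omega) with h | h
    · rw [← h]; norm_num
    · have h4 : 6 ^ 3 ≤ (t + 2) ^ 3 := Nat.pow_le_pow_left (by omega) 3
      calc (0 + 4) * (2 * 0 + 7) * t * ((0 + 4) * (2 * 0 + 7) * t + 2) < 6 * (6 ^ 3 * (t + 2) ^ 2) := by linarith only [_root_.sq_nonneg (↑t + 2 : ℤ)]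
        _ ≤ 6 * ((t + 2) ^ 3 * (t + 2) ^ 2) := Nat.mul_le_mul_left _ (Nat.mul_le_mul_right _ h4)
  | succ k ih => exact num_step (by omega) ih

theorem le_two_pow {s : ℕ} (hs : 4 ≤ s) : s ≤ 2 ^ (s - 2) := by
  induction s, hs using Nat.le_induction with
  | base => norm_num
  | succ n hn ih =>
    have h1 : n + 1 - 2 = (n - 2) + 1 := by omega
    rw [h1, pow_succ]
    omega

theorem prod_le (s k : ℕ) : ∏ i ∈ Finset.range k, (s ^ (2 * (i + 1)) - 1) ≤ s ^ (k * (k + 1)) := by
  induction k with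
  | zero => simp
  | succ k ih =>
    rw [Finset.prod_range_succ]
    calc (∏ i ∈ Finset.range k, (s ^ (2 * (i + 1)) - 1)) * (s ^ (2 * (k + 1)) - 1)
        ≤ s ^ (k * (k + 1)) * s ^ (2 * (k + 1)) := Nat.mul_le_mul ih (Nat.sub_le _ _)
      _ = s ^ ((k + 1) * (k + 1 + 1)) := by rw [← pow_add]; congr 1; ring

theorem bound_le {s k : ℕ} (hs : 2 ≤ s) :
    s ^ (2 * k + 5) ≤ (s ^ (k + 4) + 1) * (s ^ (k + 4 - 1) - s) / (s ^ 2 - 1) := by
  have h4 : 1 < s ^ 2 := by nlinarith
  rw [Nat.le_div_iff_mul_le (by omega)]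
  have h0 : 1 ≤ s ^ k := Nat.one_le_pow _ _ (by omega)
  have h1 : s ^ (k + 4 - 1) = s * (s ^ 2 * s ^ k) := by
    have : k + 4 - 1 = k + 3 := by omega
    rw [this]; ring
  have h2 : s ^ (k + 4) = s ^ 4 * s ^ k := by ring
  have h3 : s ^ (2 * k + 5) = s * (s ^ 4 * (s ^ k * s ^ k)) := by ring
  rw [h1, h2, h3]
  generalize s ^ k = y at *
  have h5 : s ≤ s * (s ^ 2 * y) := Nat.le_mul_of_pos_right _ (Nat.mul_pos (by positivity) h0)
  zify [h5, h4.le]
  have h6 : (2 : ℤ) ≤ s := by exact_mod_cast hs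
  have h7 : (1 : ℤ) ≤ y := by exact_mod_cast h0
  generalize (s : ℤ) = s at *
  generalize (y : ℤ) = y at *
  have key : 0 ≤ s * ((s ^ 4 * y + 1) * (s ^ 2 * y - 1) - s ^ 4 * (y * y) * (s ^ 2 - 1)) := by
    apply mul_nonneg (by omega)
    have h8 : (s ^ 4 * y + 1) * (s ^ 2 * y - 1) - s ^ 4 * (y * y) * (s ^ 2 - 1) =
        s ^ 4 * y * (y - 1) + (s ^ 2 * y - 1) := by ring
    rw [h8]
    have h9 : 0 ≤ s ^ 4 * y * (y - 1) := mul_nonneg (by positivity) (by omega)
    have h10 : 1 ≤ s ^ 2 * y := by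
      have : 1 ≤ s ^ 2 := by nlinarith only [h6]
      nlinarith only [h7, this]
    omega
  linarith only [key]

/-! ### The row -/

variable {F : Type} [Field F] [Fintype F]

/-- `Ω(Q)` is perfect -/
theorem omega_perfect {ι : Type} [Fintype ι] [DecidableEq ι] {F : Type} [Field F] {Q : QuadraticForm F (ι → F)}
    (hG : _root_.Cfsg.Agent.LieClassical.OrthTrans.Good Q) : commutator ↥(Cfsg.Omega F ⇑Q) = ⊤ := by
  have h1 := hG.E_perfect
  rw [← hG.commutator_eq_E, ← map_Omega, ← Subgroup.map_commutator] at h1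
  have h2 : ⁅Cfsg.Omega F ⇑Q, Cfsg.Omega F ⇑Q⁆ = Cfsg.Omega F ⇑Q :=
    Subgroup.map_injective (isometryHom_injective Q) h1
  rw [commutator_def]
  apply Subgroup.map_injective (Subgroup.subtype_injective (Cfsg.Omega F ⇑Q))
  rw [Subgroup.map_commutator, ← MonoidHom.range_eq_map, Subgroup.range_subtype]
  exact h2

/-- `Ω(Q) → PΩ(Q)` is a cover -/
theorem cover_omega {ι : Type} [Fintype ι] [DecidableEq ι] {F : Type} [Field F] {Q : QuadraticForm F (ι → F)}
    (hG : _root_.Cfsg.Agent.LieClassical.OrthTrans.Good Q) : IsCover (QuotientGroup.mk' (Subgroup.center (Cfsg.Omega F ⇑Q))) :=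
  ⟨QuotientGroup.mk'_surjective _, by rw [QuotientGroup.ker_mk'], omega_perfect hG⟩

theorem good_quadMinus (k : ℕ) (hk : 2 ≤ k) (a b : F)
    (hab : ∀ z₁ z₂ : F, z₁ ^ 2 + a * z₁ * z₂ + b * z₂ ^ 2 = 0 → z₁ = 0 ∧ z₂ = 0) : _root_.Cfsg.Agent.LieClassical.OrthTrans.Good (minusForm k F a b) :=
  good_of_finite (nondeg_minusForm k F a b hab) (by
    rw [Module.finrank_fintype_fun_eq_card, Fintype.card_sum, Fintype.card_sum, Fintype.card_fin, Fintype.card_fin]
    omega)

/-- the order of the centre of `Ω⁻` for odd fields, with the multiplier -/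
theorem card_center (hodd : Odd (Fintype.card F)) (m : ℕ) (hm : 4 ≤ m) (a b : F)
    (hab : ∀ z₁ z₂ : F, z₁ ^ 2 + a * z₁ * z₂ + b * z₂ ^ 2 = 0 → z₁ = 0 ∧ z₂ = 0) :
    ∃ c : ℕ, Nat.gcd 4 (Fintype.card F ^ m + 1) = 2 ^ (c + 1) ∧
      Nat.card (Subgroup.center (Cfsg.Omega F (Cfsg.quadFormMinus (m - 1) F a b))) = 2 ^ c := by
  have hn : Fintype.card ((Fin (m - 1) ⊕ Fin (m - 1)) ⊕ Fin 2) = 2 * m := by
    simp only [Fintype.card_sum, Fintype.card_fin]; omega
  have hQ : (QuadraticMap.polarBilin (quadMinus (m - 1) F a b)).Nondegenerate :=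
    quadMinus_nondegenerate hab
  have hs := quadMinus_isotropic (m := m - 1) (F := F) (by omega) a b
  have h2 : (2 : F) ≠ 0 := odd_card_iff.1 hodd
  have h791 := Cfsg.Agent.S0791.result (F := F) rfl hodd m (by omega) a b hab
  rw [← coe_quadMinus] at h791 ⊢
  have hoddm : Fintype.card F ^ m % 2 = 1 := Nat.odd_iff.1 hodd.pow
  by_cases h1 : Fintype.card F ^ m % 4 = 3
  · refine ⟨1, by rw [gcd_four_of_dvd (by omega)]; rfl, ?_⟩
    rw [pow_one]
    exact Cfsg.Agent.LieClassical.OmegaCenter.card_center_omega_of_mem h2 _ hQ (by omega) hs (h791.2 h1)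
  · refine ⟨0, by rw [gcd_four_of_two (by omega)]; rfl, ?_⟩
    rw [pow_zero]
    exact Cfsg.Agent.LieClassical.OmegaCenter.card_center_omega_of_not_mem _ hQ (by omega) hs
      (fun h => h1 (h791.1 h))

/-- the degree bound of a situation over `PΩ⁻_{2m}(s)`, `s` odd -/
theorem dim_minus (hodd : Odd (Fintype.card F)) (k : ℕ) (a b : F)
    (hab : ∀ z₁ z₂ : F, z₁ ^ 2 + a * z₁ * z₂ + b * z₂ ^ 2 = 0 → z₁ = 0 ∧ z₂ = 0) :
    DimOK (Cfsg.POmega F (Cfsg.quadFormMinus (k + 4 - 1) F a b)) (Fintype.card F ^ (2 * k + 5)) := by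
  have hs := Cfsg.Agent.S0297.result (F := F) (k + 4) (by omega) a b hab
  have hG : _root_.Cfsg.Agent.LieClassical.OrthTrans.Good (minusForm (k + 3) F a b) := good_quadMinus (k + 3) (by omega) a b hab
  obtain ⟨c, hc, hcard⟩ := card_center hodd (k + 4) (by omega) a b hab
  have hmult := Cfsg.Agent.S2099.result (F := F) rfl (k + 4) (by omega) a b hab
  rw [hc] at hmult
  have hcov := cover_omega hG
  have hk : k + 4 - 1 = k + 3 := by omega
  have hmd : Cfsg.Agent.H122.MinDeg (Cfsg.Omega F (Cfsg.quadFormMinus (k + 4 - 1) F a b))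
      (Fintype.card F ^ (2 * k + 5)) := by
    obtain ⟨e⟩ := Cfsg.Agent.H122.OrthPlus.omega_equiv hG
    have h1 := (Cfsg.Agent.H122.OrthMinus.minDeg_minus a b hab k).congr e
    rw [← Cfsg.Agent.H122.OrthMinus.bound_minus Fintype.one_lt_card, coe_minusForm] at h1
    rw [hk]
    exact h1.mono (bound_le Fintype.one_lt_card)
  rw [coe_minusForm] at hcov
  refine dimOK_of_quot (r := 2) (a := c) (υ := QuotientGroup.mk' (Subgroup.center (Cfsg.Omega F
    (Cfsg.quadFormMinus (k + 4 - 1) F a b)))) ?_ Nat.prime_two hmult ?_ hmd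
  · rw [hk]
    exact hcov
  · rw [QuotientGroup.ker_mk']
    exact hcard

theorem card_le_minus (hodd : Odd (Fintype.card F)) (k : ℕ) (a b : F)
    (hab : ∀ z₁ z₂ : F, z₁ ^ 2 + a * z₁ * z₂ + b * z₂ ^ 2 = 0 → z₁ = 0 ∧ z₂ = 0) :
    Nat.card (Cfsg.POmega F (Cfsg.quadFormMinus (k + 4 - 1) F a b)) ≤ Fintype.card F ^ ((k + 4) * (2 * k + 7)) := by
  obtain ⟨c, hc, -⟩ := card_center hodd (k + 4) (by omega) a b hab
  have h := Cfsg.Agent.S0294.result (F := F) rfl (k + 4) (by omega) a b hab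
  rw [hc] at h
  have h2 : 2 ≤ 2 ^ (c + 1) := by
    rw [pow_succ]
    have := Nat.one_le_two_pow (n := c)
    omega
  have hs1 : 1 ≤ Fintype.card F := Fintype.card_pos
  have hk : k + 4 - 1 = k + 3 := by omega
  have h3 : 2 * Nat.card (Cfsg.POmega F (Cfsg.quadFormMinus (k + 4 - 1) F a b)) ≤
      2 * Fintype.card F ^ ((k + 4) * (2 * k + 7)) := by
    calc 2 * Nat.card (Cfsg.POmega F (Cfsg.quadFormMinus (k + 4 - 1) F a b))
        ≤ 2 ^ (c + 1) * Nat.card (Cfsg.POmega F (Cfsg.quadFormMinus (k + 4 - 1) F a b)) := Nat.mul_le_mul_right _ h2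
      _ = Fintype.card F ^ ((k + 4) * (k + 4 - 1)) * (Fintype.card F ^ (k + 4) + 1) *
          ∏ i ∈ Finset.range (k + 4 - 1), (Fintype.card F ^ (2 * (i + 1)) - 1) := h
      _ ≤ Fintype.card F ^ ((k + 4) * (k + 3)) * (2 * Fintype.card F ^ (k + 4)) *
          Fintype.card F ^ ((k + 3) * (k + 3 + 1)) := by
        rw [hk]
        refine Nat.mul_le_mul (Nat.mul_le_mul_left _ ?_) (prod_le _ _)
        have := Nat.one_le_pow (k + 4) _ hs1
        omega
      _ = 2 * Fintype.card F ^ ((k + 4) * (2 * k + 7)) := by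
        have h5 : Fintype.card F ^ ((k + 4) * (k + 3)) * (2 * Fintype.card F ^ (k + 4)) *
          Fintype.card F ^ ((k + 3) * (k + 3 + 1)) = 2 * (Fintype.card F ^ ((k + 4) * (k + 3)) * Fintype.card F ^ (k + 4) *
          Fintype.card F ^ ((k + 3) * (k + 3 + 1))) := by ring
        rw [h5, ← pow_add, ← pow_add]
        congr 2
        ring
  omega

/-- the primes not dividing `|PΩ⁻_{2m}(s)|`, `s` odd, are at least `11` -/
theorem eleven_le (hodd : Odd (Fintype.card F)) (k : ℕ) (a b : F)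
    (hab : ∀ z₁ z₂ : F, z₁ ^ 2 + a * z₁ * z₂ + b * z₂ ^ 2 = 0 → z₁ = 0 ∧ z₂ = 0) (q : ℕ) (hq : q.Prime)
    (h : ¬ q ∣ Nat.card (Cfsg.POmega F (Cfsg.quadFormMinus (k + 4 - 1) F a b))) : 11 ≤ q := by
  have hcard := Cfsg.Agent.S0294.result (F := F) rfl (k + 4) (by omega) a b hab
  have hfac : ∀ i, i < k + 4 - 1 → Fintype.card F ^ (2 * (i + 1)) - 1 ∣
      Nat.gcd 4 (Fintype.card F ^ (k + 4) + 1) * Nat.card (Cfsg.POmega F (Cfsg.quadFormMinus (k + 4 - 1) F a b)) := by
    intro i hi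
    rw [hcard]
    exact Dvd.dvd.mul_left (Finset.dvd_prod_of_mem (fun i => Fintype.card F ^ (2 * (i + 1)) - 1)
      (Finset.mem_range.2 hi)) _
  have hg4 : Nat.gcd 4 (Fintype.card F ^ (k + 4) + 1) ∣ 4 := Nat.gcd_dvd_left _ _
  -- odd small primes
  have hodd' : ∀ i, i < k + 4 - 1 → q = 2 * (i + 1) + 1 → False := by
    intro i hi hqi
    have hq2 : q ≠ 2 := by omega
    have h1 : q ∣ Nat.gcd 4 (Fintype.card F ^ (k + 4) + 1) *
        Nat.card (Cfsg.POmega F (Cfsg.quadFormMinus (k + 4 - 1) F a b)) := by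
      by_cases hd : q ∣ Fintype.card F
      · rw [hcard, mul_assoc]
        refine Dvd.dvd.mul_right (hd.trans (dvd_pow_self _ ?_)) _
        exact (Nat.mul_pos (by omega) (by omega)).ne'
      · refine dvd_trans ?_ (hfac i hi)
        have h2 : (Fintype.card F).Coprime q := ((Nat.Prime.coprime_iff_not_dvd hq).2 hd).symm
        have h3 := Nat.ModEq.pow_totient h2
        rw [Nat.totient_prime hq] at h3
        have h4 : q - 1 = 2 * (i + 1) := by omega
        rw [h4] at h3
        exact (Nat.modEq_iff_dvd' (Nat.one_le_pow _ _ Fintype.card_pos)).1 h3.symm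
    rcases hq.dvd_mul.1 h1 with h2 | h2
    · have h3 : q ∣ 2 ^ 2 := h2.trans hg4
      exact hq2 ((Nat.prime_dvd_prime_iff_eq hq Nat.prime_two).1 (hq.dvd_of_dvd_pow h3))
    · exact h h2
  have hne2 : q ≠ 2 := by
    rintro rfl
    apply h
    have h8 : 8 ∣ Fintype.card F ^ 2 - 1 := by
      obtain ⟨t, ht⟩ := hodd
      rw [ht]
      have h9 : (2 * t + 1) ^ 2 - 1 = 4 * (t * (t + 1)) := by
        have : (2 * t + 1) ^ 2 = 4 * (t * (t + 1)) + 1 := by ring
        omega
      rw [h9]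
      obtain ⟨u, hu⟩ := Nat.even_mul_succ_self t
      exact ⟨u, by rw [hu]; ring⟩
    have h9 := (h8.trans (hfac 0 (by omega)))
    obtain ⟨g, hg⟩ := hg4
    generalize Nat.card (Cfsg.POmega F (Cfsg.quadFormMinus (k + 4 - 1) F a b)) = C at h9 ⊢
    generalize Nat.gcd 4 (Fintype.card F ^ (k + 4) + 1) = D at h9 hg
    have h10 : 8 ∣ 4 * C := by
      refine h9.trans ⟨g, ?_⟩
      rw [hg]
      ring
    omega
  by_contra hlt
  push Not at hlt
  have h2 := hq.two_le
  have h3 := hodd' 0 (by omega)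
  have h5 := hodd' 1 (by omega)
  have h7 := hodd' 2 (by omega)
  interval_cases q
  · exact hne2 rfl
  · exact h3 rfl
  · exact absurd hq (by norm_num)
  · exact h5 rfl
  · exact absurd hq (by norm_num)
  · exact h7 rfl
  · exact absurd hq (by norm_num)
  · exact absurd hq (by norm_num)
  · exact absurd hq (by norm_num)

theorem card_83 (hF : Fintype.card F = 3) (a b : F)
    (hab : ∀ z₁ z₂ : F, z₁ ^ 2 + a * z₁ * z₂ + b * z₂ ^ 2 = 0 → z₁ = 0 ∧ z₂ = 0) :
    Nat.card (Cfsg.POmega F (Cfsg.quadFormMinus (0 + 4 - 1) F a b)) = 10151968619520 := by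
  have h := Cfsg.Agent.S0294.result hF 4 le_rfl a b hab
  have h1 : Nat.gcd 4 (3 ^ 4 + 1) = 2 := by norm_num
  have h2 : 3 ^ (4 * (4 - 1)) * (3 ^ 4 + 1) * ∏ i ∈ Finset.range (4 - 1), (3 ^ (2 * (i + 1)) - 1) =
      2 * 10151968619520 := by
    simp only [Finset.prod_range_succ, Finset.prod_range_zero]
    norm_num
  rw [h1, h2] at h
  exact Nat.eq_of_mul_eq_mul_left (by norm_num) h

/-- the order `2 ^ 10 * 3 ^ 12 * 5 * 7 * 13 * 41` and the criterion for `PΩ⁻_8(3)` -/
theorem num_83 {p n : ℕ} (hp : p.Prime) (h2 : p ≠ 2) (h1 : (p + 1) ^ (n - 1) ≤ ordCompl[p] 10151968619520) :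
    (ordCompl[p] 10151968619520) ^ n < 11 ^ 243 := by
  have h0 : ordCompl[p] 10151968619520 ≤ 10151968619520 := Nat.ordCompl_le _ _
  by_cases h3 : p = 3
  · subst h3
    have h4 : ordCompl[3] 10151968619520 = 19102720 := by
      have h5 : (10151968619520 : ℕ) = 3 ^ 12 * 19102720 := by norm_num
      rw [h5, Nat.ordCompl_self_pow_mul _ _ Nat.prime_three, Nat.factorization_eq_zero_of_not_dvd (by norm_num),
        pow_zero, Nat.div_one]
    rw [h4] at h1 ⊢
    have h6 : n ≤ 13 := by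
      by_contra hlt
      push Not at hlt
      have h7 : (3 + 1) ^ 13 ≤ (3 + 1) ^ (n - 1) := Nat.pow_le_pow_right (by norm_num) (by omega)
      have h8 := h7.trans h1
      norm_num at h8
    calc 19102720 ^ n ≤ 19102720 ^ 13 := Nat.pow_le_pow_right (by norm_num) h6
      _ < 11 ^ 243 := by norm_num
  · have hp5 : 5 ≤ p := by
      have h4 := hp.two_le
      by_contra hlt
      push Not at hlt
      interval_cases p
      · exact h2 rfl
      · exact h3 rfl
      · exact absurd hp (by norm_num)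
    have h6 : n ≤ 17 := by
      by_contra hlt
      push Not at hlt
      have h7 : 6 ^ 17 ≤ (p + 1) ^ (n - 1) :=
        (Nat.pow_le_pow_right (by norm_num) (by omega)).trans (Nat.pow_le_pow_left (by omega) (n - 1))
      have h8 := h7.trans (h1.trans h0)
      norm_num at h8
    calc (ordCompl[p] 10151968619520) ^ n ≤ 10151968619520 ^ n := Nat.pow_le_pow_left h0 n
      _ ≤ 10151968619520 ^ 17 := Nat.pow_le_pow_right (by norm_num) h6
      _ < 11 ^ 243 := by norm_num

/-- **Row A-RO-** of S4979. -/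
theorem row_minus (m : ℕ) (hm : 4 ≤ m) (a b : F)
    (hab : ∀ z₁ z₂ : F, z₁ ^ 2 + a * z₁ * z₂ + b * z₂ ^ 2 = 0 → z₁ = 0 ∧ z₂ = 0) :
    NoSit (POmega F (quadFormMinus (m - 1) F a b)) := by
  haveI hsim := Cfsg.Agent.S0297.result (F := F) m hm a b hab
  obtain ⟨k, rfl⟩ : ∃ k, m = k + 4 := ⟨m - 4, by omega⟩
  rcases Nat.even_or_odd (Fintype.card F) with he | hodd
  · -- trivial multiplier
    apply Cfsg.Agent.H759.QA.noSit_of_mult
    intro L _ _ π hπ
    have hmult := Cfsg.Agent.S2099.result (F := F) rfl (k + 4) (by omega) a b hab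
    have hg : Nat.gcd 4 (Fintype.card F ^ (k + 4) + 1) = 1 := by
      apply gcd_four_of_odd
      have : Even (Fintype.card F ^ (k + 4)) := he.pow_of_ne_zero (by omega)
      rw [Nat.even_iff] at this
      omega
    rw [hg] at hmult
    have h1 := multDvd_of_cyclic one_ne_zero hmult L π hπ
    rw [← MonoidHom.ker_eq_bot_iff]
    exact Subgroup.card_eq_one.1 (Nat.dvd_one.1 h1)
  · have hs3 : 3 ≤ Fintype.card F := by
      have h1 : 1 < Fintype.card F := Fintype.one_lt_card
      obtain ⟨t, ht⟩ := hodd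
      omega
    refine noSit_of_cr_of_dim (dim_minus hodd k a b hab) (eleven_le hodd k a b hab) ?_
    intro p hp hp2 hpd n hn h1
    have hp3 : 3 ≤ p := by
      have := hp.two_le
      omega
    have hle := card_le_minus hodd k a b hab
    have h0 : ordCompl[p] (Nat.card (POmega F (quadFormMinus (k + 4 - 1) F a b))) ≤
        Fintype.card F ^ ((k + 4) * (2 * k + 7)) := (Nat.ordCompl_le _ _).trans hle
    rcases Nat.eq_or_lt_of_le hs3 with hs | hs
    · rcases Nat.eq_zero_or_pos k with hk | hk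
      · subst hk
        rw [card_83 hs.symm a b hab] at h1 ⊢
        rw [← hs]
        exact num_83 hp hp2 h1
      · obtain ⟨j, rfl⟩ : ∃ j, k = j + 1 := ⟨k - 1, by omega⟩
        refine crude (x := (j + 5) * (2 * j + 9) * 2) hp3 (h0.trans ?_) h1 ?_
        · rw [← hs]
          calc 3 ^ ((j + 1 + 4) * (2 * (j + 1) + 7)) ≤ (2 ^ 2) ^ ((j + 1 + 4) * (2 * (j + 1) + 7)) :=
                Nat.pow_le_pow_left (by norm_num) _
            _ = 2 ^ ((j + 5) * (2 * j + 9) * 2) := by rw [← pow_mul]; congr 1; ring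
        · rw [← hs]
          exact num_three j
    · have hs5 : 5 ≤ Fintype.card F := by
        obtain ⟨t, ht⟩ := hodd
        omega
      refine crude (x := (k + 4) * (2 * k + 7) * (Fintype.card F - 2)) hp3 (h0.trans ?_) h1 (num_five hs5 k)
      calc Fintype.card F ^ ((k + 4) * (2 * k + 7)) ≤ (2 ^ (Fintype.card F - 2)) ^ ((k + 4) * (2 * k + 7)) :=
            Nat.pow_le_pow_left (le_two_pow (by omega)) _
        _ = 2 ^ ((k + 4) * (2 * k + 7) * (Fintype.card F - 2)) := by
            rw [← pow_mul, mul_comm (Fintype.card F - 2)]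

end Cfsg.Agent.H546.QA
end

-- part: H600/QA/Orth
section
/-!
# Degrees of covers from weights of an abelian subgroup; orthogonal groups (helper600, S4979 layer (A))

* `minDeg_of_orbits` : `x : A → S` a parametrised abelian `l`-subgroup, all orbits of the normaliser on the nontrivial
  characters of `A` of length at least `B`, `l` prime to the multiplier : `MinDeg S B`;
* `minDeg_orth` : the Siegel group of a singular vector in an orthogonal group : `B` any lower bound for the numbers of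
  nonzero vectors of given norm in codimension two;
* `le_card_norm` : these numbers.
-/

set_option autoImplicit false
set_option linter.style.haveILetI false
set_option linter.unusedSectionVars false

namespace Cfsg.Agent.H600.QA

universe u v w

open Module Cfsg.Agent.H80.Fpf Cfsg.Agent.H121.Wt Cfsg.Agent.H121.Chr

/-- **Degrees of covers by orbits of weights.** -/
theorem minDeg_of_orbits {S : Type v} [Group S] [Finite S] [IsSimpleGroup S] {l m : ℕ} (hl : l.Prime)
    (hm : MultDvd S m) (hlm : ¬ l ∣ m) {A : Type w} [AddCommGroup A] [Fintype A] (hA : ∀ a : A, l • a = 0)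
    (x : A → S) (hx : ∀ a b, x (a + b) = x a * x b) (hx1 : ∃ a, x a ≠ 1) {B : ℕ}
    (hB : ∀ χ : AddChar A ℂ, χ ≠ 1 → ∃ T : Finset (AddChar A ℂ), B ≤ T.card ∧ ∀ χ' ∈ T, ∃ (g : S) (f : A → A),
      Function.Bijective f ∧ (∀ a, g * x a = x (f a) * g) ∧ ∀ a, χ' (f a) = χ a) : MinDeg S B := by
  classical
  intro G _ _ π hπ d ρ hρ hd
  haveI := hρ
  have hlk : ¬ l ∣ Nat.card π.ker := fun h => hlm (h.trans (hm G π hπ))
  have hx0 : x 0 = 1 := by
    have h1 := hx 0 0
    rw [add_zero] at h1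
    exact (mul_eq_left.mp h1.symm)
  let X : Multiplicative A →* S :=
    { toFun := fun a => x (Multiplicative.toAdd a)
      map_one' := hx0
      map_mul' := fun a b => hx _ _ }
  have hXK : IsPGroup l X.range := by
    rintro ⟨_, a, rfl⟩
    refine ⟨1, Subtype.ext ?_⟩
    change (X a) ^ l ^ 1 = 1
    rw [pow_one, ← map_pow]
    have h1 : a ^ l = 1 := congrArg Multiplicative.ofAdd (hA (Multiplicative.toAdd a))
    rw [h1, map_one]
  obtain ⟨f, hf⟩ := Cfsg.Agent.H631.Fpf.exists_section hπ hl hlk hXK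
  have hmem : ∀ a : A, x a ∈ X.range := fun a => ⟨Multiplicative.ofAdd a, rfl⟩
  let s : A → G := fun a => f ⟨x a, hmem a⟩
  have hs : ∀ a, π (s a) = x a := fun a => hf _
  have hsadd : ∀ a b, s (a + b) = s a * s b := by
    intro a b
    change f _ = f _ * f _
    rw [← map_mul]
    congr 1
    exact Subtype.ext (hx a b)
  have hs0 : s 0 = 1 := by
    have h1 := hsadd 0 0
    rw [add_zero] at h1
    exact (mul_eq_left.mp h1.symm)
  have hsn : ∀ (n : ℕ) (a : A), s (n • a) = s a ^ n := by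
    intro n a
    induction n with
    | zero => rw [zero_smul, hs0, pow_zero]
    | succ n ih => rw [add_smul, one_smul, hsadd, ih, pow_succ]
  have hsl : ∀ a, s a ^ l = 1 := fun a => by rw [← hsn, hA, hs0]
  have hρne : ∃ g, ρ g ≠ 1 := exists_ne_one ρ hρ hd
  obtain ⟨a0, ha0⟩ := hx1
  have hne : ρ (s a0) ≠ 1 := by
    intro h1
    have h2 : s a0 ∈ MonoidHom.ker ρ := (MonoidHom.mem_ker).2 h1
    have h3 := (MonoidHom.mem_ker).1 (ker_le_of_simple hπ ρ hρne h2)
    rw [hs] at h3
    exact ha0 h3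
  have hact : IsAct fun a => ρ (s a) := isAct_of ρ hsadd
  obtain ⟨χ, hχ, hχa⟩ := exists_wt hact hne
  obtain ⟨T, hT, hTg⟩ := hB χ (by rintro rfl; exact hχa rfl)
  have key : ∀ χ' ∈ T, 1 ≤ finrank ℂ (wt (fun a => ρ (s a)) χ') := by
    intro χ' hχ'
    obtain ⟨g, f', hf', hg, hc⟩ := hTg χ' hχ'
    obtain ⟨g', rfl⟩ := hπ.surj g
    have hconj : ∀ a, g' * s a = s (f' a) * g' := by
      intro a
      set z : G := (s (f' a))⁻¹ * (g' * s a * g'⁻¹) with hz
      have hzk : z ∈ π.ker := by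
        rw [MonoidHom.mem_ker, hz, map_mul, map_mul, map_mul, map_inv, map_inv, hs, hs, hg a]
        group
      have hzc := hπ.central hzk
      have h1 : s (f' a) * z = g' * s a * g'⁻¹ := by rw [hz]; group
      have h2 : z ^ l = 1 := by
        have h3 : (s (f' a) * z) ^ l = 1 := by
          rw [h1, conj_pow, hsl, mul_one, mul_inv_cancel]
        have h4 : Commute (s (f' a)) z := Subgroup.mem_center_iff.1 hzc _
        rw [h4.mul_pow, hsl, one_mul] at h3
        exact h3
      have h5 : orderOf z ∣ l := orderOf_dvd_of_pow_eq_one h2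
      have h6 : orderOf z ∣ Nat.card π.ker := by
        have := orderOf_dvd_natCard (⟨z, hzk⟩ : π.ker)
        rwa [Subgroup.orderOf_mk] at this
      have h7 : z = 1 := by
        rcases (Nat.dvd_prime hl).1 h5 with h | h
        · exact orderOf_eq_one_iff.1 h
        · exact absurd (h ▸ h6) hlk
      rw [h7, mul_one] at h1
      rw [h1]
      group
    have h1 := finrank_wt_eq ρ (x := s) (g := g') (f := f') hconj hf' hc
    rw [← h1]
    by_contra hlt
    exact hχ (Submodule.finrank_eq_zero.1 (by omega))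
  have h1 := mul_card_le hact T 1 key
  rw [one_mul, finrank_fin_fun] at h1
  exact hT.trans h1

open QuadraticMap Cfsg.Agent.LieClassical.OrthCore Cfsg.Agent.LieClassical.OrthTrans
  Cfsg.Agent.H122.OrthWt Cfsg.Agent.H122.OrthRep Cfsg.Agent.H122.OrthTy Cfsg.Agent.H122.OrthSum

/-- **Degrees of covers of orthogonal groups.** -/
theorem minDeg_orth {F W : Type} [Field F] [Fintype F] [AddCommGroup W] [Module F W] [Fintype W]
    (Q : QuadraticForm F W) (hQ : Nondeg Q) (hT : TransN Q) (hG : _root_.Cfsg.Agent.LieClassical.OrthTrans.Good (HQ Q)) {S : Type v} [Group S] [Finite S]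
    [IsSimpleGroup S] (θ : E (HQ Q) →* S) (hθ : Function.Surjective θ) {l m : ℕ} (hl : l.Prime) [CharP F l]
    (hm : MultDvd S m) (hlm : ¬ l ∣ m) {B : ℕ} (hB : ∀ c : F, B ≤ Nat.card {w : W // w ≠ 0 ∧ Q w = c}) :
    MinDeg S B := by
  classical
  obtain ⟨ψ, hψ⟩ : ∃ ψ : AddChar F ℂ, ψ ≠ 1 := by
    have h1 := card_addChar F
    have h2 : 1 < Fintype.card (AddChar F ℂ) := by rw [h1]; exact Fintype.one_lt_card
    exact Fintype.exists_ne_of_one_lt_card h2 1
  refine minDeg_of_orbits hl hm hlm (A := W) ?_ (fun w => θ (sE Q w)) ?_ ?_ ?_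
  · intro w
    rw [← Nat.cast_smul_eq_nsmul F, CharP.cast_eq_zero, zero_smul]
  · intro a b
    rw [sE_add, map_mul]
  · let R : Representation ℂ (E (HQ Q)) (S → ℂ) :=
      { toFun := fun g => LinearMap.funLeft ℂ ℂ fun s : S => s * θ g
        map_one' := by
          ext f s
          simp
        map_mul' := fun g h => by
          ext f s
          simp only [mul_assoc, _root_.map_mul, _root_.LinearMap.coe_comp, _root_.LinearMap.coe_single, _root_.Function.comp_apply, _root_.LinearMap.funLeft_apply, _root_.Module.End.mul_apply] }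
    have hR : ∀ g, R g = LinearMap.funLeft ℂ ℂ fun s : S => s * θ g := fun g => rfl
    have h1 : ∃ g, R g ≠ 1 := by
      obtain ⟨s, hs⟩ := _root_.exists_ne (1 : S)
      obtain ⟨g, rfl⟩ := hθ s
      refine ⟨g, fun h => hs ?_⟩
      have h2 := congrFun (congrArg (fun T : Module.End ℂ (S → ℂ) => T (Pi.single (θ g) 1)) h) 1
      rw [hR] at h2
      change (Pi.single (θ g) (1 : ℂ) : S → ℂ) (1 * θ g) = (Pi.single (θ g) (1 : ℂ) : S → ℂ) 1 at h2
      rw [one_mul, Pi.single_eq_same] at h2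
      by_contra hne
      rw [Pi.single_eq_of_ne (Ne.symm hne)] at h2
      exact one_ne_zero h2
    obtain ⟨w, hw⟩ := exists_sE_ne_one Q R hG h1
    refine ⟨w, fun h => hw ?_⟩
    rw [hR, h]
    ext f s
    simp
  · intro χ hχ
    obtain ⟨l0, rfl⟩ := (chEquiv Q hQ hψ).surjective χ
    rw [chEquiv_apply] at hχ
    have hl0 : l0 ≠ 0 := by
      rintro rfl
      exact hχ (ch_zero Q ψ)
    refine ⟨(Finset.univ.filter fun w : W => w ≠ 0 ∧ Q w = Q l0).image (ch Q ψ), ?_, ?_⟩
    · rw [Finset.card_image_of_injective _ (ch_injective Q hQ hψ)]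
      have h1 := hB (Q l0)
      rwa [Nat.card_eq_fintype_card, Fintype.card_subtype] at h1
    · intro χ' hχ'
      obtain ⟨w, hw, rfl⟩ := Finset.mem_image.1 hχ'
      obtain ⟨hw0, hwQ⟩ := (Finset.mem_filter.1 hw).2
      obtain ⟨g, hg, hgw⟩ := hT l0 w hl0 hw0 hwQ.symm
      refine ⟨θ (extE Q ⟨g, hg⟩), g, g.bijective, fun a => ?_, fun a => ?_⟩
      · rw [← map_mul, ← map_mul, extE_mul_sE]
      · rw [chEquiv_apply, ch_apply, ch_apply, ← hgw, polar_map (E_le_O hg)]

/-- the number of nonzero vectors of norm `c` -/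
theorem card_norm {F W : Type*} [Field F] [Fintype F] [AddCommGroup W] [Module F W] [Fintype W] [DecidableEq F]
    {Q : QuadraticForm F W} {ε : ℤ} {n : ℕ} (h : Ty ε (n + 1) Q) (c : F) :
    (Nat.card {w : W // w ≠ 0 ∧ Q w = c} : ℤ) = (Fintype.card F : ℤ) ^ n * ((Fintype.card F : ℤ) ^ (n + 1) - ε) +
      if c = 0 then ε * (Fintype.card F : ℤ) ^ (n + 1) - 1 else 0 := by
  classical
  have hq : (Fintype.card F : ℂ) ≠ 0 := by exact_mod_cast Fintype.card_ne_zero
  have h1 := h.sum (fun x => if x = c then 1 else 0)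
  have h6 : Ph (fun x : F => if x = c then (1 : ℂ) else 0) = 1 := by
    rw [Ph, Finset.sum_ite_eq' Finset.univ c, if_pos (Finset.mem_univ _)]
  have h3 : Sm Q (fun x => if x = c then (1 : ℂ) else 0) = ((Finset.univ.filter fun w : W => Q w = c).card : ℂ) := by
    rw [Sm, Finset.sum_ite, Finset.sum_const_zero, add_zero, Finset.sum_const, nsmul_eq_mul, mul_one]
  have h4 : Nat.card {w : W // w ≠ 0 ∧ Q w = c} = (Finset.univ.filter fun w : W => w ≠ 0 ∧ Q w = c).card := by
    rw [Nat.card_eq_fintype_card, Fintype.card_subtype]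
  rw [h3, h6] at h1
  by_cases hc : c = 0
  · subst hc
    have h5 : (Finset.univ.filter fun w : W => Q w = 0) =
        insert 0 (Finset.univ.filter fun w : W => w ≠ 0 ∧ Q w = 0) := by
      ext w
      simp only [Finset.mem_filter, Finset.mem_univ, true_and, Finset.mem_insert]
      constructor
      · intro hw
        by_cases hw0 : w = 0
        · exact Or.inl hw0
        · exact Or.inr ⟨hw0, hw⟩
      · rintro (rfl | hw)
        · exact QuadraticMap.map_zero Q
        · exact hw.2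
    rw [h5, Finset.card_insert_of_notMem (by simp only [_root_.ne_eq, _root_.Finset.mem_filter, _root_.Finset.mem_univ, _root_.not_true_eq_false, _root_.map_zero, _root_.and_true, _root_.and_false, _root_.not_false_eq_true]), ← h4, if_pos rfl] at h1
    rw [if_pos rfl]
    have h7 : (Fintype.card F : ℂ) * (Nat.card {w : W // w ≠ 0 ∧ Q w = 0} : ℂ) = (Fintype.card F : ℂ) *
        ((Fintype.card F : ℂ) ^ n * ((Fintype.card F : ℂ) ^ (n + 1) - ε) + (ε * (Fintype.card F : ℂ) ^ (n + 1) - 1)) := by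
      push_cast at h1
      linear_combination h1
    have h8 := mul_left_cancel₀ hq h7
    exact_mod_cast h8
  · have h5 : (Finset.univ.filter fun w : W => Q w = c) = (Finset.univ.filter fun w : W => w ≠ 0 ∧ Q w = c) := by
      ext w
      simp only [Finset.mem_filter, Finset.mem_univ, true_and]
      refine ⟨fun hw => ⟨?_, hw⟩, fun hw => hw.2⟩
      rintro rfl
      rw [QuadraticMap.map_zero] at hw
      exact hc hw.symm
    rw [h5, ← h4, if_neg (Ne.symm hc)] at h1
    rw [if_neg hc, add_zero]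
    have h7 : (Fintype.card F : ℂ) * (Nat.card {w : W // w ≠ 0 ∧ Q w = c} : ℂ) = (Fintype.card F : ℂ) *
        ((Fintype.card F : ℂ) ^ n * ((Fintype.card F : ℂ) ^ (n + 1) - ε)) := by
      linear_combination h1
    have h8 := mul_left_cancel₀ hq h7
    exact_mod_cast h8

end Cfsg.Agent.H600.QA
end

-- part: H600/QA/NumPlus
section
/-!
# Numerics for the row `POmega^+_{2m}(s)`, `s` odd (helper600, S4979 layer (A))
-/

set_option autoImplicit false

namespace Cfsg.Agent.H600.QA.NumPlus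

/-- `D = m (2 m - 1)`, written `k = m - 5` -/
theorem five_le (k : ℕ) : ((k + 5) * (2 * k + 9)) * ((k + 5) * (2 * k + 9) + 1) < 13 * 3 ^ (2 * k + 5) := by
  induction k with
  | zero => norm_num
  | succ k ih =>
    have h1 : (k + 1 + 5) * (2 * (k + 1) + 9) ≤ 2 * ((k + 5) * (2 * k + 9)) := by nlinarith only []
    have h2 : (k + 1 + 5) * (2 * (k + 1) + 9) + 1 ≤ 2 * ((k + 5) * (2 * k + 9) + 1) := by linarith only [h1]
    have h3 := Nat.mul_le_mul h1 h2
    have h4 : 3 ^ (2 * (k + 1) + 5) = 9 * 3 ^ (2 * k + 5) := by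
      rw [show 2 * (k + 1) + 5 = (2 * k + 5) + 2 by ring, pow_add]; ring
    rw [h4]
    nlinarith only [ih, h1]

theorem main_ineq {m s : ℕ} (hm : 4 ≤ m) (hs : 3 ≤ s) (h : ¬ (m = 4 ∧ s = 3)) (hodd : Odd s) :
    (m * (2 * m - 1)) * (m * (2 * m - 1) + 1) < 13 * s ^ (2 * m - 5) := by
  rcases Nat.lt_or_ge 4 m with h5 | h5
  · obtain ⟨k, rfl⟩ : ∃ k, m = k + 5 := ⟨m - 5, by omega⟩
    have h1 := five_le k
    rw [show 2 * (k + 5) - 1 = 2 * k + 9 by omega, show 2 * (k + 5) - 5 = 2 * k + 5 by omega]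
    refine h1.trans_le (Nat.mul_le_mul_left _ (Nat.pow_le_pow_left hs _))
  · have h4 : m = 4 := by omega
    subst h4
    have hs5 : 5 ≤ s := by
      obtain ⟨j, rfl⟩ := hodd
      have : ¬ (2 * j + 1 = 3) := fun h3 => h ⟨rfl, h3⟩
      omega
    have h1 : 5 ^ 3 ≤ s ^ 3 := Nat.pow_le_pow_left hs5 3
    norm_num at h1 ⊢
    omega

/-- the bound in terms of `a`, `s = 2 a - 1` -/
theorem ineq_a {m s a : ℕ} (hm : 4 ≤ m) (hs : 3 ≤ s) (h : ¬ (m = 4 ∧ s = 3)) (ha : s + 1 = 2 * a) :
    (a * (m * (2 * m - 1))) * (a * (m * (2 * m - 1)) + 2) < 6 * (s ^ (m - 2) * (s ^ (m - 1) - 1)) := by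
  have h0 := main_ineq hm hs h ⟨a - 1, by omega⟩
  set D := m * (2 * m - 1) with hD
  have h3a : 3 * a ≤ 2 * s := by omega
  have h1 : 9 * ((a * D) * (a * D + 2)) ≤ 4 * s ^ 2 * (D * (D + 1)) := by
    have e1 : 3 * (a * D) ≤ 2 * (s * D) := by nlinarith only [hs, ha]
    have e2 : 3 * (a * D + 2) ≤ 2 * (s * (D + 1)) := by linarith only [hs, e1]
    calc 9 * ((a * D) * (a * D + 2)) = (3 * (a * D)) * (3 * (a * D + 2)) := by ring
      _ ≤ (2 * (s * D)) * (2 * (s * (D + 1))) := Nat.mul_le_mul e1 e2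
      _ = _ := by ring
  have h2 : 26 * s ^ (m - 1) ≤ 27 * (s ^ (m - 1) - 1) := by
    have e1 : 3 ^ 3 ≤ s ^ (m - 1) :=
      (Nat.pow_le_pow_left hs 3).trans (Nat.pow_le_pow_right (by omega) (by omega))
    norm_num at e1
    omega
  have h3 : 52 * (s ^ 2 * s ^ (2 * m - 5)) ≤ 54 * (s ^ (m - 2) * (s ^ (m - 1) - 1)) := by
    have e1 : s ^ 2 * s ^ (2 * m - 5) = s ^ (m - 2) * s ^ (m - 1) := by
      rw [← pow_add, ← pow_add]
      congr 1
      omega
    rw [e1]
    calc 52 * (s ^ (m - 2) * s ^ (m - 1)) = 2 * s ^ (m - 2) * (26 * s ^ (m - 1)) := by ring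
      _ ≤ 2 * s ^ (m - 2) * (27 * (s ^ (m - 1) - 1)) := Nat.mul_le_mul_left _ h2
      _ = _ := by ring
  have h4 : 0 < s ^ 2 := by positivity
  have h5 : 4 * s ^ 2 * (D * (D + 1)) < 4 * s ^ 2 * (13 * s ^ (2 * m - 5)) :=
    Nat.mul_lt_mul_of_pos_left h0 (by positivity)
  have h6 : 4 * s ^ 2 * (13 * s ^ (2 * m - 5)) = 52 * (s ^ 2 * s ^ (2 * m - 5)) := by ring
  omega

/-- the numeric criterion, generic case -/
theorem criterion {m s n M B : ℕ} (hm : 4 ≤ m) (hs : 3 ≤ s) (h : ¬ (m = 4 ∧ s = 3)) (hodd : Odd s)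
    (hn : n ≤ s ^ (m * (2 * m - 1))) (hB : s ^ (m - 2) * (s ^ (m - 1) - 1) ≤ B) (hM : 1 ≤ M) (h4 : 4 ^ (M - 1) ≤ n) :
    n ^ M < 11 ^ B := by
  obtain ⟨j, hj⟩ := hodd
  obtain ⟨a, ha⟩ : ∃ a, s + 1 = 2 * a := ⟨j + 1, by omega⟩
  have h1 := ineq_a hm hs h ha
  set D := m * (2 * m - 1) with hD
  set B0 := s ^ (m - 2) * (s ^ (m - 1) - 1) with hB0
  -- `s ≤ 2 ^ a`
  have hsa : s ≤ 2 ^ a := by
    have e1 : ∀ b : ℕ, 2 * (b + 2) - 1 ≤ 2 ^ (b + 2) := by
      intro b
      induction b with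
      | zero => norm_num
      | succ b ih => rw [pow_succ]; omega
    have e2 := e1 (a - 2)
    rw [show a - 2 + 2 = a by omega] at e2
    omega
  have hn2 : n ≤ 2 ^ (a * D) := by
    rw [pow_mul]
    exact hn.trans (Nat.pow_le_pow_left hsa D)
  have hM2 : 2 * (M - 1) ≤ a * D := by
    have e1 : 2 ^ (2 * (M - 1)) ≤ 2 ^ (a * D) := by
      rw [pow_mul]
      exact h4.trans hn2
    exact (Nat.pow_le_pow_iff_right (by norm_num)).1 e1
  have h2 : n ^ M ≤ 2 ^ (a * D * M) := by
    rw [pow_mul]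
    exact Nat.pow_le_pow_left hn2 M
  have h3 : a * D * M < 3 * B := by
    have e1 : 2 * (a * D * M) ≤ (a * D) * (a * D + 2) := by
      calc 2 * (a * D * M) = (a * D) * (2 * M) := by ring
        _ ≤ (a * D) * (a * D + 2) := Nat.mul_le_mul_left _ (by omega)
    omega
  calc n ^ M ≤ 2 ^ (a * D * M) := h2
    _ < 2 ^ (3 * B) := Nat.pow_lt_pow_right (by norm_num) h3
    _ = 8 ^ B := by rw [pow_mul]; norm_num
    _ ≤ 11 ^ B := Nat.pow_le_pow_left (by norm_num) B

/-- from a bound on the number of factors -/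
theorem small {c b n M B k : ℕ} (hM : 1 ≤ M) (h1 : c ^ (M - 1) ≤ n) (hn : n < c ^ k) (hc : 1 < c)
    (hb : n ≤ b) (hkB : b ^ k < 11 ^ B) (hb1 : 1 ≤ b) : n ^ M < 11 ^ B := by
  have h2 : M - 1 < k := (Nat.pow_lt_pow_iff_right hc).1 (h1.trans_lt hn)
  calc n ^ M ≤ b ^ M := Nat.pow_le_pow_left hb M
    _ ≤ b ^ k := Nat.pow_le_pow_right hb1 (by omega)
    _ < 11 ^ B := hkB

theorem special_three {M B : ℕ} (hB : 234 ≤ B) (hM : 1 ≤ M) (h : 4 ^ (M - 1) ≤ 9318400) : 9318400 ^ M < 11 ^ B := by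
  refine (small (c := 4) (b := 9318400) (k := 12) (B := 234) hM h (by norm_num) (by norm_num) le_rfl
    (by norm_num) (by norm_num)).trans_le (Nat.pow_le_pow_right (by norm_num) hB)

theorem special_five {n M B : ℕ} (hB : 234 ≤ B) (hn : n ≤ 4952179814400) (hM : 1 ≤ M) (h : 6 ^ (M - 1) ≤ n) :
    n ^ M < 11 ^ B := by
  refine (small (c := 6) (b := 4952179814400) (k := 17) (B := 234) hM h (hn.trans_lt (by norm_num)) (by norm_num) hn
    (by norm_num) (by norm_num)).trans_le (Nat.pow_le_pow_right (by norm_num) hB)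

end Cfsg.Agent.H600.QA.NumPlus
end

-- part: H600/QA/RowPlus
section
/-!
# S4979, layer (A): the row `POmega^+_{2m}(s)` (helper600, task 5670)

`s` even: trivial multiplier; `s` odd: CR criterion with the degrees of covers `minDeg_plus`.
-/

set_option autoImplicit false
set_option linter.style.haveILetI false

namespace Cfsg.Agent.H600.QA

open Module Cfsg Cfsg.Agent.H80.Fpf Cfsg.Agent.H152.QA Cfsg.Agent.LieClassical.OrthCore
  Cfsg.Agent.LieClassical.OrthTrans Cfsg.Agent.LieClassical.OrthForms Cfsg.Agent.LieClassical.OrthFinite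
  Cfsg.Agent.H122.OrthWt Cfsg.Agent.H122.OrthRep Cfsg.Agent.H122.OrthTy Cfsg.Agent.H122.OrthIso

section mult

variable {F : Type} [Field F] [Fintype F] {m : ℕ}

theorem multDvd_mono {S : Type} [Group S] {a b : ℕ} (h : MultDvd S a) (hab : a ∣ b) : MultDvd S b :=
  fun G _ _ π hπ => (h G π hπ).trans hab

theorem mult_even (hm : 4 ≤ m) (heven : Even (Fintype.card F)) (hex : ¬ (m = 4 ∧ Fintype.card F = 2)) :
    MultDvd (Cfsg.POmega F (Cfsg.quadFormPlus m F)) 1 := by
  have hq : 1 ≤ Fintype.card F := Fintype.card_pos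
  have hodd : Odd (Fintype.card F ^ m - 1) := by
    apply Nat.Even.sub_odd (Nat.one_le_pow _ _ hq) _ odd_one
    exact (Nat.even_pow.2 ⟨heven, by omega⟩)
  rcases Nat.even_or_odd m with h | h
  · have h1 := S2097.result (F := F) rfl m hm h hex
    have h2 : Nat.gcd 2 (Fintype.card F ^ m - 1) = 1 := (Nat.coprime_two_left).2 hodd
    rw [h2] at h1
    have h3 := multDvd_of h1
    have h4 : Nat.card (Multiplicative (ZMod 1 × ZMod 1)) = 1 := by
      rw [Nat.card_congr Multiplicative.toAdd, Nat.card_prod, Nat.card_zmod]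
    rwa [h4] at h3
  · have h5 : 5 ≤ m := by
      rcases h with ⟨k, hk⟩
      omega
    have h1 := S2096.result (F := F) rfl m h5 h
    have h2 : Nat.gcd 4 (Fintype.card F ^ m - 1) = 1 := by
      have h3 : Nat.Coprime (2 ^ 2) (Fintype.card F ^ m - 1) := Nat.Coprime.pow_left 2 ((Nat.coprime_two_left).2 hodd)
      exact h3
    rw [h2] at h1
    exact multDvd_of_cyclic one_ne_zero h1

theorem mult_four (hm : 4 ≤ m) (hex : ¬ (m = 4 ∧ Fintype.card F = 2)) :
    MultDvd (Cfsg.POmega F (Cfsg.quadFormPlus m F)) 4 := by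
  rcases Nat.even_or_odd m with h | h
  · have h1 := S2097.result (F := F) rfl m hm h hex
    set g := Nat.gcd 2 (Fintype.card F ^ m - 1) with hg
    have hg2 : g ∣ 2 := Nat.gcd_dvd_left _ _
    have hg0 : g ≠ 0 := fun h0 => by rw [h0] at hg2; omega
    haveI : NeZero g := ⟨hg0⟩
    have h3 := multDvd_of h1
    have h4 : Nat.card (Multiplicative (ZMod g × ZMod g)) = g * g := by
      rw [Nat.card_congr Multiplicative.toAdd, Nat.card_prod, Nat.card_zmod]
    rw [h4] at h3
    exact multDvd_mono h3 (mul_dvd_mul hg2 hg2)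
  · have h5 : 5 ≤ m := by
      rcases h with ⟨k, hk⟩
      omega
    have h1 := S2096.result (F := F) rfl m h5 h
    have hg4 : Nat.gcd 4 (Fintype.card F ^ m - 1) ∣ 4 := Nat.gcd_dvd_left _ _
    have hg0 : Nat.gcd 4 (Fintype.card F ^ m - 1) ≠ 0 := fun h0 => by rw [h0] at hg4; omega
    exact multDvd_mono (multDvd_of_cyclic hg0 h1) hg4

end mult

section deg

variable {F : Type} [Field F] [Fintype F]

theorem good_plusForm (k : ℕ) (hk : 3 ≤ k) : _root_.Cfsg.Agent.LieClassical.OrthTrans.Good (plusForm k F) :=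
  good_of_finite (nondeg_plusForm k F) (by
    rw [Module.finrank_fintype_fun_eq_card, Fintype.card_sum, Fintype.card_fin]; omega)

theorem exists_theta (k : ℕ) (hk : 3 ≤ k) : ∃ θ : E (HQ (plusForm k F)) →* Cfsg.POmega F (Cfsg.quadFormPlus (k + 1) F),
    Function.Surjective θ := by
  classical
  obtain ⟨e⟩ := (isoQ_plus (F := F) k).symm.equiv
  obtain ⟨e'⟩ := Cfsg.Agent.H122.OrthPlus.omega_equiv (good_plusForm (F := F) (k + 1) (by omega))
  rw [coe_plusForm] at e'
  refine ⟨(QuotientGroup.mk' (Subgroup.center _)).comp (e.trans e').toMonoidHom, ?_⟩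
  exact (QuotientGroup.mk'_surjective _).comp (e.trans e').surjective

theorem finite_plus {m : ℕ} (hm : 4 ≤ m) : Finite (Cfsg.POmega F (Cfsg.quadFormPlus m F)) := by
  obtain ⟨k, rfl⟩ : ∃ k, m = k + 1 := ⟨m - 1, by omega⟩
  obtain ⟨θ, hθ⟩ := exists_theta (F := F) k (by omega)
  haveI := Cfsg.Agent.H122.OrthInt.finite_E (E (HQ (plusForm k F)))
  exact Finite.of_surjective θ hθ

/-- **Degrees of the covers of `POmega^+`, odd characteristic.** -/
theorem minDeg_plus {m : ℕ} (hm : 4 ≤ m) (hodd : Odd (Fintype.card F)) :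
    MinDeg (Cfsg.POmega F (Cfsg.quadFormPlus m F)) (Fintype.card F ^ (m - 2) * (Fintype.card F ^ (m - 1) - 1)) := by
  classical
  haveI := finite_plus (F := F) hm
  haveI : IsSimpleGroup (Cfsg.POmega F (Cfsg.quadFormPlus m F)) := S0296.result m hm
  have hmult := mult_four (F := F) hm (by
    rintro ⟨-, h2⟩
    rw [h2] at hodd
    exact absurd hodd (by decide))
  obtain ⟨k, rfl⟩ : ∃ k, m = k + 1 := ⟨m - 1, by omega⟩
  obtain ⟨θ, hθ⟩ := exists_theta (F := F) k (by omega)
  obtain ⟨l, hl⟩ := CharP.exists F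
  haveI := hl
  obtain ⟨n, hlp, hn⟩ := FiniteField.card F l
  have hl2 : ¬ l ∣ 4 := by
    intro h
    have h1 : l ∣ 2 ^ 2 := h
    have h2 : l = 2 := (Nat.prime_dvd_prime_iff_eq hlp Nat.prime_two).1 (hlp.dvd_of_dvd_pow h1)
    rw [hn, h2] at hodd
    exact absurd (Nat.even_pow.2 ⟨even_two, n.ne_zero⟩) (Nat.not_even_iff_odd.2 hodd)
  refine minDeg_orth (plusForm k F) (nondeg_plusForm k F) (transN_of_good _ (good_plusForm k (by omega)))
    (good_of_finite (nondeg_HQ _ (nondeg_plusForm k F)) ?_) θ hθ hlp hmult hl2 ?_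
  · rw [Module.finrank_prod, Module.finrank_prod, Module.finrank_fintype_fun_eq_card, Fintype.card_sum, Fintype.card_fin,
      Module.finrank_self]
    omega
  · intro c
    obtain ⟨j, rfl⟩ : ∃ j, k = j + 1 := ⟨k - 1, by omega⟩
    have h1 := card_norm (ty_plus (F := F) (j + 1)) c
    have hq : 1 ≤ Fintype.card F ^ (j + 1) := Nat.one_le_pow _ _ Fintype.card_pos
    have h2 : (0 : ℤ) ≤ if c = 0 then 1 * (Fintype.card F : ℤ) ^ (j + 1) - 1 else 0 := by
      split_ifs
      · have : (1 : ℤ) ≤ (Fintype.card F : ℤ) ^ (j + 1) := by exact_mod_cast hq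
        linarith only [hq]
      · exact le_rfl
    rw [show j + 1 + 1 - 2 = j by omega, show j + 1 + 1 - 1 = j + 1 by omega]
    zify [hq]
    rw [h1]
    linarith only [h2]

end deg

section card

variable {F : Type} [Field F] [Fintype F] {m : ℕ}

/-- small primes divide the order -/
theorem small_dvd (hm : 4 ≤ m) (hodd : Odd (Fintype.card F)) {r : ℕ} (hr : r.Prime) (hr7 : r < 11) :
    r ∣ Nat.card (Cfsg.POmega F (Cfsg.quadFormPlus m F)) := by
  have hcard := S0293.result (F := F) rfl m hm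
  set s := Fintype.card F with hs
  set n := Nat.card (Cfsg.POmega F (Cfsg.quadFormPlus m F)) with hn
  have hs1 : 1 < s := Fintype.one_lt_card
  have hg : Nat.gcd 4 (s ^ m - 1) ∣ 4 := Nat.gcd_dvd_left _ _
  have hfac : ∀ i, i < m - 1 → s ^ (2 * (i + 1)) - 1 ∣ Nat.gcd 4 (s ^ m - 1) * n := by
    intro i hi
    rw [hcard]
    exact (Finset.dvd_prod_of_mem (fun i => s ^ (2 * (i + 1)) - 1) (Finset.mem_range.2 hi)).mul_left _
  by_cases hr2 : r = 2
  · subst hr2
    by_contra hnd
    have h8 : 8 ∣ s ^ (2 * (0 + 1)) - 1 := by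
      have h1 := Nat.eight_dvd_sq_sub_one_of_odd hodd
      simpa only [_root_.zero_add, _root_.mul_one] using h1
    have h1 : 2 ^ 3 ∣ Nat.gcd 4 (s ^ m - 1) * n := h8.trans (hfac 0 (by omega))
    have h2 : Nat.Coprime (2 ^ 3) n := Nat.Coprime.pow_left 3 ((Nat.Prime.coprime_iff_not_dvd Nat.prime_two).2 hnd)
    have h3 := (h2.dvd_of_dvd_mul_right h1).trans hg
    norm_num at h3
  · have hrn : r ∣ Nat.gcd 4 (s ^ m - 1) * n := by
      by_cases hrs : r ∣ s
      · rw [hcard]
        exact ((hrs.trans (dvd_pow_self s (Nat.mul_ne_zero (by omega) (by omega)))).mul_right _).mul_right _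
      · have hodr := hr.odd_of_ne_two hr2
        obtain ⟨j, hj⟩ := hodr
        have hr3 : 2 ≤ r := hr.two_le
        have h9 : r ≠ 9 := by rintro rfl; exact absurd hr (by norm_num)
        have hcop : Nat.Coprime s r := ((Nat.Prime.coprime_iff_not_dvd hr).2 hrs).symm
        have h1 := Nat.ModEq.pow_totient hcop
        rw [Nat.totient_prime hr] at h1
        have h2 := (Nat.modEq_iff_dvd' (Nat.one_le_pow _ _ hs1.le)).1 h1.symm
        refine h2.trans ?_
        have h3 := hfac (j - 1) (by omega)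
        rwa [show 2 * (j - 1 + 1) = r - 1 by (clear * - hj hr3; omega)] at h3
    rcases hr.dvd_mul.1 hrn with h | h
    · exfalso
      have h1 : r ∣ 2 ^ 2 := h.trans hg
      exact hr2 ((Nat.prime_dvd_prime_iff_eq hr Nat.prime_two).1 (hr.dvd_of_dvd_pow h1))
    · exact h

theorem prod_le (s k : ℕ) : ∏ i ∈ Finset.range k, (s ^ (2 * (i + 1)) - 1) ≤ s ^ (k * (k + 1)) := by
  induction k with
  | zero => simp
  | succ k ih =>
    rw [Finset.prod_range_succ, show (k + 1) * (k + 1 + 1) = k * (k + 1) + 2 * (k + 1) by ring, pow_add]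
    exact Nat.mul_le_mul ih (Nat.sub_le _ _)

theorem card_le (hm : 4 ≤ m) :
    Nat.card (Cfsg.POmega F (Cfsg.quadFormPlus m F)) ≤ Fintype.card F ^ (m * (2 * m - 1)) := by
  have hcard := S0293.result (F := F) rfl m hm
  set s := Fintype.card F with hs
  set n := Nat.card (Cfsg.POmega F (Cfsg.quadFormPlus m F)) with hn
  have hg : 0 < Nat.gcd 4 (s ^ m - 1) := Nat.gcd_pos_of_pos_left _ (by norm_num)
  calc n ≤ Nat.gcd 4 (s ^ m - 1) * n := Nat.le_mul_of_pos_left _ hg
    _ = s ^ (m * (m - 1)) * (s ^ m - 1) * ∏ i ∈ Finset.range (m - 1), (s ^ (2 * (i + 1)) - 1) := hcard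
    _ ≤ s ^ (m * (m - 1)) * s ^ m * s ^ ((m - 1) * (m - 1 + 1)) :=
        Nat.mul_le_mul (Nat.mul_le_mul_left _ (Nat.sub_le _ _)) (prod_le s (m - 1))
    _ = s ^ (m * (2 * m - 1)) := by
        rw [← pow_add, ← pow_add]
        congr 1
        obtain ⟨k, rfl⟩ : ∃ k, m = k + 1 := ⟨m - 1, by omega⟩
        rw [show 2 * (k + 1) - 1 = 2 * k + 1 by omega, Nat.add_sub_cancel]
        ring

end card

/-- **The row `POmega^+_{2m}(s)`** of layer (A) of S4979. -/
theorem row_plus {F : Type} [Field F] [Fintype F] (m : ℕ) (hm : 4 ≤ m) (h82 : ¬ (m = 4 ∧ Fintype.card F = 2)) :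
    NoSit (POmega F (quadFormPlus m F)) := by
  haveI := finite_plus (F := F) hm
  haveI : IsSimpleGroup (Cfsg.POmega F (Cfsg.quadFormPlus m F)) := S0296.result m hm
  rcases Nat.even_or_odd (Fintype.card F) with he | ho
  · refine Cfsg.Agent.H759.QA.noSit_of_mult fun L _ _ π hπ => ?_
    have h1 := mult_even hm he h82 L π hπ
    have h2 : Nat.card π.ker = 1 := Nat.dvd_one.1 h1
    exact (MonoidHom.ker_eq_bot_iff π).1 (Subgroup.card_eq_one.1 h2)
  · have hB := minDeg_plus hm ho
    have hle := card_le (F := F) hm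
    have hs3 : 3 ≤ Fintype.card F := by
      have h1 : 1 < Fintype.card F := Fintype.one_lt_card
      obtain ⟨j, hj⟩ := ho
      omega
    have hq0 : ∀ q : ℕ, q.Prime → ¬ q ∣ Nat.card (Cfsg.POmega F (Cfsg.quadFormPlus m F)) → 11 ≤ q := by
      intro q hq hnd
      by_contra hlt
      exact hnd (small_dvd hm ho hq (by omega))
    refine Cfsg.Agent.H306.QA.noSit_of_cr hB hq0 ?_
    intro p hp hp2 hpd M hM hM2
    have hp3 : 3 ≤ p := by
      have := hp.two_le
      omega
    have hc : ordCompl[p] (Nat.card (Cfsg.POmega F (Cfsg.quadFormPlus m F))) ≤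
      Nat.card (Cfsg.POmega F (Cfsg.quadFormPlus m F)) := Nat.ordCompl_le _ _
    by_cases h43 : m = 4 ∧ Fintype.card F = 3
    · obtain ⟨rfl, h3⟩ := h43
      have hcard := S0293.result (F := F) h3 4 le_rfl
      have hn : Nat.card (Cfsg.POmega F (Cfsg.quadFormPlus 4 F)) = 3 ^ 12 * 9318400 := by
        norm_num only [Finset.prod_range_succ] at hcard
        omega
      rw [h3]
      have hB2 : 234 ≤ 3 ^ (4 - 2) * (3 ^ (4 - 1) - 1) := by norm_num
      by_cases hp33 : p = 3
      · subst hp33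
        have ho : ordCompl[3] (Nat.card (Cfsg.POmega F (Cfsg.quadFormPlus 4 F))) = 9318400 := by
          rw [hn, Nat.ordCompl_self_pow_mul _ _ Nat.prime_three,
            Nat.factorization_eq_zero_of_not_dvd (by norm_num), pow_zero, Nat.div_one]
        rw [ho] at hM2 ⊢
        exact NumPlus.special_three hB2 hM hM2
      · refine NumPlus.special_five hB2 (hc.trans (by rw [hn]; norm_num)) hM (le_trans ?_ hM2)
        apply Nat.pow_le_pow_left
        have h4 : p ≠ 4 := by rintro rfl; exact absurd hp (by norm_num)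
        omega
    · have h4 : 4 ^ (M - 1) ≤ Nat.card (Cfsg.POmega F (Cfsg.quadFormPlus m F)) :=
        (Nat.pow_le_pow_left (by omega) _).trans (hM2.trans hc)
      exact (Nat.pow_le_pow_left hc M).trans_lt (NumPlus.criterion hm hs3 h43 ho hle le_rfl hM h4)

end Cfsg.Agent.H600.QA
end

-- part: H831/QA/RowG2
section
/-!
# S4979, layer (A): the rows `G₂(3)` and `G₂(4)` (helper831)
-/

set_option autoImplicit false
set_option linter.style.haveILetI false

open Cfsg

namespace Cfsg.Agent.H831.QA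

open scoped commutatorElement
open Cfsg.Lie Cfsg.Agent.H80.Fpf Cfsg.Agent.H152.QA Cfsg.Agent.H245.QA Cfsg.Agent.H306.QA

/-! ### modules of a simple group -/

section general

variable {p q : ℕ} {S V : Type} [Group S] [Finite S] [IsSimpleGroup S] [AddCommGroup V] [Finite V]
  [DistribMulAction S V]

/-- all irreducible representations of degree at least 2 have degree at least `B` -/
def Dg (S : Type) [Group S] (B : ℕ) : Prop :=
  ∀ (d : ℕ) (τ : Representation ℂ S (Fin d → ℂ)), τ.IsIrreducible → 2 ≤ d → B ≤ d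

omit [Finite S] [IsSimpleGroup S] in
theorem isCover_id (hperf : commutator S = ⊤) : IsCover (MonoidHom.id S) :=
  ⟨Function.surjective_id, by
    intro x hx
    rw [MonoidHom.mem_ker, MonoidHom.id_apply] at hx
    rw [hx]; exact one_mem _, hperf⟩

theorem fixV_top' (h : PSit p q S V) : fixV S V ⊤ = ⊥ := by
  rcases h.irr (fixV S V ⊤) (fun g w hw => by rw [hw g trivial]; exact hw) with h1 | h1
  · exact h1
  exfalso
  have h2 : ∀ g : S, g = 1 := fun g => h.faith g fun v => by
    have hv : v ∈ fixV S V ⊤ := by rw [h1]; trivial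
    exact hv g trivial
  have h3 : Nat.card S = 1 := by
    have : Subsingleton S := ⟨fun a b => by rw [h2 a, h2 b]⟩
    exact Nat.card_of_subsingleton 1
  have h4 := h.pG
  rw [h3] at h4
  exact h.hp.one_lt.ne' (Nat.dvd_one.1 h4)

theorem exists_irr_self (h : PSit p q S V) (hperf : commutator S = ⊤) {B : ℕ} (hB : Dg S B) :
    ∃ (d d' : ℕ) (τ : Representation ℂ S (Fin d' → ℂ)), Nat.card V = q ^ d ∧ τ.IsIrreducible ∧ B ≤ d' ∧ d' ≤ d ∧
      ∀ X : Subgroup S, ∃ f : ℕ, Nat.card (fixV S V X) = q ^ f ∧ f ≤ d ∧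
        d' + f ≤ d + Module.finrank ℂ (fixR τ X) := by
  haveI := h.nt
  have hπ := isCover_id hperf
  have hB0 : MinDeg S 0 := fun _ _ _ _ _ _ _ _ _ => Nat.zero_le _
  obtain ⟨d, d', τ, hd, hτ, h2, -, hdd, hf⟩ := exists_irr_gen h.hq h.exp h.qG (fixV_top' h) hπ hB0
  exact ⟨d, d', τ, hd, hτ, hB d' τ hτ h2, hdd, hf⟩

/-- the dimension -/
theorem card_V (h : PSit p q S V) (hperf : commutator S = ⊤) {B : ℕ} (hB : Dg S B) :
    q ^ B ≤ Nat.card V := by
  obtain ⟨d, d', τ, hd, -, h1, h2, -⟩ := exists_irr_self h hperf hB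
  rw [hd]
  exact Nat.pow_le_pow_right h.hq.pos (h1.trans h2)

/-- the CH criterion for `S` itself -/
theorem ch_self (h : PSit p q S V) (hperf : commutator S = ⊤) {B c : ℕ} (hB : Dg S B) (X : Subgroup S)
    (hX : IsPGroup p X) (hc : ∀ x ∈ X, x ≠ 1 → Nat.card (Subgroup.centralizer ({x} : Set S)) ≤ c ^ 2) :
    q ^ ((Nat.card X - 1) * (B - c)) ≤ (Subgroup.normalizer (X : Set S)).index ^ Nat.card X := by
  obtain ⟨d, d', τ, hd, hτ, hBd, hdd, hf⟩ := exists_irr_self h hperf hB
  have hq := h.hq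
  have hπ := isCover_id hperf
  obtain ⟨f, hf1, hf2, hf3⟩ := hf X
  have h1 := card_le h.hp h.P1 X hX
  rw [hd, hf1] at h1
  have h2 : q ^ (d - f) ≤ (Subgroup.normalizer (X : Set S)).index := by
    have h3 : q ^ d = q ^ (d - f) * q ^ f := by rw [← pow_add]; congr 1; omega
    rw [h3] at h1
    exact Nat.le_of_mul_le_mul_right h1 (Nat.pow_pos hq.pos)
  have h4 : Nat.card X * Module.finrank ℂ (fixR τ X) ≤ d' + (Nat.card X - 1) * c := by
    apply card_mul_fix_le
    intro y hy hy1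
    have h5 := norm_sq_le hπ τ hτ y
    have h6 : Nat.card (Subgroup.centralizer ({MonoidHom.id S y} : Set S)) ≤ c ^ 2 := hc y hy hy1
    have h7 : ‖τ.character y‖ ^ 2 ≤ (c : ℝ) ^ 2 := h5.trans (by exact_mod_cast h6)
    exact (sq_le_sq₀ (norm_nonneg _) (Nat.cast_nonneg c)).1 h7
  have hX1 : 1 ≤ Nat.card X := Nat.card_pos
  have h5 : (Nat.card X - 1) * (B - c) ≤ Nat.card X * (d - f) := by
    obtain ⟨m, hm⟩ : ∃ m, Nat.card X = m + 1 := ⟨Nat.card X - 1, by omega⟩
    rw [hm] at h4 ⊢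
    rw [Nat.add_sub_cancel] at h4 ⊢
    rcases Nat.le_total B c with hBc | hBc
    · rw [Nat.sub_eq_zero_of_le hBc, mul_zero]; exact Nat.zero_le _
    set a := Module.finrank ℂ (fixR τ X) with ha
    obtain ⟨e, he⟩ : ∃ e, B = c + e := ⟨B - c, by omega⟩
    obtain ⟨k, hk⟩ : ∃ k, d = f + k := ⟨d - f, by omega⟩
    have h8 : B - c = e := by omega
    have h9 : d - f = k := by omega
    rw [h8, h9]
    have h10 : d' ≤ k + a := by omega
    have h11 : (m + 1) * d' ≤ (m + 1) * (k + a) := Nat.mul_le_mul_left _ h10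
    have h12 : m * (c + e) ≤ m * d' := Nat.mul_le_mul_left _ (by omega)
    linarith only [h4, h11, h12]
  calc q ^ ((Nat.card X - 1) * (B - c)) ≤ q ^ (Nat.card X * (d - f)) := Nat.pow_le_pow_right hq.pos h5
    _ = (q ^ (d - f)) ^ Nat.card X := by rw [mul_comm, pow_mul]
    _ ≤ _ := Nat.pow_le_pow_left h2 _

/-- the form used here: an element of order `p` -/
theorem ch_elt_self (h : PSit p q S V) (hperf : commutator S = ⊤) {B c I q0 : ℕ} (hB : Dg S B) {x : S}
    (hx : orderOf x = p)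
    (hc : ∀ y : S, orderOf y = p → Nat.card (Subgroup.centralizer ({y} : Set S)) ≤ c ^ 2)
    (hI : (Subgroup.normalizer ((Subgroup.zpowers x : Subgroup S) : Set S)).index ≤ I) (hq : q0 ≤ q)
    (hnum : I ^ p < q0 ^ ((p - 1) * (B - c))) : False := by
  have : Fact p.Prime := ⟨h.hp⟩
  have hcX : Nat.card (Subgroup.zpowers x) = p := by rw [Nat.card_zpowers, hx]
  have hX : IsPGroup p (Subgroup.zpowers x) := IsPGroup.of_card (n := 1) (by rw [hcX, pow_one])
  have h1 := ch_self (c := c) h hperf hB (Subgroup.zpowers x) hX (fun y hy hy1 => by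
    apply hc
    have h2 : orderOf y ∣ p := by
      rw [← hcX]
      exact Subgroup.orderOf_dvd_natCard _ hy
    rcases (Nat.dvd_prime h.hp).1 h2 with h3 | h3
    · exact absurd (orderOf_eq_one_iff.1 h3) hy1
    · exact h3)
  rw [hcX] at h1
  have h2 := Nat.pow_le_pow_left hI p
  have h3 := Nat.pow_le_pow_left hq ((p - 1) * (B - c))
  omega

end general

/-! ### Sylow subgroups and images -/

theorem sups_ge {S : Type} [Group S] {p : ℕ} (l : List (Sylow p S)) (H : Subgroup S) : H ≤ sups l H := by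
  induction l with
  | nil => exact le_rfl
  | cons P l ih => exact ih.trans le_sup_right

theorem sups_map {K S : Type} [Group K] [Group S] {p : ℕ} (φ : K →* S) (f : Sylow p K → Sylow p S)
    (hf : ∀ P : Sylow p K, (P : Subgroup K).map φ ≤ (f P : Subgroup S)) (l : List (Sylow p K)) (H : Subgroup S) :
    (sups l ⊥).map φ ≤ sups (l.map f) H := by
  induction l with
  | nil =>
    change (⊥ : Subgroup K).map φ ≤ _
    rw [Subgroup.map_bot]
    exact bot_le
  | cons P l ih =>
    change ((P : Subgroup K) ⊔ sups l ⊥).map φ ≤ (f P : Subgroup S) ⊔ sups (l.map f) H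
    rw [Subgroup.map_sup]
    exact sup_le_sup (hf P) ih

/-- `S` generated by the images of two groups `K` with few Sylow subgroups -/
theorem exists_list_two {K S : Type} [Group K] [Finite K] [IsSimpleGroup K] [Group S] [Finite S] {p : ℕ} (hp : p.Prime)
    (hpK : p ∣ Nat.card K) {m : ℕ} (hm : ∀ n : ℕ, (p + 1) ^ (n - 1) ≤ ordCompl[p] (Nat.card K) → n ≤ m)
    (φ ψ : K →* S) (hS : φ.range ⊔ ψ.range = ⊤) :
    ∃ l : List (Sylow p S), sups l ⊥ = ⊤ ∧ l.length ≤ 2 * m := by
  have : Fact p.Prime := ⟨hp⟩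
  obtain ⟨l, -, hl, hn⟩ := exists_list (S := K) hp (eq_top_of_sylow hp hpK)
  have hf : ∀ (θ : K →* S) (P : Sylow p K), ∃ Q : Sylow p S, (P : Subgroup K).map θ ≤ (Q : Subgroup S) := fun θ P =>
    (P.isPGroup'.map θ).exists_le_sylow
  choose f hf using hf
  refine ⟨l.map (f φ) ++ l.map (f ψ), ?_, ?_⟩
  · rw [eq_top_iff, ← hS, sups_append]
    refine sup_le ?_ ?_
    · have h1 := sups_map φ (f φ) (hf φ) l (sups (l.map (f ψ)) ⊥)
      rwa [hl, ← MonoidHom.range_eq_map] at h1
    · have h1 := sups_map ψ (f ψ) (hf ψ) l ⊥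
      rw [hl, ← MonoidHom.range_eq_map] at h1
      exact h1.trans (sups_ge _ _)
  · rw [List.length_append, List.length_map, List.length_map]
    have := hm _ hn
    omega

theorem perfect_of_simple {S : Type} [Group S] [IsSimpleGroup S] (h : ¬ IsMulCommutative S) : commutator S = ⊤ := by
  rcases (inferInstance : (commutator S).Normal).eq_bot_or_eq_top with h1 | h1
  · exfalso
    apply h
    refine ⟨⟨fun a b => ?_⟩⟩
    have h2 : ⁅a, b⁆ ∈ commutator S := by
      rw [commutator_def]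
      exact Subgroup.commutator_mem_commutator (Subgroup.mem_top a) (Subgroup.mem_top b)
    rw [h1, Subgroup.mem_bot, commutatorElement_eq_one_iff_mul_comm] at h2
    exact h2
  · exact h1

theorem dg_of_md {S : Type} [Group S] {B : ℕ} (h : Cfsg.Agent.H954.OutDeg.MD S B) : Dg S B := by
  intro d τ hτ hd
  have h1 : charDegree τ.character = d := by
    apply Cfsg.Agent.Blocks.Basic.charDegree_of_eq
    rw [Representation.char_one, Module.finrank_fin_fun]
  have h2 := h ⟨τ.character, d, τ, hτ, rfl⟩ (by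
    change charDegree τ.character ≠ 1
    omega)
  change B ≤ charDegree τ.character at h2
  omega

variable {F : Type} [Field F] [Fintype F]

theorem exists_ne (h3 : 3 ≤ Fintype.card F) : ∃ a : F, a ≠ 0 ∧ a ≠ 1 := by
  classical
  by_contra hcon
  push Not at hcon
  have h1 : Fintype.card F ≤ ({0, 1} : Finset F).card := by
    rw [← Finset.card_univ]
    refine Finset.card_le_card fun x _ => ?_
    by_cases hx : x = 0
    · simp only [hx, _root_.Finset.mem_insert, _root_.Finset.mem_singleton, _root_.zero_ne_one, _root_.or_false]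
    · simp only [hcon x hx, _root_.Finset.mem_insert, _root_.one_ne_zero, _root_.Finset.mem_singleton, _root_.or_true]
  have h2 : ({0, 1} : Finset F).card ≤ 2 := Finset.card_le_two
  omega

/-! ### `G₂(3)` -/

theorem dg_three (hF : Fintype.card F = 3) : Dg ↥(chevG2.group F) 12 := by
  classical
  have hfin : Finite ↥(chevG2.group F) := inferInstance
  have hs := Cfsg.Agent.S1055.result (exists_ne (F := F) (by omega))
  have := hs.1
  obtain ⟨π, -, -, hker⟩ := Cfsg.Agent.H120.GTwo.exists_pi F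
  have hS := (S2332.result (F := F) 3 le_rfl (by simp [hF])).1
  rw [hF] at hS
  have hSL : H122.MinDeg (Matrix.SpecialLinearGroup (Fin 3) F) 12 :=
    Cfsg.Agent.H121.Cyc.minDeg_of_fin (Cfsg.Agent.LieClassical.SLGen.commutator_eq_top (by simp)) hS
  have hG : H122.MinDeg ↥(chevG2.group F) 12 := by
    refine Cfsg.Agent.H121.Cyc.MinDeg.of_hom hSL π ?_
    by_contra hcon
    push Not at hcon
    have h2 : (⟨Matrix.transvection 0 1 (1 : F), by simp⟩ * ⟨Matrix.transvection 1 2 (1 : F), by simp⟩ :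
        Matrix.SpecialLinearGroup (Fin 3) F) =
        ⟨Matrix.transvection 1 2 (1 : F), by simp⟩ * ⟨Matrix.transvection 0 1 (1 : F), by simp⟩ :=
      Subgroup.mem_center_iff.1 (hker (hcon _)) _
    have h3 := congrArg (fun M : Matrix.SpecialLinearGroup (Fin 3) F => (M : Matrix (Fin 3) (Fin 3) F) 0 2) h2
    have h4 : (Matrix.transvection 0 1 (1 : F) * Matrix.transvection 1 2 (1 : F) : Matrix (Fin 3) (Fin 3) F) 0 2 =
      (Matrix.transvection 1 2 (1 : F) * Matrix.transvection 0 1 (1 : F) : Matrix (Fin 3) (Fin 3) F) 0 2 := h3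
    simp only [Matrix.transvection, Matrix.mul_apply, Fin.sum_univ_three, Matrix.one_apply, Matrix.single_apply, _root_.Fin.isValue, _root_.Matrix.add_apply, _root_.true_and, _root_.and_true, ↓ _root_.reduceIte, _root_.one_ne_zero, _root_.add_zero, _root_.Fin.reduceEq, _root_.MulZeroClass.mul_zero, _root_.zero_ne_one, _root_.zero_add, _root_.mul_one, _root_.false_and, _root_.not_false_eq_true, _root_.Matrix.single_apply_of_ne, _root_.and_false, _root_.mul_ite, _root_.Finset.sum_ite_eq', _root_.Finset.mem_univ] at h4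
  intro d τ hτ hd
  have h1 := hG (Fin d → ℂ) τ (Cfsg.Agent.H121.Chr.exists_ne_one τ hτ hd)
  rwa [Module.finrank_fin_fun] at h1

theorem row_g23 (hF : Fintype.card F = 3) : NoSit ↥(chevG2.group F) := by
  intro p q L V _ _ _ _ _ π N φ hπ h
  have hfin : Finite ↥(chevG2.group F) := inferInstance
  have hs := Cfsg.Agent.S1055.result (exists_ne (F := F) (by omega))
  have := hs.1
  have hperf := perfect_of_simple hs.2
  have hm : MultDvd ↥(chevG2.group F) 3 := multDvd_of_cyclic (by norm_num) (Cfsg.Agent.S2101.result hF)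
  have hcard := Cfsg.Agent.H332.Cyc.card_three hF
  obtain ⟨r, hr, hrp, hr3⟩ := H759.QA.Sit.exists_prime_dvd h hπ hm
  have hp3 : p ≠ 3 := by
    rintro rfl
    exact hrp ((Nat.prime_dvd_prime_iff_eq hr Nat.prime_three).1 hr3)
  obtain ⟨act, hP⟩ := h.exists_pSit_prime hπ Nat.prime_three hm
  have hpG := hP.pG
  have hqG := hP.qG
  rw [hcard] at hpG hqG
  have hpp := hP.hp
  have hqq := hP.hq
  have hq5 : 5 ≤ q := by
    by_contra hlt
    have h1 := hqq.two_le
    interval_cases q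
    · exact hqG (by norm_num)
    · exact hqG (by norm_num)
    · exact absurd hqq (by norm_num)
  have h713 : p = 7 ∨ p = 13 := by
    rw [show (4245696 : ℕ) = 2 ^ 6 * 3 ^ 6 * 7 * 13 by norm_num] at hpG
    rcases hpp.dvd_mul.1 hpG with h1 | h1
    · rcases hpp.dvd_mul.1 h1 with h2 | h2
      · rcases hpp.dvd_mul.1 h2 with h3 | h3
        · exact absurd ((Nat.prime_dvd_prime_iff_eq hpp Nat.prime_two).1 (hpp.dvd_of_dvd_pow h3)) hP.odd
        · exact absurd ((Nat.prime_dvd_prime_iff_eq hpp Nat.prime_three).1 (hpp.dvd_of_dvd_pow h3)) hp3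
      · exact Or.inl ((Nat.prime_dvd_prime_iff_eq hpp (by norm_num)).1 h2)
    · exact Or.inr ((Nat.prime_dvd_prime_iff_eq hpp (by norm_num)).1 h1)
  have hp2 : ¬ p ^ 2 ∣ Nat.card ↥(chevG2.group F) := by
    rw [hcard]
    rcases h713 with rfl | rfl <;> norm_num
  have hC : ∀ y : ↥(chevG2.group F), orderOf y = p →
      Nat.card (Subgroup.centralizer ({y} : Set ↥(chevG2.group F))) ≤ p := by
    intro y hy
    have h1 : Subgroup.centralizer ({y} : Set ↥(chevG2.group F)) ≤ Subgroup.zpowers y := by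
      intro g hg
      exact H332.Cyc.mem_zpowers_of_comm hpp hp2 (H332.Cyc.iso_top hF h713) hy g
        (Subgroup.mem_centralizer_singleton_iff.1 hg).symm
    have h2 := Subgroup.card_le_of_le h1
    rwa [Nat.card_zpowers, hy] at h2
  have : Fact p.Prime := ⟨hpp⟩
  obtain ⟨x, hx⟩ := exists_prime_orderOf_dvd_card' (G := ↥(chevG2.group F)) p (by rw [hcard]; exact hP.pG.trans (by rw [hcard]))
  -- the normaliser
  have hN : Nat.card (Subgroup.normalizer ((Subgroup.zpowers x : Subgroup ↥(chevG2.group F)) :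
      Set ↥(chevG2.group F))) = p * 6 := by
    obtain ⟨e, he, hN⟩ := Cfsg.Agent.SmallSimple.S1000.SevenCases.card_normalizer (p := p) hpp hx
      (fun g hg => H332.Cyc.mem_zpowers_of_comm hpp hp2 (H332.Cyc.iso_top hF h713) hx g hg)
    obtain ⟨n, hn, hn1⟩ := Cfsg.Agent.SmallSimple.S1000.SevenCases.exists_modEq hpp hx hp2
    rw [hN] at hn ⊢
    rw [hcard] at hn
    rcases h713 with rfl | rfl
    · have h6 : e ≤ 6 := Nat.le_of_dvd (by norm_num) he
      have h7 : e * n = 606528 := by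
        have : 7 * (e * n) = 7 * 606528 := by rw [← mul_assoc, ← hn]
        omega
      have h8 : (e * n) % 7 = e % 7 := by
        rw [Nat.mul_mod, hn1, Nat.mod_eq_of_lt (show 1 < 7 by norm_num), mul_one, Nat.mod_mod]
      rw [h7] at h8
      omega
    · have h6 : e ≤ 12 := Nat.le_of_dvd (by norm_num) he
      have h7 : e * n = 326592 := by
        have : 13 * (e * n) = 13 * 326592 := by rw [← mul_assoc, ← hn]
        omega
      have h8 : (e * n) % 13 = e % 13 := by
        rw [Nat.mul_mod, hn1, Nat.mod_eq_of_lt (show 1 < 13 by norm_num), mul_one, Nat.mod_mod]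
      rw [h7] at h8
      omega
  have hI := (Subgroup.normalizer ((Subgroup.zpowers x : Subgroup ↥(chevG2.group F)) :
      Set ↥(chevG2.group F))).card_mul_index
  rw [hN, hcard] at hI
  rcases h713 with rfl | rfl
  · exact ch_elt_self (c := 3) (I := 101088) (q0 := 5) hP hperf (dg_three hF) hx
      (fun y hy => (hC y hy).trans (by norm_num)) (by omega) hq5 (by norm_num)
  · exact ch_elt_self (c := 4) (I := 54432) (q0 := 5) hP hperf (dg_three hF) hx
      (fun y hy => (hC y hy).trans (by norm_num)) (by omega) hq5 (by norm_num)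

/-! ### `G₂(4)` -/

section four

open Cfsg.Agent.ChevalleyStructure.Elts

/-- the homomorphisms `SL₂ → G₂` of the simple roots generate -/
theorem exists_two_hom (F : Type) [Field F] : ∃ φ ψ : Matrix.SpecialLinearGroup (Fin 2) F →* ↥(chevG2.group F),
    φ.range ⊔ ψ.range = ⊤ := by
  have hL : InList chevG2 := by simp
  have hs : ∀ i < 2, chevG2.simple i < chevG2.nroots := by decide +kernel
  have hr : chevG2.rank = 2 := rfl
  have key : ∀ i < 2, ∃ φ : Matrix.SpecialLinearGroup (Fin 2) F →* ↥(chevG2.group F),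
      (∀ t : F, xG hL (chevG2.simple i) t ∈ φ.range.map (chevG2.group F).subtype) ∧
      ∀ t : F, xG hL (chevG2.neg (chevG2.simple i)) t ∈ φ.range.map (chevG2.group F).subtype := by
    intro i hi
    obtain ⟨φ, hφ, -⟩ := Cfsg.Agent.S1030.result (F := F) chevG2 hL (chevG2.simple i) (hs i hi)
    have hn : chevG2.neg (chevG2.simple i) < chevG2.nroots := by
      have : ∀ i < 2, chevG2.neg (chevG2.simple i) < chevG2.nroots := by decide +kernel
      exact this i hi
    have hmem : ∀ g, φ g ∈ chevG2.group F := by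
      have h1 : φ.range ≤ chevG2.group F := by
        rw [hφ]
        refine sup_le ?_ ?_
        · intro y hy
          obtain ⟨t, rfl⟩ := (mem_rootSubgroup_iff hL _ y).1 hy
          exact xG_mem_group hL _ t
        · intro y hy
          obtain ⟨t, rfl⟩ := (mem_rootSubgroup_iff hL _ y).1 hy
          exact xG_mem_group hL _ t
      exact fun g => h1 ⟨g, rfl⟩
    refine ⟨φ.codRestrict _ hmem, fun t => ?_, fun t => ?_⟩
    · have h2 : xG hL (chevG2.simple i) t ∈ φ.range := by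
        rw [hφ]; exact Subgroup.mem_sup_left (xG_mem_rootSubgroup hL _ t)
      obtain ⟨g, hg⟩ := h2
      exact ⟨φ.codRestrict _ hmem g, ⟨g, rfl⟩, hg⟩
    · have h2 : xG hL (chevG2.neg (chevG2.simple i)) t ∈ φ.range := by
        rw [hφ]; exact Subgroup.mem_sup_right (xG_mem_rootSubgroup hL _ t)
      obtain ⟨g, hg⟩ := h2
      exact ⟨φ.codRestrict _ hmem g, ⟨g, rfl⟩, hg⟩
  obtain ⟨φ, h0, h0'⟩ := key 0 (by norm_num)
  obtain ⟨ψ, h1, h1'⟩ := key 1 (by norm_num)
  refine ⟨φ, ψ, ?_⟩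
  have h2 : chevG2.group F ≤ (φ.range ⊔ ψ.range).map (chevG2.group F).subtype := by
    refine Cfsg.Agent.TitsThree.KExcBase.group_le_of_simple hL _ ?_ ?_
    · intro i hi t
      rw [hr] at hi
      interval_cases i
      · exact Subgroup.map_mono le_sup_left (h0 t)
      · exact Subgroup.map_mono le_sup_right (h1 t)
    · intro i hi t
      rw [hr] at hi
      interval_cases i
      · exact Subgroup.map_mono le_sup_left (h0' t)
      · exact Subgroup.map_mono le_sup_right (h1' t)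
  rw [eq_top_iff]
  rintro ⟨g, hg⟩ -
  obtain ⟨y, hy, hyg⟩ := h2 hg
  have : y = ⟨g, hg⟩ := Subtype.ext hyg
  rwa [← this]

theorem dg_four (hF : Fintype.card F = 4) : Dg ↥(chevG2.group F) 48 := by
  have hs := Cfsg.Agent.S1055.result (exists_ne (F := F) (by omega))
  have h3 : (3 : F) ≠ 0 := by
    have : Fact (Nat.Prime 2) := ⟨Nat.prime_two⟩
    have hc : CharP F 2 := charP_of_card_eq_prime_pow (f := 2) (by rw [hF]; norm_num)
    have h2 : (2 : F) = 0 := by exact_mod_cast CharP.cast_eq_zero F 2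
    intro h
    have : (1 : F) = 0 := by linear_combination h - h2
    exact one_ne_zero this
  have h := H332.Cyc.md_other h3 hs.1
  rw [hF] at h
  exact dg_of_md h

theorem card_four (hF : Fintype.card F = 4) : Nat.card ↥(chevG2.group F) = 251596800 := by
  rw [Cfsg.Agent.S1059.result (F := F) hF]
  norm_num

theorem iso_thirteen (hF : Fintype.card F = 4) (x : ↥(chevG2.group F)) (r : ℕ) (hr : r.Prime) : orderOf x ≠ 13 * r := by
  intro h
  have : Fact (Nat.Prime 2) := ⟨Nat.prime_two⟩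
  obtain ⟨N, hN, h1⟩ := Cfsg.Agent.H161.G2Main.upper (p := 2) (n := 2) (by rw [hF]; norm_num) (by norm_num) ⟨x, rfl⟩
  rw [h] at hN
  have h2 := hr.two_le
  norm_num at h1
  rcases h1 with h1 | h1 | h1 | h1 | h1 | h1 | h1 <;> subst h1 <;>
    (have := Nat.le_of_dvd (by norm_num) hN; (clear * - h2 this; omega))

theorem row_g24 (hF : Fintype.card F = 4) : NoSit ↥(chevG2.group F) := by
  intro p q L V _ _ _ _ _ π N φ hπ h
  have hfin : Finite ↥(chevG2.group F) := inferInstance
  have hs := Cfsg.Agent.S1055.result (exists_ne (F := F) (by omega))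
  have := hs.1
  have hperf := perfect_of_simple hs.2
  have hm : MultDvd ↥(chevG2.group F) 2 := multDvd_of_cyclic (by norm_num) (Cfsg.Agent.S2102.result hF)
  have hcard := card_four hF
  obtain ⟨act, hP⟩ := h.exists_pSit_prime hπ Nat.prime_two hm
  have hpG := hP.pG
  have hqG := hP.qG
  rw [hcard] at hpG hqG
  have hpp := hP.hp
  have hqq := hP.hq
  have hq11 : 11 ≤ q := by
    by_contra hlt
    have h1 := hqq.two_le
    interval_cases q
    · exact hqG (by norm_num)
    · exact hqG (by norm_num)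
    · exact absurd hqq (by norm_num)
    · exact hqG (by norm_num)
    · exact absurd hqq (by norm_num)
    · exact hqG (by norm_num)
    · exact absurd hqq (by norm_num)
    · exact absurd hqq (by norm_num)
    · exact absurd hqq (by norm_num)
  have hp4 : p = 3 ∨ p = 5 ∨ p = 7 ∨ p = 13 := by
    rw [show (251596800 : ℕ) = 2 ^ 12 * 3 ^ 3 * 5 ^ 2 * 7 * 13 by norm_num] at hpG
    rcases hpp.dvd_mul.1 hpG with h1 | h1
    · rcases hpp.dvd_mul.1 h1 with h2 | h2
      · rcases hpp.dvd_mul.1 h2 with h3 | h3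
        · rcases hpp.dvd_mul.1 h3 with h4 | h4
          · exact absurd ((Nat.prime_dvd_prime_iff_eq hpp Nat.prime_two).1 (hpp.dvd_of_dvd_pow h4)) hP.odd
          · exact Or.inl ((Nat.prime_dvd_prime_iff_eq hpp Nat.prime_three).1 (hpp.dvd_of_dvd_pow h4))
        · exact Or.inr (Or.inl ((Nat.prime_dvd_prime_iff_eq hpp (by norm_num)).1 (hpp.dvd_of_dvd_pow h3)))
      · exact Or.inr (Or.inr (Or.inl ((Nat.prime_dvd_prime_iff_eq hpp (by norm_num)).1 h2)))
    · exact Or.inr (Or.inr (Or.inr ((Nat.prime_dvd_prime_iff_eq hpp (by norm_num)).1 h1)))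
  have hD := dg_four hF
  have : Fact p.Prime := ⟨hpp⟩
  -- the primes 7 and 13
  have big : (∀ y : ↥(chevG2.group F), orderOf y = p →
      Nat.card (Subgroup.centralizer ({y} : Set ↥(chevG2.group F))) ≤ 5 ^ 2) → 7 ≤ p → False := by
    intro hc hp7
    obtain ⟨x, hx⟩ := exists_prime_orderOf_dvd_card' (G := ↥(chevG2.group F)) p (by rw [hcard]; exact hP.pG.trans (by rw [hcard]))
    refine ch_elt_self (c := 5) (I := 251596800) (q0 := 11) (B := 20) hP hperf
      (fun d τ hτ hd => le_trans (by norm_num) (hD d τ hτ hd)) hx hc ?_ hq11 ?_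
    · rw [← hcard]
      exact Nat.le_of_dvd Nat.card_pos (Subgroup.index_dvd_card _)
    · rcases hp4 with rfl | rfl | rfl | rfl
      · omega
      · omega
      · norm_num
      · norm_num
  -- the primes 3 and 5
  have small : p ∣ 60 → (∀ n : ℕ, (p + 1) ^ (n - 1) ≤ ordCompl[p] 60 → n ≤ 3) →
      ordCompl[p] 251596800 ≤ 10063872 → False := by
    intro hp60 hn hoc
    have hSL : IsSimpleGroup (Matrix.SpecialLinearGroup (Fin 2) F) := H320.Kill.simple_sl (by
      have : Fact (Nat.Prime 2) := ⟨Nat.prime_two⟩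
      have hc : CharP F 2 := charP_of_card_eq_prime_pow (f := 2) (by rw [hF]; norm_num)
      exact_mod_cast CharP.cast_eq_zero F 2) (by rw [Nat.card_eq_fintype_card, hF])
    have hcK : Nat.card (Matrix.SpecialLinearGroup (Fin 2) F) = 60 := by
      rw [Cfsg.Agent.ClassicalGeometry.PSL2Basic.card_SL2, hF]
      norm_num
    obtain ⟨φ₁, φ₂, hgen⟩ := exists_two_hom F
    obtain ⟨l, hl, hlen⟩ := exists_list_two (p := p) hpp (by rw [hcK]; exact hp60) (m := 3) (by rw [hcK]; exact hn)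
      φ₁ φ₂ hgen
    have h1 := card_le_of_list h hπ l hl
    have h2 := card_V hP hperf hD
    have h3 := card_sylow_le_ordCompl (S := ↥(chevG2.group F)) hpp
    rw [hcard] at h3
    have h4 : Nat.card (Sylow p ↥(chevG2.group F)) ^ l.length ≤ 10063872 ^ 6 :=
      (Nat.pow_le_pow_left (h3.trans hoc) _).trans (Nat.pow_le_pow_right (by norm_num) hlen)
    have h5 := Nat.pow_le_pow_left hq11 48
    have h6 : (10063872 : ℕ) ^ 6 < 11 ^ 48 := by norm_num
    omega
  rcases hp4 with rfl | rfl | rfl | rfl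
  · have e1 : ordCompl[3] 60 = 20 := by
      rw [show (60 : ℕ) = 3 ^ 1 * 20 by norm_num, Nat.factorization_mul (by norm_num) (by norm_num),
        Nat.Prime.factorization_pow (by norm_num)]
      simp [Nat.factorization_eq_zero_of_not_dvd (show ¬ 3 ∣ 20 by norm_num)]
    have e2 : ordCompl[3] 251596800 = 9318400 := by
      rw [show (251596800 : ℕ) = 3 ^ 3 * 9318400 by norm_num, Nat.factorization_mul (by norm_num) (by norm_num),
        Nat.Prime.factorization_pow (by norm_num)]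
      simp [Nat.factorization_eq_zero_of_not_dvd (show ¬ 3 ∣ 9318400 by norm_num)]
    refine small (by norm_num) (fun n hn => ?_) (by rw [e2]; norm_num)
    rw [e1] at hn
    by_contra h4
    have h5 := (Nat.pow_le_pow_right (show 0 < 3 + 1 by norm_num) (show 3 ≤ n - 1 by omega)).trans hn
    norm_num at h5
  · have e1 : ordCompl[5] 60 = 12 := by
      rw [show (60 : ℕ) = 5 ^ 1 * 12 by norm_num, Nat.factorization_mul (by norm_num) (by norm_num),
        Nat.Prime.factorization_pow (by norm_num)]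
      simp [Nat.factorization_eq_zero_of_not_dvd (show ¬ 5 ∣ 12 by norm_num)]
    have e2 : ordCompl[5] 251596800 = 10063872 := by
      rw [show (251596800 : ℕ) = 5 ^ 2 * 10063872 by norm_num, Nat.factorization_mul (by norm_num) (by norm_num),
        Nat.Prime.factorization_pow (by norm_num)]
      simp [Nat.factorization_eq_zero_of_not_dvd (show ¬ 5 ∣ 10063872 by norm_num)]
    refine small (by norm_num) (fun n hn => ?_) (by rw [e2])
    rw [e1] at hn
    by_contra h4
    have h5 := (Nat.pow_le_pow_right (show 0 < 5 + 1 by norm_num) (show 3 ≤ n - 1 by omega)).trans hn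
    norm_num at h5
  · exact big (fun y hy => by
      have := H120.DP.GTwo.card_cent (F := F) (by omega) (l := 7) (by norm_num) (by norm_num) (by rw [hF]; norm_num) hy
      rw [hF] at this
      omega) (by norm_num)
  · exact big (fun y hy => by
      have hp2 : ¬ 13 ^ 2 ∣ Nat.card ↥(chevG2.group F) := by rw [hcard]; norm_num
      have h1 : Subgroup.centralizer ({y} : Set ↥(chevG2.group F)) ≤ Subgroup.zpowers y := by
        intro g hg
        exact H332.Cyc.mem_zpowers_of_comm (by norm_num) hp2 (iso_thirteen hF) hy g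
          (Subgroup.mem_centralizer_singleton_iff.1 hg).symm
      have h2 := Subgroup.card_le_of_le h1
      rw [Nat.card_zpowers, hy] at h2
      omega) (by norm_num)

end four

end Cfsg.Agent.H831.QA
end

-- part: H440/QA/Deg
section
/-!
# S4979, layer (A): degree bounds from S4904 (helper440)

`minDeg_of_4904`: a finite simple group `S` with `p ∣ |S|`, `p ≤ 28`, `p ≠ 5, 7, 17`, `p` prime to the multiplier, not isomorphic to
`PSL₂(p)`: all non-trivial irreducible representations of covers have degree `≥ p - 1`. S4904 is a hypothesis (its closure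
contains S0000): `St4904` is `@Cfsg.Agent.S4904.result.{0}`.
-/

set_option autoImplicit false

open Cfsg

namespace Cfsg.Agent.H440.QA

open Cfsg.Agent.H80.Fpf Cfsg.Agent.H152.QA
open scoped commutatorElement

/-- S4904 for groups in `Type` -/
def St4904 : Prop :=
  ∀ {G : Type} [Group G] [Finite G] (d : ℕ) (_ : d < 27) (χ : Cfsg.IrrCharacter G)
    (_ : Cfsg.charDegree (χ : G → ℂ) = d) (_ : ∀ g : G, (χ : G → ℂ) g = (χ : G → ℂ) 1 → g = 1)
    (p : ℕ) [Fact p.Prime] (_ : d + 1 < p) (P : Sylow p G), (P : Subgroup G).Normal ∨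
    (Nonempty (G ⧸ Subgroup.center G ≃* Matrix.ProjectiveSpecialLinearGroup (Fin 2) (ZMod p)) ∧
      (2 * d = p + 1 ∨ 2 * d = p - 1)) ∨
    (p = 17 ∧ d = 15 ∧ ∃ (A : Type) (_ : CommGroup A) (_ : Finite A),
      Nonempty (G ≃* Matrix.SpecialLinearGroup (Fin 2) (GaloisField 2 4) × A)) ∨
    (p = 7 ∧ d = 4 ∧ Nonempty (G ⧸ Subgroup.center G ≃* ↥(alternatingGroup (Fin 7)))) ∨
    (p = 5 ∧ d = 3 ∧ Nonempty (G ⧸ Subgroup.center G ≃* ↥(alternatingGroup (Fin 6))))

/-- the group of a cover is perfect, so is `S` -/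
theorem perf_of_cover {L S : Type} [Group L] [Group S] {π : L →* S} (hπ : IsCover π) : commutator S = ⊤ := by
  rw [← map_commutator_of_surj hπ.surj, hπ.perf, ← MonoidHom.range_eq_map]
  exact MonoidHom.range_eq_top.2 hπ.surj

theorem minDeg_of_4904 (H : St4904) {S : Type} [Group S] [Finite S] [IsSimpleGroup S] {p m : ℕ} (hp : p.Prime)
    (hp28 : p ≤ 28) (hpS : p ∣ Nat.card S) (hm : MultDvd S m) (hpm : ¬ p ∣ m) (h5 : p ≠ 5) (h7 : p ≠ 7)
    (h17 : p ≠ 17) (hL : IsEmpty (S ≃* Matrix.ProjectiveSpecialLinearGroup (Fin 2) (ZMod p))) :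
    MinDeg S (p - 1) := by
  intro G _ _ π hπ d ρ hρ hd
  by_contra hlt
  push Not at hlt
  have hfact := Fact.mk hp
  have hKπ : MonoidHom.ker (ρ : G →* _) ≤ π.ker := by
    rcases ((inferInstance : (MonoidHom.ker (ρ : G →* _)).Normal).map π hπ.surj).eq_bot_or_eq_top with h | h
    · intro k hk
      have h1 : π k ∈ (MonoidHom.ker (ρ : G →* _)).map π := ⟨k, hk, rfl⟩
      rw [h] at h1
      exact Subgroup.mem_bot.1 h1
    · exfalso
      obtain ⟨g, hg⟩ := Cfsg.Agent.H121.Chr.exists_ne_one ρ hρ hd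
      apply hg
      have hcomm : commutator G ≤ MonoidHom.ker (ρ : G →* _) := by
        rw [commutator_def, Subgroup.commutator_le]
        intro a _ b _
        have key : ∀ a : G, ∃ k ∈ MonoidHom.ker (ρ : G →* _), ∃ z ∈ Subgroup.center G, a = k * z := by
          intro a
          have h1 : π a ∈ (MonoidHom.ker (ρ : G →* _)).map π := by rw [h]; trivial
          obtain ⟨k, hk, hka⟩ := h1
          refine ⟨k, hk, k⁻¹ * a, hπ.central ?_, by group⟩
          rw [MonoidHom.mem_ker, map_mul, map_inv, hka, inv_mul_cancel]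
        obtain ⟨k, hk, z, hz, rfl⟩ := key a
        have hz' := Subgroup.mem_center_iff.1 hz
        have h1 : ⁅k * z, b⁆ = k * (b * k⁻¹ * b⁻¹) := by
          have h2 : z * b * z⁻¹ = b := by rw [← hz' b, mul_inv_cancel_right]
          rw [commutatorElement_def, mul_inv_rev]
          calc k * z * b * (z⁻¹ * k⁻¹) * b⁻¹ = k * (z * b * z⁻¹) * k⁻¹ * b⁻¹ := by group
            _ = k * (b * k⁻¹ * b⁻¹) := by rw [h2]; group
        rw [h1]
        exact mul_mem hk ((inferInstance : (MonoidHom.ker (ρ : G →* _)).Normal).conj_mem _ (inv_mem hk) b)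
      rw [hπ.perf] at hcomm
      exact MonoidHom.mem_ker.1 (hcomm (Subgroup.mem_top g))
  -- the quotient by the kernel
  obtain ⟨K, hK⟩ : ∃ K : Subgroup G, K = MonoidHom.ker (ρ : G →* _) := ⟨_, rfl⟩
  rw [← hK] at hKπ
  have hKn : K.Normal := by rw [hK]; infer_instance
  have hχ : IsIrrCharacter G ρ.character := ⟨d, ρ, hρ, rfl⟩
  obtain ⟨χ, hχ', hχρ⟩ := H759.QA.descend (QuotientGroup.mk' K) (QuotientGroup.mk'_surjective K) ρ.character hχ
    (fun k hk => by
      have h1 : k ∈ K := (QuotientGroup.eq_one_iff k).1 hk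
      rw [hK] at h1
      have h2 : ρ k = 1 := h1
      show LinearMap.trace ℂ _ (ρ k) = LinearMap.trace ℂ _ (ρ 1)
      rw [h2, map_one ρ])
  have hχ1 : ρ.character 1 = (d : ℂ) := by
    rw [Representation.char_one, Module.finrank_fin_fun]
  have hdeg : charDegree χ = d := by
    unfold charDegree
    have h1 := hχρ 1
    rw [map_one] at h1
    rw [h1, hχ1, Complex.natCast_re, Nat.floor_natCast]
  have hfaith : ∀ g : G ⧸ K, χ g = χ 1 → g = 1 := by
    intro g hg
    obtain ⟨x, rfl⟩ := QuotientGroup.mk'_surjective K g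
    have h1 := hχρ 1
    rw [map_one] at h1
    rw [hχρ, h1, Representation.char_one, Characters.Values.character_eq_finrank_iff] at hg
    have h2 : x ∈ K := by
      rw [hK]
      exact hg
    exact (QuotientGroup.eq_one_iff x).2 h2
  let ψ : G ⧸ K →* S := QuotientGroup.lift K π (fun k hk => hKπ hk)
  have hψ : ∀ g, ψ (QuotientGroup.mk' K g) = π g := fun g => rfl
  have hcov : IsCover ψ := by
    refine ⟨?_, ?_, ?_⟩
    · intro s
      obtain ⟨g, rfl⟩ := hπ.surj s
      exact ⟨QuotientGroup.mk' K g, rfl⟩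
    · intro x hx
      obtain ⟨g, rfl⟩ := QuotientGroup.mk'_surjective K x
      have h1 : g ∈ Subgroup.center G := hπ.central hx
      rw [Subgroup.mem_center_iff]
      intro y
      obtain ⟨k, rfl⟩ := QuotientGroup.mk'_surjective K y
      rw [← map_mul, ← map_mul, Subgroup.mem_center_iff.1 h1 k]
    · rw [← map_commutator_of_surj (QuotientGroup.mk'_surjective K), hπ.perf, ← MonoidHom.range_eq_map]
      exact MonoidHom.range_eq_top.2 (QuotientGroup.mk'_surjective K)
  have hpk : ¬ p ∣ Nat.card ψ.ker := fun h => hpm (h.trans (hm _ ψ hcov))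
  have hcen := H759.QA.center_eq_ker hcov
  obtain ⟨P⟩ := (inferInstance : Nonempty (Sylow p (G ⧸ K)))
  have hSc : commutator S = ⊤ := perf_of_cover hπ
  rcases H d (by omega) ⟨χ, hχ'⟩ hdeg hfaith p (by omega) P with h | ⟨⟨e⟩, -⟩ | ⟨h, -⟩ | ⟨h, -⟩ | ⟨h, -⟩
  · rcases (h.map ψ hcov.surj).eq_bot_or_eq_top with h1 | h1
    · have h2 : (P : Subgroup (G ⧸ K)) ≤ ψ.ker := by
        intro x hx
        have h3 : ψ x ∈ (P : Subgroup (G ⧸ K)).map ψ := ⟨x, hx, rfl⟩
        rw [h1] at h3
        exact Subgroup.mem_bot.1 h3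
      apply hpk
      refine dvd_trans ?_ (Subgroup.card_dvd_of_le h2)
      refine Sylow.dvd_card_of_dvd_card P ?_
      have h3 : Nat.card (G ⧸ K) = Nat.card ψ.ker * Nat.card S := by
        rw [← Subgroup.card_mul_index ψ.ker, Subgroup.index_ker, MonoidHom.range_eq_top.2 hcov.surj, Subgroup.card_top]
      rw [h3]
      exact hpS.mul_left _
    · have h2 : IsPGroup p S := by
        have h3 := (P.isPGroup'.map ψ)
        rw [h1] at h3
        exact h3.of_equiv Subgroup.topEquiv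
      have h3 := h2.isNilpotent
      have h4 : Group.IsSolvable S := inferInstance
      have h5 := Group.IsSolvable.commutator_lt_top_of_nontrivial S
      rw [hSc] at h5
      exact lt_irrefl _ h5
  · have h1 : (G ⧸ K) ⧸ Subgroup.center (G ⧸ K) ≃* S :=
      (QuotientGroup.quotientMulEquivOfEq hcen).trans (QuotientGroup.quotientKerEquivOfSurjective ψ hcov.surj)
    exact hL.false (h1.symm.trans e)
  · exact h17 h
  · exact h7 h
  · exact h5 h

end Cfsg.Agent.H440.QA
end

-- part: H440/QA/Sz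
section
/-!
# S4979, layer (A): the row of the Suzuki groups (helper440)
-/

set_option autoImplicit false

open Cfsg

namespace Cfsg.Agent.H440.QA

open Cfsg.Agent.H80.Fpf Cfsg.Agent.H152.QA Cfsg.Agent.H98

section eight
variable {F : Type} [Field F] [Fintype F]

theorem card_eight (hF : Fintype.card F = 2 ^ (2 * 1 + 1)) : Nat.card (Cfsg.Sz F 1) = 29120 := by
  rw [Cfsg.Agent.S0324.result le_rfl hF]
  norm_num

theorem eight_free (hF : Fintype.card F = 2 ^ (2 * 1 + 1)) {p : ℕ} (hp : p = 5 ∨ p = 13) :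
    ∃ x : Cfsg.Sz F 1, orderOf x = p ∧ Nat.card (Subgroup.centralizer ({x} : Set (Cfsg.Sz F 1))) = p ∧
      Nat.card (Subgroup.normalizer ((Subgroup.zpowers x : Subgroup (Cfsg.Sz F 1)) : Set (Cfsg.Sz F 1))) = 4 * p := by
  have hpp : p.Prime := by rcases hp with rfl | rfl <;> norm_num
  have hfact := Fact.mk hpp
  obtain ⟨U, -, hU, hc, hn⟩ := Cfsg.Agent.S0333.result (F := F) le_rfl hF p (by
    rcases hp with rfl | rfl
    · right; rfl
    · left; rfl)
  obtain ⟨⟨x, hxU⟩, hx⟩ := exists_prime_orderOf_dvd_card' (G := U) p (by rw [hU])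
  have hx' : orderOf x = p := by
    rw [← hx]
    exact (Subgroup.orderOf_mk x hxU).symm
  have hx1 : x ≠ 1 := by
    rintro rfl
    rw [orderOf_one] at hx'
    exact hpp.one_lt.ne hx'
  have hz : Subgroup.zpowers x = U := by
    apply Subgroup.eq_of_le_of_card_ge
    · rw [Subgroup.zpowers_le]; exact hxU
    · rw [Nat.card_zpowers, hx', hU]
  refine ⟨x, hx', ?_, ?_⟩
  · rw [hc x hxU hx1, hU]
  · rw [hz, hn]

theorem eight_split (hF : Fintype.card F = 2 ^ (2 * 1 + 1)) :
    ∃ x : Cfsg.Sz F 1, orderOf x = 7 ∧ Nat.card (Subgroup.centralizer ({x} : Set (Cfsg.Sz F 1))) = 7 ∧ IsConj x x⁻¹ ∧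
      14 ≤ Nat.card (Subgroup.normalizer ((Subgroup.zpowers x : Subgroup (Cfsg.Sz F 1)) : Set (Cfsg.Sz F 1))) := by
  have hfin : Finite (Cfsg.Sz F 1) := by
    have : Nat.card (Cfsg.Sz F 1) ≠ 0 := by rw [card_eight hF]; norm_num
    exact Nat.finite_of_card_ne_zero this
  have hF8 : Fintype.card F = 8 := hF
  have hnt : Nontrivial Fˣ := by
    have : Nat.card Fˣ = 7 := by rw [Nat.card_units, Nat.card_eq_fintype_card, hF8]
    rw [← Finite.one_lt_card_iff_nontrivial, this]
    norm_num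
  obtain ⟨k, hk⟩ := exists_ne (1 : Fˣ)
  have hT : Nat.card (SzBasic.T (m := 1) hF) = 7 := by
    rw [SzBasic.card_T]
    norm_num
  have hxT : SzBasic.h (m := 1) hF k ∈ SzBasic.T (m := 1) hF := (SzBasic.mem_T_iff hF _).2 ⟨k, rfl⟩
  have hx1 : SzBasic.h (m := 1) hF k ≠ 1 := by
    rw [← SzBasic.h_one hF]
    intro h
    exact hk ((SzBasic.h_eq_iff hF k 1).1 h)
  have hx : orderOf (SzBasic.h (m := 1) hF k) = 7 := by
    have h1 := Subgroup.orderOf_dvd_natCard _ hxT
    rw [hT] at h1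
    exact ((Nat.dvd_prime (by norm_num)).1 h1).resolve_left fun h => hx1 (orderOf_eq_one_iff.1 h)
  have hw : SzBasic.w (m := 1) hF * SzBasic.h hF k * (SzBasic.w hF)⁻¹ = (SzBasic.h hF k)⁻¹ := by
    rw [SzBasic.w_mul_h, mul_inv_cancel_right, SzBasic.h_inv]
  refine ⟨SzBasic.h hF k, hx, ?_, isConj_iff.2 ⟨_, hw⟩, ?_⟩
  · rw [SzBasic.centralizer_h le_rfl hF hk, hT]
  · -- the normalizer contains `T` and `w`
    set x := SzBasic.h (m := 1) hF k with hxdef
    have hwN : SzBasic.w (m := 1) hF ∈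
        Subgroup.normalizer ((Subgroup.zpowers x : Subgroup (Cfsg.Sz F 1)) : Set (Cfsg.Sz F 1)) := by
      rw [Subgroup.mem_normalizer_iff]
      have key : ∀ y ∈ Subgroup.zpowers x, SzBasic.w (m := 1) hF * y * (SzBasic.w hF)⁻¹ ∈ Subgroup.zpowers x := by
        rintro _ ⟨j, rfl⟩
        show SzBasic.w (m := 1) hF * x ^ j * (SzBasic.w hF)⁻¹ ∈ Subgroup.zpowers x
        rw [← conj_zpow, hw]
        exact zpow_mem (inv_mem (Subgroup.mem_zpowers x)) j
      intro y
      refine ⟨key y, fun hy => ?_⟩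
      have h1 := key _ hy
      rw [SzBasic.w_inv] at h1
      have h2 : SzBasic.w (m := 1) hF * (SzBasic.w hF * y * SzBasic.w hF) * SzBasic.w hF = y := by
        calc SzBasic.w (m := 1) hF * (SzBasic.w hF * y * SzBasic.w hF) * SzBasic.w hF =
            (SzBasic.w hF * SzBasic.w hF) * y * (SzBasic.w hF * SzBasic.w hF) := by group
          _ = y := by rw [SzBasic.w_mul_w]; group
      rwa [h2] at h1
    have hle : Subgroup.zpowers x ≤ Subgroup.normalizer ((Subgroup.zpowers x : Subgroup (Cfsg.Sz F 1)) : Set _) :=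
      Subgroup.le_normalizer
    have h7 := Subgroup.card_dvd_of_le hle
    rw [Nat.card_zpowers, hx] at h7
    have hne : Nat.card (Subgroup.normalizer ((Subgroup.zpowers x : Subgroup (Cfsg.Sz F 1)) : Set (Cfsg.Sz F 1))) ≠ 7 := by
      intro h
      have h1 : Subgroup.zpowers x = Subgroup.normalizer ((Subgroup.zpowers x : Subgroup (Cfsg.Sz F 1)) : Set _) :=
        Subgroup.eq_of_le_of_card_ge hle (by rw [h, Nat.card_zpowers, hx])
      rw [← h1] at hwN
      obtain ⟨j, hj⟩ := Subgroup.mem_zpowers_iff.1 hwN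
      have h2 : SzBasic.w (m := 1) hF * x * (SzBasic.w hF)⁻¹ = x := by
        rw [← hj]
        have : x ^ j * x = x * x ^ j := (Commute.zpow_self x j).eq
        rw [this, mul_inv_cancel_right]
      rw [hw] at h2
      have h3 : x ^ 2 = 1 := by
        rw [pow_two]
        nth_rewrite 1 [← h2]
        exact inv_mul_cancel x
      have h4 := orderOf_dvd_of_pow_eq_one h3
      rw [hx] at h4
      norm_num at h4
    obtain ⟨c, hc⟩ := h7
    have hpos : 0 < Nat.card (Subgroup.normalizer ((Subgroup.zpowers x : Subgroup (Cfsg.Sz F 1)) : Set (Cfsg.Sz F 1))) :=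
      Nat.card_pos
    rw [hc] at hne hpos ⊢
    have : 2 ≤ c := by
      rcases c with _ | _ | c
      · omega
      · omega
      · omega
    omega

theorem multDvd_eight (hF : Fintype.card F = 2 ^ (2 * 1 + 1)) : MultDvd (Cfsg.Sz F 1) 4 := by
  have h1 := multDvd_of (Cfsg.Agent.S2112.result (F := F) hF)
  have h2 : Nat.card (Multiplicative (ZMod 2 × ZMod 2)) = 4 := by
    rw [Nat.card_congr Multiplicative.toAdd, Nat.card_prod, Nat.card_zmod]
  rw [h2] at h1
  intro G _ _ π hπ
  have e := H344.FpfSz.equivSz (F := F) (m := 1) le_rfl hF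
  have h3 := h1 G (e.toMonoidHom.comp π) (hπ.equiv_comp e)
  have h4 : (e.toMonoidHom.comp π).ker = π.ker := by
    ext g
    rw [MonoidHom.mem_ker, MonoidHom.mem_ker]
    show e (π g) = 1 ↔ _
    exact MulEquiv.map_eq_one_iff e
  rwa [h4] at h3

theorem minDeg_eight (H : St4904) (hF : Fintype.card F = 2 ^ (2 * 1 + 1)) : MinDeg (Cfsg.Sz F 1) 12 := by
  have hs : IsSimpleGroup (Cfsg.Sz F 1) := Cfsg.Agent.S0325.result le_rfl hF
  have hfin : Finite (Cfsg.Sz F 1) := by
    have : Nat.card (Cfsg.Sz F 1) ≠ 0 := by rw [card_eight hF]; norm_num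
    exact Nat.finite_of_card_ne_zero this
  have hp : Nat.Prime 13 := by norm_num
  refine minDeg_of_4904 H hp (by norm_num) (by rw [card_eight hF]; norm_num) (multDvd_eight hF) (by norm_num) (by norm_num)
    (by norm_num) (by norm_num) ⟨fun e => ?_⟩
  have h1 := Nat.card_congr e.toEquiv
  rw [card_eight hF] at h1
  have hf : Fact (Nat.Prime 13) := ⟨hp⟩
  have h2 : Nat.card (Matrix.ProjectiveSpecialLinearGroup (Fin 2) (ZMod 13)) ≤
      Nat.card (Matrix.SpecialLinearGroup (Fin 2) (ZMod 13)) :=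
    Nat.card_le_card_of_surjective _ (QuotientGroup.mk_surjective)
  have h3 : Nat.card (Matrix.SpecialLinearGroup (Fin 2) (ZMod 13)) ≤ Nat.card (Matrix.GeneralLinearGroup (Fin 2) (ZMod 13)) :=
    Nat.card_le_card_of_injective (fun g => (g : Matrix.GeneralLinearGroup (Fin 2) (ZMod 13)))
      Matrix.SpecialLinearGroup.toGL_injective
  have h4 : Nat.card (Matrix.GeneralLinearGroup (Fin 2) (ZMod 13)) = 26208 := by
    rw [Matrix.card_GL_field]
    simp only [Fin.prod_univ_two, ZMod.card, _root_.Nat.reducePow, _root_.Fin.isValue, _root_.Fin.coe_ofNat_eq_mod, _root_.Nat.zero_mod, _root_.pow_zero, _root_.Nat.add_one_sub_one, _root_.Nat.mod_succ, _root_.pow_one, _root_.Nat.reduceSub, _root_.Nat.reduceMul]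
  omega

/-- the numerical part -/
theorem num_eight {p q B c e k idx : ℕ} (hq : q.Prime) (hq2 : q ≠ 2) (_ : 0 < k)
    (h1 : (p - 1) * (B - c) ≤ p * (e * k)) (h2 : q ^ (e * k) ≤ idx) {K : ℕ} (hK : idx < 3 ^ (e * (K + 1)))
    (hnum : p * (e * K) < (p - 1) * (B - c)) (_ : 0 < e) : False := by
  have h3 : 3 ≤ q := by
    have := hq.two_le
    omega
  have h4 : k ≤ K := by
    by_contra hlt
    push Not at hlt
    have h5 : 3 ^ (e * (K + 1)) ≤ q ^ (e * k) :=
      (Nat.pow_le_pow_right (by norm_num) (Nat.mul_le_mul_left e hlt)).trans (Nat.pow_le_pow_left h3 _)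
    omega
  have h5 : p * (e * k) ≤ p * (e * K) := Nat.mul_le_mul_left _ (Nat.mul_le_mul_left _ h4)
  omega

theorem row_eight (H : St4904) (hF : Fintype.card F = 2 ^ (2 * 1 + 1)) : NoSit (Cfsg.Sz F 1) := by
  have hs : IsSimpleGroup (Cfsg.Sz F 1) := Cfsg.Agent.S0325.result le_rfl hF
  have hfin : Finite (Cfsg.Sz F 1) := by
    have : Nat.card (Cfsg.Sz F 1) ≠ 0 := by rw [card_eight hF]; norm_num
    exact Nat.finite_of_card_ne_zero this
  intro p q L V _ _ _ _ _ π N φ hπ hS
  obtain ⟨G, _, _, _, ψ, hψ, -, -, hP⟩ := hS.exists_pSit' hπ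
  have hB : Cfsg.Agent.H122.MinDeg G 12 := minDeg_of_cover hψ (minDeg_eight H hF)
  have hcardG : Nat.card G = Nat.card ψ.ker * 29120 := by
    rw [← card_eight hF, ← Subgroup.card_mul_index ψ.ker, Subgroup.index_ker, MonoidHom.range_eq_top.2 hψ.surj,
      Subgroup.card_top]
  have hk4 := multDvd_eight hF G ψ hψ
  have hq2 : q ≠ 2 := by
    rintro rfl
    apply hP.qG
    rw [hcardG]
    exact Dvd.dvd.mul_left (by norm_num) _
  have hp : p = 5 ∨ p = 13 ∨ p = 7 := by
    have h1 : p ∣ 4 * 29120 := by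
      refine hP.pG.trans ?_
      rw [hcardG]
      exact Nat.mul_dvd_mul_right hk4 _
    have h2 : p ∈ (4 * 29120).primeFactors := Nat.mem_primeFactors.2 ⟨hP.hp, h1, by norm_num⟩
    have h3 : (4 * 29120).primeFactors = {2, 5, 7, 13} := by
      rw [show 4 * 29120 = 2 ^ 8 * (5 * (7 * 13)) by norm_num]
      rw [Nat.primeFactors_mul (by norm_num) (by norm_num), Nat.primeFactors_mul (by norm_num) (by norm_num),
        Nat.primeFactors_mul (by norm_num) (by norm_num), Nat.primeFactors_prime_pow (by norm_num) (by norm_num),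
        Nat.Prime.primeFactors (by norm_num : Nat.Prime 5), Nat.Prime.primeFactors (by norm_num : Nat.Prime 7),
        Nat.Prime.primeFactors (by norm_num : Nat.Prime 13)]
      rfl
    rw [h3] at h2
    simp only [Finset.mem_insert, Finset.mem_singleton] at h2
    have := hP.odd
    (clear * - h2 this; omega)
  have hidx : ∀ H : Subgroup (Cfsg.Sz F 1), Nat.card H * H.index = 29120 := fun H => by
    rw [Subgroup.card_mul_index, card_eight hF]
  rcases hp with hp | hp | hp
  · subst hp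
    obtain ⟨x, hx, hc, hn⟩ := eight_free hF (p := 5) (Or.inl rfl)
    obtain ⟨k, hk, h1, h2⟩ := H973.QA.PSit.elt (e := 4) (c := 3) hP hψ hB x hx (by rw [hc]; norm_num) (by norm_num)
      (fun k hk => rat hP.hp hx (by rw [hn, hc]) hk)
    have h3 := hidx (Subgroup.normalizer ((Subgroup.zpowers x : Subgroup (Cfsg.Sz F 1)) : Set (Cfsg.Sz F 1)))
    rw [hn] at h3
    exact num_eight hP.hq hq2 hk h1 h2 (K := 1) (by norm_num; omega) (by norm_num) (by norm_num)
  · subst hp
    obtain ⟨x, hx, hc, hn⟩ := eight_free hF (p := 13) (Or.inr rfl)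
    obtain ⟨k, hk, h1, h2⟩ := H973.QA.PSit.elt (e := 4) (c := 4) hP hψ hB x hx (by rw [hc]; norm_num) (by norm_num)
      (fun k hk => rat hP.hp hx (by rw [hn, hc]) hk)
    have h3 := hidx (Subgroup.normalizer ((Subgroup.zpowers x : Subgroup (Cfsg.Sz F 1)) : Set (Cfsg.Sz F 1)))
    rw [hn] at h3
    exact num_eight hP.hq hq2 hk h1 h2 (K := 1) (by norm_num; omega) (by norm_num) (by norm_num)
  · subst hp
    obtain ⟨x, hx, hc, hr, hn⟩ := eight_split hF
    obtain ⟨k, hk, h1, h2⟩ := H973.QA.PSit.elt (e := 2) (c := 3) hP hψ hB x hx (by rw [hc]; norm_num) (by norm_num)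
      (fun k hk => by
        have h3 : k % 7 = 1 ∨ k % 7 = 6 := by
          have h4 : (k % 7) ^ 2 % 7 = 1 := by rw [← Nat.pow_mod]; exact hk
          have h5 : k % 7 < 7 := Nat.mod_lt _ (by norm_num)
          interval_cases k % 7 <;> omega
        have h4 : x ^ k = x ^ (k % 7) := by rw [← hx, pow_mod_orderOf]
        rw [h4]
        rcases h3 with h3 | h3
        · rw [h3, pow_one]
        · rw [h3]
          have h5 : x ^ 6 = x⁻¹ := by
            rw [eq_inv_iff_mul_eq_one, ← pow_succ, show 6 + 1 = orderOf x by rw [hx], pow_orderOf_eq_one]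
          rw [h5]
          exact hr)
    have h3 := hidx (Subgroup.normalizer ((Subgroup.zpowers x : Subgroup (Cfsg.Sz F 1)) : Set (Cfsg.Sz F 1)))
    have h4 : 14 * (Subgroup.normalizer ((Subgroup.zpowers x : Subgroup (Cfsg.Sz F 1)) : Set (Cfsg.Sz F 1))).index ≤
        29120 := by
      rw [← h3]
      exact Nat.mul_le_mul_right _ hn
    exact num_eight hP.hq hq2 hk h1 h2 (K := 3) (by norm_num; omega) (by norm_num) (by norm_num)

end eight

/-- **The row of the Suzuki groups** (from S4904). -/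
theorem row_sz_of (H : St4904) {S : Type} [Group S] [Finite S] [IsSimpleGroup S] (h : Cfsg.Lie.IsoSuzuki S) :
    NoSit S := by
  obtain ⟨F, _, _, m, hm, hF, ⟨e⟩⟩ := h
  rcases hm.eq_or_lt with rfl | hm2
  · exact (row_eight H hF).of_equiv (e.trans (H344.FpfSz.equivSz le_rfl hF).symm)
  · refine NoSit.of_equiv e ?_
    have hs : IsSimpleGroup ↥(Cfsg.Lie.Sz F (2 ^ (m + 1))) := e.symm.isSimpleGroup
    have hfin : Finite ↥(Cfsg.Lie.Sz F (2 ^ (m + 1))) := Finite.of_equiv S e.toEquiv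
    refine H759.QA.noSit_of_mult fun L _ _ π hπ => ?_
    have h1 := multDvd_of_cyclic one_ne_zero (Cfsg.Agent.S2111.result hm2 hF) L π hπ
    rw [← MonoidHom.ker_eq_bot_iff]
    exact Subgroup.card_eq_one.1 (Nat.dvd_one.1 h1)

end Cfsg.Agent.H440.QA
end

-- part: H152/QA/Partial
section
/-!
# S4979, layer (A): the rows already proved (helper152)
-/

set_option autoImplicit false

open Cfsg Cfsg.Lie

namespace Cfsg.Agent.H152.QA

/-- The rows, from the remaining ones. -/
theorem rows_of (H : H440.QA.St4904)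
    (alt : ∀ n : ℕ, 5 ≤ n → NoSit (alternatingGroup (Fin n)))
    (psl2 : ∀ (F : Type) [Field F] [Fintype F], 4 ≤ Fintype.card F → NoSit (Matrix.ProjectiveSpecialLinearGroup (Fin 2) F))
    (l34 : ∀ (F : Type) [Field F] [Fintype F], Fintype.card F = 4 → NoSit (Matrix.ProjectiveSpecialLinearGroup (Fin 3) F))
    (pspOdd : ∀ (F : Type) [Field F] [Fintype F] (m : ℕ), 2 ≤ m → Odd (Fintype.card F) → NoSit (PSp m F))
    (psu : ∀ (F : Type) [Field F] [Fintype F] (n q : ℕ), Fintype.card F = q ^ 2 → 3 ≤ n → ¬ (n = 3 ∧ q = 2) →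
      ¬ (n = 4 ∧ q = 2) → ¬ (n = 4 ∧ q = 3) → ¬ (n = 6 ∧ q = 2) → NoSit (PSU n F q))
    (u43 : ∀ (F : Type) [Field F] [Fintype F], Fintype.card F = 3 ^ 2 → NoSit (PSU 4 F 3))
    (u62 : ∀ (F : Type) [Field F] [Fintype F], Fintype.card F = 2 ^ 2 → NoSit (PSU 6 F 2))
    (odd : ∀ (F : Type) [Field F] [Fintype F] (m : ℕ), 3 ≤ m → Odd (Fintype.card F) → ¬ (m = 3 ∧ Fintype.card F = 3) →
      NoSit (POmega F (quadFormOdd m F)))
    (o73 : ∀ (F : Type) [Field F] [Fintype F], Fintype.card F = 3 → NoSit (POmega F (quadFormOdd 3 F)))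
    (f42 : ∀ (F : Type) [Field F] [Fintype F], Fintype.card F = 2 → NoSit ↥(chevF4.group F))
    (spor : ∀ (S : Type) [Group S] [Finite S] [IsSimpleGroup S], IsSporadicGroup S → NoSit S) : Rows where
  alt := alt
  psl2 := psl2
  psln := fun _ _ _ n hn h32 h34 h42 => H299.QA.row_psln n hn h32 h34 h42
  l34 := l34
  pspOdd := pspOdd
  pspEven := fun _ _ _ m hm h3 he h62 => H291.QA.row_psp_even m hm h3 he h62
  sp62 := fun _ _ _ hF => H699.QA.row_sp62 hF
  psu := psu
  u43 := u43
  u62 := u62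
  odd := odd
  o73 := o73
  plus := fun _ _ _ m hm h82 => H600.QA.row_plus m hm h82
  o82 := fun _ _ _ hF => H852.QA.row_o82 hF
  minus := fun _ _ _ m a b hm hab => H546.QA.row_minus m hm a b hab
  g23 := fun _ _ _ hF => H831.QA.row_g23 hF
  g24 := fun _ _ _ hF => H831.QA.row_g24 hF
  g2 := fun _ _ _ hF => H291.QA.row_g2 hF
  f42 := f42
  f4 := fun _ _ _ hF => H291.QA.row_f4 hF
  e6 := fun _ _ _ => H686.QA.row_e6
  e7 := fun _ _ _ => H686.QA.row_e7
  e8 := fun _ _ _ => H291.QA.row_e8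
  te6 := fun _ _ _ q hq hF h2 => H686.QA.row_2e6 q hq hF h2
  te62 := fun _ _ _ hF => H686.QA.row_2e62 hF
  td4 := fun _ _ _ q hq hF => H291.QA.row_3d4 q hq hF
  sz := fun _ _ _ _ h => H440.QA.row_sz_of H h
  ree := fun _ _ _ _ h => H291.QA.row_ree h
  tf4 := fun _ _ _ _ h => H291.QA.row_2f4 h
  tits := fun _ _ _ _ h => H291.QA.row_tits h
  spor := spor

end Cfsg.Agent.H152.QA
end
end

-- part: H306/QA/LThreeFour
section
prune_inst 0x20020000000000000000080000000000001c010000
set_option linter.all false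
open scoped Cfsg.Agent.FastGrp

-- part: H306/QA/Feit
section
/-!
# Degree bounds of covers from S4904 (helper306)

`minDeg_feit`: `G → S` a cover of the simple group `S`, `r` a prime divisor of `|S|`, `B ≤ 27`, `B + 1 ≤ r`; then all nontrivial
complex representations of `G` have degree `≥ B`, except for `S = PSL(2, r)`, `SL(2, 16)`, `A_7`, `A_6` (excluded by the order).
-/

set_option autoImplicit false
set_option linter.unusedSectionVars false

open Cfsg

namespace Cfsg.Agent.H306.QA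

open Cfsg.Agent.H80.Fpf

section

variable {G S : Type} [Group G] [Finite G] [Group S] [Finite S] [IsSimpleGroup S] {ψ : G →* S}

theorem comm_top_of_cover (hψ : IsCover ψ) : commutator S = ⊤ := by
  rw [← top_le_iff]
  intro s _
  obtain ⟨g, rfl⟩ := hψ.surj s
  have h2 : g ∈ commutator G := by rw [hψ.perf]; trivial
  have h3 : ψ g ∈ (commutator G).map ψ := ⟨g, h2, rfl⟩
  rw [commutator_def, Subgroup.map_commutator] at h3
  rw [commutator_def]
  exact Subgroup.commutator_mono le_top le_top h3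

theorem center_bot_of_cover (hψ : IsCover ψ) : Subgroup.center S = ⊥ := by
  rcases Subgroup.Normal.eq_bot_or_eq_top (inferInstance : (Subgroup.center S).Normal) with h1 | h1
  · exact h1
  · exfalso
    have hcS := comm_top_of_cover hψ
    have h4 : commutator S = ⊥ := by
      rw [commutator_def, Subgroup.commutator_eq_bot_iff_le_centralizer]
      intro a _
      rw [Subgroup.mem_centralizer_iff]
      intro b _
      have h2 : b ∈ Subgroup.center S := by rw [h1]; trivial
      exact (Subgroup.mem_center_iff.1 h2 a).symm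
    rw [hcS] at h4
    exact (bot_ne_top (α := Subgroup S)) h4.symm

theorem center_eq_ker (hψ : IsCover ψ) : Subgroup.center G = ψ.ker := by
  apply le_antisymm _ hψ.central
  intro x hx
  have h1 : ψ x ∈ Subgroup.center S := by
    rw [Subgroup.mem_center_iff]
    intro s
    obtain ⟨y, rfl⟩ := hψ.surj s
    rw [← map_mul, ← map_mul, Subgroup.mem_center_iff.1 hx y]
  rw [center_bot_of_cover hψ, Subgroup.mem_bot] at h1
  exact h1

theorem card_quot_center (hψ : IsCover ψ) : Nat.card (G ⧸ Subgroup.center G) = Nat.card S := by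
  rw [center_eq_ker hψ]
  exact Nat.card_congr (QuotientGroup.quotientKerEquivOfSurjective ψ hψ.surj).toEquiv

/-- `S` is not an `r`-group -/
theorem not_pgroup (hψ : IsCover ψ) {r : ℕ} (hr : r.Prime) : ¬ IsPGroup r (⊤ : Subgroup S) := by
  intro hPp
  have hrf : Fact r.Prime := ⟨hr⟩
  have h3 : Nontrivial (Subgroup.center (⊤ : Subgroup S)) := by
    have : Nontrivial (⊤ : Subgroup S) := (Subgroup.nontrivial_iff_ne_bot _).2 top_ne_bot
    exact hPp.center_nontrivial
  obtain ⟨z, hz⟩ := exists_ne (1 : Subgroup.center (⊤ : Subgroup S))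
  have h4 : ((z : (⊤ : Subgroup S)) : S) ∈ Subgroup.center S := by
    rw [Subgroup.mem_center_iff]
    intro s
    exact congrArg Subtype.val (Subgroup.mem_center_iff.1 z.2 ⟨s, trivial⟩)
  rw [center_bot_of_cover hψ, Subgroup.mem_bot] at h4
  exact hz (Subtype.ext (Subtype.ext h4))

theorem not_normal (hψ : IsCover ψ) {r : ℕ} [hr : Fact r.Prime] (hrS : r ∣ Nat.card S) (P : Sylow r G) :
    ¬ (P : Subgroup G).Normal := by
  intro h
  have hN : ((P : Subgroup G).map ψ).Normal := h.map ψ hψ.surj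
  have hPp : IsPGroup r ((P : Subgroup G).map ψ) := P.2.map ψ
  have h2 : r ∣ Nat.card ((P : Subgroup G).map ψ) := by
    have h1 : r ∣ Nat.card ((Sylow.mapSurjective hψ.surj P : Sylow r S) : Subgroup S) :=
      (Sylow.mapSurjective hψ.surj P).dvd_card_of_dvd_card hrS
    rwa [Sylow.coe_mapSurjective] at h1
  rcases hN.eq_bot_or_eq_top with h1 | h1
  · rw [h1, Subgroup.card_bot] at h2
    exact hr.out.one_lt.ne' (Nat.dvd_one.1 h2)
  · rw [h1] at hPp
    exact not_pgroup hψ hr.out hPp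

theorem card_sl_sixteen : Nat.card (Matrix.SpecialLinearGroup (Fin 2) (GaloisField 2 4)) = 4080 := by
  have : Fintype (GaloisField 2 4) := Fintype.ofFinite _
  have h16 : Fintype.card (GaloisField 2 4) = 16 := by
    rw [← Nat.card_eq_fintype_card, GaloisField.card 2 4 (by norm_num)]; norm_num
  have h1 := Cfsg.Agent.S0242.result (F := GaloisField 2 4) h16 2 (by norm_num)
  rw [Fin.prod_univ_two] at h1
  norm_num at h1
  omega

theorem card_of_prod (hψ : IsCover ψ) {A : Type} [CommGroup A] [Finite A]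
    (e : G ≃* Matrix.SpecialLinearGroup (Fin 2) (GaloisField 2 4) × A) : Nat.card S ∣ 4080 := by
  have hA : ∀ a : A, a = 1 := by
    intro a
    let f : G →* A := (MonoidHom.snd _ A).comp e.toMonoidHom
    have hf : ∀ x : G, f x = 1 := by
      intro x
      have h1 : x ∈ commutator G := by rw [hψ.perf]; trivial
      exact (Abelianization.commutator_subset_ker f) h1
    have h1 := hf (e.symm (1, a))
    have h2 : f (e.symm (1, a)) = a := by
      show (e (e.symm (1, a))).2 = a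
      rw [e.apply_symm_apply]
    rw [← h2, h1]
  have hA1 : Nat.card A = 1 := by
    rw [Nat.card_eq_one_iff_unique]
    exact ⟨⟨fun a b => by rw [hA a, hA b]⟩, ⟨1⟩⟩
  have hSL : Nat.card G = 4080 := by
    rw [Nat.card_congr e.toEquiv, Nat.card_prod, hA1, mul_one, card_sl_sixteen]
  rw [← hSL]
  exact Subgroup.card_dvd_of_surjective ψ hψ.surj

/-- the faithful case -/
theorem feit_aux (hψ : IsCover ψ) {r : ℕ} (hr : r.Prime) (hrS : r ∣ Nat.card S) {k : ℕ} (hk : k < 27)
    (hkr : k + 1 < r) (h2 : 2 * Nat.card S ≠ r * (r ^ 2 - 1)) (h4080 : ¬ Nat.card S ∣ 4080)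
    (h2520 : Nat.card S ≠ 2520 ∨ r ≠ 7 ∨ k < 4) (h360 : Nat.card S ≠ 360 ∨ r ≠ 5 ∨ k < 3)
    {ρ : Representation ℂ G (Fin k → ℂ)} (hρ : ρ.IsIrreducible) (hinj : Function.Injective ρ) : False := by
  have hrf : Fact r.Prime := ⟨hr⟩
  have hχ1 : ρ.character 1 = (k : ℂ) := by
    rw [Representation.char_one, Module.finrank_fin_fun]
  have hdeg : charDegree ρ.character = k := by
    unfold charDegree
    rw [hχ1, Complex.natCast_re, Nat.floor_natCast]
  obtain ⟨P⟩ : Nonempty (Sylow r G) := inferInstance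
  rcases Cfsg.Agent.S4904.result k hk ⟨ρ.character, k, ρ, hρ, rfl⟩ hdeg (Cfsg.Agent.H211.Conv.faithful hinj) r hkr P with
    h | ⟨⟨e⟩, -⟩ | ⟨-, -, A, _, _, ⟨e⟩⟩ | ⟨h7, h7', ⟨e⟩⟩ | ⟨h5, h5', ⟨e⟩⟩
  · exact not_normal hψ hrS P h
  · have h1 : Nat.card S = Nat.card (Matrix.ProjectiveSpecialLinearGroup (Fin 2) (ZMod r)) := by
      rw [← card_quot_center hψ]; exact Nat.card_congr e.toEquiv
    have hro : Odd (Fintype.card (ZMod r)) := by
      rw [ZMod.card]
      exact hr.odd_of_ne_two (by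
        rintro rfl
        have hk0 := Cfsg.Agent.H211.Conv.pos_of_irr hρ
        omega)
    have h3 := Cfsg.Agent.SmallSimple.PSLTwoPart.card_psl_two_odd (F := ZMod r) hro
    rw [ZMod.card, ← h1] at h3
    exact h2 h3
  · exact h4080 (card_of_prod hψ e)
  · rcases h2520 with h8 | h8 | h8
    · apply h8
      rw [← card_quot_center hψ, Nat.card_congr e.toEquiv, nat_card_alternatingGroup, Nat.card_fin]
      rfl
    · exact h8 h7
    · omega
  · rcases h360 with h8 | h8 | h8
    · apply h8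
      rw [← card_quot_center hψ, Nat.card_congr e.toEquiv, nat_card_alternatingGroup, Nat.card_fin]
      rfl
    · exact h8 h5
    · omega

/-- quotients of covers -/
theorem isCover_quot (hψ : IsCover ψ) (K : Subgroup G) [K.Normal] (hK : K ≤ ψ.ker) :
    IsCover (QuotientGroup.lift K ψ (fun _ hg => hK hg)) := by
  refine ⟨?_, ?_, ?_⟩
  · intro s
    obtain ⟨g, rfl⟩ := hψ.surj s
    exact ⟨QuotientGroup.mk' K g, rfl⟩
  · intro x hx
    obtain ⟨g, rfl⟩ := QuotientGroup.mk'_surjective K x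
    have h1 : g ∈ Subgroup.center G := hψ.central hx
    rw [Subgroup.mem_center_iff]
    intro y
    obtain ⟨l, rfl⟩ := QuotientGroup.mk'_surjective K y
    rw [← map_mul, ← map_mul, Subgroup.mem_center_iff.1 h1 l]
  · rw [← top_le_iff]
    intro y _
    obtain ⟨l, rfl⟩ := QuotientGroup.mk'_surjective K y
    have h2 : l ∈ commutator G := by rw [hψ.perf]; trivial
    have h3 : QuotientGroup.mk' K l ∈ (commutator G).map (QuotientGroup.mk' K) := ⟨l, h2, rfl⟩
    rw [commutator_def, Subgroup.map_commutator] at h3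
    rw [commutator_def]
    exact Subgroup.commutator_mono le_top le_top h3

/-- a representation modulo its kernel -/
def quo {k : ℕ} (ρ : Representation ℂ G (Fin k → ℂ)) : Representation ℂ (G ⧸ MonoidHom.ker ρ) (Fin k → ℂ) :=
  QuotientGroup.lift (MonoidHom.ker ρ) ρ (fun _ hg => hg)

theorem quo_inj {k : ℕ} (ρ : Representation ℂ G (Fin k → ℂ)) : Function.Injective (quo ρ) := by
  rw [injective_iff_map_eq_one]
  intro x hx
  obtain ⟨g, rfl⟩ := QuotientGroup.mk_surjective x
  exact (QuotientGroup.eq_one_iff g).2 hx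

theorem quo_irr {k : ℕ} (ρ : Representation ℂ G (Fin k → ℂ)) (hρ : ρ.IsIrreducible) (hk : 2 ≤ k) :
    (quo ρ).IsIrreducible := by
  apply Cfsg.Agent.H211.Conv.irr_of_sub (by omega)
  intro U hU
  exact Cfsg.Agent.H211.Conv.sub_of_irr hρ U (fun g u hu => hU (QuotientGroup.mk g) u hu)

/-- **Feit's theorem for covers.** -/
theorem minDeg_feit (hψ : IsCover ψ) {r : ℕ} (hr : r.Prime) (hrS : r ∣ Nat.card S) {B : ℕ} (hB : B ≤ 27)
    (hBr : B + 1 ≤ r) (h2 : 2 * Nat.card S ≠ r * (r ^ 2 - 1)) (h4080 : ¬ Nat.card S ∣ 4080)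
    (h2520 : Nat.card S ≠ 2520 ∨ r ≠ 7 ∨ B ≤ 4) (h360 : Nat.card S ≠ 360 ∨ r ≠ 5 ∨ B ≤ 3) :
    Cfsg.Agent.H122.MinDeg G B := by
  apply Cfsg.Agent.H122.minDeg_of_fin hψ.perf
  intro k ρ hρ hk
  by_contra hlt
  rw [not_le] at hlt
  have hne1 := Cfsg.Agent.H121.Chr.exists_ne_one ρ hρ hk
  have hKle : MonoidHom.ker ρ ≤ ψ.ker := ker_le_of_simple hψ ρ hne1
  have hcov := isCover_quot hψ (MonoidHom.ker ρ) hKle
  have h3 : Nat.card S ≠ 2520 ∨ r ≠ 7 ∨ k < 4 := by
    rcases h2520 with h | h | h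
    · exact Or.inl h
    · exact Or.inr (Or.inl h)
    · exact Or.inr (Or.inr (by omega))
  have h4 : Nat.card S ≠ 360 ∨ r ≠ 5 ∨ k < 3 := by
    rcases h360 with h | h | h
    · exact Or.inl h
    · exact Or.inr (Or.inl h)
    · exact Or.inr (Or.inr (by omega))
  exact feit_aux (k := k) hcov hr hrS (by omega) (by omega) h2 h4080 h3 h4 (quo_irr ρ hρ hk) (quo_inj ρ)

end

end Cfsg.Agent.H306.QA
end

-- part: H306/QA/LThreeFour
section
/-!
# S4979, layer (A), row `L_3(4)` (helper306)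
-/

set_option autoImplicit false

open Cfsg

namespace Cfsg.Agent.H306.QA

open Cfsg.Agent.H80.Fpf Cfsg.Agent.H152.QA
open Cfsg.Agent.SporadicA.FieldFour
open Cfsg.Agent.ONType.Psl Cfsg.Agent.ONType.PslCard
open Cfsg.Agent.CpAut.SmallP.PslFour (finite_PSL3)

/-- primes dividing the order of a simple group below a cover -/
theorem PSit.dvd_S {p q : ℕ} {G V S : Type} [Group G] [Finite G] [AddCommGroup V] [Finite V] [DistribMulAction G V]
    [Group S] [Finite S] {ψ : G →* S} (h : PSit p q G V) (hψ : IsCover ψ) : p ∣ Nat.card S ∧ ¬ q ∣ Nat.card S := by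
  have h1 := Subgroup.card_mul_index ψ.ker
  rw [Subgroup.index_ker, MonoidHom.range_eq_top.2 hψ.surj, Subgroup.card_top] at h1
  constructor
  · have h2 := h.pG
    rw [← h1] at h2
    rcases h.hp.dvd_mul.1 h2 with h3 | h3
    · exact absurd (h3.trans (Subgroup.card_dvd_of_le hψ.central)) h.pZ
    · exact h3
  · intro h2
    apply h.qG
    rw [← h1]
    exact h2.mul_left _

theorem no_psit {p q : ℕ} {G V : Type} [Group G] [Finite G] [AddCommGroup V] [Finite V] [DistribMulAction G V]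
    [IsSimpleGroup PSL3] [Finite PSL3] {ψ : G →* PSL3} (hψ : IsCover ψ) (h : PSit p q G V) : False := by
  obtain ⟨hpS, hqS⟩ := PSit.dvd_S h hψ
  rw [card_PSL3] at hpS hqS
  -- `q ≥ 11`
  have hq11 : 11 ≤ q := by
    by_contra hlt
    have h1 : q ≤ 10 := by omega
    have h2 := h.hq
    interval_cases q
    · exact absurd h2 (by norm_num)
    · exact absurd h2 (by norm_num)
    · exact hqS (by norm_num)
    · exact hqS (by norm_num)
    · exact hqS (by norm_num)
    · exact hqS (by norm_num)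
    · exact hqS (by norm_num)
    · exact hqS (by norm_num)
    · exact hqS (by norm_num)
    · exact hqS (by norm_num)
    · exact hqS (by norm_num)
  -- `p = 3, 5, 7`
  have hp357 : p = 3 ∨ p = 5 ∨ p = 7 := by
    have h1 : p ∣ 2 ^ 6 * (3 ^ 2 * (5 * 7)) := by norm_num; exact hpS
    rcases h.hp.dvd_mul.1 h1 with h2 | h2
    · exact absurd ((Nat.prime_dvd_prime_iff_eq h.hp Nat.prime_two).1 (h.hp.dvd_of_dvd_pow h2)) h.odd
    rcases h.hp.dvd_mul.1 h2 with h3 | h3
    · exact Or.inl ((Nat.prime_dvd_prime_iff_eq h.hp Nat.prime_three).1 (h.hp.dvd_of_dvd_pow h3))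
    rcases h.hp.dvd_mul.1 h3 with h4 | h4
    · exact Or.inr (Or.inl ((Nat.prime_dvd_prime_iff_eq h.hp (by norm_num)).1 h4))
    · exact Or.inr (Or.inr ((Nat.prime_dvd_prime_iff_eq h.hp (by norm_num)).1 h4))
  have hB : Cfsg.Agent.H122.MinDeg G 6 := by
    refine minDeg_feit hψ (r := 7) (by norm_num) ?_ (by norm_num) (by norm_num) ?_ ?_ ?_ ?_
    · rw [card_PSL3]; norm_num
    · rw [card_PSL3]; norm_num
    · rw [card_PSL3]; norm_num
    · left; rw [card_PSL3]; norm_num
    · left; rw [card_PSL3]; norm_num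
  rcases hp357 with rfl | rfl | rfl
  · -- `p = 3`: the rank criterion
    have hmem3 : ∀ x ∈ Cfsg.Agent.H326.Four.E, x ^ 3 = 1 := by
      intro x hx
      by_cases hx1 : x = 1
      · rw [hx1, one_pow]
      · exact orderOf_dvd_iff_pow_eq_one.1 (Cfsg.Agent.H326.Four.order_of_mem hx hx1).dvd
    have h1 := Cfsg.Agent.H973.QA.PSit.rank h hψ (r := 2) (e := 2) Cfsg.Agent.H326.Four.E (by
        rintro _ ⟨i, j, rfl⟩ _ ⟨k, l, rfl⟩
        rw [Cfsg.Agent.H326.Four.eE_mul, Cfsg.Agent.H326.Four.eE_mul, add_comm i, add_comm j])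
      hmem3 (by rw [Cfsg.Agent.H326.Four.card_E]; norm_num) (by norm_num) (by
        intro x hx k hk
        by_cases hx1 : x = 1
        · rw [hx1, one_pow]
        have hk3 : ¬ 3 ∣ k := by
          rintro ⟨m, rfl⟩
          rw [mul_pow] at hk
          omega
        have hxo := Cfsg.Agent.H326.Four.order_of_mem hx hx1
        refine Cfsg.Agent.H326.Four.conj_three hxo ?_
        rw [orderOf_pow, hxo]
        have : Nat.gcd 3 k = 1 := (Nat.Prime.coprime_iff_not_dvd Nat.prime_three).2 hk3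
        rw [this])
    have h2 : 14641 ≤ q ^ (2 * 2) := by
      have := Nat.pow_le_pow_left hq11 (2 * 2)
      exact this
    have h3 : (Subgroup.normalizer (Cfsg.Agent.H326.Four.E : Set PSL3)).index * 9 ≤ 20160 := by
      have h4 := Subgroup.card_mul_index (Subgroup.normalizer (Cfsg.Agent.H326.Four.E : Set PSL3))
      rw [card_PSL3] at h4
      have h5 : 9 ≤ Nat.card (Subgroup.normalizer (Cfsg.Agent.H326.Four.E : Set PSL3)) := by
        rw [← Cfsg.Agent.H326.Four.card_E]
        exact Nat.le_of_dvd Nat.card_pos (Subgroup.card_dvd_of_le Subgroup.le_normalizer)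
      rw [← h4, mul_comm]
      exact Nat.mul_le_mul_right _ h5
    omega
  · -- `p = 5`
    have hf5 : Fact (Nat.Prime 5) := ⟨by norm_num⟩
    obtain ⟨x, hx⟩ := exists_prime_orderOf_dvd_card' (G := PSL3) 5 (by rw [card_PSL3]; norm_num)
    have hc := Cfsg.Agent.BpSpor.LFour.card_five hx
    obtain ⟨e, he, hN, hidx, hcard⟩ := exists_card_normalizer' (by norm_num : Nat.Prime 5) hx (by rw [card_PSL3]; norm_num)
    rw [hc, card_PSL3] at hcard
    have he2 : e = 2 := by
      have h1 : e ≤ 4 := Nat.le_of_dvd (by norm_num) he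
      interval_cases e
      · omega
      · omega
      · rfl
      · omega
      · omega
    subst he2
    obtain ⟨k, hk0, hk1, hk2⟩ := Cfsg.Agent.H973.QA.PSit.elt h hψ (e := 2) (c := 3) hB x hx (by rw [hc]; norm_num)
      (by norm_num) (fun k hk => isConj_pow_of_card (by norm_num) hx hN hk)
    have hk : 2 ≤ k := by omega
    have h2 : 14641 ≤ q ^ (2 * k) :=
      (Nat.pow_le_pow_left hq11 (2 * 2)).trans (Nat.pow_le_pow_right (by omega) (by omega))
    omega
  · -- `p = 7`
    have hf7 : Fact (Nat.Prime 7) := ⟨by norm_num⟩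
    obtain ⟨x, hx⟩ := exists_prime_orderOf_dvd_card' (G := PSL3) 7 (by rw [card_PSL3]; norm_num)
    have hc := Cfsg.Agent.BpSpor.LFour.card_seven hx
    obtain ⟨e, he, hN, hidx, hcard⟩ := exists_card_normalizer' (by norm_num : Nat.Prime 7) hx (by rw [card_PSL3]; norm_num)
    rw [hc, card_PSL3] at hcard
    have he3 : e = 3 := by
      have h1 : e ≤ 6 := Nat.le_of_dvd (by norm_num) he
      interval_cases e
      · omega
      · omega
      · omega
      · rfl
      · omega
      · omega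
      · omega
    subst he3
    have h1 := Cfsg.Agent.H973.QA.PSit.rank_one h hψ (e := 3) x hx (by norm_num)
      (fun k hk => isConj_pow_of_card (by norm_num) hx hN hk)
    have h2 : 1331 ≤ q ^ 3 := Nat.pow_le_pow_left hq11 3
    omega

/-- **Row `L_3(4)`.** -/
theorem row_l34 {F : Type} [Field F] [Fintype F] (hF : Fintype.card F = 4) :
    NoSit (Matrix.ProjectiveSpecialLinearGroup (Fin 3) F) := by
  obtain ⟨f⟩ := nonempty_psl_equiv (n := Fin 3) F hF
  refine NoSit.of_equiv f.symm ?_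
  have hs : IsSimpleGroup PSL3 := Cfsg.Agent.S0249.result 3 le_rfl
  have hfin : Finite PSL3 := finite_PSL3
  intro p q L V _ _ _ _ _ π N φ hπ hS
  obtain ⟨G, _, _, _, ψ, hψ, -, -, hP⟩ := hS.exists_pSit' hπ
  exact no_psit hψ hP

end Cfsg.Agent.H306.QA
end
end

-- part: H575/QA/RowAlt_mg
section
prune_inst 0x154039204bc0000000008582c1004014480004b00000880808800a00020820204980a04004000104022a000100010000020000b00040000004840000000000001000000441810011000090000008400200200000000000000000800000000004018000000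
set_option linter.all false
open scoped Cfsg.Agent.FastGrp

-- part: H575/QA/AltNat
section
/-!
# S4979, row `A_n`: the natural module (helper575)

`natKill`: there is no `PSit p q A_n V`, `5 ≤ n < q`, with a vector `v0 ≠ 0` fixed by the stabilizer of a point.
-/

set_option autoImplicit false
set_option linter.unusedSectionVars false

open Cfsg Equiv

namespace Cfsg.Agent.H575.QA

open Cfsg.Agent.H152.QA

variable {n : ℕ}

/-- the 3-cycle `a → b → c → a` -/
def tc (a b c : Fin n) (hab : a ≠ b) (hbc : b ≠ c) : alternatingGroup (Fin n) :=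
  ⟨swap a b * swap b c, by
    rw [Perm.mem_alternatingGroup, Perm.sign_mul, Perm.sign_swap hab, Perm.sign_swap hbc]; rfl⟩

theorem tc_coe (a b c : Fin n) (hab : a ≠ b) (hbc : b ≠ c) (x : Fin n) :
    ((tc a b c hab hbc : alternatingGroup (Fin n)) : Perm (Fin n)) x = swap a b (swap b c x) := rfl

theorem tc_a (a b c : Fin n) (hab : a ≠ b) (hbc : b ≠ c) (hac : a ≠ c) :
    ((tc a b c hab hbc : alternatingGroup (Fin n)) : Perm (Fin n)) a = b := by
  rw [tc_coe, swap_apply_of_ne_of_ne hab hac, swap_apply_left]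

theorem tc_b (a b c : Fin n) (hab : a ≠ b) (hbc : b ≠ c) (hac : a ≠ c) :
    ((tc a b c hab hbc : alternatingGroup (Fin n)) : Perm (Fin n)) b = c := by
  rw [tc_coe, swap_apply_left, swap_apply_of_ne_of_ne hac.symm hbc.symm]

theorem tc_c (a b c : Fin n) (hab : a ≠ b) (hbc : b ≠ c) :
    ((tc a b c hab hbc : alternatingGroup (Fin n)) : Perm (Fin n)) c = a := by
  rw [tc_coe, swap_apply_right, swap_apply_right]

theorem tc_ne (a b c : Fin n) (hab : a ≠ b) (hbc : b ≠ c) {x : Fin n} (h1 : x ≠ a) (h2 : x ≠ b) (h3 : x ≠ c) :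
    ((tc a b c hab hbc : alternatingGroup (Fin n)) : Perm (Fin n)) x = x := by
  rw [tc_coe, swap_apply_of_ne_of_ne h2 h3, swap_apply_of_ne_of_ne h1 h2]

theorem exists_ne {n : ℕ} (s : Finset (Fin n)) (h : s.card < n) : ∃ x : Fin n, x ∉ s := by
  by_contra hc
  push Not at hc
  have h1 : s = Finset.univ := Finset.eq_univ_iff_forall.2 hc
  rw [h1, Finset.card_univ, Fintype.card_fin] at h
  exact lt_irrefl _ h

section
variable {V : Type} [AddCommGroup V] [DistribMulAction (alternatingGroup (Fin n)) V]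

/-- a family `v` permuted by `A_n`; relations -/
theorem rel_smul {v : Fin n → V} (hv : ∀ (g : alternatingGroup (Fin n)) i, g • v i = v ((g : Perm (Fin n)) i))
    {c : Fin n → ℤ} (hc : ∑ i, c i • v i = 0) (g : alternatingGroup (Fin n)) :
    ∑ i, c ((g : Perm (Fin n)) i) • v i = 0 := by
  have h1 : g⁻¹ • (∑ i, c i • v i) = 0 := by rw [hc, smul_zero]
  rw [Finset.smul_sum] at h1
  rw [← h1]
  refine Fintype.sum_equiv (g : Perm (Fin n)) _ _ fun i => ?_
  rw [smul_comm, hv]
  congr 2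
  exact ((g : Perm (Fin n)).symm_apply_apply i).symm

theorem rel_sub {v : Fin n → V} {c c' : Fin n → ℤ} (hc : ∑ i, c i • v i = 0) (hc' : ∑ i, c' i • v i = 0) :
    ∑ i, (c i - c' i) • v i = 0 := by
  simp only [sub_smul, Finset.sum_sub_distrib, hc, hc', sub_zero]

/-- a relation which is not constant mod `q` -/
theorem eq_of_rel {q : ℕ} (hq : q.Prime) (hn : 5 ≤ n) (hexp : ∀ w : V, q • w = 0) {v : Fin n → V}
    (hv : ∀ (g : alternatingGroup (Fin n)) i, g • v i = v ((g : Perm (Fin n)) i))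
    {c : Fin n → ℤ} (hc : ∑ i, c i • v i = 0) {i j : Fin n} (hij : ¬ (q : ℤ) ∣ c i - c j) : ∀ a b, v a = v b := by
  have hne : i ≠ j := by
    rintro rfl
    exact hij (by rw [sub_self]; exact dvd_zero _)
  obtain ⟨k, hk⟩ := exists_ne ({i, j} : Finset (Fin n)) (lt_of_le_of_lt Finset.card_le_two (by omega))
  simp only [Finset.mem_insert, Finset.mem_singleton, not_or] at hk
  obtain ⟨hki, hkj⟩ := hk
  -- first relation
  set g := tc i j k hne (Ne.symm hkj) with hg
  set c' : Fin n → ℤ := fun s => c s - c ((g : Perm (Fin n)) s) with hc'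
  have hr : ∑ s, c' s • v s = 0 := rel_sub hc (rel_smul hv hc g)
  have hc'0 : ∀ s, s ≠ i → s ≠ j → s ≠ k → c' s = 0 := by
    intro s h1 h2 h3
    simp only [hc', hg]
    rw [tc_ne _ _ _ _ _ h1 h2 h3, sub_self]
  have hc'i : c' i = c i - c j := by
    simp only [hc', hg]
    rw [tc_a _ _ _ _ _ (Ne.symm hki)]
  obtain ⟨l, hl⟩ := exists_ne ({i, j, k} : Finset (Fin n)) (lt_of_le_of_lt Finset.card_le_three (by omega))
  simp only [Finset.mem_insert, Finset.mem_singleton, not_or] at hl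
  obtain ⟨hli, hlj, hlk⟩ := hl
  obtain ⟨m, hm⟩ := exists_ne ({i, j, k, l} : Finset (Fin n)) (lt_of_le_of_lt Finset.card_le_four (by omega))
  simp only [Finset.mem_insert, Finset.mem_singleton, not_or] at hm
  obtain ⟨hmi, hmj, hmk, hml⟩ := hm
  set h := tc i l m (Ne.symm hli) (Ne.symm hml) with hh
  have hr2 : ∑ s, (c' s - c' ((h : Perm (Fin n)) s)) • v s = 0 := rel_sub hr (rel_smul hv hr h)
  have h0 : ∀ s, s ≠ i → s ≠ m → c' s - c' ((h : Perm (Fin n)) s) = 0 := by
    intro s h1 h2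
    by_cases h3 : s = l
    · subst h3
      rw [hh, tc_b _ _ _ _ _ (Ne.symm hmi), hc'0 _ hli hlj hlk, hc'0 _ hmi hmj hmk, sub_self]
    · rw [hh, tc_ne _ _ _ _ _ h1 h3 h2, sub_self]
  have hi : c' i - c' ((h : Perm (Fin n)) i) = c i - c j := by
    rw [hh, tc_a _ _ _ _ _ (Ne.symm hmi), hc'0 _ hli hlj hlk, hc'i, sub_zero]
  have hmm : c' m - c' ((h : Perm (Fin n)) m) = -(c i - c j) := by
    rw [hh, tc_c, hc'0 _ hmi hmj hmk, hc'i, zero_sub]
  have hr3 : (c i - c j) • (v i - v m) = 0 := by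
    rw [← hr2, ← Finset.add_sum_erase _ _ (Finset.mem_univ i),
      ← Finset.add_sum_erase _ _ (Finset.mem_erase.2 ⟨hmi, Finset.mem_univ m⟩), hi, hmm, Finset.sum_eq_zero, add_zero, smul_sub,
      neg_smul, sub_eq_add_neg]
    intro s hs
    rw [Finset.mem_erase, Finset.mem_erase] at hs
    rw [h0 s hs.2.1 hs.1, zero_smul]
  have hvim : v i = v m := by
    have hcop : IsCoprime (c i - c j) (q : ℤ) := by
      rw [isCoprime_comm, Prime.coprime_iff_not_dvd (Nat.prime_iff_prime_int.1 hq)]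
      exact hij
    obtain ⟨a, b, hab⟩ := hcop
    rw [← sub_eq_zero, ← one_smul ℤ (v i - v m), ← hab, add_smul, mul_smul, mul_smul, hr3, smul_zero, zero_add]
    have : (q : ℤ) • (v i - v m) = 0 := by
      rw [natCast_zsmul]; exact hexp _
    rw [this, smul_zero]
  have hall : ∀ s, v s = v m := by
    intro s
    by_cases h1 : s = i
    · rw [h1, hvim]
    by_cases h2 : s = m
    · rw [h2]
    have h3 := hv (tc i m s (Ne.symm hmi) (Ne.symm h2)) i
    have h4 := hv (tc i m s (Ne.symm hmi) (Ne.symm h2)) m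
    rw [tc_a _ _ _ _ _ (Ne.symm h1)] at h3
    rw [tc_b _ _ _ _ _ (Ne.symm h1)] at h4
    rw [hvim] at h3
    exact h4.symm.trans h3
  intro a b
  rw [hall a, hall b]

end

/-- **the natural module** -/
theorem natKill {p q : ℕ} {V : Type} [AddCommGroup V] [Finite V] [DistribMulAction (alternatingGroup (Fin n)) V]
    (h : PSit p q (alternatingGroup (Fin n)) V) (hn : 5 ≤ n) (hnq : n < q) (o : Fin n) (v0 : V) (h0 : v0 ≠ 0)
    (hfix : ∀ g : alternatingGroup (Fin n), (g : Perm (Fin n)) o = o → g • v0 = v0) : False := by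
  classical
  -- transitivity
  have htr : ∀ i : Fin n, ∃ g : alternatingGroup (Fin n), (g : Perm (Fin n)) o = i := by
    intro i
    by_cases h1 : i = o
    · exact ⟨1, by rw [h1]; rfl⟩
    obtain ⟨k, hk⟩ := exists_ne ({i, o} : Finset (Fin n)) (lt_of_le_of_lt Finset.card_le_two (by omega))
    simp only [Finset.mem_insert, Finset.mem_singleton, not_or] at hk
    exact ⟨tc o i k (Ne.symm h1) (Ne.symm hk.1), tc_a _ _ _ _ _ (Ne.symm hk.2)⟩
  choose t ht using htr
  have hgen : ∀ g : alternatingGroup (Fin n), g • v0 = t ((g : Perm (Fin n)) o) • v0 := by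
    intro g
    have h1 := hfix ((t ((g : Perm (Fin n)) o))⁻¹ * g) (by
      rw [Subgroup.coe_mul, Perm.mul_apply, Subgroup.coe_inv, Perm.inv_eq_iff_eq]
      exact (ht _).symm)
    rw [mul_smul, inv_smul_eq_iff] at h1
    exact h1
  set v : Fin n → V := fun i => t i • v0 with hvdef
  have hv : ∀ (g : alternatingGroup (Fin n)) i, g • v i = v ((g : Perm (Fin n)) i) := by
    intro g i
    simp only [hvdef]
    rw [← mul_smul, hgen, Subgroup.coe_mul, Perm.mul_apply, ht]
  have hvo : v o = v0 := by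
    simp only [hvdef]
    exact hfix _ (ht o)
  -- not all equal
  have hne : ¬ ∀ a b, v a = v b := by
    intro hall
    have h1 : ∀ g : alternatingGroup (Fin n), g • v0 = v0 := by
      intro g
      rw [← hvo, hv]
      exact hall _ _
    let W : AddSubgroup V := fixV (alternatingGroup (Fin n)) V ⊤
    have hW : W = ⊥ ∨ W = ⊤ := h.irr W (fun g w hw => by
      have h2 : g • w = w := hw g trivial
      rw [h2]; exact hw)
    have hv0W : v0 ∈ W := fun g _ => h1 g
    rcases hW with hW | hW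
    · rw [hW] at hv0W
      exact h0 (AddSubgroup.mem_bot.1 hv0W)
    · have h2 : ∀ g : alternatingGroup (Fin n), g = 1 := by
        intro g
        refine h.faith g fun w => ?_
        have h3 : w ∈ W := by rw [hW]; trivial
        exact h3 g trivial
      have h3 : (t ⟨0, by omega⟩) = (t ⟨1, by omega⟩) := by rw [h2 (t _), h2 (t _)]
      have h4 := ht ⟨0, by omega⟩
      have h5 := ht ⟨1, by omega⟩
      rw [h3, h5] at h4
      exact absurd (congrArg Fin.val h4) (by simp)
  -- the vector with distinct coordinates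
  set w : V := ∑ i : Fin n, ((i : ℕ) : ℤ) • v i with hw
  have hstab : ∀ g : alternatingGroup (Fin n), g • w = w → g = 1 := by
    intro g hg
    by_contra hg1
    have hrel : ∑ i, (((((g : Perm (Fin n))⁻¹ i : Fin n) : ℕ) : ℤ) - ((i : ℕ) : ℤ)) • v i = 0 := by
      have h1 : g • w = ∑ i, (((((g : Perm (Fin n))⁻¹ i : Fin n) : ℕ) : ℤ)) • v i := by
        rw [hw, Finset.smul_sum]
        refine Fintype.sum_equiv (g : Perm (Fin n)) _ _ fun i => ?_
        rw [smul_comm, hv]
        congr 2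
        exact congrArg (fun z : Fin n => (z : ℕ)) ((g : Perm (Fin n)).symm_apply_apply i).symm
      simp only [sub_smul, Finset.sum_sub_distrib]
      rw [← h1, hg, hw, sub_self]
    apply hne
    by_cases hcst : ∀ i j : Fin n, (q : ℤ) ∣ (((((g : Perm (Fin n))⁻¹ i : Fin n) : ℕ) : ℤ) - ((i : ℕ) : ℤ)) -
        (((((g : Perm (Fin n))⁻¹ j : Fin n) : ℕ) : ℤ) - ((j : ℕ) : ℤ))
    · exfalso
      set c : Fin n → ℤ := fun i => ((((g : Perm (Fin n))⁻¹ i : Fin n) : ℕ) : ℤ) - ((i : ℕ) : ℤ) with hc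
      have hsum : ∑ i, c i = 0 := by
        simp only [hc, Finset.sum_sub_distrib]
        rw [Equiv.sum_comp ((g : Perm (Fin n))⁻¹) (fun i : Fin n => ((i : ℕ) : ℤ)), sub_self]
      obtain ⟨i, hi⟩ : ∃ i, (g : Perm (Fin n))⁻¹ i ≠ i := by
        by_contra hcon
        push Not at hcon
        apply hg1
        apply Subtype.ext
        have : (g : Perm (Fin n))⁻¹ = 1 := Equiv.ext hcon
        rw [inv_eq_one] at this
        exact this
      have h1 : (q : ℤ) ∣ (n : ℤ) * c i := by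
        have h2 : (n : ℤ) * c i = ∑ j : Fin n, (c i - c j) := by
          rw [Finset.sum_sub_distrib, hsum, sub_zero, Finset.sum_const, Finset.card_univ, Fintype.card_fin, nsmul_eq_mul]
        rw [h2]
        exact Finset.dvd_sum fun j _ => hcst i j
      have hqp : Prime (q : ℤ) := Nat.prime_iff_prime_int.1 h.hq
      rcases hqp.dvd_or_dvd h1 with h2 | h2
      · have h3 := Int.natCast_dvd_natCast.1 h2
        have := Nat.le_of_dvd (by omega) h3
        omega
      · have h3 : c i ≠ 0 := by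
          simp only [hc]
          intro h4
          apply hi
          apply Fin.ext
          omega
        have h4 := Int.le_of_dvd (abs_pos.2 h3) ((dvd_abs _ _).2 h2)
        have h5 : |c i| < n := by
          simp only [hc]
          rw [abs_lt]
          have h6 := ((g : Perm (Fin n))⁻¹ i).2
          have h7 := i.2
          constructor <;> omega
        omega
    · push Not at hcst
      obtain ⟨i, j, hij⟩ := hcst
      exact eq_of_rel h.hq hn h.exp hv hrel hij
  have hbot : MulAction.stabilizer (alternatingGroup (Fin n)) w = ⊥ := by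
    rw [eq_bot_iff]
    intro g hg
    rw [Subgroup.mem_bot]
    exact hstab g hg
  have h1 := h.P1 w
  rw [hbot, Subgroup.index_bot] at h1
  exact h1 h.pG

end Cfsg.Agent.H575.QA
end

-- part: H575/QA/AltDeg
section
/-!
# S4979, row `A_n`: small degrees (helper575)
-/

set_option autoImplicit false

namespace Cfsg.Agent.H575.QA

open Cfsg Cfsg.Agent.H313.AD

theorem deg7 {d : ℕ} (h : AltDeg 7 d) : d = 1 ∨ d = 6 ∨ 10 ≤ d := by
  have := of_altChk (n := 7) (chk := fun d => decide (d = 1) || decide (d = 6) || decide (10 ≤ d)) (by decide +kernel) h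
  simp only [Bool.or_eq_true, decide_eq_true_eq] at this
  tauto

theorem deg8 {d : ℕ} (h : AltDeg 8 d) : d = 1 ∨ d = 7 ∨ 12 ≤ d := by
  have := of_altChk (n := 8) (chk := fun d => decide (d = 1) || decide (d = 7) || decide (12 ≤ d)) (by decide +kernel) h
  simp only [Bool.or_eq_true, decide_eq_true_eq] at this
  tauto

theorem deg9 {d : ℕ} (h : AltDeg 9 d) : d = 1 ∨ d = 8 ∨ 14 ≤ d := by
  have := of_altChk (n := 9) (chk := fun d => decide (d = 1) || decide (d = 8) || decide (14 ≤ d)) (by decide +kernel) h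
  simp only [Bool.or_eq_true, decide_eq_true_eq] at this
  tauto

theorem deg10 {d : ℕ} (h : AltDeg 10 d) : d = 1 ∨ d = 9 ∨ 16 ≤ d := by
  have := of_altChk (n := 10) (chk := fun d => decide (d = 1) || decide (d = 9) || decide (16 ≤ d)) (by decide +kernel) h
  simp only [Bool.or_eq_true, decide_eq_true_eq] at this
  tauto

theorem deg_cases {m d : ℕ} (hm : 7 ≤ m) (h : AltDeg m d) : d = 1 ∨ d = m - 1 ∨ 2 * m - 4 ≤ d := by
  rcases Nat.lt_or_ge m 11 with h11 | h11
  · interval_cases m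
    · exact deg7 h
    · exact deg8 h
    · exact deg9 h
    · exact deg10 h
  · obtain ⟨k, rfl⟩ := Nat.exists_eq_add_of_le h11
    rcases alt_low_sq (by omega) h with h2 | h2 | h2 | h2 | h2
    · exact Or.inl h2
    · exact Or.inr (Or.inl h2)
    · right; right
      rw [show 11 + k - 3 = k + 8 by omega] at h2
      have : 2 * (2 * (11 + k)) ≤ 2 * d := by rw [h2]; nlinarith only []
      omega
    · right; right
      rw [show 11 + k - 1 = k + 10 by omega, show 11 + k - 2 = k + 9 by omega] at h2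
      have : 2 * (2 * (11 + k)) ≤ 2 * d := by rw [h2]; nlinarith only []
      omega
    · right; right
      rw [show 11 + k - 1 = k + 10 by omega] at h2
      have : 2 * (11 + k) ≤ d := by nlinarith only [h2]
      omega

/-- the degrees of the irreducible characters -/
theorem char_cases {m d : ℕ} (hm : 7 ≤ m) (h : d ∈ charDegrees (alternatingGroup (Fin m))) :
    d = 1 ∨ d = m - 1 ∨ 2 * m - 4 ≤ d :=
  deg_cases hm (Cfsg.Agent.H117.O1.alt_deg (by omega) h)

end Cfsg.Agent.H575.QA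
end

-- part: H575/QA/AltRep
section
/-!
# S4979, row `A_n`: dimensions of representations without invariants (helper575)
-/

set_option autoImplicit false

namespace Cfsg.Agent.H575.QA

open Cfsg Module

theorem simple_alt {n : ℕ} (hn : 5 ≤ n) : IsSimpleGroup (alternatingGroup (Fin n)) := by
  apply alternatingGroup.isSimpleGroup
  rw [Nat.card_eq_fintype_card, Fintype.card_fin]
  exact hn

theorem exists_not_comm {n : ℕ} (hn : 5 ≤ n) : ∃ a b : alternatingGroup (Fin n), a * b ≠ b * a := by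
  obtain ⟨x, hx⟩ : ∃ x : Fin n, x.val = 0 := ⟨⟨0, by omega⟩, rfl⟩
  obtain ⟨y, hy⟩ : ∃ x : Fin n, x.val = 1 := ⟨⟨1, by omega⟩, rfl⟩
  obtain ⟨z, hz⟩ : ∃ x : Fin n, x.val = 2 := ⟨⟨2, by omega⟩, rfl⟩
  obtain ⟨w, hw⟩ : ∃ x : Fin n, x.val = 3 := ⟨⟨3, by omega⟩, rfl⟩
  have hxy : x ≠ y := fun h => by rw [h, hy] at hx; omega
  have hyz : y ≠ z := fun h => by rw [h, hz] at hy; omega
  have hyw : y ≠ w := fun h => by rw [h, hw] at hy; omega
  have hxz : x ≠ z := fun h => by rw [h, hz] at hx; omega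
  have hxw : x ≠ w := fun h => by rw [h, hw] at hx; omega
  have hzw : z ≠ w := fun h => by rw [h, hw] at hz; omega
  refine ⟨tc x y z hxy hyz, tc x y w hxy hyw, fun h => hzw ?_⟩
  have h3 := congrArg (fun z : alternatingGroup (Fin n) => (z : Equiv.Perm (Fin n)) x) h
  simp only [Subgroup.coe_mul, Equiv.Perm.mul_apply] at h3
  rwa [tc_a _ _ _ _ _ hxw, tc_a _ _ _ _ _ hxz, tc_b _ _ _ _ _ hxz, tc_b _ _ _ _ _ hxw] at h3

theorem perfect_alt {n : ℕ} (hn : 5 ≤ n) : commutator (alternatingGroup (Fin n)) = ⊤ := by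
  have hs := simple_alt hn
  rcases hs.eq_bot_or_eq_top_of_normal (commutator (alternatingGroup (Fin n))) inferInstance with h | h
  · exfalso
    obtain ⟨a, b, hab⟩ := exists_not_comm hn
    rw [commutator_def, Subgroup.commutator_eq_bot_iff_le_centralizer] at h
    exact hab (h (Subgroup.mem_top b) a (Subgroup.mem_top a))
  · exact h

theorem comm_of_finrank_one {M : Type} [AddCommGroup M] [Module ℂ M] (h : finrank ℂ M = 1) (a b : Module.End ℂ M) :
    a * b = b * a := by
  obtain ⟨v, -, hv⟩ := finrank_eq_one_iff'.1 h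
  have key : ∀ f : Module.End ℂ M, ∃ c : ℂ, ∀ w, f w = c • w := by
    intro f
    obtain ⟨c, hc⟩ := hv (f v)
    refine ⟨c, fun w => ?_⟩
    obtain ⟨c', rfl⟩ := hv w
    rw [map_smul, ← hc, smul_comm]
  obtain ⟨c, hc⟩ := key a
  obtain ⟨c', hc'⟩ := key b
  ext w
  rw [Module.End.mul_apply, Module.End.mul_apply, hc, hc', hc', hc, smul_comm]

/-- dimensions of the representations of `A_m` without invariants -/
theorem rep_cases {m : ℕ} (hm : 7 ≤ m) : ∀ (k : ℕ) (M : Type) [AddCommGroup M] [Module ℂ M] [FiniteDimensional ℂ M]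
    (ρ : Representation ℂ (alternatingGroup (Fin m)) M), finrank ℂ M = k → (∀ v, (∀ g, ρ g v = v) → v = 0) →
    k = 0 ∨ k = m - 1 ∨ 2 * m - 4 ≤ k := by
  intro k
  induction k using Nat.strong_induction_on with
  | _ k ih =>
    intro M _ _ _ ρ hk hinv
    by_cases h0 : k = 0
    · exact Or.inl h0
    right
    have hnt : Nontrivial M := by
      apply Module.nontrivial_of_finrank_pos (R := ℂ)
      omega
    by_cases hirr : ρ.IsIrreducible
    · have hχ := Characters.Core.isIrrCharacter_of_rep ρ hirr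
      have hd : k ∈ charDegrees (alternatingGroup (Fin m)) := by
        refine ⟨⟨_, hχ⟩, Cfsg.Agent.Blocks.Basic.charDegree_of_eq ?_⟩
        change ρ.character 1 = _
        rw [Representation.char_one, hk]
      rcases char_cases hm hd with h1 | h1
      · exfalso
        rw [h1] at hk
        have htriv : ∀ g, ρ g = 1 := by
          let f : alternatingGroup (Fin m) →* (Module.End ℂ M)ˣ := MonoidHom.toHomUnits ρ
          have hf : ∀ g, ((f g : (Module.End ℂ M)ˣ) : Module.End ℂ M) = ρ g := fun g => rfl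
          have hker : commutator (alternatingGroup (Fin m)) ≤ f.ker := by
            rw [commutator_def, Subgroup.commutator_le]
            intro a _ b _
            rw [MonoidHom.mem_ker, map_commutatorElement, commutatorElement_eq_one_iff_mul_comm]
            apply Units.ext
            rw [Units.val_mul, Units.val_mul]
            exact comm_of_finrank_one hk _ _
          rw [perfect_alt (by omega)] at hker
          intro g
          have h2 : f g = 1 := hker (Subgroup.mem_top g)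
          rw [← hf, h2]; rfl
        obtain ⟨v, hv⟩ := _root_.exists_ne (0 : M)
        exact hv (hinv v fun g => by rw [htriv]; rfl)
      · exact h1
    have hnt2 : Nontrivial (Subrepresentation ρ) := by
      refine ⟨⊥, ⊤, ?_⟩
      intro he
      obtain ⟨v, hv⟩ := _root_.exists_ne (0 : M)
      have h1 : (⊥ : Submodule ℂ M) = ⊤ := congrArg Subrepresentation.toSubmodule he
      have h2 : v ∈ (⊤ : Submodule ℂ M) := Submodule.mem_top
      rw [← h1] at h2
      exact hv ((Submodule.mem_bot ℂ).1 h2)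
    have hex : ∃ N : Subrepresentation ρ, N ≠ ⊥ ∧ N ≠ ⊤ := by
      by_contra hcon
      push Not at hcon
      apply hirr
      exact { eq_bot_or_eq_top := fun N => by
                by_cases hN : N = ⊥
                · exact Or.inl hN
                · exact Or.inr (hcon N hN) }
    obtain ⟨N, hN1, hN2⟩ := hex
    have hss : ρ.IsSemisimpleRepresentation := by
      rw [Representation.isSemisimpleRepresentation_iff_isSemisimpleModule_asModule]
      have : NeZero (Nat.card (alternatingGroup (Fin m)) : ℂ) := ⟨Nat.cast_ne_zero.2 Nat.card_pos.ne'⟩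
      infer_instance
    obtain ⟨N', hNN'⟩ := hss.exists_isCompl N
    have hsup : N.toSubmodule ⊔ N'.toSubmodule = ⊤ := congrArg Subrepresentation.toSubmodule hNN'.codisjoint.eq_top
    have hinf : N.toSubmodule ⊓ N'.toSubmodule = ⊥ := congrArg Subrepresentation.toSubmodule hNN'.disjoint.eq_bot
    have hdim := Submodule.finrank_sup_add_finrank_inf_eq N.toSubmodule N'.toSubmodule
    rw [hsup, hinf, finrank_top, finrank_bot, add_zero, hk] at hdim
    have hNtop : N.toSubmodule ≠ ⊤ := fun he => hN2 (Subrepresentation.toSubmodule_injective he)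
    have hNbot : N.toSubmodule ≠ ⊥ := fun he => hN1 (Subrepresentation.toSubmodule_injective he)
    have hlt : finrank ℂ N.toSubmodule < finrank ℂ M := Submodule.finrank_lt hNtop
    have hpos : 0 < finrank ℂ N.toSubmodule := by
      rw [Nat.pos_iff_ne_zero]
      intro h0
      exact hNbot (Submodule.finrank_eq_zero.1 h0)
    rw [hk] at hlt
    have i1 := ih (finrank ℂ N.toSubmodule) hlt N.toSubmodule N.toRepresentation rfl (by
      intro v hv
      apply Subtype.ext
      exact hinv v fun g => congrArg Subtype.val (hv g))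
    have i2 := ih (finrank ℂ N'.toSubmodule) (by omega) N'.toSubmodule N'.toRepresentation rfl (by
      intro v hv
      apply Subtype.ext
      exact hinv v fun g => congrArg Subtype.val (hv g))
    right
    omega

/-- the minimal degree -/
theorem minDeg_alt {m : ℕ} (hm : 7 ≤ m) : Cfsg.Agent.H122.MinDeg (alternatingGroup (Fin m)) (m - 1) := by
  refine Cfsg.Agent.H122.minDeg_of_irr ?_
  intro M _ _ _ ρ hirr hg
  rcases rep_cases hm _ M ρ rfl (by
    intro v hv
    by_contra hv0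
    obtain ⟨g, hg⟩ := hg
    apply hg
    let U : Subrepresentation ρ :=
      { toSubmodule := Submodule.span ℂ {v}
        apply_mem_toSubmodule := by
          intro g w hw
          rw [Submodule.mem_span_singleton] at hw ⊢
          obtain ⟨c, rfl⟩ := hw
          exact ⟨c, by rw [map_smul, hv]⟩ }
    have hso : IsSimpleOrder (Subrepresentation ρ) := hirr
    rcases hso.eq_bot_or_eq_top U with h | h
    · exfalso
      have h3 : v ∈ (⊥ : Subrepresentation ρ).toSubmodule := by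
        rw [← h]
        exact Submodule.mem_span_singleton_self v
      exact hv0 h3
    · ext w
      have h3 : w ∈ U.toSubmodule := by rw [h]; exact Submodule.mem_top
      obtain ⟨c, rfl⟩ := Submodule.mem_span_singleton.1 h3
      rw [map_smul, hv]
      rfl) with h | h | h
  · exfalso
    obtain ⟨g, hg⟩ := hg
    apply hg
    have := finrank_zero_iff.1 h
    ext v
    exact Subsingleton.elim _ _
  · omega
  · omega

end Cfsg.Agent.H575.QA
end

-- part: H575/QA/Gen
section
/-!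
# S4979: generation by conjugates of a `p`-subgroup (helper575)
-/

set_option autoImplicit false

namespace Cfsg.Agent.H575.QA

open Cfsg Cfsg.Agent.H152.QA

variable {p q : ℕ} {G V : Type} [Group G] [Finite G] [AddCommGroup V] [Finite V] [DistribMulAction G V]

theorem fixV_conj_card (X : Subgroup G) (g : G) :
    Nat.card (fixV G V (X.map (MulAut.conj g).toMonoidHom)) = Nat.card (fixV G V X) := by
  refine Nat.card_congr
    { toFun := fun v => ⟨g⁻¹ • (v : V), fun x hx => ?_⟩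
      invFun := fun v => ⟨g • (v : V), ?_⟩
      left_inv := fun v => Subtype.ext (smul_inv_smul g _)
      right_inv := fun v => Subtype.ext (inv_smul_smul g _) }
  · have h1 := v.2 (g * x * g⁻¹) ⟨x, hx, rfl⟩
    rw [mul_smul, mul_smul, ← eq_inv_smul_iff] at h1
    exact h1
  · rintro _ ⟨x, hx, rfl⟩
    change (g * x * g⁻¹) • g • (v : V) = _
    rw [← mul_smul, inv_mul_cancel_right, mul_smul, v.2 x hx]

theorem card_pow (hq : q.Prime) (hexp : ∀ v : V, q • v = 0) (W : AddSubgroup V) : ∃ f, Nat.card W = q ^ f := by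
  have : Fact q.Prime := ⟨hq⟩
  let _ : Module (ZMod q) W := AddCommGroup.zmodModule (n := q) (fun w => Subtype.ext (hexp w))
  refine ⟨Module.finrank (ZMod q) W, ?_⟩
  rw [Module.natCard_eq_pow_finrank (K := ZMod q), Nat.card_zmod]

/-- `m` conjugates of the `p`-subgroup `X` generate `G` -/
theorem gen_le (h : PSit p q G V) (X : Subgroup G) (hX : IsPGroup p X) {m : ℕ} (g : Fin m → G)
    (hg : ⨆ i, X.map (MulAut.conj (g i)).toMonoidHom = ⊤) :
    ∃ c d : ℕ, Nat.card V = q ^ d ∧ q ^ c ≤ (Subgroup.normalizer (X : Set G)).index ∧ d ≤ m * c := by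
  obtain ⟨d, hd⟩ := card_pow h.hq h.exp (⊤ : AddSubgroup V)
  rw [AddSubgroup.card_top] at hd
  obtain ⟨f, hf⟩ := card_pow h.hq h.exp (fixV G V X)
  have hq1 := h.hq.one_lt
  have hfd : f ≤ d := by
    have h1 : Nat.card (fixV G V X) ≤ Nat.card V := Nat.card_le_card_of_injective Subtype.val Subtype.val_injective
    rw [hf, hd] at h1
    exact (Nat.pow_le_pow_iff_right hq1).1 h1
  have hle := Cfsg.Agent.H245.QA.card_le h.hp h.P1 X hX
  rw [hf, hd] at hle
  have hc : q ^ (d - f) ≤ (Subgroup.normalizer (X : Set G)).index := by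
    have h1 : q ^ (d - f) * q ^ f ≤ (Subgroup.normalizer (X : Set G)).index * q ^ f := by
      rw [← pow_add, Nat.sub_add_cancel hfd]
      exact hle
    exact Nat.le_of_mul_le_mul_right h1 (pow_pos h.hq.pos _)
  refine ⟨d - f, d, hd, hc, ?_⟩
  have hidx : ∀ i, (fixV G V (X.map (MulAut.conj (g i)).toMonoidHom)).index = q ^ (d - f) := by
    intro i
    have h1 := (fixV G V (X.map (MulAut.conj (g i)).toMonoidHom)).card_mul_index
    rw [fixV_conj_card, hf, hd] at h1
    have h2 : q ^ d = q ^ f * q ^ (d - f) := by rw [← pow_add]; congr 1; omega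
    rw [h2] at h1
    exact Nat.eq_of_mul_eq_mul_left (pow_pos h.hq.pos _) h1
  have hbot : (⨅ i, fixV G V (X.map (MulAut.conj (g i)).toMonoidHom)) = ⊥ := by
    rw [← Cfsg.Agent.H973.QA.PSit.fixV_top h, eq_comm]
    apply le_antisymm
    · exact le_iInf fun i => fixV_mono le_top
    · intro v hv
      rw [AddSubgroup.mem_iInf] at hv
      intro y _
      have hst : (⨆ i, X.map (MulAut.conj (g i)).toMonoidHom) ≤ MulAction.stabilizer G v :=
        iSup_le fun i => fun z hz => hv i z hz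
      rw [hg] at hst
      exact hst (Subgroup.mem_top y)
  have h2 := AddSubgroup.index_iInf_le (fun i => fixV G V (X.map (MulAut.conj (g i)).toMonoidHom))
  rw [hbot, AddSubgroup.index_bot, hd, Finset.prod_congr rfl (fun i _ => hidx i), Finset.prod_const, Finset.card_univ,
    Fintype.card_fin, ← pow_mul] at h2
  have h3 := (Nat.pow_le_pow_iff_right hq1).1 h2
  rwa [mul_comm] at h3

end Cfsg.Agent.H575.QA
end

-- part: H575/QA/RowAlt
section
/-!
# S4979, row `A_n` (helper575)
-/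

set_option autoImplicit false

namespace Cfsg.Agent.H575.QA

open Cfsg Equiv Cfsg.Agent.H152.QA Cfsg.Agent.H80.Fpf

variable {n : ℕ}

section num

theorem exists_c {p n : ℕ} (hp : p.Prime) (ho : Odd p) (hn : 8 ≤ n) (hpn : p ≤ n) (hnp : n ≤ p + 2) :
    ∃ c : ℕ, (n - p).factorial * p ≤ c ^ 2 ∧ p < 2 * (n - 1 - c) := by
  rcases Nat.lt_or_ge p 17 with h | h
  · have hp6 : 6 ≤ p := by omega
    interval_cases p
    · exact absurd hp (by decide)
    · have : n = 8 ∨ n = 9 := by omega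
      rcases this with rfl | rfl
      · exact ⟨3, by decide, by decide⟩
      · exact ⟨4, by decide, by decide⟩
    · exact absurd hp (by decide)
    · exact absurd hp (by decide)
    · exact absurd hp (by decide)
    · have : n = 11 ∨ n = 12 ∨ n = 13 := by omega
      rcases this with rfl | rfl | rfl
      · exact ⟨4, by decide, by decide⟩
      · exact ⟨4, by decide, by decide⟩
      · exact ⟨5, by decide, by decide⟩
    · exact absurd hp (by decide)
    · have : n = 13 ∨ n = 14 ∨ n = 15 := by omega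
      rcases this with rfl | rfl | rfl
      · exact ⟨4, by decide, by decide⟩
      · exact ⟨4, by decide, by decide⟩
      · exact ⟨6, by decide, by decide⟩
    · exact absurd hp (by decide)
    · exact absurd hp (by decide)
    · exact absurd hp (by decide)
  · refine ⟨Nat.sqrt (2 * p) + 1, ?_, ?_⟩
    · have h1 : (n - p).factorial ≤ 2 := by
        have h2 : n - p ≤ 2 := by omega
        exact (Nat.factorial_le h2)
      have h3 := Nat.lt_succ_sqrt (2 * p)
      calc (n - p).factorial * p ≤ 2 * p := Nat.mul_le_mul_right _ h1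
        _ ≤ (Nat.sqrt (2 * p) + 1) ^ 2 := by
          rw [sq]; exact h3.le
    · have h3 := Nat.sqrt_le (2 * p)
      set s := Nat.sqrt (2 * p) with hs
      have h4 : 2 * (s + 1) + 2 < p := by
        by_contra hcon
        push Not at hcon
        have h5 : p - 4 ≤ 2 * s := by omega
        have h6 : (p - 4) * (p - 4) ≤ 4 * (s * s) := by
          calc (p - 4) * (p - 4) ≤ (2 * s) * (2 * s) := Nat.mul_le_mul h5 h5
            _ = 4 * (s * s) := by ring
        obtain ⟨k, rfl⟩ := Nat.exists_eq_add_of_le h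
        rw [show 17 + k - 4 = k + 13 by omega] at h6
        nlinarith only [h3, h6]
      omega

theorem pow_lt {p n q : ℕ} (hp : 3 ≤ p) (hn : n ≤ p + 2) (hq : n < q) {i : ℕ} (hi : p * (p - 1) * i ≤ n.descFactorial p)
    (h : q ^ (p - 1) ≤ i) : False := by
  have h1 : n.descFactorial p ≤ n ^ p := Nat.descFactorial_le_pow n p
  have h2 : n ^ p = n * n ^ (p - 1) := by
    rw [← pow_succ']; congr 1; omega
  have h3 : n ^ (p - 1) < q ^ (p - 1) := Nat.pow_lt_pow_left hq (by omega)
  have h4 : n ≤ p * (p - 1) := by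
    obtain ⟨k, rfl⟩ := Nat.exists_eq_add_of_le hp
    rw [show 3 + k - 1 = k + 2 by omega]
    nlinarith only [hn]
  have h5 : p * (p - 1) * q ^ (p - 1) ≤ n * n ^ (p - 1) :=
    ((Nat.mul_le_mul_left _ h).trans hi).trans (h1.trans h2.le)
  have h6 : n * n ^ (p - 1) < p * (p - 1) * q ^ (p - 1) := by
    have h7 : 0 < p * (p - 1) := Nat.mul_pos (by omega) (by omega)
    calc n * n ^ (p - 1) ≤ p * (p - 1) * n ^ (p - 1) := Nat.mul_le_mul_right _ h4
      _ < p * (p - 1) * q ^ (p - 1) := Nat.mul_lt_mul_of_pos_left h3 h7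
  omega

theorem codim_lt {p n q c : ℕ} (hp : 3 ≤ p) (hn : 1 ≤ n) (hq : n < q) {i : ℕ} (hi : p * (p - 1) * i ≤ n.descFactorial p)
    (h : q ^ c ≤ i) : c ≤ p - 1 := by
  have h1 : n.descFactorial p ≤ n ^ p := Nat.descFactorial_le_pow n p
  have h3 : n ^ p < q ^ p := Nat.pow_lt_pow_left hq (by omega)
  have h4 : i ≤ p * (p - 1) * i := Nat.le_mul_of_pos_left _ (Nat.mul_pos (by omega) (by omega))
  have h5 : q ^ c < q ^ p := by omega
  have h6 := (Nat.pow_lt_pow_iff_right (by omega : 1 < q)).1 h5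
  omega

end num

section facts
variable {p q : ℕ} {G V : Type} [Group G] [Finite G] [AddCommGroup V] [Finite V] [DistribMulAction G V]
  {ψ : G →* alternatingGroup (Fin n)}

theorem card_eq (hψ : IsCover ψ) : Nat.card G = Nat.card ψ.ker * Nat.card (alternatingGroup (Fin n)) := by
  rw [← Subgroup.card_mul_index ψ.ker, Subgroup.index_ker, MonoidHom.range_eq_top.2 hψ.surj, Subgroup.card_top]

theorem lt_q (h : PSit p q G V) (hψ : IsCover ψ) (hn : 5 ≤ n) : n < q := by
  by_contra hc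
  apply h.qG
  rw [card_eq hψ]
  exact (prime_dvd_card (by omega) h.hq (by omega)).mul_left _

theorem p_le (h : PSit p q G V) (hψ : IsCover ψ) (hn : 5 ≤ n) : p ≤ n := by
  have h1 := h.pG
  rw [card_eq hψ] at h1
  rcases h.hp.dvd_mul.1 h1 with h2 | h2
  · exact absurd (h2.trans (Subgroup.card_dvd_of_le hψ.central)) h.pZ
  · exact le_of_dvd_card (by omega) h.hp h2

theorem p_odd (h : PSit p q G V) : Odd p ∧ 3 ≤ p := by
  have h1 := h.hp.two_le
  have h2 := h.odd
  exact ⟨h.hp.odd_of_ne_two h2, by omega⟩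

end facts

/-- `n = 5, 6, 7` -/
theorem small {p q : ℕ} {G V : Type} [Group G] [Finite G] [AddCommGroup V] [Finite V] [DistribMulAction G V]
    {ψ : G →* alternatingGroup (Fin n)} (h : PSit p q G V) (hψ : IsCover ψ) (hn : 5 ≤ n) (hn7 : n ≤ 7) : False := by
  have hs := simple_alt hn
  have hnq := lt_q h hψ hn
  have hpn := p_le h hψ hn
  obtain ⟨ho, h3⟩ := p_odd h
  obtain ⟨x, hx⟩ := exists_isPC h.hp ho hpn
  have hi := hx.index_le h.hp ho hpn
  have hcard : ∀ e : ℕ, e ∣ p - 1 → (∀ k : ℕ, k ^ e % p = 1 → IsConj x (x ^ k)) → p * (p - 1) * q ^ e ≤ n.descFactorial p :=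
    fun e he hr => (Nat.mul_le_mul_left _ (Cfsg.Agent.H973.QA.PSit.rank_one h hψ x hx.order he hr)).trans hi
  have hq7 : 7 ≤ q := by
    rcases Nat.lt_or_ge q 7 with h1 | h1
    · have : q = 6 := by omega
      have hq := h.hq
      rw [this] at hq
      exact absurd hq (by decide)
    · exact h1
  have hp := h.hp
  have hdvd : (p - 1) / 2 ∣ p - 1 := by
    obtain ⟨k, hk⟩ := ho
    rw [hk]
    exact ⟨2, by omega⟩
  interval_cases n
  · -- `n = 5`
    have : p = 3 ∨ p = 5 := by
      interval_cases p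
      · exact Or.inl rfl
      · exact absurd hp (by decide)
      · exact Or.inr rfl
    rcases this with rfl | rfl
    · have h1 := hcard 2 (by decide) (hx.rat h.hp (by norm_num))
      have h2 : (5 : ℕ).descFactorial 3 = 60 := by decide
      rw [h2] at h1
      nlinarith only [hq7, h1]
    · have h1 := hcard 2 (by decide) (hx.rat2 h.hp ho)
      have h2 : (5 : ℕ).descFactorial 5 = 120 := by decide
      rw [h2] at h1
      nlinarith only [hq7, h1]
  · -- `n = 6`
    have : p = 3 ∨ p = 5 := by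
      interval_cases p
      · exact Or.inl rfl
      · exact absurd hp (by decide)
      · exact Or.inr rfl
      · exact absurd hp (by decide)
    rcases this with rfl | rfl
    · have h1 := hcard 2 (by decide) (hx.rat h.hp (by norm_num))
      have h2 : (6 : ℕ).descFactorial 3 = 120 := by decide
      rw [h2] at h1
      nlinarith only [hq7, h1]
    · have h1 := hcard 2 (by decide) (hx.rat2 h.hp ho)
      have h2 : (6 : ℕ).descFactorial 5 = 720 := by decide
      rw [h2] at h1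
      nlinarith only [hq7, h1]
  · -- `n = 7`
    have hq11 : 11 ≤ q := by
      rcases Nat.lt_or_ge q 11 with h1 | h1
      · have hq := h.hq
        have : q = 8 ∨ q = 9 ∨ q = 10 := by omega
        rcases this with rfl | rfl | rfl
        · exact absurd hq (by decide)
        · exact absurd hq (by decide)
        · exact absurd hq (by decide)
      · exact h1
    have : p = 3 ∨ p = 5 ∨ p = 7 := by
      interval_cases p
      · exact Or.inl rfl
      · exact absurd hp (by decide)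
      · exact Or.inr (Or.inl rfl)
      · exact absurd hp (by decide)
      · exact Or.inr (Or.inr rfl)
    rcases this with rfl | rfl | rfl
    · have h1 := hcard 2 (by decide) (hx.rat h.hp (by norm_num))
      have h2 : (7 : ℕ).descFactorial 3 = 210 := by decide
      rw [h2] at h1
      nlinarith only [hq7, hq11, h1]
    · have h1 := hcard 4 (by decide) (hx.rat h.hp (by norm_num))
      have h2 : (7 : ℕ).descFactorial 5 = 2520 := by decide
      rw [h2] at h1
      have h3 : 11 ^ 4 ≤ q ^ 4 := Nat.pow_le_pow_left hq11 4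
      norm_num at h1 h3
      omega
    · have h1 := hcard 3 (by decide) (hx.rat2 h.hp ho)
      have h2 : (7 : ℕ).descFactorial 7 = 5040 := by decide
      rw [h2] at h1
      have h3 : 11 ^ 3 ≤ q ^ 3 := Nat.pow_le_pow_left hq11 3
      norm_num at h1 h3
      omega

theorem isCover_id (hn : 5 ≤ n) : IsCover (MonoidHom.id (alternatingGroup (Fin n))) where
  surj := fun x => ⟨x, rfl⟩
  central := by
    intro x hx
    have : x = 1 := hx
    rw [this]; exact one_mem _
  perf := perfect_alt hn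

/-- the stabilizer of the last point -/
theorem exists_emb (hn : 1 ≤ n) : ∃ f : alternatingGroup (Fin (n - 1)) →* alternatingGroup (Fin n),
    ∀ g : alternatingGroup (Fin n), (g : Perm (Fin n)) ⟨n - 1, by omega⟩ = ⟨n - 1, by omega⟩ → ∃ y, f y = g := by
  classical
  set l : Fin n := ⟨n - 1, by omega⟩ with hl
  have hc : Fintype.card {i : Fin n // i ≠ l} = n - 1 := by
    rw [Fintype.card_subtype_compl, Fintype.card_fin, Fintype.card_unique]
  let e : Fin (n - 1) ≃ {i : Fin n // i ≠ l} := (Fintype.equivFinOfCardEq hc).symm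
  let f : alternatingGroup (Fin (n - 1)) →* alternatingGroup (Fin n) :=
    { toFun := fun y => ⟨(y : Perm (Fin (n - 1))).extendDomain e, by
        rw [Perm.mem_alternatingGroup, Perm.sign_extendDomain]
        exact y.2⟩
      map_one' := Subtype.ext (Perm.extendDomain_one e)
      map_mul' := fun a b => Subtype.ext (Perm.extendDomain_mul e _ _).symm }
  refine ⟨f, fun g hg => ?_⟩
  have hgl : ∀ x : Fin n, (g : Perm (Fin n)) x ≠ l ↔ x ≠ l := by
    intro x
    rw [not_iff_not]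
    constructor
    · intro h
      exact (g : Perm (Fin n)).injective (h.trans hg.symm)
    · rintro rfl; exact hg
  let y : Perm (Fin (n - 1)) := e.symm.permCongr ((g : Perm (Fin n)).subtypePerm hgl)
  have hy : y.extendDomain e = (g : Perm (Fin n)) := by
    ext i
    by_cases hi : i = l
    · rw [Perm.extendDomain_apply_not_subtype _ _ (by simpa using hi), hi, hg]
    · have h1 := Perm.extendDomain_apply_subtype y e (b := i) hi
      rw [h1]
      simp [y]
  have hys : y ∈ alternatingGroup (Fin (n - 1)) := by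
    rw [Perm.mem_alternatingGroup, ← Perm.sign_extendDomain y e, hy]
    exact g.2
  exact ⟨⟨y, hys⟩, Subtype.ext hy⟩

/-- `8 ≤ n` -/
theorem big {p q : ℕ} {V : Type} [AddCommGroup V] [Finite V] [DistribMulAction (alternatingGroup (Fin n)) V]
    (h : PSit p q (alternatingGroup (Fin n)) V) (hn : 8 ≤ n) : False := by
  have hn5 : 5 ≤ n := by omega
  have hs := simple_alt hn5
  have hψ := isCover_id hn5
  have hnq := lt_q h hψ hn5
  have hpn := p_le h hψ hn5
  obtain ⟨ho, h3⟩ := p_odd h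
  obtain ⟨x, hx⟩ := exists_isPC h.hp ho hpn
  have hi := hx.index_le h.hp ho hpn
  rcases Nat.lt_or_ge n (p + 3) with hnp | hnp
  · obtain ⟨c, hc1, hc2⟩ := exists_c h.hp ho hn hpn (by omega)
    have hdvd : (p - 1) / 2 ∣ p - 1 := by
      obtain ⟨k, hk⟩ := ho
      rw [hk]
      exact ⟨2, by omega⟩
    obtain ⟨k, hk0, hk1, hk2⟩ := Cfsg.Agent.H973.QA.PSit.elt h hψ (minDeg_alt (by omega)) x hx.order
      (hx.centralizer_le.trans hc1) hdvd (hx.rat2 h.hp ho)
    have hp1 : (p - 1) / 2 * 2 = p - 1 := by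
      obtain ⟨k, hk⟩ := ho
      omega
    have hk : 2 ≤ k := by
      by_contra hcon
      have : k = 1 := by omega
      subst this
      rw [mul_one] at hk1
      have h4 : (p - 1) / 2 * (2 * (n - 1 - c)) ≤ (p - 1) / 2 * p := by
        calc (p - 1) / 2 * (2 * (n - 1 - c)) = ((p - 1) / 2 * 2) * (n - 1 - c) := by ring
          _ = (p - 1) * (n - 1 - c) := by rw [hp1]
          _ ≤ p * ((p - 1) / 2) := hk1
          _ = (p - 1) / 2 * p := by ring
      have h5 := Nat.le_of_mul_le_mul_left h4 (by omega)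
      omega
    have h6 : q ^ (p - 1) ≤ q ^ ((p - 1) / 2 * k) := by
      apply Nat.pow_le_pow_right (by omega)
      calc p - 1 = (p - 1) / 2 * 2 := hp1.symm
        _ ≤ (p - 1) / 2 * k := Nat.mul_le_mul_left _ hk
    exact pow_lt h3 (by omega) hnq hi (h6.trans hk2)
  · -- the natural module
    obtain ⟨m, g, hm, hg⟩ := gen_cycles h.hp ho hnp x hx.cyc hx.card
    have hXp : IsPGroup p (Subgroup.zpowers x) := IsPGroup.of_card (n := 1) (by rw [Nat.card_zpowers, hx.order, pow_one])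
    obtain ⟨c, d, hd, hc, hdc⟩ := gen_le h (Subgroup.zpowers x) hXp g hg
    have hcp := codim_lt h3 (by omega) hnq hi hc
    have hdn : d ≤ 2 * n - 6 := by
      have h4 : m * c ≤ m * (p - 1) := Nat.mul_le_mul_left _ hcp
      omega
    have : Fact q.Prime := ⟨h.hq⟩
    obtain ⟨d', ρ, hd', hρ⟩ := Cfsg.Agent.H245.QA.exists_rep_fix (D := alternatingGroup (Fin n)) (E := V) h.exp h.qG
    have hdd : d' = d := Nat.pow_right_injective h.hq.two_le (hd'.symm.trans hd)
    subst hdd
    have hq1 := h.hq.one_lt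
    -- no invariants
    have hinv : ∀ v, (∀ g, ρ g v = v) → v = 0 := by
      intro v hv
      have h4 := hρ ⊤
      have h5 : Nat.card {e : V // ∀ g ∈ (⊤ : Subgroup (alternatingGroup (Fin n))), g • e = e} = 1 := by
        have h6 := Cfsg.Agent.H973.QA.PSit.fixV_top h
        rw [Nat.card_eq_one_iff_exists]
        refine ⟨⟨0, fun g _ => smul_zero g⟩, fun e => Subtype.ext ?_⟩
        have h7 : (e : V) ∈ fixV (alternatingGroup (Fin n)) V ⊤ := e.2
        rw [h6] at h7
        exact h7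
      rw [h5] at h4
      have h8 : Module.finrank ℂ (Cfsg.Agent.H245.QA.fixR ρ ⊤) = 0 := by
        by_contra hne
        have := Nat.one_lt_pow hne hq1
        omega
      have h9 : v ∈ Cfsg.Agent.H245.QA.fixR ρ ⊤ := fun g _ => hv g
      rw [Submodule.finrank_eq_zero.1 h8] at h9
      exact h9
    have hd1 := rep_cases (m := n) (by omega) d' (Fin d' → ℂ) ρ (by rw [Module.finrank_fin_fun]) hinv
    have hd0 : d' ≠ 0 := by
      rintro rfl
      rw [pow_zero] at hd
      have := h.nt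
      have := Finite.one_lt_card (α := V)
      omega
    have hdn1 : d' = n - 1 := by (clear * - hdn hd1 hd0; omega)
    -- the point stabilizer
    obtain ⟨f, hf⟩ := exists_emb (n := n) (by omega)
    have hex : ∃ v0 : V, v0 ≠ 0 ∧ ∀ g ∈ f.range, g • v0 = v0 := by
      by_contra hcon
      push Not at hcon
      have h4 := hρ f.range
      have h5 : Nat.card {e : V // ∀ g ∈ f.range, g • e = e} = 1 := by
        rw [Nat.card_eq_one_iff_exists]
        refine ⟨⟨0, fun g _ => smul_zero g⟩, fun e => Subtype.ext ?_⟩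
        by_contra he
        obtain ⟨g, hg, hge⟩ := hcon e he
        exact hge (e.2 g hg)
      rw [h5] at h4
      have h8 : Module.finrank ℂ (Cfsg.Agent.H245.QA.fixR ρ f.range) = 0 := by
        by_contra hne
        have := Nat.one_lt_pow hne hq1
        omega
      have h9 := rep_cases (m := n - 1) (by omega) d' (Fin d' → ℂ) (ρ.comp f) (by rw [Module.finrank_fin_fun]) (by
        intro v hv
        have h10 : v ∈ Cfsg.Agent.H245.QA.fixR ρ f.range := by
          rintro _ ⟨y, rfl⟩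
          exact hv y
        rw [Submodule.finrank_eq_zero.1 h8] at h10
        exact h10)
      (clear * - hn hdn1 h9; omega)
    obtain ⟨v0, hv0, hfix⟩ := hex
    exact natKill h hn5 hnq ⟨n - 1, by omega⟩ v0 hv0 (fun g hg => by
      obtain ⟨y, hy⟩ := hf g hg
      exact hfix g ⟨y, hy⟩)

/-- **the alternating groups** -/
theorem row_alt (n : ℕ) (hn : 5 ≤ n) : NoSit (alternatingGroup (Fin n)) := by
  intro p q L V _ _ _ _ _ π N φ hπ h
  have hs := simple_alt hn
  rcases Nat.lt_or_ge n 8 with h8 | h8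
  · obtain ⟨G, _, _, _, f, ψ, -, -, -, hψ, -, hP⟩ := h.exists_pSit hπ
    exact small hP hψ hn (by omega)
  · have hmult : MultDvd (alternatingGroup (Fin n)) 2 := by
      intro G _ _ π hπ
      have h := Cfsg.Agent.S0892.result n (by omega) (by omega) (by omega) π.ker hπ.central (by rw [hπ.perf]; exact le_top)
        (QuotientGroup.quotientKerEquivOfSurjective π hπ.surj)
      have h1 : 0 < Nat.card π.ker := Nat.card_pos
      interval_cases Nat.card π.ker
      · exact one_dvd _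
      · exact dvd_rfl
    obtain ⟨act, hP⟩ := h.exists_pSit_prime hπ Nat.prime_two hmult
    exact big hP h8

end Cfsg.Agent.H575.QA
end

-- part: H963/QA/TFour
section
/-!
# S4979, layer (A), tools [A-T4] (helper963): `Sit.weights`, `Sit.frob`
-/

set_option autoImplicit false

open Cfsg

namespace Cfsg.Agent.H963.QA

open Cfsg.Agent.H152.QA Cfsg.Agent.H80.Fpf

variable {p q : ℕ} {L V : Type} [Group L] [Finite L] [AddCommGroup V] [Finite V] [DistribMulAction L V]
  {N : Subgroup L} {φ : N →* ℂˣ}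

theorem Sit.hasRep (h : Sit (V := V) p q N φ) : HasRep q L V := Cfsg.Agent.H245.QA.Sit.exists_rep h

/-- weights: all orbits of `Y ≤ N_L(E)` on the non-trivial linear characters of the abelian subgroup `E` have length `≥ ℓ` -/
theorem Sit.weights (h : Sit (V := V) p q N φ) (E : Subgroup L) (hE : ∀ a ∈ E, ∀ b ∈ E, a * b = b * a)
    (hEN : ¬ E ≤ N) {ℓ : ℕ}
    (hℓ : ∀ lam : E →* ℂˣ, lam ≠ 1 → ∃ F : Finset (E →* ℂˣ), ℓ ≤ F.card ∧ ∀ mu ∈ F,
      ∃ g ∈ Subgroup.normalizer (E : Set L), ∀ e (he : e ∈ E) (he' : g * e * g⁻¹ ∈ E), mu ⟨e, he⟩ = lam ⟨g * e * g⁻¹, he'⟩) :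
    q ^ ℓ * Nat.card (fixV L V E) ≤ Nat.card V :=
  weights_of h (Sit.hasRep h) E hE hEN hℓ

end Cfsg.Agent.H963.QA
end

-- part: H722/QA/Psl2
section
/-!
# S4979, layer (A), row `PSL₂(q)` (helper722, task 5666)

* `weights_S` : the weight criterion with a `p`-subgroup of `S`;
* `real_S` : the criterion for a real element of order `p`;
* `row_psl2`.
-/

set_option autoImplicit false
set_option linter.unusedSectionVars false

open Cfsg

namespace Cfsg.Agent.H722.QA

open Cfsg.Agent.H80.Fpf Cfsg.Agent.H152.QA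
open scoped MatrixGroups

section tools

variable {p q : ℕ} {L V S : Type} [Group L] [Finite L] [AddCommGroup V] [Finite V] [DistribMulAction L V]
  [Group S] [Finite S] [IsSimpleGroup S] {π : L →* S} {N : Subgroup L} {φ : N →* ℂˣ}

/-- elements of `L` over elements of the normalizer of the image of a `p`-subgroup normalise it -/
theorem mem_normalizer_of (h : Sit (V := V) p q N φ) (hπ : IsCover π) (X : Subgroup L) (hX : IsPGroup p X) {g : L}
    (hg : π g ∈ Subgroup.normalizer ((X.map π : Subgroup S) : Set S)) : g ∈ Subgroup.normalizer (X : Set L) := by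
  have h1 := Cfsg.Agent.H724.QA.Sit.index_normalizer h hπ X hX
  have h2 : Subgroup.normalizer (X : Set L) ≤
      (Subgroup.normalizer ((X.map π : Subgroup S) : Set S)).comap π := by
    intro k hk
    rw [Subgroup.mem_comap, Subgroup.mem_normalizer_iff]
    intro s
    constructor
    · rintro ⟨x, hx, rfl⟩
      exact ⟨k * x * k⁻¹, (Subgroup.mem_normalizer_iff.1 hk x).1 hx, by simp only [_root_.map_mul, _root_.map_inv]⟩
    · rintro ⟨x, hx, hxs⟩
      refine ⟨k⁻¹ * x * k, ?_, ?_⟩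
      · have h3 := (Subgroup.mem_normalizer_iff.1 (inv_mem hk) x).1 hx
        rwa [inv_inv] at h3
      · rw [map_mul, map_mul, map_inv, hxs]; group
  have h3 := Subgroup.index_comap_of_surjective (Subgroup.normalizer ((X.map π : Subgroup S) : Set S)) hπ.surj
  have h4 : (Subgroup.normalizer (X : Set L)).index =
      ((Subgroup.normalizer ((X.map π : Subgroup S) : Set S)).comap π).index := by rw [h1, h3]
  have h5 : Subgroup.normalizer (X : Set L) =
      (Subgroup.normalizer ((X.map π : Subgroup S) : Set S)).comap π := by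
    apply Subgroup.eq_of_le_of_card_ge h2
    have e1 := (Subgroup.normalizer (X : Set L)).card_mul_index
    have e2 := ((Subgroup.normalizer ((X.map π : Subgroup S) : Set S)).comap π).card_mul_index
    rw [← h4] at e2
    have e3 : 0 < (Subgroup.normalizer (X : Set L)).index := Nat.pos_of_ne_zero Subgroup.index_ne_zero_of_finite
    exact (Nat.eq_of_mul_eq_mul_right e3 (e2.trans e1.symm)).le
  rw [h5]
  exact hg

/-- **weights of an abelian `p`-subgroup of `S`** -/
theorem weights_S (h : Sit (V := V) p q N φ) (hπ : IsCover π) (Y : Subgroup S) (hY : IsPGroup p Y) (hY1 : Y ≠ ⊥)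
    (hab : ∀ a ∈ Y, ∀ b ∈ Y, a * b = b * a) {ℓ : ℕ}
    (hℓ : ∀ lam : Y →* ℂˣ, lam ≠ 1 → ∃ F : Finset (Y →* ℂˣ), ℓ ≤ F.card ∧ ∀ mu ∈ F,
      ∃ g ∈ Subgroup.normalizer (Y : Set S), ∀ e (he : e ∈ Y) (he' : g * e * g⁻¹ ∈ Y), mu ⟨e, he⟩ = lam ⟨g * e * g⁻¹, he'⟩) :
    q ^ ℓ ≤ (Subgroup.normalizer (Y : Set S)).index := by
  classical
  obtain ⟨X, hX, hXY, hXc⟩ := Cfsg.Agent.H724.QA.Sit.exists_lift h hπ Y hY
  subst hXY
  -- the isomorphism
  have hk := Cfsg.Agent.H724.QA.Sit.not_dvd_ker h hπ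
  have hinj : ∀ x ∈ X, π x = 1 → x = 1 := by
    intro x hx hx1
    obtain ⟨a, ha⟩ := hX ⟨x, hx⟩
    exact Cfsg.Agent.H724.QA.eq_one_of_ker h.hp hk (z := x) hx1 (congrArg Subtype.val ha)
  let ε₀ : X →* (X.map π : Subgroup S) := π.subgroupMap X
  have hε₀s : Function.Surjective ε₀ := π.subgroupMap_surjective X
  have hε₀i : Function.Injective ε₀ := by
    rw [injective_iff_map_eq_one]
    intro x hx
    apply Subtype.ext
    exact hinj x x.2 (congrArg Subtype.val hx)
  let ε : X ≃* (X.map π : Subgroup S) := MulEquiv.ofBijective ε₀ ⟨hε₀i, hε₀s⟩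
  have hε : ∀ x : X, ((ε x : (X.map π : Subgroup S)) : S) = π x := fun x => rfl
  have hXab : ∀ a ∈ X, ∀ b ∈ X, a * b = b * a := by
    intro a ha b hb
    have h1 := hab (π a) (Subgroup.mem_map_of_mem π ha) (π b) (Subgroup.mem_map_of_mem π hb)
    have h2 : ε (⟨a, ha⟩ * ⟨b, hb⟩) = ε (⟨b, hb⟩ * ⟨a, ha⟩) := by
      apply Subtype.ext
      rw [hε, hε]
      show π (a * b) = π (b * a)
      rw [map_mul, map_mul, h1]
    exact congrArg Subtype.val (ε.injective h2)
  have hXN : ¬ X ≤ N := by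
    intro h1
    apply hY1
    rw [eq_bot_iff]
    rintro _ ⟨x, hx, rfl⟩
    have h2 : x ∈ π.ker := by
      rw [← Cfsg.Agent.H759.QA.center_eq_ker hπ]
      exact h.cen (h1 hx)
    exact Subgroup.mem_bot.2 h2
  have hw := Cfsg.Agent.H963.QA.Sit.weights h X hXab hXN (ℓ := ℓ) (by
    intro lam hlam
    obtain ⟨F, hF, hmu⟩ := hℓ (lam.comp ε.symm.toMonoidHom) (by
      intro h1
      apply hlam
      ext x
      have h2 := DFunLike.congr_fun h1 (ε x)
      have h3 : lam (ε.symm (ε x)) = 1 := h2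
      rw [ε.symm_apply_apply] at h3
      rw [h3]
      rfl)
    refine ⟨F.image (fun mu => mu.comp ε.toMonoidHom), ?_, ?_⟩
    · rw [Finset.card_image_of_injective]
      · exact hF
      · intro mu mu' he
        ext y
        obtain ⟨x, rfl⟩ := ε.surjective y
        have := DFunLike.congr_fun he x
        exact congrArg Units.val this
    · intro mu hmu'
      obtain ⟨mu', hm, rfl⟩ := Finset.mem_image.1 hmu'
      obtain ⟨g, hg, hge⟩ := hmu mu' hm
      obtain ⟨k, rfl⟩ := hπ.surj g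
      refine ⟨k, mem_normalizer_of h hπ X hX hg, fun e he he' => ?_⟩
      have h1 : π k * π e * (π k)⁻¹ ∈ X.map π := ⟨k * e * k⁻¹, he', by simp only [_root_.map_mul, _root_.map_inv]⟩
      have h2 := hge (π e) (Subgroup.mem_map_of_mem π he) h1
      have h3 : ε ⟨e, he⟩ = ⟨π e, Subgroup.mem_map_of_mem π he⟩ := rfl
      have h4 : ε ⟨k * e * k⁻¹, he'⟩ = ⟨π k * π e * (π k)⁻¹, h1⟩ := by
        apply Subtype.ext
        rw [hε]
        show π (k * e * k⁻¹) = _
        rw [map_mul, map_mul, map_inv]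
      show mu' (ε ⟨e, he⟩) = lam ⟨k * e * k⁻¹, he'⟩
      rw [h3, h2, ← h4]
      show lam (ε.symm (ε ⟨k * e * k⁻¹, he'⟩)) = _
      rw [ε.symm_apply_apply])
  have hc := Cfsg.Agent.H724.QA.Sit.card_le h X hX
  rw [← Cfsg.Agent.H724.QA.Sit.index_normalizer h hπ X hX]
  have hpos : 0 < Nat.card (fixV L V X) := Nat.card_pos
  exact Nat.le_of_mul_le_mul_right (hw.trans hc) hpos

theorem mem_normalizer_of_inv {S : Type} [Group S] {y g : S} (hg : g * y * g⁻¹ = y⁻¹) :
    g ∈ Subgroup.normalizer ((Subgroup.zpowers y : Subgroup S) : Set S) := by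
  have h1 : ∀ k : ℤ, g * y ^ k * g⁻¹ = y ^ (-k) := by
    intro k
    rw [← conj_zpow, hg, inv_zpow, zpow_neg]
  rw [Subgroup.mem_normalizer_iff]
  intro e
  constructor
  · rintro ⟨k, rfl⟩
    exact ⟨-k, (h1 k).symm⟩
  · rintro ⟨k, hk⟩
    refine ⟨-k, ?_⟩
    have h2 : y ^ k = g * e * g⁻¹ := hk
    show y ^ (-k) = e
    have h3 : e = g⁻¹ * y ^ k * g := by rw [h2]; group
    rw [h3, ← h1 k]
    have h5 : g * g * y ^ k * g⁻¹ * g⁻¹ = y ^ k := by
      calc g * g * y ^ k * g⁻¹ * g⁻¹ = g * (g * y ^ k * g⁻¹) * g⁻¹ := by group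
        _ = y ^ k := by rw [h1, h1, neg_neg]
    calc g * y ^ k * g⁻¹ = g⁻¹ * (g * g * y ^ k * g⁻¹ * g⁻¹) * g := by group
      _ = g⁻¹ * y ^ k * g := by rw [h5]

/-- **real elements of order `p`** -/
theorem real_S (h : Sit (V := V) p q N φ) (hπ : IsCover π) {y g : S} (hy : orderOf y = p) (hg : g * y * g⁻¹ = y⁻¹) :
    q ^ 2 ≤ (Subgroup.normalizer ((Subgroup.zpowers y : Subgroup S) : Set S)).index := by
  classical
  have hp := h.hp
  refine weights_S h hπ (Subgroup.zpowers y) ?_ ?_ ?_ ?_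
  · have := Fact.mk hp
    exact IsPGroup.of_card (n := 1) (by rw [Nat.card_zpowers, hy, pow_one])
  · intro h1
    rw [Subgroup.zpowers_eq_bot] at h1
    rw [h1, orderOf_one] at hy
    exact hp.one_lt.ne hy
  · rintro _ ⟨i, rfl⟩ _ ⟨j, rfl⟩
    show y ^ i * y ^ j = y ^ j * y ^ i
    rw [← zpow_add, ← zpow_add, add_comm]
  · intro lam hlam
    have hgen : ∀ e (he : e ∈ Subgroup.zpowers y), ∃ k : ℤ, e = y ^ k := fun e he => by
      obtain ⟨k, hk⟩ := he
      exact ⟨k, hk.symm⟩
    set y' : Subgroup.zpowers y := ⟨y, Subgroup.mem_zpowers y⟩ with hy'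
    have hlamy : lam y' ≠ 1 := by
      intro h1
      apply hlam
      ext e
      obtain ⟨k, hk⟩ := hgen e e.2
      have h2 : e = y' ^ k := Subtype.ext hk
      rw [h2, map_zpow, h1, one_zpow]
      rfl
    have hlamp : lam y' ^ p = 1 := by
      rw [← map_pow]
      have : y' ^ p = 1 := Subtype.ext (by show y ^ p = 1; rw [← hy, pow_orderOf_eq_one])
      rw [this, map_one]
    have hne : lam ≠ lam⁻¹ := by
      intro h1
      have h2 : lam y' = (lam y')⁻¹ := DFunLike.congr_fun h1 y'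
      have h3 : lam y' ^ 2 = 1 := by
        rw [sq]
        nth_rw 2 [h2]
        exact mul_inv_cancel _
      have h4 : orderOf (lam y') ∣ Nat.gcd p 2 :=
        Nat.dvd_gcd (orderOf_dvd_of_pow_eq_one hlamp) (orderOf_dvd_of_pow_eq_one h3)
      have h5 : Nat.gcd p 2 = 1 := (Nat.coprime_primes hp Nat.prime_two).2 h.odd
      rw [h5, Nat.dvd_one, orderOf_eq_one_iff] at h4
      exact hlamy h4
    have hgn := mem_normalizer_of_inv hg
    refine ⟨{lam, lam⁻¹}, (Finset.card_pair hne).ge, ?_⟩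
    intro mu hmu
    rw [Finset.mem_insert, Finset.mem_singleton] at hmu
    rcases hmu with rfl | rfl
    · refine ⟨1, one_mem _, fun e he he' => ?_⟩
      congr 1
      apply Subtype.ext
      simp
    · refine ⟨g, hgn, fun e he he' => ?_⟩
      obtain ⟨k, rfl⟩ := hgen e he
      have h2 : (⟨g * y ^ k * g⁻¹, he'⟩ : Subgroup.zpowers y) = (⟨y ^ k, he⟩ : Subgroup.zpowers y)⁻¹ := by
        apply Subtype.ext
        show g * y ^ k * g⁻¹ = (y ^ k)⁻¹
        rw [← conj_zpow, hg, inv_zpow]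
      rw [h2, map_inv]
      rfl

end tools

section sl

variable {F : Type} [Field F] [Fintype F]

local notation "SLF" => Matrix.SpecialLinearGroup (Fin 2) F

theorem exists_root {m : ℕ} (hm : m ≠ 0) : ∃ ζ : ℂˣ, orderOf ζ = m := by
  have h1 := Complex.isPrimitiveRoot_exp m hm
  refine ⟨(h1.isUnit hm).unit, ?_⟩
  rw [← orderOf_units, IsUnit.unit_spec]
  exact h1.eq_orderOf.symm

theorem two_ne (hodd : Odd (Fintype.card F)) : (2 : F) ≠ 0 :=
  (Cfsg.Agent.ClassicalGeometry.PSL2Basic.two_ne_zero_iff_odd F).2 hodd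

/-- a faithful discrete series character -/
theorem exists_disc (hodd : Odd (Fintype.card F)) (h3 : 3 < Fintype.card F) :
    ∃ χ : SLF → ℂ, IsIrrCharacter SLF χ ∧ χ 1 = ((Fintype.card F - 1 : ℕ) : ℂ) ∧ χ (-1) = - χ 1 := by
  obtain ⟨a, s, ha, -, -, hneg, -, -⟩ := Cfsg.Agent.ClassicalGeometry.NonsplitTorus.exists_torus_TI F
  obtain ⟨ζ, hζ⟩ := exists_root (m := Fintype.card F + 1) (by omega)
  have hcard : Nat.card (Subgroup.zpowers a) = Fintype.card F + 1 := by rw [Nat.card_zpowers, ha]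
  have hgen : ∀ x : Subgroup.zpowers a, x ∈ Subgroup.zpowers (⟨a, Subgroup.mem_zpowers a⟩ : Subgroup.zpowers a) := by
    rintro ⟨x, hx⟩
    obtain ⟨k, rfl⟩ := Subgroup.mem_zpowers_iff.1 hx
    exact ⟨k, by apply Subtype.ext; simp⟩
  have hord : orderOf (⟨a, Subgroup.mem_zpowers a⟩ : Subgroup.zpowers a) = Fintype.card F + 1 := by
    rw [Subgroup.orderOf_mk, ha]
  have hdvd : orderOf ζ ∣ orderOf (⟨a, Subgroup.mem_zpowers a⟩ : Subgroup.zpowers a) := by rw [hζ, hord]
  set θ : Subgroup.zpowers a →* ℂˣ := monoidHomOfForallMemZpowers hgen hdvd with hθ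
  have hθa : θ ⟨a, Subgroup.mem_zpowers a⟩ = ζ := monoidHomOfForallMemZpowers_apply_gen hgen hdvd
  have hθi : ∀ x : Subgroup.zpowers a, θ x = 1 → x = 1 := by
    intro x hx
    obtain ⟨k, rfl⟩ := hgen x
    have h1 : θ (⟨a, Subgroup.mem_zpowers a⟩ ^ k) = 1 := hx
    rw [map_zpow, hθa] at h1
    have h2 := orderOf_dvd_iff_zpow_eq_one.2 h1
    rw [hζ, ← hord] at h2
    exact orderOf_dvd_iff_zpow_eq_one.1 h2
  obtain ⟨χ, hχ, h1, -, hz, -, -⟩ := (Cfsg.Agent.S2434.result hodd (Subgroup.zpowers a) inferInstance hcard).1 θ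
    ⟨⟨a, Subgroup.mem_zpowers a⟩, by
      rw [hθa]
      intro h
      have h3 := orderOf_dvd_of_pow_eq_one h
      rw [hζ] at h3
      have := Nat.le_of_dvd (by norm_num) h3
      omega⟩
  refine ⟨χ, hχ, ?_, ?_⟩
  · rw [h1, Nat.cast_sub (by omega), Nat.cast_one]
  · have hc : (-1 : SLF) ∈ Subgroup.center SLF :=
      (Cfsg.Agent.LieClassical.SmallIso.mem_center_sl_two_iff _).2 (Or.inr rfl)
    have h2 := hz ⟨-1, hneg⟩ hc 1
    rw [mul_one] at h2
    have h4 : θ ⟨-1, hneg⟩ ^ 2 = 1 := by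
      rw [← map_pow]
      have : (⟨-1, hneg⟩ : Subgroup.zpowers a) ^ 2 = 1 := by
        apply Subtype.ext
        simp only [_root_.SubmonoidClass.mk_pow, _root_.even_two, _root_.Even.neg_pow, _root_.one_pow, _root_.OneMemClass.coe_one]
      rw [this, map_one]
    have h5 : θ ⟨-1, hneg⟩ ≠ 1 := by
      intro h5
      have h6 := congrArg Subtype.val (hθi _ h5)
      exact Cfsg.Agent.ClassicalGeometry.PSL2Basic.neg_one_ne_one_SL2 (two_ne hodd) h6
    have h6 : ((θ ⟨-1, hneg⟩ : ℂˣ) : ℂ) = -1 := by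
      have h7 : ((θ ⟨-1, hneg⟩ : ℂˣ) : ℂ) * ((θ ⟨-1, hneg⟩ : ℂˣ) : ℂ) = 1 := by
        rw [← Units.val_mul, ← sq, h4, Units.val_one]
      rcases mul_self_eq_one_iff.1 h7 with h8 | h8
      · exact absurd (Units.ext h8) h5
      · exact h8
    rw [h2, h6, neg_one_mul]

/-- a faithful principal series character -/
theorem exists_prin (hodd : Odd (Fintype.card F)) (h3 : 3 < Fintype.card F) :
    ∃ χ : SLF → ℂ, IsIrrCharacter SLF χ ∧ χ 1 = ((Fintype.card F + 1 : ℕ) : ℂ) ∧ χ (-1) = - χ 1 := by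
  classical
  obtain ⟨m, hm⟩ : ∃ m, Fintype.card F = 2 * m + 1 := hodd
  obtain ⟨α, hα⟩ := MulChar.exists_mulChar_orderOf F (n := 2 * m) (by rw [hm]; exact dvd_refl _)
    (Complex.isPrimitiveRoot_exp (2 * m) (by omega))
  have hα2 : α ^ 2 ≠ 1 := by
    intro h
    have h3' := orderOf_dvd_of_pow_eq_one h
    rw [hα] at h3'
    have := Nat.le_of_dvd (by norm_num) h3'
    omega
  have hneg : α (-1) = -1 := by
    have h1 : α (-1) * α (-1) = 1 := by rw [← map_mul, neg_one_mul, neg_neg, map_one]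
    rcases mul_self_eq_one_iff.1 h1 with h2 | h2
    · exfalso
      have h4 : α ^ m = 1 := by
        ext x
        rw [MulChar.pow_apply_coe, MulChar.one_apply_coe, ← map_pow]
        have h5 : ((x : F) ^ m) * ((x : F) ^ m) = 1 := by
          rw [← pow_add, ← two_mul]
          have h6 := FiniteField.pow_card_sub_one_eq_one (x : F) x.ne_zero
          rwa [hm, Nat.add_sub_cancel] at h6
        rcases mul_self_eq_one_iff.1 h5 with h6 | h6
        · rw [h6, map_one]
        · rw [h6, h2]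
      have h5 := orderOf_dvd_of_pow_eq_one h4
      rw [hα] at h5
      have := Nat.le_of_dvd (by omega) h5
      omega
    · exact h2
  have hodd' : Odd (Fintype.card F) := ⟨m, hm⟩
  refine ⟨_, (Cfsg.Agent.S2306.result α).2 hα2, ?_, ?_⟩
  · have h2 := (Cfsg.Agent.S2433.result hodd' α (1 : SLF)).2.2.2 (by simp) (by simp) (by simp)
    rw [h2]
    simp
  · have h2 := (Cfsg.Agent.S2433.result hodd' α (1 : SLF)).2.2.2 (by simp) (by simp) (by simp)
    have h4 := (Cfsg.Agent.S2433.result hodd' α (-1 : SLF)).2.2.2 (by simp) (by simp) (by simp)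
    rw [h2, h4]
    simp only [hneg, _root_.Fin.isValue, _root_.Matrix.SpecialLinearGroup.coe_neg, _root_.Matrix.SpecialLinearGroup.coe_one, _root_.Matrix.neg_apply, _root_.Matrix.one_apply_eq, _root_.mul_neg, _root_.mul_one, _root_.neg_add_rev, _root_.map_one]

instance : Finite (Matrix.ProjectiveSpecialLinearGroup (Fin 2) F) := by
  unfold Matrix.ProjectiveSpecialLinearGroup
  infer_instance

variable {p q : ℕ} {L V : Type} [Group L] [Finite L] [AddCommGroup V] [Finite V] [DistribMulAction L V]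
  {π : L →* Matrix.ProjectiveSpecialLinearGroup (Fin 2) F} {N : Subgroup L} {φ : N →* ℂˣ}

theorem dvd_card_S (h : Sit (V := V) p q N φ) (hπ : IsCover π) :
    p ∣ Nat.card (Matrix.ProjectiveSpecialLinearGroup (Fin 2) F) := by
  have h1 : Nat.card L = Nat.card π.ker * Nat.card (Matrix.ProjectiveSpecialLinearGroup (Fin 2) F) := by
    rw [← Subgroup.card_mul_index π.ker, Subgroup.index_ker, MonoidHom.range_eq_top.2 hπ.surj, Subgroup.card_top]
  rcases h.hp.dvd_mul.1 (h1 ▸ h.pL) with h2 | h2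
  · exact absurd h2 (Cfsg.Agent.H724.QA.Sit.not_dvd_ker h hπ)
  · exact h2

/-- `q` does not divide `|S|` -/
theorem q_not_dvd (h : Sit (V := V) p q N φ) (hπ : IsCover π) {m : ℕ}
    (hm : m ∣ Nat.card (Matrix.ProjectiveSpecialLinearGroup (Fin 2) F)) : ¬ q ∣ m := by
  intro h1
  apply h.qL
  refine h1.trans (hm.trans ?_)
  exact Subgroup.card_dvd_of_surjective π hπ.surj

/-- the primes different from the characteristic -/
theorem no_cross (hodd : Odd (Fintype.card F)) (h3 : 3 < Fintype.card F) (h9 : Fintype.card F ≠ 9) (hπ : IsCover π)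
    (h : Sit (V := V) p q N φ) (hpF : ¬ p ∣ Fintype.card F) : False := by
  classical
  have := simple_psl2 h3
  have h4 : Fintype.card F ≠ 4 := by
    intro h4
    rw [h4] at hodd
    exact absurd hodd (by decide)
  obtain ⟨θ, hθ, hθπ⟩ := exists_of_universal (Nat.gcd_pos_of_pos_left _ (by norm_num)).ne' (mult_psl2 h3 h4 h9)
    (isCover_pr h3) card_ker_pr hπ
  -- the elements over `N`
  have hmem : ∀ u : SLF, θ u ∈ N → u = 1 ∨ u = -1 := by
    intro u hu
    have h1 : θ u ∈ π.ker := by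
      rw [← Cfsg.Agent.H759.QA.center_eq_ker hπ]
      exact h.cen hu
    rw [MonoidHom.mem_ker, hθπ, ← MonoidHom.mem_ker, ker_pr] at h1
    exact (Cfsg.Agent.LieClassical.SmallIso.mem_center_sl_two_iff _).1 h1
  have hne : θ (-1) ≠ 1 := by
    intro h1
    apply h.Nne
    rw [eq_bot_iff]
    intro n hn
    obtain ⟨u, rfl⟩ := hθ n
    rcases hmem u hn with h2 | h2
    · rw [h2, map_one]; exact one_mem _
    · rw [h2, h1]; exact one_mem _
  have hφ : ∀ hu : θ (-1) ∈ N, ((φ ⟨θ (-1), hu⟩ : ℂˣ) : ℂ) = -1 := by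
    intro hu
    have h1 : φ ⟨θ (-1), hu⟩ ^ 2 = 1 := by
      rw [← map_pow]
      have : (⟨θ (-1), hu⟩ : N) ^ 2 = 1 := by
        apply Subtype.ext
        show θ (-1) ^ 2 = 1
        rw [← map_pow, neg_one_sq, map_one]
      rw [this, map_one]
    have h2 : φ ⟨θ (-1), hu⟩ ≠ 1 := by
      intro h2
      have h5 := h.inj (h2.trans (map_one φ).symm)
      exact hne (congrArg Subtype.val h5)
    have h7 : ((φ ⟨θ (-1), hu⟩ : ℂˣ) : ℂ) * ((φ ⟨θ (-1), hu⟩ : ℂˣ) : ℂ) = 1 := by
      rw [← Units.val_mul, ← sq, h1, Units.val_one]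
    rcases mul_self_eq_one_iff.1 h7 with h8 | h8
    · exact absurd (Units.ext h8) h2
    · exact h8
  have key : ∀ (χ : SLF → ℂ) (D : ℕ), IsIrrCharacter SLF χ → χ 1 = (D : ℂ) → χ (-1) = - χ 1 → ¬ p ∣ D := by
    intro χ D hχ h1 h2 h5
    refine Cfsg.Agent.H759.QA.Sit.not_dvd_of_surj h θ hθ χ hχ (fun u hu => ?_) ?_
    · rcases hmem u hu with rfl | rfl
      · have h6 : (⟨θ 1, hu⟩ : N) = 1 := Subtype.ext (map_one θ)
        rw [h6, map_one, Units.val_one, mul_one]
      · rw [hφ hu, h2, mul_neg_one]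
    · rw [Cfsg.Agent.Blocks.Basic.charDegree_of_eq h1]
      exact h5
  have hp := dvd_card_S h hπ
  have h5 : Nat.card (Matrix.ProjectiveSpecialLinearGroup (Fin 2) F) ∣ Nat.card SLF :=
    Subgroup.card_dvd_of_surjective (pr F) pr_surjective
  have h6 := hp.trans h5
  rw [Cfsg.Agent.ClassicalGeometry.PSL2Basic.card_SL2] at h6
  have h7 : Fintype.card F ^ 2 - 1 = (Fintype.card F + 1) * (Fintype.card F - 1) := by
    obtain ⟨k, hk⟩ : ∃ k, Fintype.card F = k + 1 := ⟨Fintype.card F - 1, by omega⟩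
    rw [hk, Nat.add_sub_cancel]
    have : (k + 1) ^ 2 = (k + 1 + 1) * k + 1 := by ring
    omega
  rw [h7] at h6
  rcases h.hp.dvd_mul.1 h6 with h8 | h8
  · exact hpF h8
  · rcases h.hp.dvd_mul.1 h8 with h8 | h8
    · obtain ⟨χ, h10, h11, h12⟩ := exists_prin (F := F) hodd h3
      exact key χ _ h10 h11 h12 h8
    · obtain ⟨χ, h10, h11, h12⟩ := exists_disc (F := F) hodd h3
      exact key χ _ h10 h11 h12 h8

/-- diagonal matrices -/
def tor (u : Fˣ) : SLF := ⟨!![(u : F), 0; 0, ((u⁻¹ : Fˣ) : F)], by rw [Matrix.det_fin_two_of]; simp⟩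

/-- root elements -/
def root (t : F) : SLF := ⟨!![1, t; 0, 1], by rw [Matrix.det_fin_two_of]; simp⟩

theorem tor_root (u : Fˣ) (t : F) : tor u * root t * (tor u)⁻¹ = root ((u : F) ^ 2 * t) := by
  rw [mul_inv_eq_iff_eq_mul]
  apply Subtype.ext
  rw [Matrix.SpecialLinearGroup.coe_mul, Matrix.SpecialLinearGroup.coe_mul]
  show !![(u : F), 0; 0, ((u⁻¹ : Fˣ) : F)] * !![1, t; 0, 1] = !![1, (u : F) ^ 2 * t; 0, 1] * !![(u : F), 0; 0, ((u⁻¹ : Fˣ) : F)]
  have h1 : (u : F) ^ 2 * t * ((u⁻¹ : Fˣ) : F) = u * t := by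
    rw [sq]
    calc (u : F) * u * t * ((u⁻¹ : Fˣ) : F) = (u * ((u⁻¹ : Fˣ) : F)) * (u * t) := by ring
      _ = u * t := by rw [Units.mul_inv, one_mul]
  rw [Matrix.mul_fin_two, Matrix.mul_fin_two, h1]
  simp

theorem root_add (s t : F) : root s * root t = root (s + t) := by
  apply Subtype.ext
  rw [Matrix.SpecialLinearGroup.coe_mul]
  show !![1, s; 0, 1] * !![1, t; 0, 1] = !![1, s + t; 0, 1]
  rw [Matrix.mul_fin_two]
  simp [add_comm]

theorem root_mem (t : F) : root t ∈ rootSub F := ⟨rfl, rfl, rfl⟩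

theorem eq_root {g : SLF} (hg : g ∈ rootSub F) : g = root (g 0 1) := by
  ext i j
  fin_cases i <;> fin_cases j
  · exact hg.1
  · rfl
  · exact hg.2.1
  · exact hg.2.2

theorem root_zero : root (0 : F) = 1 := by
  ext i j
  (revert i j; simp only [root, _root_.Fin.forall_fin_succ, _root_.Matrix.of_apply, _root_.Matrix.cons_val', _root_.Matrix.cons_val_fin_one, _root_.Matrix.SpecialLinearGroup.coe_one, Fin.isValue, _root_.Matrix.cons_val_zero, _root_.Matrix.cons_val_succ, _root_.IsEmpty.forall_iff, _root_.and_true, _root_.Matrix.one_apply_eq, Nat.reduceAdd, _root_.Fin.succ_zero_eq_one, _root_.ne_eq, _root_.zero_ne_one, _root_.not_false_eq_true, _root_.Matrix.one_apply_ne, _root_.and_self, _root_.Fin.succ_ne_zero, _root_.true_and])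

theorem root_pow (t : F) (k : ℕ) : root t ^ k = root ((k : F) * t) := by
  induction k with
  | zero => simp [root_zero]
  | succ k ih => rw [pow_succ, ih, root_add]; push_cast; ring_nf

theorem conj_borel {b g : SLF} (hb : b ∈ Cfsg.Agent.H665.Psl2Char.borel F) (hg : g ∈ rootSub F) : b * g * b⁻¹ ∈ rootSub F := by
  have h1 : b 1 0 = 0 := hb
  have h2 := b.det_coe
  rw [Matrix.det_fin_two, h1, mul_zero, sub_zero] at h2
  obtain ⟨g1, g2, g3⟩ := hg
  refine ⟨?_, ?_, ?_⟩ <;>
    simp only [Matrix.SpecialLinearGroup.coe_mul, Matrix.mul_apply, Fin.sum_univ_two, Matrix.SpecialLinearGroup.coe_inv,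
      Matrix.adjugate_fin_two, h1, g1, g2, g3, h2, _root_.Fin.isValue, _root_.neg_zero, _root_.Matrix.of_apply, _root_.Matrix.cons_val', _root_.Matrix.cons_val_zero, _root_.Matrix.cons_val_fin_one, _root_.mul_one, _root_.MulZeroClass.mul_zero, _root_.add_zero, _root_.Matrix.cons_val_one, _root_.MulZeroClass.zero_mul, _root_.zero_add, _root_.mul_neg]
  rw [mul_comm]; exact h2

theorem pr_root_ne (t : F) (ht : t ≠ 0) : pr F (root t) ≠ 1 := by
  intro h
  rw [← MonoidHom.mem_ker, ker_pr] at h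
  rcases (Cfsg.Agent.LieClassical.SmallIso.mem_center_sl_two_iff _).1 h with h1 | h1
  · apply ht
    have := congrArg (fun g : SLF => g 0 1) h1
    simpa [root] using this
  · apply ht
    have := congrArg (fun g : SLF => g 0 1) h1
    simpa [root] using this

/-- the own characteristic -/
theorem no_own (hodd : Odd (Fintype.card F)) (h3 : 3 < Fintype.card F) (hπ : IsCover π)
    (h : Sit (V := V) p q N φ) (hpF : p ∣ Fintype.card F) : False := by
  classical
  have := simple_psl2 h3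
  obtain ⟨l, hl⟩ := CharP.exists F
  obtain ⟨n, hlp, hn⟩ := FiniteField.card F l
  have hpl : p = l := by
    rw [hn] at hpF
    exact (Nat.prime_dvd_prime_iff_eq h.hp hlp).1 (h.hp.dvd_of_dvd_pow hpF)
  subst hpl
  have hpF0 : (p : F) = 0 := CharP.cast_eq_zero F p
  set Y : Subgroup (Matrix.ProjectiveSpecialLinearGroup (Fin 2) F) := (rootSub F).map (pr F) with hY
  have hYp : IsPGroup p Y := by
    refine IsPGroup.map ?_ (pr F)
    intro g
    refine ⟨1, ?_⟩
    apply Subtype.ext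
    show (g : SLF) ^ (p ^ 1) = 1
    rw [eq_root g.2, root_pow, pow_one, hpF0, zero_mul, root_zero]
  have hmem : ∀ t : F, pr F (root t) ∈ Y := fun t => Subgroup.mem_map_of_mem _ (root_mem t)
  have hY1 : Y ≠ ⊥ := by
    intro h1
    have h2 := hmem 1
    rw [h1] at h2
    exact pr_root_ne 1 one_ne_zero (Subgroup.mem_bot.1 h2)
  have hYr : ∀ y ∈ Y, ∃ t : F, y = pr F (root t) := by
    rintro _ ⟨g, hg, rfl⟩
    exact ⟨g 0 1, by rw [← eq_root hg]⟩
  have hab : ∀ a ∈ Y, ∀ b ∈ Y, a * b = b * a := by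
    intro a ha b hb
    obtain ⟨s, rfl⟩ := hYr a ha
    obtain ⟨t, rfl⟩ := hYr b hb
    rw [← map_mul, ← map_mul, root_add, root_add, add_comm]
  have hbor : (Cfsg.Agent.H665.Psl2Char.borel F).map (pr F) ≤ Subgroup.normalizer (Y : Set (Matrix.ProjectiveSpecialLinearGroup (Fin 2) F)) := by
    rintro _ ⟨b, hb, rfl⟩
    have h1 : ∀ b ∈ Cfsg.Agent.H665.Psl2Char.borel F, ∀ y ∈ Y, pr F b * y * (pr F b)⁻¹ ∈ Y := by
      rintro b hb _ ⟨g, hg, rfl⟩
      exact ⟨b * g * b⁻¹, conj_borel hb hg, by rw [map_mul, map_mul, map_inv]⟩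
    rw [Subgroup.mem_normalizer_iff]
    intro y
    refine ⟨h1 b hb y, fun h2 => ?_⟩
    have h4 := h1 b⁻¹ (inv_mem hb) _ h2
    rw [map_inv, inv_inv] at h4
    have h5 : (pr F b)⁻¹ * (pr F b * y * (pr F b)⁻¹) * pr F b = y := by group
    rwa [h5] at h4
  have hidx : (Subgroup.normalizer (Y : Set (Matrix.ProjectiveSpecialLinearGroup (Fin 2) F))).index ≤ Fintype.card F + 1 := by
    have h1 := Subgroup.index_antitone hbor
    have h2 := Nat.le_of_dvd (by rw [Cfsg.Agent.H665.Psl2Char.index_borel]; omega)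
      (Subgroup.index_map_dvd (Cfsg.Agent.H665.Psl2Char.borel F) (pr_surjective (F := F)))
    rw [Cfsg.Agent.H665.Psl2Char.index_borel] at h2
    exact h1.trans h2
  have htorb : ∀ u : Fˣ, tor u ∈ Cfsg.Agent.H665.Psl2Char.borel F := fun u => rfl
  have hconj : ∀ (u : Fˣ) (y : Y), pr F (tor u) * y * (pr F (tor u))⁻¹ ∈ Y := by
    intro u y
    have h1 := hbor (Subgroup.mem_map_of_mem (pr F) (htorb u))
    exact (Subgroup.mem_normalizer_iff.1 h1 y).1 y.2
  have hw := weights_S h hπ Y hYp hY1 hab (ℓ := (Fintype.card F - 1) / 2) (by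
    intro lam hlam
    let mu : Fˣ → (Y →* ℂˣ) := fun u => lam.comp
      (((MulAut.conj (pr F (tor u))).toMonoidHom.comp Y.subtype).codRestrict Y (fun y => hconj u y))
    have hmu : ∀ (u : Fˣ) (y : Y), mu u y = lam ⟨pr F (tor u) * y * (pr F (tor u))⁻¹, hconj u y⟩ := fun u y => rfl
    have hmu' : ∀ (u : Fˣ) (t : F), mu u ⟨pr F (root t), hmem t⟩ = lam ⟨pr F (root ((u : F) ^ 2 * t)), hmem _⟩ := by
      intro u t
      rw [hmu]
      congr 1
      apply Subtype.ext
      show pr F (tor u) * pr F (root t) * (pr F (tor u))⁻¹ = _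
      rw [← map_inv, ← map_mul, ← map_mul, tor_root]
    have hfib : ∀ u v : Fˣ, mu u = mu v → u = v ∨ u = -v := by
      intro u v huv
      have h1 : ∀ t : F, lam ⟨pr F (root (((u : F) ^ 2 - (v : F) ^ 2) * t)), hmem _⟩ = 1 := by
        intro t
        have h2 := DFunLike.congr_fun huv ⟨pr F (root t), hmem t⟩
        rw [hmu', hmu'] at h2
        have h3 : (⟨pr F (root ((u : F) ^ 2 * t)), hmem _⟩ : Y) =
            ⟨pr F (root (((u : F) ^ 2 - (v : F) ^ 2) * t)), hmem _⟩ * ⟨pr F (root ((v : F) ^ 2 * t)), hmem _⟩ := by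
          apply Subtype.ext
          show pr F _ = pr F _ * pr F _
          have e : (u : F) ^ 2 * t = ((u : F) ^ 2 - (v : F) ^ 2) * t + (v : F) ^ 2 * t := by ring
          rw [← map_mul, root_add, ← e]
        rw [h3, map_mul] at h2
        exact mul_eq_right.1 h2
      have h2 : (u : F) ^ 2 - (v : F) ^ 2 = 0 := by
        by_contra h2
        apply hlam
        ext y
        obtain ⟨t, ht⟩ := hYr y y.2
        have h4 := h1 (((u : F) ^ 2 - (v : F) ^ 2)⁻¹ * t)
        have h5 : (⟨pr F (root (((u : F) ^ 2 - (v : F) ^ 2) * (((u : F) ^ 2 - (v : F) ^ 2)⁻¹ * t))), hmem _⟩ : Y) = y := by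
          apply Subtype.ext
          rw [ht]
          show pr F _ = pr F _
          rw [mul_inv_cancel_left₀ h2]
        rw [h5] at h4
        rw [h4]
        rfl
      rcases sq_eq_sq_iff_eq_or_eq_neg.1 (sub_eq_zero.1 h2) with h4 | h4
      · exact Or.inl (Units.ext h4)
      · exact Or.inr (Units.ext (by rw [h4]; simp))
    refine ⟨Finset.univ.image mu, ?_, ?_⟩
    · have h1 := Finset.card_le_mul_card_image (f := mu) (Finset.univ : Finset Fˣ) 2 (by
        intro a ha
        obtain ⟨v, -, rfl⟩ := Finset.mem_image.1 ha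
        refine (Finset.card_le_card (t := {v, -v}) ?_).trans Finset.card_le_two
        intro u hu
        rw [Finset.mem_filter] at hu
        rw [Finset.mem_insert, Finset.mem_singleton]
        exact hfib u v hu.2)
      rw [Finset.card_univ, Fintype.card_units] at h1
      omega
    · intro mu' hm
      obtain ⟨u, -, rfl⟩ := Finset.mem_image.1 hm
      exact ⟨pr F (tor u), hbor (Subgroup.mem_map_of_mem (pr F) (htorb u)), fun e he he' => rfl⟩)
  have hq3 : 3 ≤ q := by
    have h1 := h.hq.two_le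
    have h2 : q ≠ 2 := by
      rintro rfl
      refine q_not_dvd h hπ (dvd_refl _) ?_
      have h4 := Cfsg.Agent.ClassicalGeometry.PSL2Basic.card_PSL2_odd (F := F) hodd
      obtain ⟨k, hk⟩ := hodd
      have h5 : Fintype.card F ^ 2 - 1 = 4 * (k * (k + 1)) := by
        rw [hk]
        have : (2 * k + 1) ^ 2 = 4 * (k * (k + 1)) + 1 := by ring
        omega
      obtain ⟨c, hc⟩ : 2 ∣ k * (k + 1) := (Nat.even_mul_succ_self k).two_dvd
      rw [h5, hc] at h4
      exact ⟨2 * Fintype.card F * c, by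
        have : Fintype.card F * (4 * (2 * c)) = (2 * (2 * Fintype.card F * c)) * 2 := by ring
        omega⟩
    omega
  obtain ⟨k, hk⟩ := hodd
  have h5 : (Fintype.card F - 1) / 2 = k := by omega
  rw [h5] at hw
  have h6 : 3 ^ k ≤ 2 * k + 2 := by
    calc 3 ^ k ≤ q ^ k := Nat.pow_le_pow_left hq3 k
      _ ≤ _ := hw
      _ ≤ _ := hidx
      _ = _ := by omega
  have h7 : ∀ m : ℕ, 2 * (m + 2) + 2 < 3 ^ (m + 2) := by
    intro m
    induction m with
    | zero => norm_num
    | succ m ih => rw [show m + 1 + 2 = (m + 2) + 1 by ring, pow_succ]; omega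
  obtain ⟨m, rfl⟩ : ∃ m, k = m + 2 := ⟨k - 2, by omega⟩
  exact absurd h6 (not_le.2 (h7 m))

/-- `PSL₂(9)`, `p = 5` -/
theorem no_nine (h9 : Fintype.card F = 9) (hπ : IsCover π) (h : Sit (V := V) 5 q N φ) : False := by
  classical
  have hodd : Odd (Fintype.card F) := by rw [h9]; decide
  have := simple_psl2 (F := F) (by omega)
  have hcard : Nat.card (Matrix.ProjectiveSpecialLinearGroup (Fin 2) F) = 360 := by
    have h4 := Cfsg.Agent.ClassicalGeometry.PSL2Basic.card_PSL2_odd (F := F) hodd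
    rw [h9] at h4
    omega
  obtain ⟨a, s, ha, -, hsa, hneg, -, -⟩ := Cfsg.Agent.ClassicalGeometry.NonsplitTorus.exists_torus_TI F
  rw [h9] at ha
  have h2 : orderOf (a ^ 2) = 5 := by rw [orderOf_pow, ha]; rfl
  have hy : orderOf (pr F (a ^ 2)) = 5 := orderOf_map_eq (pr F) (by norm_num) (not_dvd_ker (F := F) (by norm_num) (by norm_num)) h2
  have hg : pr F s⁻¹ * pr F (a ^ 2) * (pr F s⁻¹)⁻¹ = (pr F (a ^ 2))⁻¹ := by
    rw [← map_inv, ← map_inv, ← map_mul, ← map_mul, ← inv_pow, ← hsa, inv_inv]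
    congr 1
    rw [sq, sq]
    group
  have hr := real_S h hπ hy hg
  set y := pr F (a ^ 2) with hydef
  set M := Subgroup.normalizer ((Subgroup.zpowers y : Subgroup (Matrix.ProjectiveSpecialLinearGroup (Fin 2) F)) :
    Set (Matrix.ProjectiveSpecialLinearGroup (Fin 2) F)) with hM
  -- `|M| ≥ 10`
  have hle : Subgroup.zpowers y ≤ M := Subgroup.le_normalizer
  have hgM : pr F s⁻¹ ∈ M := mem_normalizer_of_inv hg
  have h5 : 5 ∣ Nat.card M := by
    have := Subgroup.card_dvd_of_le hle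
    rwa [Nat.card_zpowers, hy] at this
  have h6 : Nat.card M ≠ 5 := by
    intro h6
    have h7 : Subgroup.zpowers y = M := Subgroup.eq_of_le_of_card_ge hle (by rw [h6, Nat.card_zpowers, hy])
    rw [← h7] at hgM
    obtain ⟨k, hk⟩ := hgM
    have hk' : y ^ k = pr F s⁻¹ := hk
    have h8 : y = y⁻¹ := by
      rw [← hg, ← hk']
      group
    have h9 : y ^ 2 = 1 := by
      rw [sq]
      nth_rw 2 [h8]
      exact mul_inv_cancel _
    have h10 := orderOf_dvd_of_pow_eq_one h9
    rw [hy] at h10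
    exact absurd (Nat.le_of_dvd (by norm_num) h10) (by norm_num)
  have h7 : 10 ≤ Nat.card M := by
    obtain ⟨c, hc⟩ := h5
    have : 0 < Nat.card M := Nat.card_pos
    rcases c with _ | _ | c
    · omega
    · omega
    · omega
  have h8 := M.card_mul_index
  rw [hcard] at h8
  have h10 : M.index ≤ 36 := by
    by_contra h10
    rw [not_le] at h10
    have : 10 * 37 ≤ Nat.card M * M.index := Nat.mul_le_mul h7 h10
    omega
  have hq : q ≤ 6 := by
    by_contra hq
    rw [not_le] at hq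
    have : 7 ^ 2 ≤ q ^ 2 := Nat.pow_le_pow_left hq 2
    omega
  have hnq := q_not_dvd h hπ (dvd_refl _)
  rw [hcard] at hnq
  have hqp := h.hq
  interval_cases q
  · exact absurd hqp (by norm_num)
  · exact absurd hqp (by norm_num)
  · exact hnq (by norm_num)
  · exact hnq (by norm_num)
  · exact absurd hqp (by norm_num)
  · exact hnq (by norm_num)
  · exact absurd hqp (by norm_num)

theorem row_odd (hodd : Odd (Fintype.card F)) (h3 : 3 < Fintype.card F) :
    NoSit (Matrix.ProjectiveSpecialLinearGroup (Fin 2) F) := by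
  intro p q L V _ _ _ _ _ π N φ hπ h
  by_cases hpF : p ∣ Fintype.card F
  · exact no_own hodd h3 hπ h hpF
  by_cases h9 : Fintype.card F = 9
  · have hp := dvd_card_S h hπ
    have h4 := Cfsg.Agent.ClassicalGeometry.PSL2Basic.card_PSL2_odd (F := F) hodd
    rw [h9] at h4
    have h5 : Nat.card (Matrix.ProjectiveSpecialLinearGroup (Fin 2) F) = 2 ^ 3 * (3 ^ 2 * 5) := by omega
    rw [h5] at hp
    rw [h9, show 9 = 3 ^ 2 by norm_num] at hpF
    rcases h.hp.dvd_mul.1 hp with h6 | h6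
    · exact h.odd ((Nat.prime_dvd_prime_iff_eq h.hp Nat.prime_two).1 (h.hp.dvd_of_dvd_pow h6))
    rcases h.hp.dvd_mul.1 h6 with h6 | h6
    · exact hpF h6
    · obtain rfl := (Nat.prime_dvd_prime_iff_eq h.hp Nat.prime_five).1 h6
      exact no_nine h9 hπ h
  · exact no_cross hodd h3 h9 hπ h hpF

/-- **The row `PSL₂(q)`.** -/
theorem row_psl2 {F : Type} [Field F] [Fintype F] (h4 : 4 ≤ Fintype.card F) :
    NoSit (Matrix.ProjectiveSpecialLinearGroup (Fin 2) F) := by
  by_cases hodd : Odd (Fintype.card F)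
  · exact row_odd hodd h4
  by_cases hF : Fintype.card F = 4
  · obtain ⟨e⟩ := Cfsg.Agent.S0252.result hF
    obtain ⟨e'⟩ := Cfsg.Agent.S0253.result (F := ZMod 5) (ZMod.card 5)
    exact NoSit.of_equiv (e.trans e'.symm) (row_odd (F := ZMod 5) (by rw [ZMod.card]; decide) (by rw [ZMod.card]; norm_num))
  · have h9 : Fintype.card F ≠ 9 := by
      intro h9
      rw [h9] at hodd
      exact hodd (by decide)
    have := simple_psl2 h4
    have hm := mult_psl2 h4 hF h9
    have h2 : Nat.gcd 2 (Fintype.card F - 1) = 1 := by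
      rw [Nat.not_odd_iff_even] at hodd
      refine (Nat.Prime.coprime_iff_not_dvd Nat.prime_two).2 ?_
      obtain ⟨k, hk⟩ := hodd
      omega
    rw [h2] at hm
    refine Cfsg.Agent.H759.QA.noSit_of_mult fun L _ _ π hπ => ?_
    rw [← MonoidHom.ker_eq_bot_iff, ← Subgroup.card_eq_one]
    exact Nat.dvd_one.1 (hm L π hπ)

end sl

end Cfsg.Agent.H722.QA
end

-- part: H410/QA/U62Deg
section
/-!
# `U₆(2)`: centralizers and degrees of the covers (helper410, S4979)

* `cent_seven`, `cent_eleven`, `cent_five` : centralizers of elements of order 7, 11, 5;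
* `minDeg_twelve` : nontrivial irreducible characters of covers have degree at least 12.
-/

set_option autoImplicit false
set_option linter.unusedSectionVars false

namespace Cfsg.Agent.H410.QA

open Cfsg Matrix Cfsg.Agent.SporadicA.FieldFour F4 Cfsg.Agent.LieClassical.SUBasic Cfsg.Agent.H852.USixElts
open Cfsg.Agent.H80.Fpf Cfsg.Agent.H251.Small

/-! ### centralizers -/

/-- the centralizer of an element of prime order -/
theorem cent_of_orders {S : Type*} [Group S] [Finite S] {p : ℕ} (hp : p.Prime) {x : S} (hx : orderOf x = p)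
    (h2 : ¬ p ^ 2 ∣ Nat.card S) (h : ∀ g : S, p ∣ orderOf g → g ^ p = 1) :
    Nat.card (Subgroup.centralizer ({x} : Set S)) = p := by
  have : Fact p.Prime := ⟨hp⟩
  set C := Subgroup.centralizer ({x} : Set S) with hC
  have hxC : x ∈ C := by
    rw [hC, Subgroup.mem_centralizer_singleton_iff]
  have hpd : p ∣ Nat.card C := by
    have h1 := orderOf_dvd_natCard (⟨x, hxC⟩ : C)
    rwa [Subgroup.orderOf_mk, hx] at h1
  have hpow : ∀ c ∈ C, c ^ p = 1 := by
    intro c hc
    have hcx : Commute c x := by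
      have h1 := (Subgroup.mem_centralizer_singleton_iff).1 hc
      exact h1
    by_cases hd : p ∣ orderOf c
    · exact h c hd
    · have hcop : Nat.Coprime (orderOf c) (orderOf x) := by
        rw [hx]
        exact ((Nat.Prime.coprime_iff_not_dvd hp).2 hd).symm
      have h1 := hcx.orderOf_mul_eq_mul_orderOf_of_coprime hcop
      have h3 := h (c * x) (by rw [h1, hx]; exact dvd_mul_left _ _)
      have h4 := orderOf_dvd_of_pow_eq_one h3
      rw [h1, hx] at h4
      have h5 : orderOf c ∣ 1 := Nat.dvd_of_mul_dvd_mul_right hp.pos (by rwa [one_mul])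
      have h6 := orderOf_eq_one_iff.1 (Nat.dvd_one.1 h5)
      rw [h6, one_pow]
  have hpg : IsPGroup p C := fun c => ⟨1, Subtype.ext (by rw [pow_one]; exact hpow c c.2)⟩
  obtain ⟨n, hn⟩ := IsPGroup.iff_card.1 hpg
  have h3 : n ≤ 1 := by
    by_contra hcon
    apply h2
    exact (pow_dvd_pow p (by omega)).trans (hn ▸ Subgroup.card_subgroup_dvd_card C)
  have h4 : n ≠ 0 := by
    rintro rfl
    rw [hn, pow_zero] at hpd
    exact hp.one_lt.ne' (Nat.dvd_one.1 hpd)
  rw [hn, show n = 1 by omega, pow_one]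

section general

variable {F : Type} [Field F] [Fintype F]

theorem cent_seven (hF : Fintype.card F = 4) {x : PSU 6 F 2} (hx : orderOf x = 7) :
    Nat.card (Subgroup.centralizer ({x} : Set (PSU 6 F 2))) = 7 := by
  have hcard := card_u6 (F := F) (by rw [hF]; norm_num)
  have : Finite (PSU 6 F 2) := Nat.finite_of_card_ne_zero (by rw [hcard]; norm_num)
  exact cent_of_orders (by norm_num) hx (by rw [hcard]; norm_num) fun g hg => Cfsg.Agent.H559.USixSpec.seven hF g hg

theorem cent_eleven (hF : Fintype.card F = 4) {x : PSU 6 F 2} (hx : orderOf x = 11) :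
    Nat.card (Subgroup.centralizer ({x} : Set (PSU 6 F 2))) = 11 := by
  have hcard := card_u6 (F := F) (by rw [hF]; norm_num)
  have : Finite (PSU 6 F 2) := Nat.finite_of_card_ne_zero (by rw [hcard]; norm_num)
  exact cent_of_orders (by norm_num) hx (by rw [hcard]; norm_num) fun g hg => Cfsg.Agent.H559.USixSpec.eleven hF g hg

theorem cent_five (hF : Fintype.card F = 4) {x : PSU 6 F 2} (hxo : orderOf x = 5) :
    Nat.card (Subgroup.centralizer ({x} : Set (PSU 6 F 2))) ∣ 30 := by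
  have hF2 : Fintype.card F = 2 ^ 2 := by rw [hF]; norm_num
  have hcard := card_u6 hF2
  have hfin : Finite (PSU 6 F 2) := Nat.finite_of_card_ne_zero (by rw [hcard]; norm_num)
  have h5p : Fact (Nat.Prime 5) := ⟨by norm_num⟩
  have h2p : Fact (Nat.Prime 2) := ⟨Nat.prime_two⟩
  have h3p : Fact (Nat.Prime 3) := ⟨by norm_num⟩
  set C := Subgroup.centralizer ({x} : Set (PSU 6 F 2)) with hC
  have hcx : ∀ c ∈ C, c * x = x * c := fun c hc => (Subgroup.mem_centralizer_singleton_iff).1 hc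
  have hbig : ∀ p : ℕ, p.Prime → p ≠ 5 → (∀ g : PSU 6 F 2, p ∣ orderOf g → g ^ p = 1) → ¬ p ∣ Nat.card C := by
    intro p hp hp5 h hd
    have : Fact p.Prime := ⟨hp⟩
    obtain ⟨y, hy⟩ := exists_prime_orderOf_dvd_card' (G := C) p hd
    have hyo : orderOf (y : PSU 6 F 2) = p := by rw [Subgroup.orderOf_coe]; exact hy
    have h1 : Commute (y : PSU 6 F 2) x := hcx y y.2
    have hcop : Nat.Coprime (orderOf (y : PSU 6 F 2)) (orderOf x) := by
      rw [hyo, hxo]
      exact (Nat.coprime_primes hp (by norm_num)).2 hp5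
    have h2 := h1.orderOf_mul_eq_mul_orderOf_of_coprime hcop
    have h3 := orderOf_dvd_of_pow_eq_one (h ((y : PSU 6 F 2) * x) (by rw [h2, hyo]; exact dvd_mul_right _ _))
    rw [h2, hyo, hxo] at h3
    have h4 : 5 ∣ 1 := Nat.dvd_of_mul_dvd_mul_left hp.pos (by rwa [mul_one])
    omega
  have hdC : Nat.card C ∣ 9196830720 := by
    have := Subgroup.card_subgroup_dvd_card C
    rwa [hcard] at this
  refine Cfsg.Agent.H251.Der.dvd_thirty hdC ?_ ?_
    (hbig 7 (by norm_num) (by norm_num) fun g hg => Cfsg.Agent.H559.USixSpec.seven hF g hg)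
    (hbig 11 (by norm_num) (by norm_num) fun g hg => Cfsg.Agent.H559.USixSpec.eleven hF g hg)
  · intro h4
    obtain ⟨S, hS⟩ := Sylow.exists_subgroup_card_pow_prime (G := C) 2 (n := 2) (by norm_num only []; exact h4)
    have hS4 : Nat.card (S.map C.subtype) = 4 := by
      rw [Nat.card_congr (S.equivMapOfInjective _ C.subtype_injective).symm.toEquiv, hS]
      norm_num
    have hSp : IsPGroup 2 (S.map C.subtype) := IsPGroup.of_card (n := 2) (by rw [hS4]; norm_num)
    have hSc : ∀ s ∈ S.map C.subtype, s * x = x * s := by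
      rintro _ ⟨s, -, rfl⟩
      exact hcx s s.2
    classical
    have h2 := Nat.card_le_card_of_injective (fun s : S.map C.subtype => decide ((s : PSU 6 F 2) = 1)) (by
      intro s t hst
      simp only [decide_eq_decide] at hst
      apply Subtype.ext
      by_cases hs : (s : PSU 6 F 2) = 1
      · rw [hs, hst.1 hs]
      · exact Cfsg.Agent.H251.Der.two_cent_psu hF2 hxo hSp hSc s.2 t.2 hs (fun h => hs (hst.2 h)))
    rw [hS4] at h2
    simp at h2
  · intro h9
    obtain ⟨S, hS⟩ := Sylow.exists_subgroup_card_pow_prime (G := C) 3 (n := 2) (by norm_num only []; exact h9)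
    have hS9 : Nat.card (S.map C.subtype) = 9 := by
      rw [Nat.card_congr (S.equivMapOfInjective _ C.subtype_injective).symm.toEquiv, hS]
      norm_num
    have hSp : IsPGroup 3 (S.map C.subtype) := IsPGroup.of_card (n := 2) (by rw [hS9]; norm_num)
    have h2 := Cfsg.Agent.H251.Der.three_cent_psu hF2 hxo hSp (by
      rintro _ ⟨s, -, rfl⟩
      exact hcx s s.2)
    omega

end general

/-! ### degrees -/

theorem hF4 : Fintype.card F4 = 2 ^ 2 := rfl

theorem minDeg_five : MinDeg (PSU 5 F4 2) 10 := by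
  refine Cfsg.Agent.H700.FpfPsu.minDeg hF4 (by norm_num) (by norm_num) (by simp) fun d ρ hρ hd => ?_
  have h1 := Cfsg.Agent.S2334.result (F := F4) 5 2 (by norm_num) (by decide) hF4 (by simp) d ρ hρ hd
  norm_num at h1
  exact h1

theorem minDeg_ten : MinDeg (PSU 6 F4 2) 10 := by
  have hS : IsSimpleGroup (PSU 6 F4 2) := Cfsg.Agent.S0283.result hF4 6 (by norm_num) (by norm_num)
  let f : SU 5 F4 2 →* PSU 6 F4 2 := (_root_.Cfsg.Agent.H852.USixElts.pr : SU 6 F4 2 →* PSU 6 F4 2).comp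
    ((Cfsg.Agent.H494.PSURow.blk 5 1 F4 2).comp (MonoidHom.inl (SU 5 F4 2) (SU 1 F4 2)))
  have hf : f.ker ≤ (Cfsg.Agent.ClassicalGeometry.PSUAutBasic.pr 5 F4 2).ker := by
    intro x hx
    have h1 : Cfsg.Agent.H494.PSURow.blk 5 1 F4 2 (x, 1) ∈ Subgroup.center (SU (5 + 1) F4 2) :=
      (QuotientGroup.eq_one_iff _).1 hx
    rw [Cfsg.Agent.H494.PSURow.eq_one_left hF4 (by norm_num) (by norm_num) h1]
    exact Subgroup.one_mem _
  have hT : Nontrivial (PSU 5 F4 2) := by
    have := Cfsg.Agent.S0283.result (F := F4) hF4 5 (by norm_num) (by norm_num)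
    infer_instance
  exact minDeg_of_hom f (Cfsg.Agent.ClassicalGeometry.PSUAutBasic.pr 5 F4 2)
    Cfsg.Agent.ClassicalGeometry.PSUAutBasic.pr_surjective
    (Cfsg.Agent.H700.FpfPsu.isCover_pr hF4 (by norm_num) (by norm_num)).central hf
    (Cfsg.Agent.LieClassical.HermPerfect.commutator_SU_eq_top hF4 (by norm_num) (by norm_num)) hT minDeg_five

theorem multDvd_u62 : MultDvd (PSU 6 F4 2) 12 := by
  have h1 := multDvd_of (Cfsg.Agent.S2091.result (F := F4) rfl)
  have h2 : Nat.card (Multiplicative (ZMod 3 × ZMod 2 × ZMod 2)) = 12 := by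
    rw [Nat.card_congr Multiplicative.toAdd, Nat.card_prod, Nat.card_prod, Nat.card_zmod, Nat.card_zmod]
  rwa [h2] at h1

/-- a lift of an element of order `p` conjugate to its power -/
theorem conj_lift {G S : Type*} [Group G] [Finite G] [Group S] {π : G →* S} (hπ : IsCover π) {p r : ℕ} (hp : p.Prime)
    (hk : ¬ p ∣ Nat.card π.ker) {x g : G} (hx : orderOf x = p) (h : π g * π x * (π g)⁻¹ = π x ^ r) :
    g * x * g⁻¹ = x ^ r := by
  have hc : (g * x * g⁻¹) * (x ^ r)⁻¹ ∈ π.ker := by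
    rw [MonoidHom.mem_ker, map_mul, map_inv, map_mul, map_mul, map_inv, map_pow, h, mul_inv_cancel]
  set c := (g * x * g⁻¹) * (x ^ r)⁻¹ with hcd
  have hcc := Subgroup.mem_center_iff.1 (hπ.central hc)
  have hxp : x ^ p = 1 := by rw [← hx]; exact pow_orderOf_eq_one x
  have e1 : g * x * g⁻¹ = c * x ^ r := by rw [hcd, inv_mul_cancel_right]
  have e2 : (g * x * g⁻¹) ^ p = 1 := by rw [conj_pow, hxp, mul_one, mul_inv_cancel]
  have e3 : c ^ p = 1 := by
    have h1 : Commute c (x ^ r) := (hcc _).symm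
    rw [e1, h1.mul_pow, ← pow_mul, mul_comm r p, pow_mul, hxp, one_pow, mul_one] at e2
    exact e2
  have e4 : c = 1 := by
    rcases (Nat.dvd_prime hp).1 (orderOf_dvd_of_pow_eq_one e3) with h1 | h1
    · exact orderOf_eq_one_iff.1 h1
    · exfalso
      apply hk
      have h2 := orderOf_dvd_natCard (⟨c, hc⟩ : π.ker)
      rwa [Subgroup.orderOf_mk, h1] at h2
  rw [e1, e4, one_mul]

theorem minDeg_twelve : MinDeg (PSU 6 F4 2) 12 := by
  intro G _ _ π hπ d ρ hρ hd2
  have h10 := minDeg_ten G π hπ d ρ hρ hd2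
  by_contra hlt
  push Not at hlt
  have hm : Nat.card π.ker ∣ 12 := multDvd_u62 G π hπ
  have hp7 : Nat.Prime 7 := by norm_num
  have hk : ¬ 7 ∣ Nat.card π.ker := fun h => absurd (h.trans hm) (by norm_num)
  obtain ⟨x, hx, hxo⟩ := exists_lift hπ hp7 hk order_x7
  obtain ⟨g, hg⟩ := hπ.surj (_root_.Cfsg.Agent.H852.USixElts.pr g7)
  have hconj : g * x * g⁻¹ = x ^ 3 := conj_lift hπ hp7 hk hxo (by rw [hx, hg, g7_x7])
  have hx7 : x ^ 7 = 1 := by rw [← hxo]; exact pow_orderOf_eq_one x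
  have hch : ∀ j : ℕ, ρ.character (x ^ (3 * j)) = ρ.character (x ^ j) := by
    intro j
    rw [pow_mul, ← hconj, conj_pow, Representation.char_conj]
  have c3 := hch 1
  have c2 := hch 3
  have c6 := hch 2
  have c4 := hch 6
  have c5 := hch 4
  rw [show x ^ (3 * 3) = x ^ 2 by rw [show 3 * 3 = 7 + 2 by norm_num, pow_add, hx7, one_mul]] at c2
  rw [show x ^ (3 * 6) = x ^ 4 by
    rw [show 3 * 6 = 7 + (7 + 4) by norm_num, pow_add, pow_add, hx7, one_mul, one_mul]] at c4
  rw [show x ^ (3 * 4) = x ^ 5 by rw [show 3 * 4 = 7 + 5 by norm_num, pow_add, hx7, one_mul]] at c5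
  norm_num at c3 c6
  -- the fixed points
  let X := Subgroup.zpowers x
  have hcX : Nat.card X = 7 := by rw [Nat.card_zpowers, hxo]
  let _ : Fintype X := Fintype.ofFinite X
  have hcard : (Nat.card X : ℂ) ≠ 0 := by exact_mod_cast Nat.card_pos.ne'
  let τX : Representation ℂ X (Fin d → ℂ) := ρ.comp X.subtype
  have h1 := Representation.card_inv_mul_sum_char_eq_finrank (ρ := τX)
  have h3 : ∑ g : X, τX.character g = 7 * (Module.finrank ℂ (Representation.invariants τX) : ℂ) := by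
    rw [← h1, ← mul_assoc, hcX]
    norm_num
  have h4 : ∑ g : X, τX.character g = (d : ℂ) + 6 * ρ.character x := by
    have h5 : ∑ g : X, τX.character g = ∑ i ∈ Finset.range (orderOf x), ρ.character (x ^ i) := by
      rw [← Fin.sum_univ_eq_sum_range]
      exact (Fintype.sum_equiv (finEquivZPowers (isOfFinOrder_of_finite x)) _ _ fun i => rfl).symm
    rw [h5, hxo]
    simp only [Finset.sum_range_succ, Finset.sum_range_zero]
    rw [pow_zero, pow_one, c5, c4, c6, c2, c3, Representation.char_one, Module.finrank_fin_fun]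
    ring
  rw [h4] at h3
  set m := Module.finrank ℂ (Representation.invariants τX)
  obtain ⟨n, hn⟩ := Cfsg.Agent.Characters.GaloisBasic.exists_int_of_rat
    (Cfsg.Agent.Characters.Core.isCharacter_of_rep ρ) x ⟨(7 * m - d) / 6, by
      push_cast
      rw [← h3]
      ring⟩
  have h6 := Cfsg.Agent.H245.QA.norm_sq_le hπ ρ hρ x
  rw [hx, cent_seven (F := F4) rfl order_x7, hn] at h6
  have h7 : (n : ℝ) ^ 2 ≤ 7 := by
    rw [Complex.norm_intCast, sq_abs] at h6
    exact_mod_cast h6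
  have h8 : n ^ 2 ≤ 7 := by exact_mod_cast h7
  have h9 : -2 ≤ n ∧ n ≤ 2 := by
    constructor <;> nlinarith only [h8]
  have h10' : (d : ℤ) + 6 * n = 7 * m := by
    rw [hn] at h3
    exact_mod_cast h3
  clear hch c3 c2 c6 c4 c5 h3 h4 h6 hn
  obtain ⟨h11, h12⟩ := h9
  interval_cases n <;> (clear * - h10 hlt h10'; omega)

end Cfsg.Agent.H410.QA
end

-- part: H410/QA/U62Row
section
/-!
# S4979, layer (A), the row `U₆(2)` (helper410)
-/

set_option autoImplicit false
set_option linter.unusedSectionVars false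

namespace Cfsg.Agent.H410.QA

open Cfsg Cfsg.Agent.SporadicA.FieldFour Cfsg.Agent.H852.USixElts
open Cfsg.Agent.H80.Fpf Cfsg.Agent.H251.Small Cfsg.Agent.H152.QA

theorem isConj_pows {S : Type*} [Group S] {x g : S} {r : ℕ} (h : g * x * g⁻¹ = x ^ r) (j : ℕ) :
    IsConj x (x ^ r ^ j) := by
  induction j with
  | zero => rw [pow_zero, pow_one]
  | succ j ih =>
    refine ih.trans ?_
    rw [isConj_iff]
    refine ⟨g, ?_⟩
    rw [← conj_pow, h, ← pow_mul, pow_succ, mul_comm]

theorem isConj_of {S : Type*} [Group S] {x g : S} {r p k : ℕ} (hx : orderOf x = p) (h : g * x * g⁻¹ = x ^ r)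
    (hk : ∃ j, r ^ j % p = k % p) : IsConj x (x ^ k) := by
  obtain ⟨j, hj⟩ := hk
  have h1 : x ^ k = x ^ r ^ j := by
    rw [← pow_mod_orderOf x k, ← pow_mod_orderOf x (r ^ j), hx, hj]
  rw [h1]
  exact isConj_pows h j

theorem rat_seven (k : ℕ) (hk : k ^ 6 % 7 = 1) : ∃ j, 3 ^ j % 7 = k % 7 := by
  have h1 : ∀ a : Fin 7, a.1 ^ 6 % 7 = 1 → ∃ j : Fin 6, 3 ^ j.1 % 7 = a.1 := by decide
  obtain ⟨j, hj⟩ := h1 ⟨k % 7, Nat.mod_lt _ (by norm_num)⟩ (by
    show (k % 7) ^ 6 % 7 = 1
    rw [← Nat.pow_mod, hk])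
  exact ⟨j, hj⟩

theorem rat_five (k : ℕ) (hk : k ^ 4 % 5 = 1) : ∃ j, 2 ^ j % 5 = k % 5 := by
  have h1 : ∀ a : Fin 5, a.1 ^ 4 % 5 = 1 → ∃ j : Fin 4, 2 ^ j.1 % 5 = a.1 := by decide
  obtain ⟨j, hj⟩ := h1 ⟨k % 5, Nat.mod_lt _ (by norm_num)⟩ (by
    show (k % 5) ^ 4 % 5 = 1
    rw [← Nat.pow_mod, hk])
  exact ⟨j, hj⟩

theorem rat_eleven (k : ℕ) (hk : k ^ 5 % 11 = 1) : ∃ j, 4 ^ j % 11 = k % 11 := by
  have h1 : ∀ a : Fin 11, a.1 ^ 5 % 11 = 1 → ∃ j : Fin 5, 4 ^ j.1 % 11 = a.1 := by decide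
  obtain ⟨j, hj⟩ := h1 ⟨k % 11, Nat.mod_lt _ (by norm_num)⟩ (by
    show (k % 11) ^ 5 % 11 = 1
    rw [← Nat.pow_mod, hk])
  exact ⟨j, hj⟩

theorem f5_y11 : _root_.Cfsg.Agent.H852.USixElts.pr f5 * _root_.Cfsg.Agent.H852.USixElts.pr y11 * (pr f5)⁻¹ = pr y11 ^ 4 := by
  have h1 : f5 * y11 = y11 ^ 4 * f5 := by
    apply mat_inj
    rw [mat_mul, mat_mul, mat_pow]
    have h2 : mat y11 ^ 4 = Z11 * Z11 * (Z11 * Z11) := by
      rw [show (4 : ℕ) = 2 * 2 by norm_num, pow_mul, pow_two, pow_two]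
      rfl
    rw [h2]
    exact F5_Z11
  rw [mul_inv_eq_iff_eq_mul, ← map_pow, ← map_mul, ← map_mul, h1]

theorem card_S : Nat.card (PSU 6 F4 2) = 9196830720 := card_u6 hF4

theorem finite_S : Finite (PSU 6 F4 2) := Nat.finite_of_card_ne_zero (by rw [card_S]; norm_num)

theorem index_le (H : Subgroup (PSU 6 F4 2)) : H.index ≤ 9196830720 := by
  have := finite_S
  rw [← card_S]
  exact Nat.le_of_dvd Nat.card_pos H.index_dvd_card

/-- the normalizer of an element of order 5 -/
theorem index_five : (Subgroup.normalizer ((Subgroup.zpowers (_root_.Cfsg.Agent.H852.USixElts.pr p5) : Subgroup (PSU 6 F4 2)) : Set (PSU 6 F4 2))).index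
    ≤ 459841536 := by
  have := finite_S
  set N := Subgroup.normalizer ((Subgroup.zpowers (_root_.Cfsg.Agent.H852.USixElts.pr p5) : Subgroup (PSU 6 F4 2)) : Set (PSU 6 F4 2)) with hN
  have hx : pr p5 ∈ N := Subgroup.le_normalizer (Subgroup.mem_zpowers _)
  have hy : _root_.Cfsg.Agent.H852.USixElts.pr y5 ∈ N := by
    have h1 : ∀ s ∈ Subgroup.zpowers (pr p5), pr y5 * s * (pr y5)⁻¹ ∈ Subgroup.zpowers (pr p5) := by
      intro s hs
      obtain ⟨k, rfl⟩ := Subgroup.mem_zpowers_iff.1 hs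
      rw [← conj_zpow, y5_p5]
      exact Subgroup.zpow_mem _ (Subgroup.pow_mem _ (Subgroup.mem_zpowers _) _) _
    exact Subgroup.mem_normalizer_fintype h1
  have h5 : 5 ∣ Nat.card N := by
    have h1 := orderOf_dvd_natCard (⟨pr p5, hx⟩ : N)
    rwa [Subgroup.orderOf_mk, order_p5] at h1
  have hx5 : pr p5 ^ 5 = 1 := by rw [← order_p5]; exact pow_orderOf_eq_one _
  have hy4 : orderOf (pr y5) = 4 := by
    have : Fact (Nat.Prime 2) := ⟨Nat.prime_two⟩
    refine orderOf_eq_prime_pow (p := 2) (n := 1) ?_ ?_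
    · intro h
      have h1 : _root_.Cfsg.Agent.H852.USixElts.pr y5 * (pr y5 * _root_.Cfsg.Agent.H852.USixElts.pr p5 * (pr y5)⁻¹) * (pr y5)⁻¹ = pr p5 ^ 4 := by
        rw [y5_p5, ← conj_pow, y5_p5, ← pow_mul]
      have h2 : pr y5 * (pr y5 * pr p5 * (pr y5)⁻¹) * (pr y5)⁻¹ = pr y5 ^ 2 * pr p5 * (pr y5 ^ 2)⁻¹ := by
        rw [pow_two]
        group
      rw [pow_one] at h
      rw [h2, h, one_mul, inv_one, mul_one] at h1
      have h3 : _root_.Cfsg.Agent.H852.USixElts.pr p5 ^ 3 = 1 := by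
        have h4 : pr p5 ^ 3 * pr p5 = 1 * pr p5 := by rw [← pow_succ, ← h1, one_mul]
        exact mul_right_cancel h4
      have h4 := orderOf_dvd_of_pow_eq_one h3
      rw [order_p5] at h4
      omega
    · rw [← map_pow]
      have h1 : y5 ^ 2 ^ (1 + 1) = 1 := mat_inj (by
        rw [mat_pow, mat_one]
        show Y5 ^ 4 = 1
        decide +kernel)
      rw [h1, map_one]
  have h4 : 4 ∣ Nat.card N := by
    have h1 := orderOf_dvd_natCard (⟨_root_.Cfsg.Agent.H852.USixElts.pr y5, hy⟩ : N)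
    rwa [Subgroup.orderOf_mk, hy4] at h1
  have h20 : 20 ∣ Nat.card N := Nat.Coprime.mul_dvd_of_dvd_of_dvd (by norm_num : Nat.Coprime 5 4) h5 h4
  have h1 := N.card_mul_index
  rw [card_S] at h1
  have h2 : 20 ≤ Nat.card N := Nat.le_of_dvd Nat.card_pos h20
  by_contra hcon
  push Not at hcon
  have h3 : 20 * 459841537 ≤ Nat.card N * N.index := Nat.mul_le_mul h2 hcon
  omega

theorem row_f4 : NoSit (PSU 6 F4 2) := by
  intro p q L V _ _ _ _ _ π N φ hπ hS
  have hsimple : IsSimpleGroup (PSU 6 F4 2) := Cfsg.Agent.S0283.result hF4 6 (by norm_num) (by norm_num)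
  have hfin := finite_S
  obtain ⟨G, _, _, _, ψ, hψ, hker, hN, hP⟩ := hS.exists_pSit' hπ
  have hB := minDeg_of_cover hψ minDeg_twelve
  have hcG : Nat.card G = Nat.card ψ.ker * 9196830720 := by
    rw [← card_S, ← Subgroup.card_mul_index ψ.ker, Subgroup.index_ker, MonoidHom.range_eq_top.2 hψ.surj,
      Subgroup.card_top]
  have hpk : ¬ p ∣ Nat.card ψ.ker := fun h => hP.pZ (h.trans (Subgroup.card_dvd_of_le hψ.central))
  have hpS : p ∣ 9196830720 := by
    have h1 := hP.pG
    rw [hcG] at h1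
    exact (hP.hp.dvd_mul.1 h1).resolve_left hpk
  have hq : 13 ≤ q := by
    have h1 : ¬ q ∣ 9196830720 := fun h => hP.qG (by rw [hcG]; exact h.mul_left _)
    have h2 := hP.hq
    by_contra hcon
    push Not at hcon
    clear hS hP
    interval_cases q <;> revert h1 h2 <;> norm_num
  have hp : p = 3 ∨ p = 5 ∨ p = 7 ∨ p = 11 := by
    have h1 : p ∈ Nat.primeFactors 9196830720 := Nat.mem_primeFactors.2 ⟨hP.hp, hpS, by norm_num⟩
    rw [show (9196830720 : ℕ) = 2 ^ 15 * 3 ^ 6 * 5 * 7 * 11 by norm_num] at hpS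
    rcases hP.hp.dvd_mul.1 hpS with h | h
    · rcases hP.hp.dvd_mul.1 h with h | h
      · rcases hP.hp.dvd_mul.1 h with h | h
        · rcases hP.hp.dvd_mul.1 h with h | h
          · exact absurd ((Nat.prime_dvd_prime_iff_eq hP.hp Nat.prime_two).1 (hP.hp.dvd_of_dvd_pow h)) hP.odd
          · exact Or.inl ((Nat.prime_dvd_prime_iff_eq hP.hp Nat.prime_three).1 (hP.hp.dvd_of_dvd_pow h))
        · exact Or.inr (Or.inl ((Nat.prime_dvd_prime_iff_eq hP.hp (by norm_num)).1 h))
      · exact Or.inr (Or.inr (Or.inl ((Nat.prime_dvd_prime_iff_eq hP.hp (by norm_num)).1 h)))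
    · exact Or.inr (Or.inr (Or.inr ((Nat.prime_dvd_prime_iff_eq hP.hp (by norm_num)).1 h)))
  rcases hp with rfl | rfl | rfl | rfl
  · -- p = 3
    have hT : Nat.card (Multiplicative T4) = 3 ^ 4 := by
      rw [Nat.card_congr Multiplicative.toAdd, Nat.card_prod, Nat.card_prod, Nat.card_prod, Nat.card_zmod]
      norm_num
    set X : Subgroup (PSU 6 F4 2) := (_root_.Cfsg.Agent.H852.USixElts.pr.comp tau).range with hX
    have hXc : Nat.card X = 3 ^ 4 := by
      rw [← hT]
      exact (Nat.card_congr (MonoidHom.ofInjective prtau_inj).toEquiv).symm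
    have h1 := Cfsg.Agent.H973.QA.PSit.rank hP hψ (r := 4) (e := 2) X
      (by
        rintro _ ⟨a, rfl⟩ _ ⟨b, rfl⟩
        rw [← map_mul, ← map_mul, mul_comm])
      (by
        rintro _ ⟨a, rfl⟩
        rw [← map_pow]
        have h2 : a ^ 3 = 1 := by
          apply Multiplicative.toAdd.injective
          show (3 : ℕ) • Multiplicative.toAdd a = 0
          generalize Multiplicative.toAdd a = t
          revert t
          decide +kernel
        rw [h2, map_one])
      hXc (by norm_num)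
      (by
        rintro _ ⟨a, rfl⟩ k hk
        have h2 : (_root_.Cfsg.Agent.H852.USixElts.pr.comp tau) a ^ 3 = 1 := by
          rw [← map_pow]
          have h3 : a ^ 3 = 1 := by
            apply Multiplicative.toAdd.injective
            show (3 : ℕ) • Multiplicative.toAdd a = 0
            generalize Multiplicative.toAdd a = t
            revert t
            decide +kernel
          rw [h3, map_one]
        have h3 : k % 3 = 1 ∨ k % 3 = 2 := by
          have h4 : k % 3 < 3 := Nat.mod_lt _ (by norm_num)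
          have h5 : k % 3 ≠ 0 := by
            intro h0
            rw [Nat.pow_mod, h0] at hk
            norm_num at hk
          omega
        have h4 : (_root_.Cfsg.Agent.H852.USixElts.pr.comp tau) a ^ k = (_root_.Cfsg.Agent.H852.USixElts.pr.comp tau) a ^ (k % 3) := by
          conv_lhs => rw [← Nat.div_add_mod k 3, pow_add, pow_mul, h2, one_pow, one_mul]
        rw [h4]
        rcases h3 with h3 | h3
        · rw [h3, pow_one]
        · rw [h3]
          obtain ⟨g, hg⟩ := real_tau a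
          rw [isConj_iff]
          refine ⟨g, ?_⟩
          show g * _root_.Cfsg.Agent.H852.USixElts.pr (tau a) * g⁻¹ = pr (tau a) ^ 2
          rw [hg, inv_eq_iff_mul_eq_one, ← pow_succ']
          exact h2)
    have h2 : (Subgroup.normalizer (X : Set (PSU 6 F4 2))).index ≤ X.index :=
      Nat.le_of_dvd (Nat.pos_of_ne_zero X.index_ne_zero_of_finite) (Subgroup.index_dvd_of_le Subgroup.le_normalizer)
    have h3 := X.card_mul_index
    rw [hXc, card_S] at h3
    have h4 : 13 ^ 8 ≤ q ^ (4 * 2) := Nat.pow_le_pow_left hq _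
    have h5 := h4.trans (h1.trans h2)
    norm_num at h5 h3
    omega
  · -- p = 5
    obtain ⟨k, hk, h1, h2⟩ := Cfsg.Agent.H973.QA.PSit.elt hP hψ (B := 12) (c := 6) (e := 4) hB (_root_.Cfsg.Agent.H852.USixElts.pr p5) order_p5
      ((Nat.le_of_dvd (by norm_num) (cent_five (F := F4) rfl order_p5)).trans (by norm_num)) (by norm_num)
      (fun k hk => isConj_of order_p5 y5_p5 (rat_five k hk))
    have hk2 : 2 ≤ k := by omega
    have h3 : 13 ^ 8 ≤ q ^ (4 * k) := (Nat.pow_le_pow_left hq 8).trans (Nat.pow_le_pow_right (by omega) (by omega))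
    have h4 := h3.trans (h2.trans index_five)
    norm_num at h4
  · -- p = 7
    obtain ⟨k, hk, h1, h2⟩ := Cfsg.Agent.H973.QA.PSit.elt hP hψ (B := 12) (c := 3) (e := 6) hB (_root_.Cfsg.Agent.H852.USixElts.pr x7) order_x7
      (by rw [cent_seven (F := F4) rfl order_x7]; norm_num) (by norm_num)
      (fun k hk => isConj_of order_x7 g7_x7 (rat_seven k hk))
    have hk2 : 2 ≤ k := by omega
    have h3 : 13 ^ 12 ≤ q ^ (6 * k) := (Nat.pow_le_pow_left hq 12).trans (Nat.pow_le_pow_right (by omega) (by omega))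
    have h4 := h3.trans (h2.trans (index_le _))
    norm_num at h4
  · -- p = 11
    obtain ⟨k, hk, h1, h2⟩ := Cfsg.Agent.H973.QA.PSit.elt hP hψ (B := 12) (c := 4) (e := 5) hB (_root_.Cfsg.Agent.H852.USixElts.pr y11) order_y11
      (by rw [cent_eleven (F := F4) rfl order_y11]; norm_num) (by norm_num)
      (fun k hk => isConj_of order_y11 f5_y11 (rat_eleven k hk))
    have hk2 : 2 ≤ k := by omega
    have h3 : 13 ^ 10 ≤ q ^ (5 * k) := (Nat.pow_le_pow_left hq 10).trans (Nat.pow_le_pow_right (by omega) (by omega))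
    have h4 := h3.trans (h2.trans (index_le _))
    norm_num at h4

/-- **the row `U₆(2)`** -/
theorem row_u62 {F : Type} [Field F] [Fintype F] (hF : Fintype.card F = 2 ^ 2) : NoSit (PSU 6 F 2) := by
  obtain ⟨e⟩ := Cfsg.Agent.SporadicStructure.PsuMatch.psu_iso_of_card
    (F := F) (K := F4) (by rw [hF]; rfl) 6 2
  exact NoSit.of_equiv e row_f4

end Cfsg.Agent.H410.QA
end

private theorem dce_4dbaa3df4459 : _root_.True := by
  try have : _root_.True := by simp only [_root_.Cfsg.Agent.H722.QA.root.eq_1]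
  try have : _root_.True := by simp only [_root_.Cfsg.Agent.H575.QA.tc.congr_simp]
  exact _root_.True.intro
end

-- part: H152/QA/Partial2
section
prune_inst 0x544049200380100000008584c10000104800042000000008002008000000200840808840000021020022000100040008120000000040000004000000000100001000140440c10008e20090000000400200000000000000000000000000000004000000000
set_option linter.all false
open scoped Cfsg.Agent.FastGrp

-- part: H309/U43/Eig
section
/-!
# Multiplicities of eigenvalues of an element of order dividing `n`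

* `exists_mult` : the multiplicities `m j` of the eigenvalues of `ρ(x)`, `x ^ n = 1`, in terms of the character;
* `sum_mult`, `parseval`;
* `seven` : `x` of order 7 conjugate to `x ^ 2`, `|χ(x ^ k)|² ≤ 7`, degree `≥ 6`: the codimension of the fixed space is `≥ 6`.
-/

set_option autoImplicit false
set_option linter.style.haveILetI false

namespace Cfsg.Agent.H309.U43

open Cfsg Cfsg.Agent.H245.QA

universe u

section
variable {G : Type u} [Group G] {d : ℕ} {n : ℕ} [NeZero n]

local notation "ψ" => (ZMod.stdAddChar (N := n) : AddChar (ZMod n) ℂ)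

theorem pow_val_add {x : G} (hx : x ^ n = 1) (a b : ZMod n) : x ^ (a + b).val = x ^ a.val * x ^ b.val := by
  rw [ZMod.val_add, ← pow_add, ← pow_eq_pow_mod _ hx]

/-- the twisted representation of `ℤ/n` -/
noncomputable def tw (ρ : Representation ℂ G (Fin d → ℂ)) {x : G} (hx : x ^ n = 1) (j : ZMod n) :
    Representation ℂ (Multiplicative (ZMod n)) (Fin d → ℂ) where
  toFun g := ψ (-(j * g.toAdd)) • ρ (x ^ g.toAdd.val)
  map_one' := by
    rw [toAdd_one, mul_zero, neg_zero, AddChar.map_zero_eq_one, ZMod.val_zero, pow_zero, map_one, one_smul]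
  map_mul' a b := by
    rw [toAdd_mul, pow_val_add hx, map_mul, mul_add, neg_add, AddChar.map_add_eq_mul]
    rw [smul_mul_smul_comm]

theorem exists_mult [Finite G] (ρ : Representation ℂ G (Fin d → ℂ)) {x : G} (hx : x ^ n = 1) :
    ∃ m : ZMod n → ℕ, (∀ j, (n : ℂ) * (m j : ℂ) = ∑ k : ZMod n, ψ (-(j * k)) * ρ.character (x ^ k.val)) ∧
      m 0 = Module.finrank ℂ (fixR ρ (Subgroup.zpowers x)) := by
  classical
  have hcard : Nat.card (Multiplicative (ZMod n)) = n := by
    rw [Nat.card_congr Multiplicative.toAdd, Nat.card_zmod]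
  have hn : (Nat.card (Multiplicative (ZMod n)) : ℂ) ≠ 0 := by
    rw [hcard]; exact_mod_cast NeZero.ne n
  letI : Invertible (Nat.card (Multiplicative (ZMod n)) : ℂ) := invertibleOfNonzero hn
  refine ⟨fun j => Module.finrank ℂ (tw ρ hx j).invariants, fun j => ?_, ?_⟩
  · have h1 := Representation.card_inv_mul_sum_char_eq_finrank (ρ := tw ρ hx j)
    rw [← h1, hcard, ← mul_assoc, mul_inv_cancel₀ (by rw [← hcard]; exact hn), one_mul]
    refine Fintype.sum_equiv Multiplicative.toAdd _ _ (fun g => ?_)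
    change LinearMap.trace ℂ _ (ψ (-(j * g.toAdd)) • ρ (x ^ g.toAdd.val)) = _
    rw [map_smul, smul_eq_mul]
    rfl
  · have h1 : (tw ρ hx 0).invariants = fixR ρ (Subgroup.zpowers x) := by
      ext v
      rw [Representation.mem_invariants, mem_fixR]
      constructor
      · intro h g hg
        obtain ⟨k, -, rfl⟩ := (isOfFinOrder_of_finite x).mem_zpowers_iff_mem_range_orderOf.1 hg |> Finset.mem_image.1
        have h2 := h (Multiplicative.ofAdd (k : ZMod n))
        change (ψ (-(0 * (k : ZMod n))) • ρ (x ^ ((k : ZMod n)).val)) v = v at h2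
        rw [zero_mul, neg_zero, AddChar.map_zero_eq_one, one_smul, ZMod.val_natCast, ← pow_eq_pow_mod k hx] at h2
        exact h2
      · intro h g
        change (ψ (-(0 * g.toAdd)) • ρ (x ^ g.toAdd.val)) v = v
        rw [zero_mul, neg_zero, AddChar.map_zero_eq_one, one_smul]
        exact h _ (Subgroup.npow_mem_zpowers x _)
    change Module.finrank ℂ (tw ρ hx 0).invariants = _
    rw [h1]

/-- the values `c k` and the multiplicities `m j` -/
theorem sum_mult {c : ZMod n → ℂ} {m : ZMod n → ℕ} (h : ∀ j, (n : ℂ) * (m j : ℂ) = ∑ k : ZMod n, ψ (-(j * k)) * c k) :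
    ∑ j, (m j : ℂ) = c 0 := by
  classical
  have hn : (n : ℂ) ≠ 0 := by exact_mod_cast NeZero.ne n
  apply mul_left_cancel₀ hn
  rw [Finset.mul_sum, Finset.sum_congr rfl (fun j _ => h j), Finset.sum_comm]
  have h1 : ∀ k : ZMod n, ∑ j : ZMod n, ψ (-(j * k)) * c k = if k = 0 then (n : ℂ) * c 0 else 0 := by
    intro k
    rw [← Finset.sum_mul]
    have h2 : ∑ j : ZMod n, ψ (-(j * k)) = ∑ j : ZMod n, ψ (j * (-k)) := by
      refine Finset.sum_congr rfl (fun j _ => ?_)
      rw [mul_neg]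
    rw [h2, AddChar.sum_mulShift (-k) (ZMod.isPrimitive_stdAddChar n), ZMod.card]
    by_cases hk : k = 0
    · rw [if_pos (by rw [hk, neg_zero]), if_pos hk, hk]
    · rw [if_neg (fun h => hk (neg_eq_zero.1 h)), if_neg hk, Nat.cast_zero, zero_mul]
  rw [Finset.sum_congr rfl (fun k _ => h1 k), Finset.sum_ite_eq' Finset.univ (0 : ZMod n)]
  simp

theorem conj_psi (a : ZMod n) : (starRingEnd ℂ) (ψ a) = ψ (-a) := by
  rw [AddChar.map_neg_eq_inv]
  have h1 : ‖(ψ a : ℂ)‖ = 1 := AddChar.norm_apply _ _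
  have h2 : (ψ a : ℂ) ≠ 0 := by
    intro h; rw [h, norm_zero] at h1; exact zero_ne_one h1
  apply mul_left_cancel₀ h2
  rw [Complex.mul_conj, mul_inv_cancel₀ h2, Complex.normSq_eq_norm_sq, h1]
  norm_num

theorem parseval {c : ZMod n → ℂ} {m : ZMod n → ℕ} (h : ∀ j, (n : ℂ) * (m j : ℂ) = ∑ k : ZMod n, ψ (-(j * k)) * c k) :
    (n : ℝ) * ∑ j, (m j : ℝ) ^ 2 = ∑ k, ‖c k‖ ^ 2 := by
  classical
  have hn : (n : ℂ) ≠ 0 := by exact_mod_cast NeZero.ne n
  have key : (n : ℂ) * ((n : ℂ) * ∑ j, (m j : ℂ) ^ 2) = (n : ℂ) * ∑ k, c k * (starRingEnd ℂ) (c k) := by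
    calc (n : ℂ) * ((n : ℂ) * ∑ j, (m j : ℂ) ^ 2)
        = ∑ j, ((n : ℂ) * (m j : ℂ)) * (starRingEnd ℂ) ((n : ℂ) * (m j : ℂ)) := by
          rw [Finset.mul_sum, Finset.mul_sum]
          refine Finset.sum_congr rfl (fun j _ => ?_)
          rw [map_mul, Complex.conj_natCast, Complex.conj_natCast]; ring
      _ = ∑ j, (∑ k : ZMod n, ψ (-(j * k)) * c k) * ∑ l : ZMod n, ψ (j * l) * (starRingEnd ℂ) (c l) := by
          refine Finset.sum_congr rfl (fun j _ => ?_)
          rw [h j]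
          congr 1
          rw [map_sum]
          refine Finset.sum_congr rfl (fun l _ => ?_)
          rw [map_mul, conj_psi, neg_neg]
      _ = ∑ j, ∑ k : ZMod n, ∑ l : ZMod n, (c k * (starRingEnd ℂ) (c l)) * ψ (j * (l - k)) := by
          refine Finset.sum_congr rfl (fun j _ => ?_)
          rw [Finset.sum_mul_sum]
          refine Finset.sum_congr rfl (fun k _ => Finset.sum_congr rfl (fun l _ => ?_))
          rw [show j * (l - k) = -(j * k) + j * l by ring, AddChar.map_add_eq_mul]; ring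
      _ = ∑ k : ZMod n, ∑ l : ZMod n, ∑ j : ZMod n, (c k * (starRingEnd ℂ) (c l)) * ψ (j * (l - k)) := by
          rw [Finset.sum_comm]
          refine Finset.sum_congr rfl (fun k _ => ?_)
          rw [Finset.sum_comm]
      _ = ∑ k : ZMod n, (n : ℂ) * (c k * (starRingEnd ℂ) (c k)) := by
          refine Finset.sum_congr rfl (fun k _ => ?_)
          have h1 : ∀ l : ZMod n, ∑ j : ZMod n, (c k * (starRingEnd ℂ) (c l)) * ψ (j * (l - k)) =
              if l = k then (n : ℂ) * (c k * (starRingEnd ℂ) (c k)) else 0 := by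
            intro l
            rw [← Finset.mul_sum, AddChar.sum_mulShift (l - k) (ZMod.isPrimitive_stdAddChar n), ZMod.card]
            by_cases hl : l = k
            · rw [if_pos (by rw [hl, sub_self]), if_pos hl, hl]; ring
            · rw [if_neg (fun h => hl (sub_eq_zero.1 h)), if_neg hl, Nat.cast_zero, mul_zero]
          rw [Finset.sum_congr rfl (fun l _ => h1 l), Finset.sum_ite_eq' Finset.univ k]
          simp
      _ = (n : ℂ) * ∑ k, c k * (starRingEnd ℂ) (c k) := by rw [Finset.mul_sum]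
  have key2 := mul_left_cancel₀ hn key
  have h3 : ∀ k, c k * (starRingEnd ℂ) (c k) = ((‖c k‖ ^ 2 : ℝ) : ℂ) := by
    intro k
    rw [Complex.mul_conj, Complex.normSq_eq_norm_sq]
  rw [Finset.sum_congr rfl (fun k _ => h3 k)] at key2
  exact_mod_cast key2

end

/-- **Elements of order 7.** -/
theorem seven {G : Type u} [Group G] [Finite G] {d : ℕ} (ρ : Representation ℂ G (Fin d → ℂ)) {x : G} (hx : x ^ 7 = 1)
    (hx2 : IsConj x (x ^ 2)) (hd : 6 ≤ d) (hc : ∀ k : ZMod 7, k ≠ 0 → ‖ρ.character (x ^ k.val)‖ ^ 2 ≤ 7) :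
    6 + Module.finrank ℂ (fixR ρ (Subgroup.zpowers x)) ≤ d := by
  classical
  obtain ⟨m, hm, hm0⟩ := exists_mult (n := 7) ρ hx
  set! c : ZMod 7 → ℂ := fun k => ρ.character (x ^ k.val) with hcdef
  have hm' : ∀ j, ((7 : ℕ) : ℂ) * (m j : ℂ) = ∑ k : ZMod 7, (ZMod.stdAddChar (N := 7) : AddChar (ZMod 7) ℂ) (-(j * k)) * c k := hm
  have hc2 : ∀ k : ZMod 7, c (2 * k) = c k := by
    intro k
    obtain ⟨g, hg⟩ := isConj_iff.1 hx2
    have h1 : x ^ (2 * k : ZMod 7).val = g * x ^ k.val * g⁻¹ := by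
      rw [two_mul, pow_val_add hx, ← pow_add, ← two_mul, pow_mul, ← hg, conj_pow]
    change ρ.character (x ^ (2 * k : ZMod 7).val) = ρ.character (x ^ k.val)
    rw [h1, Representation.char_conj]
  have hm2 : ∀ j : ZMod 7, m (2 * j) = m j := by
    intro j
    have h1 : ((7 : ℕ) : ℂ) * (m (2 * j) : ℂ) = ((7 : ℕ) : ℂ) * (m j : ℂ) := by
      rw [hm', hm']
      let e : ZMod 7 ≃ ZMod 7 :=
        { toFun := fun k => 2 * k
          invFun := fun k => 4 * k
          left_inv := by decide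
          right_inv := by decide }
      refine Fintype.sum_equiv e _ _ (fun k => ?_)
      change _ = (ZMod.stdAddChar (N := 7) : AddChar (ZMod 7) ℂ) (-(j * (2 * k))) * c (2 * k)
      rw [hc2, show 2 * j * k = j * (2 * k) by ring]
    have h2 : (m (2 * j) : ℂ) = m j := mul_left_cancel₀ (by norm_num) h1
    exact_mod_cast h2
  have hs := sum_mult hm'
  have hp := parseval hm'
  have hc0 : c 0 = d := by
    change ρ.character (x ^ (0 : ZMod 7).val) = d
    rw [ZMod.val_zero, pow_zero, Representation.char_one]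
    simp only [_root_.Module.finrank_fintype_fun_eq_card, _root_.Fintype.card_fin]
  have e1 : m 2 = m 1 := hm2 1
  have e2 : m 4 = m 2 := hm2 2
  have e3 : m 6 = m 3 := hm2 3
  have e4 : m 5 = m 6 := hm2 6
  have hsum : ∀ f : ZMod 7 → ℝ, ∑ k, f k = f 0 + f 1 + f 2 + f 3 + f 4 + f 5 + f 6 := by
    intro f
    exact Fin.sum_univ_seven f
  have hsumC : ∀ f : ZMod 7 → ℂ, ∑ k, f k = f 0 + f 1 + f 2 + f 3 + f 4 + f 5 + f 6 := by
    intro f
    exact Fin.sum_univ_seven f
  rw [hc0, hsumC] at hs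
  have hsN : m 0 + 3 * m 1 + 3 * m 3 = d := by
    have : ((m 0 + m 1 + m 2 + m 3 + m 4 + m 5 + m 6 : ℕ) : ℂ) = d := by push_cast; exact hs
    have h1 : m 0 + m 1 + m 2 + m 3 + m 4 + m 5 + m 6 = d := by exact_mod_cast this
    omega
  have hP : 7 * (m 0 ^ 2 + 3 * m 1 ^ 2 + 3 * m 3 ^ 2) ≤ d ^ 2 + 42 := by
    rw [hsum, hsum] at hp
    have hc0' : ‖c 0‖ ^ 2 = (d : ℝ) ^ 2 := by rw [hc0, Complex.norm_natCast]
    have hk : ∀ k : ZMod 7, k ≠ 0 → ‖c k‖ ^ 2 ≤ 7 := hc
    have k1 := hk 1 (by decide)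
    have k2 := hk 2 (by decide)
    have k3 := hk 3 (by decide)
    have k4 := hk 4 (by decide)
    have k5 := hk 5 (by decide)
    have k6 := hk 6 (by decide)
    rw [hc0', e4, e3, e2, e1] at hp
    have : (7 : ℝ) * ((m 0 : ℝ) ^ 2 + 3 * (m 1 : ℝ) ^ 2 + 3 * (m 3 : ℝ) ^ 2) ≤ (d : ℝ) ^ 2 + 42 := by
      push_cast at hp
      linarith only [hp, k1, k2, k3, k4, k5, k6]
    exact_mod_cast this
  rw [← hm0]
  -- the small cases
  rcases Nat.lt_or_ge (m 1 + m 3) 2 with hlt | hge
  · exfalso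
    have h3 : (m 1 = 0 ∧ m 3 = 0) ∨ (m 1 = 1 ∧ m 3 = 0) ∨ (m 1 = 0 ∧ m 3 = 1) := by (clear * - hlt; omega)
    rcases h3 with ⟨h1, h2⟩ | ⟨h1, h2⟩ | ⟨h1, h2⟩
    · rw [h1, h2] at hP hsN
      have : m 0 = d := by omega
      rw [this] at hP
      nlinarith only [hd, hP]
    · rw [h1, h2] at hP hsN
      have : d = m 0 + 3 := by omega
      rw [this] at hP hd
      have h5 : 3 ≤ m 0 := by omega
      nlinarith only [hd, hP]
    · rw [h1, h2] at hP hsN
      have : d = m 0 + 3 := by omega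
      rw [this] at hP hd
      have h5 : 3 ≤ m 0 := by omega
      nlinarith only [hd, hP]
  · omega

end Cfsg.Agent.H309.U43
end

-- part: H309/U43/Seven
section
/-!
# S4979, row `U₄(3)`: the prime 7
-/

set_option autoImplicit false
set_option linter.style.haveILetI false

namespace Cfsg.Agent.H309.U43

open Subgroup Matrix Cfsg Cfsg.Agent.H80.Fpf Cfsg.Agent.H152.QA Cfsg.Agent.H245.QA
open Cfsg.Agent.LieClassical.HermSiegel Cfsg.Agent.LieClassical.SUBasic Cfsg.Agent.ClassicalGeometry.PSUAutBasic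

open scoped commutatorElement

variable {F : Type} [Field F] [Fintype F]

/-- a representation as a homomorphism to `GL` -/
noncomputable def toGL {G : Type} [Group G] {d : ℕ} (ρ : Representation ℂ G (Fin d → ℂ)) :
    G →* Matrix.GeneralLinearGroup (Fin d) ℂ :=
  (Units.map (LinearMap.toMatrixAlgEquiv' : ((Fin d → ℂ) →ₗ[ℂ] (Fin d → ℂ)) ≃ₐ[ℂ] Matrix (Fin d) (Fin d) ℂ).toMonoidHom).comp
    (MonoidHom.toHomUnits ρ)

theorem toGL_eq_one {G : Type} [Group G] {d : ℕ} {ρ : Representation ℂ G (Fin d → ℂ)} {g : G} (h : toGL ρ g = 1) :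
    ρ g = 1 := by
  have h1 : (LinearMap.toMatrixAlgEquiv' (ρ g) : Matrix (Fin d) (Fin d) ℂ) = 1 := congrArg Units.val h
  apply (LinearMap.toMatrixAlgEquiv' : ((Fin d → ℂ) →ₗ[ℂ] (Fin d → ℂ)) ≃ₐ[ℂ] Matrix (Fin d) (Fin d) ℂ).injective
  rw [h1, map_one]

theorem exists_ne_one {G : Type} [Group G] {d : ℕ} {ρ : Representation ℂ G (Fin d → ℂ)} (hρ : ρ.IsIrreducible)
    (hd : 2 ≤ d) : ∃ g, ρ g ≠ 1 := by
  by_contra hcon
  push Not at hcon
  have hd1 : d ≤ 1 := by
    have h1 : ∀ W : Submodule ℂ (Fin d → ℂ), W = ⊥ ∨ W = ⊤ := by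
      intro W
      rcases hρ.eq_bot_or_eq_top ⟨W, fun g v hv => by rw [hcon g]; exact hv⟩ with h | h
      · exact Or.inl (congrArg Subrepresentation.toSubmodule h)
      · exact Or.inr (congrArg Subrepresentation.toSubmodule h)
    by_contra hlt
    push Not at hlt
    have h2 : (Pi.single ⟨0, by omega⟩ 1 : Fin d → ℂ) ≠ 0 := by
      intro h
      have := congrFun h ⟨0, by omega⟩
      simp at this
    rcases h1 (Submodule.span ℂ {Pi.single ⟨0, by omega⟩ 1}) with h | h
    · rw [Submodule.span_singleton_eq_bot] at h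
      exact h2 h
    · have h3 := congrArg (fun W : Submodule ℂ (Fin d → ℂ) => Module.finrank ℂ W) h
      rw [finrank_span_singleton h2, finrank_top, Module.finrank_fin_fun] at h3
      omega
  omega

theorem minDeg_six (hF : Fintype.card F = 3 ^ 2) : MinDeg (PSU 4 F 3) 6 := by
  intro G _ _ π hπ d ρ hρ hd
  refine Cfsg.Agent.H193.Hall.ls_u43 hF G π hπ.surj hπ.central hπ.perf ℂ (by norm_num) d (toGL ρ) ?_
  intro h
  obtain ⟨g, hg⟩ := exists_ne_one hρ hd
  exact hg (toGL_eq_one (by rw [h]; rfl))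

/-- an element of order 7 is conjugate to its square -/
theorem isConj_sq_of {S : Type*} [Group S] [Finite S] {s : S} (hs : orderOf s = 7)
    (hN : Nat.card (normalizer ((zpowers s : Subgroup S) : Set S)) = 21)
    (hC : centralizer ((zpowers s : Subgroup S) : Set S) = zpowers s) : IsConj s (s ^ 2) := by
  classical
  haveI : Fact (Nat.Prime 3) := ⟨Nat.prime_three⟩
  have hs7 : s ^ 7 = 1 := by rw [← hs, pow_orderOf_eq_one]
  have hcard : Nat.card (zpowers s) = 7 := by rw [Nat.card_zpowers, hs]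
  obtain ⟨⟨y, hyN⟩, hy⟩ := exists_prime_orderOf_dvd_card' (G := normalizer ((zpowers s : Subgroup S) : Set S)) 3
    (by rw [hN]; norm_num)
  have hy3 : orderOf y = 3 := by rw [← hy, ← orderOf_coe]
  have hy3' : y ^ 3 = 1 := orderOf_dvd_iff_pow_eq_one.1 (by rw [hy3])
  have hmem : y * s * y⁻¹ ∈ zpowers s := (mem_normalizer_iff.1 hyN s).1 (mem_zpowers s)
  obtain ⟨k, hk7, hk⟩ : ∃ k < 7, s ^ k = y * s * y⁻¹ := by
    obtain ⟨k, hk, hk'⟩ := (isOfFinOrder_of_finite s).mem_zpowers_iff_mem_range_orderOf.1 hmem |> Finset.mem_image.1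
    rw [hs, Finset.mem_range] at hk
    exact ⟨k, hk, hk'⟩
  have hpow : ∀ j : ℕ, y * s ^ j * y⁻¹ = s ^ (k * j) := by
    intro j
    rw [← conj_pow, ← hk, ← pow_mul]
  have h3 : s ^ (k * (k * k)) = s := by
    rw [← hpow, ← hpow, hk]
    calc y * (y * (y * s * y⁻¹) * y⁻¹) * y⁻¹ = y ^ 3 * s * (y ^ 3)⁻¹ := by
          simp only [pow_succ, pow_zero, one_mul, _root_.mul_inv_rev, mul_assoc]
      _ = s := by rw [hy3', one_mul, inv_one, mul_one]
  have h4 : (k * (k * k)) % 7 = 1 % 7 := by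
    have h5 : s ^ (k * (k * k)) = s ^ 1 := by rw [h3, pow_one]
    rw [pow_inj_mod, hs] at h5
    exact h5
  have hk1 : k ≠ 1 := by
    rintro rfl
    rw [pow_one] at hk
    have h5 : y ∈ centralizer ((zpowers s : Subgroup S) : Set S) := by
      rw [mem_centralizer_iff]
      rintro _ ⟨j, rfl⟩
      have h6 : Commute s y := by
        change s * y = y * s
        conv_lhs => rw [hk]
        group
      exact (h6.zpow_left j).eq
    rw [hC] at h5
    have h6 := orderOf_dvd_natCard (zpowers s) h5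
    rw [hcard, hy3] at h6
    omega
  have h24 : k = 2 ∨ k = 4 := by
    interval_cases k <;> omega
  rcases h24 with rfl | rfl
  · exact isConj_iff.2 ⟨y, hk.symm⟩
  · refine isConj_iff.2 ⟨y * y, ?_⟩
    calc y * y * s * (y * y)⁻¹ = y * (y * s * y⁻¹) * y⁻¹ := by
          simp only [_root_.mul_inv_rev, mul_assoc]
      _ = s ^ (4 * 4) := by rw [← hk, hpow]
      _ = s ^ 2 := by rw [show 4 * 4 = 7 * 2 + 2 from rfl, pow_add, pow_mul, hs7, one_pow, one_mul]

theorem isConj_sq (hF : Fintype.card F = 3 ^ 2) {s : PSU 4 F 3} (hs : orderOf s = 7) : IsConj s (s ^ 2) := by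
  have h9 : Fintype.card F = 9 := by rw [hF]; norm_num
  haveI : Finite (PSU 4 F 3) := Quotient.finite _
  have hcard : Nat.card (zpowers s) = 7 := by rw [Nat.card_zpowers, hs]
  exact isConj_sq_of hs (Cfsg.Agent.H844.USeven.card_normalizer h9 (zpowers s) hcard)
    (Cfsg.Agent.H844.USeven.centralizer_eq h9 (zpowers s) hcard)

/-- the prime `q` is at least 11 -/
theorem eleven_le (hF : Fintype.card F = 3 ^ 2) {q : ℕ} (hq : q.Prime) (h : ¬ q ∣ Nat.card (PSU 4 F 3)) : 11 ≤ q := by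
  have hcard : Nat.card (PSU 4 F 3) = 3265920 := Cfsg.Agent.H844.USeven.card_psu (by rw [hF]; norm_num)
  rw [hcard] at h
  by_contra hlt
  push Not at hlt
  have h2 := hq.two_le
  interval_cases q
  all_goals first
    | exact h (by norm_num)
    | exact absurd hq (by norm_num)

/-- **The prime 7.** -/
theorem no_seven (hF : Fintype.card F = 3 ^ 2) {q : ℕ} {L V : Type} [Group L] [Finite L] [AddCommGroup V] [Finite V]
    [DistribMulAction L V] {π : L →* PSU 4 F 3} {N : Subgroup L} {φ : N →* ℂˣ} (hπ : IsCover π)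
    (h : Sit (V := V) 7 q N φ) : False := by
  classical
  have h9 : Fintype.card F = 9 := by rw [hF]; norm_num
  haveI : IsSimpleGroup (PSU 4 F 3) := Cfsg.Agent.S0283.result hF 4 (by norm_num) (by norm_num)
  haveI : Finite (PSU 4 F 3) := Quotient.finite _
  haveI : Fact (Nat.Prime 7) := ⟨by norm_num⟩
  haveI := h.nt
  have hcard : Nat.card (PSU 4 F 3) = 3265920 := Cfsg.Agent.H844.USeven.card_psu (by rw [hF]; norm_num)
  obtain ⟨s, hs⟩ := exists_prime_orderOf_dvd_card' (G := PSU 4 F 3) 7 (by rw [hcard]; norm_num)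
  have hs7 : s ^ 7 = 1 := by rw [← hs, pow_orderOf_eq_one]
  have hker : ∀ z : L, π z = 1 → z ^ 36 = 1 := by
    intro z hz
    obtain ⟨c, hc⟩ := multDvd hF L π hπ
    have h1 : (⟨z, hz⟩ : π.ker) ^ Nat.card π.ker = 1 := pow_card_eq_one'
    have h2 := congrArg Subtype.val h1
    rw [hc, pow_mul]
    change z ^ Nat.card π.ker = 1 at h2
    rw [h2, one_pow]
  obtain ⟨x, hx, hx7⟩ : ∃ x : L, π x = s ∧ x ^ 7 = 1 := by
    obtain ⟨x0, hx0⟩ := hπ.surj s
    refine ⟨x0 ^ 36, ?_, ?_⟩
    · rw [map_pow, hx0, pow_eq_pow_mod 36 hs7, show 36 % 7 = 1 from rfl, pow_one]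
    · rw [← pow_mul, mul_comm, pow_mul]
      exact hker _ (by rw [map_pow, hx0, hs7])
  have hx2 : IsConj x (x ^ 2) := by
    obtain ⟨y, hy⟩ := isConj_iff.1 (isConj_sq hF hs)
    obtain ⟨y', rfl⟩ := hπ.surj y
    refine isConj_iff.2 ⟨y', ?_⟩
    have h1 : π (y' * x * y'⁻¹ * (x ^ 2)⁻¹) = 1 := by
      rw [map_mul, map_mul, map_mul, map_inv, map_inv, map_pow, hx, hy, mul_inv_cancel]
    have hz := hπ.central h1
    set z := y' * x * y'⁻¹ * (x ^ 2)⁻¹ with hzdef
    have h2 : y' * x * y'⁻¹ = z * x ^ 2 := by rw [hzdef, inv_mul_cancel_right]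
    have h3 : Commute z (x ^ 2) := (mem_center_iff.1 hz (x ^ 2)).symm
    have h4 : (y' * x * y'⁻¹) ^ 7 = 1 := by rw [conj_pow, hx7, mul_one, mul_inv_cancel]
    rw [h2, h3.mul_pow, ← pow_mul, mul_comm 2 7, pow_mul, hx7, one_pow, mul_one] at h4
    have h5 : z = 1 := eq_one_of_coprime (by norm_num : Nat.Coprime 7 36) h4 (hker z h1)
    rw [h2, h5, one_mul]
  obtain ⟨d, d', τ, hd, hτ, hd2, hBd, hdd, hf⟩ := exists_irr_gen h.hq h.exp h.qL (Sit.fixV_top h) hπ (minDeg_six hF)
  obtain ⟨f, hf1, hf2, hf3⟩ := hf (zpowers x)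
  have hx1 : x ≠ 1 := by
    rintro rfl
    rw [map_one] at hx
    rw [← hx, orderOf_one] at hs
    omega
  have hxo : orderOf x = 7 := orderOf_eq_prime hx7 hx1
  have key := seven τ hx7 hx2 hBd (by
    intro k hk
    have h1 := norm_sq_le hπ τ hτ (x ^ k.val)
    have h2 : orderOf (s ^ k.val) = 7 := by
      refine orderOf_eq_prime (by rw [← pow_mul, mul_comm, pow_mul, hs7, one_pow]) ?_
      intro h3
      have h4 := orderOf_dvd_of_pow_eq_one h3
      rw [hs] at h4
      have h5 := ZMod.val_lt k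
      have h6 : k.val ≠ 0 := fun h => hk ((ZMod.val_eq_zero k).1 h)
      exact absurd (Nat.le_of_dvd (Nat.pos_of_ne_zero h6) h4) (by omega)
    have h3 : Nat.card (centralizer ({π (x ^ k.val)} : Set (PSU 4 F 3))) = 7 := by
      rw [map_pow, hx]
      have h4 := Cfsg.Agent.H844.USeven.centralizer_eq h9 (zpowers (s ^ k.val)) (by rw [Nat.card_zpowers, h2])
      have h5 : centralizer ({s ^ k.val} : Set (PSU 4 F 3)) = zpowers (s ^ k.val) := by
        refine Eq.trans ?_ h4
        ext y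
        rw [mem_centralizer_singleton_iff, mem_centralizer_iff]
        constructor
        · rintro hy _ ⟨j, rfl⟩
          exact ((show Commute (s ^ k.val) y from hy.symm).zpow_left j).eq
        · intro hy
          exact (hy _ (mem_zpowers _)).symm
      rw [h5, Nat.card_zpowers, h2]
    rw [h3] at h1
    exact_mod_cast h1)
  have hX : IsPGroup 7 (zpowers x) := by
    apply IsPGroup.of_card (n := 1)
    rw [Nat.card_zpowers, hxo, pow_one]
  have h1 := Cfsg.Agent.H245.QA.card_le h.hp h.P1 (zpowers x) hX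
  rw [Cfsg.Agent.H245.QA.index_normalizer hπ.surj hπ.central h.hp
    (fun hd => h.pZ (hd.trans (Subgroup.card_dvd_of_le hπ.central))) (zpowers x) hX, hd, hf1] at h1
  have h2 : (zpowers x).map π = zpowers s := by rw [MonoidHom.map_zpowers, hx]
  have h3 : (normalizer (((zpowers x).map π : Subgroup (PSU 4 F 3)) : Set (PSU 4 F 3))).index = 155520 := by
    rw [h2]
    have h4 := Subgroup.card_mul_index (normalizer ((zpowers s : Subgroup (PSU 4 F 3)) : Set (PSU 4 F 3)))
    rw [Cfsg.Agent.H844.USeven.card_normalizer h9 (zpowers s) (by rw [Nat.card_zpowers, hs]), hcard] at h4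
    omega
  rw [h3] at h1
  have h4 : q ^ (d - f) ≤ 155520 := by
    have h5 : q ^ d = q ^ (d - f) * q ^ f := by rw [← pow_add]; congr 1; omega
    rw [h5] at h1
    exact Nat.le_of_mul_le_mul_right h1 (Nat.pow_pos h.hq.pos)
  have hq11 : 11 ≤ q := by
    apply eleven_le hF h.hq
    intro h5
    apply h.qL
    rw [card_of_surj π hπ.surj]
    exact h5.mul_left _
  have h6 : 11 ^ 6 ≤ q ^ (d - f) :=
    (Nat.pow_le_pow_left hq11 6).trans (Nat.pow_le_pow_right h.hq.pos (by omega))
  have h7 : 11 ^ 6 ≤ 155520 := h6.trans h4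
  norm_num at h7

end Cfsg.Agent.H309.U43
end

-- part: H309/U43/Row
section
/-!
# S4979, row `U₄(3)`: the prime 3 and the row
-/

set_option autoImplicit false
set_option linter.style.haveILetI false

namespace Cfsg.Agent.H309.U43

open Subgroup Matrix Cfsg Cfsg.Agent.H80.Fpf Cfsg.Agent.H152.QA Cfsg.Agent.H245.QA
open Cfsg.Agent.LieClassical.HermSiegel Cfsg.Agent.LieClassical.SUBasic Cfsg.Agent.ClassicalGeometry.PSUAutBasic

variable {F : Type} [Field F] [Fintype F]

/-- five Sylow 3-subgroups generate, if the order of the group is `3265920` and proper subgroups have index `≥ 27` -/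
theorem exists_five {S : Type} [Group S] [Finite S] [IsSimpleGroup S] (hc : Nat.card S = 3265920)
    (hD : ∀ H : Subgroup S, H ≠ ⊤ → 27 ≤ H.index) :
    ∃ l : List (Sylow 3 S), l.length ≤ 5 ∧ Cfsg.Agent.H306.QA.sups l ⊥ = ⊤ := by
  haveI : Fact (Nat.Prime 3) := ⟨Nat.prime_three⟩
  obtain ⟨P₀⟩ : Nonempty (Sylow 3 S) := inferInstance
  have hP₀ : Nat.card P₀ = 729 := by
    have h1 := P₀.card_eq_multiplicity
    rw [hc, show 3265920 = 3 ^ 6 * 4480 by norm_num, Nat.factorization_mul (by norm_num) (by norm_num),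
      Nat.factorization_pow, Finsupp.add_apply, Finsupp.smul_apply, Nat.Prime.factorization_self Nat.prime_three,
      Nat.factorization_eq_zero_of_not_dvd (by norm_num : ¬ 3 ∣ 4480)] at h1
    rw [h1]; norm_num
  have key : ∀ k : ℕ, ∃ l : List (Sylow 3 S), l.length ≤ k + 1 ∧
      (P₀ : Subgroup S) ≤ Cfsg.Agent.H306.QA.sups l ⊥ ∧
      (Cfsg.Agent.H306.QA.sups l ⊥ = ⊤ ∨ 4 ^ k * 729 ≤ Nat.card (Cfsg.Agent.H306.QA.sups l ⊥ : Subgroup S)) := by
    intro k
    induction k with
    | zero =>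
      refine ⟨[P₀], le_rfl, ?_, Or.inr ?_⟩
      · change (P₀ : Subgroup S) ≤ (P₀ : Subgroup S) ⊔ ⊥
        exact le_sup_left
      · change 4 ^ 0 * 729 ≤ Nat.card ((P₀ : Subgroup S) ⊔ ⊥ : Subgroup S)
        rw [sup_bot_eq, pow_zero, one_mul]
        exact hP₀.ge
    | succ k ih =>
      obtain ⟨l, hl, hP, h⟩ := ih
      by_cases ht : Cfsg.Agent.H306.QA.sups l ⊥ = ⊤
      · exact ⟨l, by omega, hP, Or.inl ht⟩
      · have h1 := h.resolve_left ht
        obtain ⟨P, hPn⟩ : ∃ P : Sylow 3 S, ¬ (P : Subgroup S) ≤ Cfsg.Agent.H306.QA.sups l ⊥ := by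
          by_contra hcon
          push Not at hcon
          exact ht (Cfsg.Agent.H306.QA.eq_top_of_sylow Nat.prime_three (by rw [hc]; norm_num) _ hcon)
        have h2 := Cfsg.Agent.H306.QA.le_card_sup Nat.prime_three hP hPn
        refine ⟨P :: l, by simpa only [_root_.List.length_cons, _root_.add_le_add_iff_right] using hl, ?_, Or.inr ?_⟩
        · change (P₀ : Subgroup S) ≤ (P : Subgroup S) ⊔ Cfsg.Agent.H306.QA.sups l ⊥
          exact hP.trans le_sup_right
        · change 4 ^ (k + 1) * 729 ≤ Nat.card ((P : Subgroup S) ⊔ Cfsg.Agent.H306.QA.sups l ⊥ : Subgroup S)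
          refine le_trans ?_ h2
          rw [pow_succ]
          calc 4 ^ k * 4 * 729 = (3 + 1) * (4 ^ k * 729) := by ring
            _ ≤ _ := Nat.mul_le_mul_left _ h1
  obtain ⟨l, hl, -, h⟩ := key 4
  refine ⟨l, hl, ?_⟩
  rcases h with h | h
  · exact h
  by_contra hne
  have h1 := hD _ hne
  have h2 := Subgroup.card_mul_index (Cfsg.Agent.H306.QA.sups l ⊥ : Subgroup S)
  rw [hc] at h2
  have h3 : 4 ^ 4 * 729 * 27 ≤ 3265920 := by
    rw [← h2]; exact Nat.mul_le_mul h h1
  norm_num at h3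

/-- **The prime 3.** -/
theorem no_three (hF : Fintype.card F = 3 ^ 2) {q : ℕ} {L V : Type} [Group L] [Finite L] [AddCommGroup V] [Finite V]
    [DistribMulAction L V] {π : L →* PSU 4 F 3} {N : Subgroup L} {φ : N →* ℂˣ} (hπ : IsCover π)
    (h : Sit (V := V) 3 q N φ) : False := by
  classical
  have h9 : Fintype.card F = 9 := by rw [hF]; norm_num
  haveI : IsSimpleGroup (PSU 4 F 3) := Cfsg.Agent.S0283.result hF 4 (by norm_num) (by norm_num)
  haveI : Finite (PSU 4 F 3) := Quotient.finite _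
  haveI : Fact (Nat.Prime 3) := ⟨Nat.prime_three⟩
  haveI : CharP F 3 := Cfsg.Agent.H454.PsuThree.charP_three hF
  haveI := h.nt
  have hcard : Nat.card (PSU 4 F 3) = 3265920 := Cfsg.Agent.H844.USeven.card_psu h9
  -- the degree is at least 18
  obtain ⟨d, d', τ, hd, hτ, hd2, hBd, hdd, -⟩ := exists_irr_gen h.hq h.exp h.qL
    (Cfsg.Agent.H245.QA.Sit.fixV_top h) hπ (minDeg_six hF)
  have h18 : 18 ≤ d' := by
    have h1 := Cfsg.Agent.H175.BdSU.bd_psu (F := ℂ) Nat.prime_three hF (n := 4) (by norm_num) (by norm_num)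
      (MulEquiv.refl (PSU 4 F 3))
    refine h1 d' ⟨L, inferInstance, π, toGL τ, hπ.surj, ?_, ?_, ?_⟩
    · intro x hx y
      exact (mem_center_iff.1 (hπ.central (MonoidHom.mem_ker.2 hx)) y).symm
    · rw [Nat.coprime_comm]
      exact (Nat.Prime.coprime_iff_not_dvd Nat.prime_three).2
        (fun hd => h.pZ (hd.trans (Subgroup.card_dvd_of_le hπ.central)))
    · intro x hx
      have h2 : τ x = 1 := toGL_eq_one (MonoidHom.mem_ker.1 hx)
      exact ker_le_of_simple hπ τ (exists_ne_one hτ hd2) (MonoidHom.mem_ker.2 h2)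
  -- the upper bound
  obtain ⟨l, hl5, hl⟩ := exists_five hcard (fun H hH => by
    have h1 := Cfsg.Agent.H934.IdxPSU.pow_le_index hF (n := 4) (by norm_num) (MulEquiv.refl (PSU 4 F 3)) H hH
    exact h1)
  have h2 := Cfsg.Agent.H306.QA.card_le_of_list h hπ l hl
  have hn : Nat.card (Sylow 3 (PSU 4 F 3)) ≤ 4480 := by
    obtain ⟨P₀⟩ : Nonempty (Sylow 3 (PSU 4 F 3)) := inferInstance
    have hP₀ : Nat.card P₀ = 729 := by
      have h1 := P₀.card_eq_multiplicity
      rw [hcard, show 3265920 = 3 ^ 6 * 4480 by norm_num, Nat.factorization_mul (by norm_num) (by norm_num),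
        Nat.factorization_pow, Finsupp.add_apply, Finsupp.smul_apply, Nat.Prime.factorization_self Nat.prime_three,
        Nat.factorization_eq_zero_of_not_dvd (by norm_num : ¬ 3 ∣ 4480)] at h1
      rw [h1]; norm_num
    have h3 := (Subgroup.card_mul_index (P₀ : Subgroup (PSU 4 F 3)) :)
    rw [hcard] at h3
    have h4 : Nat.card P₀ * (P₀ : Subgroup (PSU 4 F 3)).index = 3265920 := h3
    rw [hP₀] at h4
    have h5 : (P₀ : Subgroup (PSU 4 F 3)).index = 4480 := by omega
    have h6 := P₀.card_dvd_index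
    rw [h5] at h6
    exact Nat.le_of_dvd (by norm_num) h6
  have hq11 : 11 ≤ q := by
    apply eleven_le hF h.hq
    intro h5
    apply h.qL
    rw [card_of_surj π hπ.surj]
    exact h5.mul_left _
  have h3 : Nat.card V ≤ 4480 ^ 5 := by
    refine h2.trans ((Nat.pow_le_pow_left hn _).trans (Nat.pow_le_pow_right (by norm_num) hl5))
  have h4 : 11 ^ 18 ≤ Nat.card V := by
    rw [hd]
    exact (Nat.pow_le_pow_left hq11 18).trans (Nat.pow_le_pow_right h.hq.pos (by omega))
  have h5 : 11 ^ 18 ≤ 4480 ^ 5 := h4.trans h3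
  norm_num at h5

/-- **The row `U₄(3)`.** -/
theorem row_u43 (hF : Fintype.card F = 3 ^ 2) : NoSit (PSU 4 F 3) := by
  intro p q L V _ _ _ _ _ π N φ hπ h
  haveI : IsSimpleGroup (PSU 4 F 3) := Cfsg.Agent.S0283.result hF 4 (by norm_num) (by norm_num)
  haveI : Finite (PSU 4 F 3) := Quotient.finite _
  have hcard : Nat.card (PSU 4 F 3) = 3265920 := Cfsg.Agent.H844.USeven.card_psu (by rw [hF]; norm_num)
  have hp : p ∣ 3265920 := by
    rw [← hcard]
    have h1 := h.pL
    rw [card_of_surj π hπ.surj] at h1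
    exact (h.hp.dvd_mul.1 h1).resolve_left (fun hd => h.pZ (hd.trans (Subgroup.card_dvd_of_le hπ.central)))
  have hp' : p ∣ 2 ^ 7 * 3 ^ 6 * 5 * 7 := by norm_num; exact hp
  have hcases : p = 3 ∨ p = 5 ∨ p = 7 := by
    rcases h.hp.dvd_mul.1 hp' with h1 | h1
    · rcases h.hp.dvd_mul.1 h1 with h2 | h2
      · rcases h.hp.dvd_mul.1 h2 with h3 | h3
        · exact absurd ((Nat.prime_dvd_prime_iff_eq h.hp Nat.prime_two).1 (h.hp.dvd_of_dvd_pow h3)) h.odd
        · exact Or.inl ((Nat.prime_dvd_prime_iff_eq h.hp Nat.prime_three).1 (h.hp.dvd_of_dvd_pow h3))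
      · exact Or.inr (Or.inl ((Nat.prime_dvd_prime_iff_eq h.hp Nat.prime_five).1 h2))
    · exact Or.inr (Or.inr ((Nat.prime_dvd_prime_iff_eq h.hp (by norm_num)).1 h1))
  rcases hcases with rfl | rfl | rfl
  · exact no_three hF hπ h
  · exact no_five hF hπ h
  · exact no_seven hF hπ h

end Cfsg.Agent.H309.U43
end

-- part: H87/QA/Sub
section
/-!
# S4979 layer (A): the CH criterion for a subgroup (helper87)

* `card_cent_lin` : centralizers of elements of prime order in linear groups of dimension `e` or `e + 1`;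
* `ch_part` : characters of a group `K` acting on `V`, possibly with fixed points;
* `ch_sub` : the CH criterion for a subgroup `K ≤ L` which is a cover of `T`.
-/

set_option autoImplicit false
set_option linter.unusedSectionVars false

namespace Cfsg.Agent.H87.QA

section Lin

open Module Cfsg.Agent.H518.DghpFix Cfsg.Agent.H489.AS

universe u v w

variable {F : Type u} [Field F] [Fintype F] {V : Type v} [AddCommGroup V] [Module F V] [FiniteDimensional F V]
  {G : Type w} [Group G] [Finite G]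

/-- **Centralizers in linear groups.** -/
theorem card_cent_lin (φ : G →* (V →ₗ[F] V)) (hφ : Function.Injective φ) {p : ℕ} (hp : p.Prime)
    (hpF : ¬ p ∣ Fintype.card F) (h2e : finrank F V < 2 * orderOf ((Fintype.card F : ℕ) : ZMod p))
    (h1e : finrank F V ≤ orderOf ((Fintype.card F : ℕ) : ZMod p) + 1) {z : G} (hz : orderOf z = p) :
    Nat.card (Subgroup.centralizer ({z} : Set G)) ≤ Fintype.card F ^ finrank F V := by
  classical
  have : Finite V := Module.finite_of_finite F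
  have hf : φ z ^ p = 1 := by rw [← map_pow, ← hz, pow_orderOf_eq_one, map_one]
  have hf1 : φ z ≠ 1 := by
    intro h
    have h1 : z = 1 := hφ (by rw [h, map_one])
    rw [h1, orderOf_one] at hz
    exact hp.one_lt.ne hz
  obtain ⟨hr1, hr2, hr3⟩ := range_facts hp hpF hf hf1 h2e
  set R := LinearMap.range (φ z - 1) with hR
  set e := orderOf ((Fintype.card F : ℕ) : ZMod p) with he
  have he0 : 0 < e := by omega
  have hRinv : ∀ w ∈ R, φ z w ∈ R := by
    rintro _ ⟨v, rfl⟩
    exact ⟨φ z v, by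
      rw [LinearMap.sub_apply, Module.End.one_apply, LinearMap.sub_apply, Module.End.one_apply, map_sub]⟩
  -- the fixed space has dimension at most one
  have hfix : finrank F (fixS (φ z)) ≤ 1 := by
    have h3 := Submodule.finrank_sup_add_finrank_inf_eq R (fixS (φ z))
    rw [hr2, hr3, finrank_bot, finrank_top, hr1] at h3
    omega
  obtain ⟨w0, hw0, hspan⟩ : ∃ w0 ∈ fixS (φ z), ∀ w ∈ fixS (φ z), ∃ c : F, c • w0 = w := by
    obtain ⟨v, hv⟩ := finrank_le_one_iff.1 hfix
    refine ⟨v, v.2, fun w hw => ?_⟩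
    obtain ⟨c, hc⟩ := hv ⟨w, hw⟩
    exact ⟨c, congrArg Subtype.val hc⟩
  obtain ⟨r0, hr0, hr0'⟩ : ∃ r0 ∈ R, r0 ≠ 0 := by
    apply (Submodule.ne_bot_iff R).1
    intro h
    rw [h, finrank_bot] at hr1
    omega
  -- the centralizer acts semiregularly on `r0 + w0`
  have hfixp : φ z w0 = w0 := hw0
  have key : ∀ k : G, k * z = z * k → φ k (r0 + w0) = r0 + w0 → k = 1 := by
    intro k hk hkv
    let W : Submodule F V := fixS (φ k)
    have hWinv : ∀ w ∈ W, φ z w ∈ W := by
      intro w hw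
      change φ k (φ z w) = φ z w
      have hw' : φ k w = w := hw
      rw [← Module.End.mul_apply, ← map_mul, hk, map_mul, Module.End.mul_apply, hw']
    have hv : r0 + w0 ∈ W := hkv
    have hW1 : φ z r0 - r0 ∈ W := by
      have h3 : φ z r0 - r0 = φ z (r0 + w0) - (r0 + w0) := by
        rw [map_add, hfixp]
        abel
      rw [h3]
      exact W.sub_mem (hWinv _ hv) hv
    have hR1 : φ z r0 - r0 ∈ R := R.sub_mem (hRinv _ hr0) hr0
    have hne : φ z r0 - r0 ≠ 0 := by
      intro h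
      apply hr0'
      have h3 : r0 ∈ R ⊓ fixS (φ z) := ⟨hr0, sub_eq_zero.1 h⟩
      rwa [hr2, Submodule.mem_bot] at h3
    have h3 := finrank_fix (f := φ z) (k := 1) hp hpF (by rwa [pow_one]) (W ⊓ R)
      (fun w hw => ⟨hWinv w hw.1, hRinv w hw.2⟩)
    have h4 : W ⊓ R ⊓ fixS (φ z) = ⊥ := by
      rw [inf_assoc, hr2, inf_bot_eq]
    rw [h4, finrank_bot, Nat.sub_zero] at h3
    have h5 : 0 < finrank F ↥(W ⊓ R) := by
      rw [Module.finrank_pos_iff_exists_ne_zero]
      exact ⟨⟨_, hW1, hR1⟩, fun h => hne (congrArg Subtype.val h)⟩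
    have h6 : W ⊓ R = R := by
      apply Submodule.eq_of_le_of_finrank_le inf_le_right
      rw [hr1]
      exact Nat.le_of_dvd h5 h3
    have h7 : R ≤ W := inf_eq_right.1 h6
    have h8 : w0 ∈ W := by
      have := W.sub_mem hv (h7 hr0)
      rwa [add_sub_cancel_left] at this
    have h9 : fixS (φ z) ≤ W := by
      intro w hw
      obtain ⟨c, rfl⟩ := hspan w hw
      exact W.smul_mem c h8
    have h10 : W = ⊤ := by
      rw [eq_top_iff, ← hr3]
      exact sup_le h7 h9
    apply hφ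
    rw [map_one]
    exact fixS_eq_top_iff.1 h10
  have h3 : Function.Injective (fun g : Subgroup.centralizer ({z} : Set G) => φ (g : G) (r0 + w0)) := by
    intro a b hab
    have ha := Subgroup.mem_centralizer_singleton_iff.1 a.2
    have hb := Subgroup.mem_centralizer_singleton_iff.1 b.2
    have hab' : φ (a : G) (r0 + w0) = φ (b : G) (r0 + w0) := hab
    have h4 : ((b : G)⁻¹ * a : G) = 1 := by
      apply key
      · rw [mul_assoc, ha, ← mul_assoc, ← mul_assoc]
        congr 1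
        exact ((Commute.inv_left (show Commute (b : G) z from hb))).eq
      · rw [map_mul, Module.End.mul_apply, hab', ← Module.End.mul_apply, ← map_mul, inv_mul_cancel, map_one,
          Module.End.one_apply]
    exact Subtype.ext (inv_mul_eq_one.1 h4).symm
  calc Nat.card (Subgroup.centralizer ({z} : Set G)) ≤ Nat.card V := Nat.card_le_card_of_injective _ h3
    _ = _ := by rw [Module.natCard_eq_pow_finrank (K := F) (V := V), Nat.card_eq_fintype_card]

end Lin

section Part

open Cfsg.Agent.H152.QA Cfsg.Agent.H245.QA Cfsg.Agent.H80.Fpf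

variable {K V T : Type} [Group K] [Finite K] [AddCommGroup V] [Finite V] [DistribMulAction K V] [Group T] [Finite T]

theorem smul_mem_top (k : K) {v : V} (hv : v ∈ fixV K V ⊤) : k • v ∈ fixV K V ⊤ := by
  rw [hv k trivial]
  exact hv

/-- the action on `V / C_V(K)` -/
@[reducible] def quotAct : DistribMulAction K (V ⧸ fixV K V ⊤) where
  smul k x := QuotientAddGroup.map (fixV K V ⊤) (fixV K V ⊤) (DistribSMul.toAddMonoidHom V k)
    (fun _ hv => smul_mem_top k hv) x
  one_smul x := by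
    obtain ⟨v, rfl⟩ := QuotientAddGroup.mk_surjective x
    exact congrArg _ (one_smul K v)
  mul_smul a b x := by
    obtain ⟨v, rfl⟩ := QuotientAddGroup.mk_surjective x
    exact congrArg _ (mul_smul a b v)
  smul_zero k := map_zero _
  smul_add k x y := map_add _ x y

/-- **Characters of `K` on `V`.** -/
theorem ch_part {κ : K →* T} (hκ : IsCover κ) {q : ℕ} (hq : q.Prime) (hexp : ∀ v : V, q • v = 0)
    (hcop : ¬ q ∣ Nat.card K) (hne : ∃ (k : K) (v : V), k • v ≠ v) {B c : ℕ} (hB : MinDeg T B) (X : Subgroup K)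
    (hc : ∀ x ∈ X, x ≠ 1 → Nat.card (Subgroup.centralizer ({κ x} : Set T)) ≤ c ^ 2) :
    q ^ ((Nat.card X - 1) * (B - c)) * Nat.card (fixV K V X) ^ Nat.card X ≤ Nat.card V ^ Nat.card X := by
  classical
  have : Fintype K := Fintype.ofFinite K
  let _ : DistribMulAction K (V ⧸ fixV K V ⊤) := quotAct
  have hsm : ∀ (k : K) (v : V), k • (QuotientAddGroup.mk v : V ⧸ fixV K V ⊤) = QuotientAddGroup.mk (k • v) :=
    fun k v => rfl
  have hnt : Nontrivial (V ⧸ fixV K V ⊤) := by
    obtain ⟨k, v, hkv⟩ := hne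
    refine ⟨QuotientAddGroup.mk v, 0, fun h => hkv ?_⟩
    exact ((QuotientAddGroup.eq_zero_iff v).1 h) k trivial
  have hfix : fixV K (V ⧸ fixV K V ⊤) ⊤ = ⊥ := by
    rw [eq_bot_iff]
    intro x hx
    obtain ⟨v, rfl⟩ := QuotientAddGroup.mk_surjective x
    rw [AddSubgroup.mem_bot, QuotientAddGroup.eq_zero_iff]
    -- `∑ k v` is fixed and congruent to `|K| v`
    have h1 : ∀ k : K, k • v - v ∈ fixV K V ⊤ := by
      intro k
      have h2 := hx k trivial
      rw [hsm] at h2
      have h3 := QuotientAddGroup.eq.1 h2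
      have h4 := (fixV K V ⊤).neg_mem h3
      rw [neg_add_rev, neg_neg, add_comm, ← sub_eq_add_neg] at h4
      exact h4
    have h2 : ∑ k : K, k • v ∈ fixV K V ⊤ := by
      intro g _
      rw [Finset.smul_sum]
      refine Fintype.sum_equiv (Equiv.mulLeft g) _ _ fun k => ?_
      rw [smul_smul]
      rfl
    have h3 : (Fintype.card K) • v ∈ fixV K V ⊤ := by
      have h4 : (Fintype.card K) • v = ∑ k : K, k • v - ∑ k : K, (k • v - v) := by
        rw [Finset.sum_sub_distrib, sub_sub_cancel, Finset.sum_const, Finset.card_univ]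
      rw [h4]
      exact (fixV K V ⊤).sub_mem h2 (AddSubgroup.sum_mem _ fun k _ => h1 k)
    have hcop' : Nat.Coprime (Fintype.card K) q := by
      rw [Nat.coprime_comm, hq.coprime_iff_not_dvd, ← Nat.card_eq_fintype_card]
      exact hcop
    have h5 := Nat.gcd_eq_gcd_ab (Fintype.card K) q
    rw [hcop'.gcd_eq_one] at h5
    have h6 : v = (Nat.gcdA (Fintype.card K) q) • ((Fintype.card K) • v) := by
      calc v = (((1 : ℕ) : ℤ)) • v := by rw [Nat.cast_one, one_smul]
        _ = ((Fintype.card K : ℤ) * Nat.gcdA (Fintype.card K) q + q * Nat.gcdB (Fintype.card K) q) • v := by rw [h5]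
        _ = (Nat.gcdA (Fintype.card K) q * (Fintype.card K : ℤ)) • v + (Nat.gcdB (Fintype.card K) q * (q : ℤ)) • v := by
          rw [add_smul, mul_comm, mul_comm (q : ℤ)]
        _ = _ := by
          rw [mul_smul, mul_smul, natCast_zsmul, natCast_zsmul, hexp, smul_zero, add_zero]
    rw [h6]
    exact (fixV K V ⊤).zsmul_mem h3 _
  have hexp' : ∀ x : V ⧸ fixV K V ⊤, q • x = 0 := by
    intro x
    obtain ⟨v, rfl⟩ := QuotientAddGroup.mk_surjective x
    rw [← QuotientAddGroup.mk_nsmul, hexp]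
    rfl
  obtain ⟨d, d', τ, hd, hτ, hd2, hBd, hdd, hf⟩ := exists_irr_gen (V := V ⧸ fixV K V ⊤) hq hexp' hcop hfix hκ hB
  obtain ⟨f, hf1, hf2, hf3⟩ := hf X
  have hV : Nat.card V = q ^ d * Nat.card (fixV K V ⊤) := by
    rw [← hd]
    exact AddSubgroup.card_eq_card_quotient_mul_card_addSubgroup (fixV K V ⊤)
  -- fixed points of `X`
  have hX : Nat.card (fixV K V X) ≤ q ^ f * Nat.card (fixV K V ⊤) := by
    have h1 : fixV K V ⊤ ≤ fixV K V X := fixV_mono le_top
    have h2 : Nat.card (fixV K V X) = Nat.card ((fixV K V X) ⧸ ((fixV K V ⊤).addSubgroupOf (fixV K V X))) *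
        Nat.card ((fixV K V ⊤).addSubgroupOf (fixV K V X)) := AddSubgroup.card_eq_card_quotient_mul_card_addSubgroup _
    have h3 : Nat.card ((fixV K V ⊤).addSubgroupOf (fixV K V X)) = Nat.card (fixV K V ⊤) :=
      Nat.card_congr (AddSubgroup.addSubgroupOfEquivOfLe h1).toEquiv
    rw [h2, h3]
    refine Nat.mul_le_mul_right _ ?_
    rw [← hf1]
    let θ : (fixV K V X) →+ (V ⧸ fixV K V ⊤) := (QuotientAddGroup.mk' (fixV K V ⊤)).comp (fixV K V X).subtype
    have hker : θ.ker = (fixV K V ⊤).addSubgroupOf (fixV K V X) := by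
      ext x
      rw [AddMonoidHom.mem_ker, AddSubgroup.mem_addSubgroupOf]
      exact QuotientAddGroup.eq_zero_iff (x : V)
    have h4 : Nat.card ((fixV K V X) ⧸ ((fixV K V ⊤).addSubgroupOf (fixV K V X))) = Nat.card θ.range := by
      rw [← hker]
      exact Nat.card_congr (QuotientAddGroup.quotientKerEquivRange θ).toEquiv
    rw [h4]
    refine Nat.card_mono (Set.toFinite _) ?_
    rintro _ ⟨x, rfl⟩ g hg
    have h5 : g • (x : V) = x := x.2 g hg
    change g • (QuotientAddGroup.mk (x : V) : V ⧸ fixV K V ⊤) = QuotientAddGroup.mk (x : V)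
    rw [hsm, h5]
  have h4 : Nat.card X * Module.finrank ℂ (fixR τ X) ≤ d' + (Nat.card X - 1) * c := by
    apply card_mul_fix_le
    intro y hy hy1
    have h5 := norm_sq_le hκ τ hτ y
    have h7 : ‖τ.character y‖ ^ 2 ≤ (c : ℝ) ^ 2 := h5.trans (by exact_mod_cast hc y hy hy1)
    exact (sq_le_sq₀ (norm_nonneg _) (Nat.cast_nonneg c)).1 h7
  have h5 : (Nat.card X - 1) * (B - c) ≤ Nat.card X * (d - f) := by
    have hX1 : 1 ≤ Nat.card X := Nat.card_pos
    obtain ⟨m, hm⟩ : ∃ m, Nat.card X = m + 1 := ⟨Nat.card X - 1, by omega⟩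
    rw [hm] at h4 ⊢
    rw [Nat.add_sub_cancel] at h4 ⊢
    rcases Nat.le_total B c with hBc | hBc
    · rw [Nat.sub_eq_zero_of_le hBc, mul_zero]; exact Nat.zero_le _
    set a := Module.finrank ℂ (fixR τ X) with ha
    obtain ⟨e, he⟩ : ∃ e, B = c + e := ⟨B - c, by omega⟩
    obtain ⟨k, hk⟩ : ∃ k, d = f + k := ⟨d - f, by omega⟩
    have h8 : B - c = e := by omega
    have h9 : d - f = k := by omega
    rw [h8, h9]
    have h10 : d' ≤ k + a := by omega
    have h11 : (m + 1) * d' ≤ (m + 1) * (k + a) := Nat.mul_le_mul_left _ h10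
    have h12 : m * (c + e) ≤ m * d' := Nat.mul_le_mul_left _ (by omega)
    linarith only [h4, h11, h12]
  calc q ^ ((Nat.card X - 1) * (B - c)) * Nat.card (fixV K V X) ^ Nat.card X
      ≤ q ^ (Nat.card X * (d - f)) * (q ^ f * Nat.card (fixV K V ⊤)) ^ Nat.card X :=
        Nat.mul_le_mul (Nat.pow_le_pow_right hq.pos h5) (Nat.pow_le_pow_left hX _)
    _ = Nat.card V ^ Nat.card X := by
      rw [mul_comm (Nat.card X), pow_mul, ← mul_pow, ← mul_assoc, ← pow_add, hV]
      congr 3
      omega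

end Part

section Sub

open Cfsg.Agent.H152.QA Cfsg.Agent.H245.QA Cfsg.Agent.H80.Fpf

variable {p q : ℕ} {L V S T : Type} [Group L] [Finite L] [AddCommGroup V] [Finite V] [DistribMulAction L V]
  [Group S] [Finite S] [IsSimpleGroup S] {π : L →* S} {N : Subgroup L} {φ : N →* ℂˣ} [Group T] [Finite T]

/-- **The CH criterion for a subgroup** `K ≤ L` which is a cover of `T`. -/
theorem ch_sub (h : Sit (V := V) p q N φ) (hπ : IsCover π) (K : Subgroup L) {κ : K →* T} (hκ : IsCover κ)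
    (hne : ∃ (k : K) (v : V), k • v ≠ v) {B c : ℕ} (hB : MinDeg T B) (X : Subgroup K) (hX : IsPGroup p X)
    (hc : ∀ x ∈ X, x ≠ 1 → Nat.card (Subgroup.centralizer ({κ x} : Set T)) ≤ c ^ 2) :
    q ^ ((Nat.card X - 1) * (B - c)) ≤
      (Subgroup.normalizer (((X.map K.subtype).map π : Subgroup S) : Set S)).index ^ Nat.card X := by
  have hX' : IsPGroup p (X.map K.subtype) := hX.map _
  have h1 := Cfsg.Agent.H724.QA.Sit.card_le h (X.map K.subtype) hX'
  rw [Cfsg.Agent.H724.QA.Sit.index_normalizer h hπ (X.map K.subtype) hX'] at h1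
  have hcop : ¬ q ∣ Nat.card K := fun hd => h.qL (hd.trans (Subgroup.card_subgroup_dvd_card K))
  have h2 := ch_part hκ h.hq h.exp hcop hne hB X hc
  have h3 : Nat.card (fixV L V (X.map K.subtype)) = Nat.card (fixV K V X) := by
    refine Nat.card_congr (Equiv.subtypeEquivRight fun v => ?_)
    constructor
    · intro hv g hg
      exact hv g ⟨g, hg, rfl⟩
    · rintro hv _ ⟨g, hg, rfl⟩
      exact hv g hg
  rw [h3] at h1
  have h4 := h2.trans (Nat.pow_le_pow_left h1 _)
  rw [mul_pow] at h4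
  exact Nat.le_of_mul_le_mul_right h4 (Nat.pow_pos Nat.card_pos)

/-- **Subgroups of a cover over a section** `S ≥ f(A)`, `g : A → T` a cover, `ker f ≤ ker g`. -/
theorem exists_sub_cover {G : Type} [Group G] {S : Type} [Group S] {π : G →* S} (hπ : IsCover π) {A T : Type}
    [Group A] [Group T] (f : A →* S) {g : A →* T} (hg : IsCover g) (hfg : f.ker ≤ g.ker) :
    ∃ (K : Subgroup G) (κ : K →* T), IsCover κ ∧ ∀ x : K, ∃ a : A, f a = π x ∧ g a = κ x := by
  have hH : commutator f.range = ⊤ := by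
    have h1 := congrArg (Subgroup.map f.rangeRestrict) hg.perf
    rw [Subgroup.map_top_of_surjective _ f.rangeRestrict_surjective, commutator_def, Subgroup.map_commutator,
      Subgroup.map_top_of_surjective _ f.rangeRestrict_surjective] at h1
    exact h1
  obtain ⟨K, κ0, hκ0, hκπ⟩ := hπ.restrict f.range hH
  obtain ⟨g', hg'⟩ : ∃ g' : f.range →* T, ∀ a, g' (f.rangeRestrict a) = g a :=
    ⟨(f.rangeRestrict.liftOfSurjective f.rangeRestrict_surjective) ⟨g, by
      rw [MonoidHom.ker_rangeRestrict]; exact hfg⟩, fun a => MonoidHom.liftOfRightInverse_comp_apply _ _ _ _ a⟩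
  refine ⟨K, g'.comp κ0, hκ0.comp (fun t => ?_) (fun y hy => ?_), fun x => ?_⟩
  · obtain ⟨a, rfl⟩ := hg.surj t
    exact ⟨_, hg' a⟩
  · obtain ⟨a, rfl⟩ := f.rangeRestrict_surjective y
    have ha : a ∈ g.ker := by
      rw [MonoidHom.mem_ker, ← hg']
      exact hy
    rw [Subgroup.mem_center_iff]
    intro z
    obtain ⟨b, rfl⟩ := f.rangeRestrict_surjective z
    rw [← map_mul, ← map_mul, Subgroup.mem_center_iff.1 (hg.central ha) b]
  · obtain ⟨a, ha⟩ := f.rangeRestrict_surjective (κ0 x)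
    refine ⟨a, ?_, ?_⟩
    · rw [← hκπ, ← ha]
      rfl
    · rw [MonoidHom.comp_apply, ← ha, hg']

/-- **The CH criterion for a subgroup**, elements of order `p`. -/
theorem ch_sub_elt (h : Sit (V := V) p q N φ) (hπ : IsCover π) (K : Subgroup L) {κ : K →* T} (hκ : IsCover κ)
    (hS : ¬ p ^ 2 ∣ Nat.card S) (hT : p ∣ Nat.card T) {B c : ℕ} (hB : MinDeg T B)
    (hc : ∀ u : T, orderOf u = p → Nat.card (Subgroup.centralizer ({u} : Set T)) ≤ c ^ 2) :
    ∃ X : Subgroup S, Nat.card X = p ∧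
      q ^ ((p - 1) * (B - c)) ≤ (Subgroup.normalizer (X : Set S)).index ^ p := by
  have hp := h.hp
  have hfp : Fact p.Prime := ⟨hp⟩
  have hkπ := Cfsg.Agent.H724.QA.Sit.not_dvd_ker h hπ
  have hcL : Nat.card L = Nat.card S * Nat.card π.ker := by
    rw [Subgroup.card_eq_card_quotient_mul_card_subgroup π.ker,
      Nat.card_congr (QuotientGroup.quotientKerEquivOfSurjective π hπ.surj).toEquiv]
  have hcK : Nat.card K = Nat.card T * Nat.card κ.ker := by
    rw [Subgroup.card_eq_card_quotient_mul_card_subgroup κ.ker,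
      Nat.card_congr (QuotientGroup.quotientKerEquivOfSurjective κ hκ.surj).toEquiv]
  have hk : ¬ p ∣ Nat.card κ.ker := by
    intro hd
    apply hS
    have h1 : p ^ 2 ∣ Nat.card L := by
      rw [pow_two]
      refine (Nat.mul_dvd_mul hT hd).trans ?_
      rw [← hcK]
      exact Subgroup.card_subgroup_dvd_card K
    rw [hcL] at h1
    exact (Nat.Coprime.pow_left 2 ((Nat.Prime.coprime_iff_not_dvd hp).2 hkπ)).dvd_of_dvd_mul_right h1
  obtain ⟨u, hu⟩ := exists_prime_orderOf_dvd_card' (G := T) p hT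
  obtain ⟨k, hku, hko⟩ := exists_lift hκ hp hk hu
  have hcX : Nat.card (Subgroup.zpowers k) = p := by rw [Nat.card_zpowers, hko]
  have hX : IsPGroup p (Subgroup.zpowers k) := IsPGroup.of_card (n := 1) (by rw [hcX, pow_one])
  have hne : ∃ (k : K) (v : V), k • v ≠ v := by
    by_contra hcon
    push Not at hcon
    have h1 : K ≤ Subgroup.center L := fun x hx => h.cen ((h.ker x).1 fun v => hcon ⟨x, hx⟩ v)
    have h2 : commutator K = ⊥ := by
      rw [commutator_def, Subgroup.commutator_eq_bot_iff_le_centralizer]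
      intro x _
      rw [Subgroup.mem_centralizer_iff]
      intro y _
      exact Subtype.ext (Subgroup.mem_center_iff.1 (h1 x.2) y)
    rw [hκ.perf] at h2
    have h3 : k = 1 := by
      have : k ∈ (⊤ : Subgroup K) := trivial
      rwa [h2, Subgroup.mem_bot] at this
    rw [h3, orderOf_one] at hko
    exact hp.one_lt.ne hko
  have h1 := ch_sub (c := c) h hπ K hκ hne hB (Subgroup.zpowers k) hX fun x hx hx1 => by
    apply hc
    have hxp : x ^ p = 1 := by
      have : (⟨x, hx⟩ : Subgroup.zpowers k) ^ Nat.card (Subgroup.zpowers k) = 1 := pow_card_eq_one'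
      rw [hcX] at this
      exact congrArg Subtype.val this
    refine orderOf_eq_prime (by rw [← map_pow, hxp, map_one]) fun h2 => hk ?_
    have h3 : orderOf (⟨x, MonoidHom.mem_ker.2 h2⟩ : κ.ker) = p :=
      orderOf_eq_prime (Subtype.ext hxp) fun h4 => hx1 (congrArg Subtype.val h4)
    rw [← h3]
    exact orderOf_dvd_natCard _
  rw [hcX] at h1
  refine ⟨_, ?_, h1⟩
  have hinj : Set.InjOn π (((Subgroup.zpowers k).map K.subtype : Subgroup L) : Set L) := by
    intro x hx y hy hxy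
    have hxy' : x * y⁻¹ ∈ π.ker := by
      rw [MonoidHom.mem_ker, map_mul, map_inv, hxy, mul_inv_cancel]
    have hz : x * y⁻¹ ∈ (Subgroup.zpowers k).map K.subtype := Subgroup.mul_mem _ hx (Subgroup.inv_mem _ hy)
    obtain ⟨z, hz, hz'⟩ := hz
    have hzp : z ^ p = 1 := by
      have : (⟨z, hz⟩ : Subgroup.zpowers k) ^ Nat.card (Subgroup.zpowers k) = 1 := pow_card_eq_one'
      rw [hcX] at this
      exact congrArg Subtype.val this
    have h3 : (x * y⁻¹) ^ p ^ 1 = 1 := by
      rw [pow_one, ← hz', ← map_pow, hzp, map_one]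
    have h4 := Cfsg.Agent.H724.QA.eq_one_of_ker hp hkπ hxy' h3
    exact mul_inv_eq_one.1 h4
  calc Nat.card (((Subgroup.zpowers k).map K.subtype).map π)
      = Nat.card ((Subgroup.zpowers k).map K.subtype) := Nat.card_image_of_injOn hinj
    _ = Nat.card (Subgroup.zpowers k) := Subgroup.card_map_of_injective K.subtype_injective
    _ = p := hcX

end Sub

end Cfsg.Agent.H87.QA
end

-- part: H87/QA/OSeven
section
/-!
# S4979 layer (A): the row `Ω_7(3)` (helper87)

* `exists_two_sylow` : two Sylow `p`-subgroups generate a simple group with a root group datum of characteristic `p`;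
* `minDeg_of_gl` : degree bounds from embeddings of central extensions;
* `minDeg_o_seven`, `minDeg_psl_four` : the covers of `Ω_7(3)` and `L_4(3)` have no characters of degree `2, …, 25`;
* `cent_psl_four` : centralizers of elements of order 5 and 13 of `L_4(3)`;
* `row_o73`.

`p = 3`: two Sylow subgroups generate; `p = 7`: centralizers of order at most 56; `p = 5, 13`: the CH criterion for a
subgroup which is a cover of `L_4(3)`.
-/

set_option autoImplicit false
set_option linter.unusedSectionVars false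
set_option linter.style.haveILetI false

namespace Cfsg.Agent.H87.QA

open Cfsg Cfsg.Agent.H152.QA Cfsg.Agent.H80.Fpf

section Two

open CoxeterSystem Cfsg.Agent.ChevalleyStructure.CoxeterGeom Cfsg.Agent.Tits.Roots
  Cfsg.Agent.Nodes.Reps Cfsg.Agent.Nodes.BNOf Cfsg.Agent.Nodes.LeviDec Cfsg.Agent.Nodes.Bruhat
  Cfsg.Agent.Nodes.StabComb Cfsg.Agent.Nodes.OppDec Cfsg.Agent.KFacts.RgdOpp

/-- two Sylow subgroups generate -/
theorem exists_two_sylow {p l : ℕ} [Fact p.Prime] {M : CoxeterMatrix (Fin l)} (hl : 0 < l) {G : Type*} [Group G]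
    [Finite G] [IsSimpleGroup G] (hG : Cfsg.Agent.Omega.ML.Ex.Typ.HasRGDT p M G) :
    ∃ P Q : Sylow p G, (P : Subgroup G) ⊔ Q = ⊤ := by
  obtain ⟨A, h, T, n, X, hW, R, hX⟩ := hG
  have hne : Nonempty (Fin l) := ⟨⟨0, hl⟩⟩
  have hGG := Cfsg.Agent.KFacts.RgdRigid.GG_eq_top (T := T) hX
  obtain ⟨P, hP, -⟩ := Cfsg.Agent.H76.OC.exists_sylow_U R hGG
  obtain ⟨Q, hQ, -⟩ := Cfsg.Agent.H76.OC.exists_sylow_U (opp R) (by rw [GG_opp, hGG])
  refine ⟨P, Q, ?_⟩
  rw [eq_top_iff, ← hX]
  refine RGD.Sup_le fun x hx => ?_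
  rcases IsRoot.pos_or_neg hx with h0 | h0
  · rw [hP]
    exact le_trans (RGD.le_Sup (S := RGD.Pos _ h) ⟨hx, h0⟩) le_sup_left
  · rw [hQ]
    refine le_trans ?_ le_sup_right
    have h1 : -x ∈ RGD.Pos _ h := ⟨hx.neg, neg_nonneg.2 h0⟩
    have h2 := RGD.le_Sup (X := fun x => X (-x)) h1
    simpa using h2

end Two

section Deg

/-- degree bounds for the covers from embeddings of central extensions -/
theorem minDeg_of_gl {T : Type} [Group T] [IsSimpleGroup T] {B : ℕ}
    (h : ∀ (n : ℕ) (C : Type) [Group C] [Finite C] (π : C →* T), Function.Surjective π → π.ker ≤ Subgroup.center C →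
      ∀ ρ : C →* Matrix.GeneralLinearGroup (Fin n) ℂ, Function.Injective ρ → B ≤ n) : MinDeg T B := by
  intro G _ _ π hπ d ρ hρ hd
  have hρne : ∃ g, ρ g ≠ 1 := by
    by_contra hcon
    push Not at hcon
    haveI := hρ
    have h1 : ∀ W : Submodule ℂ (Fin d → ℂ), W = ⊥ ∨ W = ⊤ := by
      intro W
      rcases hρ.eq_bot_or_eq_top ⟨W, fun g v hv => by rw [hcon g]; exact hv⟩ with h | h
      · exact Or.inl (congrArg Subrepresentation.toSubmodule h)
      · exact Or.inr (congrArg Subrepresentation.toSubmodule h)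
    have h2 : (Pi.single ⟨0, by omega⟩ 1 : Fin d → ℂ) ≠ 0 := by
      intro h
      have := congrFun h ⟨0, by omega⟩
      simp at this
    rcases h1 (Submodule.span ℂ {Pi.single ⟨0, by omega⟩ 1}) with h | h
    · rw [Submodule.span_singleton_eq_bot] at h
      exact h2 h
    · have h3 := congrArg (fun W : Submodule ℂ (Fin d → ℂ) => Module.finrank ℂ W) h
      rw [finrank_span_singleton h2, finrank_top, Module.finrank_fin_fun] at h3
      omega
  have hker := ker_le_of_simple hπ ρ hρne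
  let f : G →* Matrix.GeneralLinearGroup (Fin d) ℂ :=
    MonoidHom.toHomUnits ((LinearMap.toMatrixAlgEquiv' : ((Fin d → ℂ) →ₗ[ℂ] (Fin d → ℂ)) ≃ₐ[ℂ] _).toAlgHom.toRingHom.toMonoidHom.comp ρ)
  have hf : ∀ g, f g = 1 ↔ ρ g = 1 := by
    intro g
    have h1 : (f g : Matrix (Fin d) (Fin d) ℂ) = LinearMap.toMatrixAlgEquiv' (ρ g) := rfl
    constructor
    · intro h
      rw [h] at h1
      apply (LinearMap.toMatrixAlgEquiv' : ((Fin d → ℂ) →ₗ[ℂ] (Fin d → ℂ)) ≃ₐ[ℂ] _).injective
      rw [map_one]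
      exact h1.symm
    · intro h
      apply Units.ext
      rw [h1, h, map_one]
      rfl
  have hfk : f.ker ≤ π.ker := fun g hg => hker ((hf g).1 hg)
  let π' : G ⧸ f.ker →* T := QuotientGroup.lift f.ker π hfk
  refine h d (G ⧸ f.ker) π' ?_ ?_ (QuotientGroup.kerLift f) (QuotientGroup.kerLift_injective f)
  · intro t
    obtain ⟨g, rfl⟩ := hπ.surj t
    exact ⟨QuotientGroup.mk g, rfl⟩
  · intro x hx
    obtain ⟨g, rfl⟩ := QuotientGroup.mk_surjective x
    have hg : g ∈ π.ker := hx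
    rw [Subgroup.mem_center_iff]
    intro y
    obtain ⟨k, rfl⟩ := QuotientGroup.mk_surjective y
    rw [← QuotientGroup.mk_mul, ← QuotientGroup.mk_mul, Subgroup.mem_center_iff.1 (hπ.central hg) k]

variable {K : Type} [Field K] [Fintype K]

theorem minDeg_o_seven (hK : Fintype.card K = 3) [IsSimpleGroup (POmega K (quadFormOdd 3 K))] :
    MinDeg (POmega K (quadFormOdd 3 K)) 26 :=
  minDeg_of_gl fun _ _ _ _ π hπ hπc ρ hρ => Cfsg.Agent.H920.le_of_o_seven' (by norm_num) hK π hπ hπc ρ hρ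
    (MonoidHom.id _) Function.injective_id

theorem minDeg_psl_four (hK : Fintype.card K = 3) [IsSimpleGroup (Matrix.ProjectiveSpecialLinearGroup (Fin 4) K)] :
    MinDeg (Matrix.ProjectiveSpecialLinearGroup (Fin 4) K) 26 :=
  minDeg_of_gl fun _ _ _ _ π hπ hπc ρ hρ => Cfsg.Agent.H920.le_of_psl_four' (by norm_num) hK π hπ hπc ρ hρ
    (MonoidHom.id _) Function.injective_id

end Deg

section Cent

open Cfsg.Agent.H518.DghpMat Cfsg.Agent.H518.SU

variable {K : Type} [Field K] [Fintype K]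

theorem ord_five : orderOf ((3 : ℕ) : ZMod 5) = 4 :=
  orderOf_eq_of (by norm_num) (by norm_num) (by norm_num) fun i h1 h2 => by
    interval_cases i <;> norm_num

theorem ord_thirteen : orderOf ((3 : ℕ) : ZMod 13) = 3 :=
  orderOf_eq_of (by norm_num) (by norm_num) (by norm_num) fun i h1 h2 => by
    interval_cases i <;> norm_num

/-- **Centralizers of elements of order 5 and 13 in `L_4(3)`.** -/
theorem cent_psl_four (hK : Fintype.card K = 3) {p : ℕ} (hp : p = 5 ∨ p = 13)
    (u : Matrix.ProjectiveSpecialLinearGroup (Fin 4) K) (hu : orderOf u = p) :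
    Nat.card (Subgroup.centralizer ({u} : Set (Matrix.ProjectiveSpecialLinearGroup (Fin 4) K))) ≤ 9 ^ 2 := by
  have hpp : p.Prime := by rcases hp with rfl | rfl <;> norm_num
  have hpK : ¬ p ∣ Fintype.card K := by rw [hK]; rcases hp with rfl | rfl <;> norm_num
  have hord : 3 ≤ orderOf ((Fintype.card K : ℕ) : ZMod p) := by
    rw [hK]
    rcases hp with rfl | rfl
    · rw [ord_five]; norm_num
    · rw [ord_thirteen]
  have hdim : Module.finrank K (Fin 4 → K) = 4 := by rw [Module.finrank_fintype_fun_eq_card, Fintype.card_fin]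
  have hSL : ∀ z : Matrix.SpecialLinearGroup (Fin 4) K, orderOf z = p →
      Nat.card (Subgroup.centralizer ({z} : Set (Matrix.SpecialLinearGroup (Fin 4) K))) ≤ 9 ^ 2 := by
    intro z hz
    have h1 := card_cent_lin (matRep (slHom (Fin 4) K)) (matRep_injective (slHom_injective _ _)) hpp hpK
      (by rw [hdim]; omega) (by rw [hdim]; omega) hz
    rw [hdim, hK] at h1
    exact h1.trans (by norm_num)
  have hcen : ¬ p ∣ Nat.card (Subgroup.center (Matrix.SpecialLinearGroup (Fin 4) K)) := by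
    intro hd
    have h1 : Nat.card (Subgroup.center (Matrix.SpecialLinearGroup (Fin 4) K)) ≤ 4 := by
      rw [Nat.card_congr (Matrix.SpecialLinearGroup.center_equiv_rootsOfUnity (n := Fin 4) (R := K)).toEquiv]
      have hne : NeZero (max (Fintype.card (Fin 4)) 1) := ⟨by simp⟩
      exact (card_rootsOfUnity K (max (Fintype.card (Fin 4)) 1)).trans (by simp)
    have h2 := Nat.le_of_dvd Nat.card_pos hd
    omega
  have h1 := Cfsg.Agent.H489.AS.cent_quot hpp hcen hSL u hu
  exact (Nat.le_mul_of_pos_right _ Nat.card_pos).trans h1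

end Cent

section Main

open Cfsg.Agent.H500.AS.Seven Cfsg.Agent.LieClassical.OrthTrans Cfsg.Agent.AutOrth.Main
  Cfsg.Agent.ClassicalGeometry.OrthAut1 Cfsg.Agent.LieClassical.OrthCore Cfsg.Agent.LieClassical.OrthSimple

variable {F : Type} [Field F] [Fintype F]

theorem card_o_seven (hF : Fintype.card F = 3) : Nat.card (POmega F (quadFormOdd 3 F)) = 4585351680 := by
  have hcard := Cfsg.Agent.S0292.result hF (by decide) 3 le_rfl
  simp only [Finset.prod_range_succ, Finset.prod_range_zero] at hcard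
  norm_num only [] at hcard
  omega

theorem card_psl_four (hF : Fintype.card F = 3) :
    Nat.card (Matrix.ProjectiveSpecialLinearGroup (Fin 4) F) = 6065280 := by
  have h := Cfsg.Agent.S0243.result hF 4 (by norm_num)
  simp only [Fin.prod_univ_succ, Fin.prod_univ_zero] at h
  norm_num only [_root_.Fin.coe_ofNat_eq_mod, _root_.pow_zero, _root_.Nat.add_one_sub_one, _root_.Fin.succ_zero_eq_one, _root_.pow_one, _root_.Fin.succ_one_eq_two, _root_.Fin.val_succ, _root_.mul_one] at h
  omega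

theorem card_centralizer_equiv {S T : Type*} [Group S] [Group T] (e : S ≃* T) (x : S) :
    Nat.card (Subgroup.centralizer ({x} : Set S)) = Nat.card (Subgroup.centralizer ({e x} : Set T)) := by
  refine Nat.card_congr (Equiv.subtypeEquiv e.toEquiv fun g => ?_)
  rw [Subgroup.mem_centralizer_singleton_iff, Subgroup.mem_centralizer_singleton_iff]
  change g * x = x * g ↔ e g * e x = e x * e g
  rw [← map_mul, ← map_mul, e.injective.eq_iff]

/-- centralizers of elements of order 7 -/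
theorem cent_o_seven (hF : Fintype.card F = 3) (x : POmega F (quadFormOdd 3 F)) (hx : orderOf x = 7) :
    Nat.card (Subgroup.centralizer ({x} : Set (POmega F (quadFormOdd 3 F)))) ≤ 8 ^ 2 := by
  have hG := good7 hF
  have hfE : Finite (E (Q7 F)) := finite_E
  have hp : Nat.Prime 7 := by norm_num
  obtain ⟨c, hc1, hc2, hc3, -⟩ := card_E hF
  have hc7 : ¬ 7 ∣ Nat.card (Subgroup.center (E (Q7 F))) := by
    rw [← hc2]
    exact hc3 7 hp (by norm_num)
  have key := Cfsg.Agent.H489.AS.cent_quot hp hc7 (cent_E hF)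
  revert x
  rw [← LieClassical.OrthForms.coe_oddForm]
  intro x hx
  rw [card_centralizer_equiv (pe hG) x]
  have h1 := key (pe hG x) (by rw [MulEquiv.orderOf_eq, hx])
  exact ((Nat.le_mul_of_pos_right _ Nat.card_pos).trans h1).trans (by norm_num)

theorem simple_o_seven (hF : Fintype.card F = 3) : IsSimpleGroup (POmega F (quadFormOdd 3 F)) := by
  have hG := good7 hF
  have hs : IsSimpleGroup (P (Q7 F)) := good_isSimpleGroup hG
  rw [← LieClassical.OrthForms.coe_oddForm]
  exact (pe hG).isSimpleGroup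

/-- `Ω_6^+(3) → L_4(3)` is a cover -/
theorem exists_cover_psl :
    ∃ g : Omega F (quadFormPlus 3 F) →* Matrix.ProjectiveSpecialLinearGroup (Fin 4) F, IsCover g ∧
      g.ker = Subgroup.center (Omega F (quadFormPlus 3 F)) := by
  obtain ⟨e⟩ := Cfsg.Agent.S0302.result (F := F)
  have hk : (e.toMonoidHom.comp (QuotientGroup.mk' (Subgroup.center (Omega F (quadFormPlus 3 F))))).ker =
      Subgroup.center (Omega F (quadFormPlus 3 F)) := by
    ext x
    rw [MonoidHom.mem_ker]
    change e (QuotientGroup.mk' _ x) = 1 ↔ _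
    rw [MulEquiv.map_eq_one_iff]
    exact QuotientGroup.eq_one_iff x
  refine ⟨e.toMonoidHom.comp (QuotientGroup.mk' _), ⟨e.surjective.comp (QuotientGroup.mk'_surjective _), hk.le, ?_⟩, hk⟩
  have hG : _root_.Cfsg.Agent.LieClassical.OrthTrans.Good (LieClassical.OrthForms.plusForm 3 F) := Cfsg.Agent.ClassicalGeometry.OrthSemiForms.good_plus le_rfl
  have h1 := Cfsg.Agent.H312.Orth.omega_perfect hG
  rwa [LieClassical.OrthForms.coe_plusForm] at h1

seal _root_.Finset.sum _root_.dotProduct in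
/-- **The row `Ω_7(3)`.** -/
theorem row_o73 (hF : Fintype.card F = 3) : NoSit (POmega F (quadFormOdd 3 F)) := by
  intro p q L V _ _ _ _ _ π N φ hπ h
  have hsim := simple_o_seven hF
  have hcS := card_o_seven hF
  have hB := minDeg_o_seven hF
  have hp := h.hp
  have hfp : Fact p.Prime := ⟨hp⟩
  have hpS := Cfsg.Agent.H306.QA.p_dvd h hπ
  have hqS := Cfsg.Agent.H306.QA.q_not_dvd h hπ
  have hfin : Finite (POmega F (quadFormOdd 3 F)) := Nat.finite_of_card_ne_zero (by rw [hcS]; norm_num)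
  rw [hcS] at hpS hqS
  have hq := h.hq
  -- `q ≥ 11`
  have hq11 : 11 ≤ q := by
    by_contra hcon
    push Not at hcon
    have h2 := hq.two_le
    clear h
    interval_cases q <;> exact hqS (by norm_num)
  have hidx : ∀ X : Subgroup (POmega F (quadFormOdd 3 F)), X.index ≤ 4585351680 := fun X => by
    rw [← hcS]
    exact Nat.le_of_dvd Nat.card_pos X.index_dvd_card
  have hp4 : p = 3 ∨ p = 7 ∨ p = 5 ∨ p = 13 := by
    have h1 : p ∣ 2 ^ 9 * (3 ^ 9 * (5 * (7 * 13))) := by
      have h2 : 2 ^ 9 * (3 ^ 9 * (5 * (7 * 13))) = 4585351680 := by norm_num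
      rw [h2]; exact hpS
    rcases hp.dvd_mul.1 h1 with h1 | h1
    · exact absurd ((Nat.prime_dvd_prime_iff_eq hp Nat.prime_two).1 (hp.dvd_of_dvd_pow h1)) h.odd
    rcases hp.dvd_mul.1 h1 with h1 | h1
    · exact Or.inl ((Nat.prime_dvd_prime_iff_eq hp Nat.prime_three).1 (hp.dvd_of_dvd_pow h1))
    rcases hp.dvd_mul.1 h1 with h1 | h1
    · exact Or.inr (Or.inr (Or.inl ((Nat.prime_dvd_prime_iff_eq hp (by norm_num)).1 h1)))
    rcases hp.dvd_mul.1 h1 with h1 | h1
    · exact Or.inr (Or.inl ((Nat.prime_dvd_prime_iff_eq hp (by norm_num)).1 h1))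
    · exact Or.inr (Or.inr (Or.inr ((Nat.prime_dvd_prime_iff_eq hp (by norm_num)).1 h1)))
  rcases hp4 with hp3 | hp7 | hp5
  · -- `p = 3`: two Sylow subgroups
    subst hp3
    have hchar : CharP F 3 := by
      obtain ⟨p', hp'⟩ := CharP.exists F
      obtain ⟨m, hp'', hm⟩ := FiniteField.card F p'
      rw [hF] at hm
      have h4 : p' ∣ 3 := by rw [hm]; exact dvd_pow_self _ m.2.ne'
      have : p' = 3 := (Nat.prime_dvd_prime_iff_eq hp'' Nat.prime_three).1 h4
      rwa [this] at hp'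
    have hR := Cfsg.Agent.H331.KW.RowsCl.typ_PO_odd (p := 3) (F := F) (_root_.Cfsg.Agent.H500.AS.Seven.two_ne_zero' hF) (m := 3) (by norm_num)
    have h1 := Cfsg.Agent.H306.QA.Sit.two_gen h hπ (exists_two_sylow (by norm_num) hR)
    have h2 : Nat.card (Sylow 3 (POmega F (quadFormOdd 3 F))) ≤ 232960 := by
      have h3 := Cfsg.Agent.H306.QA.card_sylow_le_ordCompl (S := POmega F (quadFormOdd 3 F)) hp
      refine h3.trans (le_of_eq ?_)
      have h4 : (Nat.card (POmega F (quadFormOdd 3 F))).factorization 3 = 9 := by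
        have h5 := (hp.pow_dvd_iff_le_factorization (k := 9) (n := Nat.card (POmega F (quadFormOdd 3 F)))
          (by rw [hcS]; norm_num)).1 (by rw [hcS]; norm_num)
        have h6 : ¬ 10 ≤ (Nat.card (POmega F (quadFormOdd 3 F))).factorization 3 := fun h7 => by
          have h8 := (hp.pow_dvd_iff_le_factorization (k := 10) (n := Nat.card (POmega F (quadFormOdd 3 F)))
            (by rw [hcS]; norm_num)).2 h7
          rw [hcS] at h8
          exact absurd h8 (by norm_num)
        omega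
      rw [h4, hcS]
      norm_num
    obtain ⟨d, hd, hd26⟩ := Cfsg.Agent.H724.QA.Sit.exists_dim h hπ hB
    rw [hd] at h1
    have h3 : 11 ^ 26 ≤ q ^ d := (Nat.pow_le_pow_left hq11 26).trans (Nat.pow_le_pow_right hq.pos hd26)
    have h4 := (h3.trans h1).trans (Nat.pow_le_pow_left h2 2)
    norm_num at h4
  · -- `p = 7`
    subst hp7
    obtain ⟨u, hu⟩ := exists_prime_orderOf_dvd_card' (G := POmega F (quadFormOdd 3 F)) 7 (by rw [hcS]; exact hpS)
    have hcX : Nat.card (Subgroup.zpowers u) = 7 := by rw [Nat.card_zpowers, hu]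
    have h1 := Cfsg.Agent.H245.QA.Sit.ch (c := 8) h hπ hB (Subgroup.zpowers u)
      (IsPGroup.of_card (n := 1) (by rw [hcX, pow_one])) fun x hx hx1 => by
        apply cent_o_seven hF
        have hxp : x ^ 7 = 1 := by
          have : (⟨x, hx⟩ : Subgroup.zpowers u) ^ Nat.card (Subgroup.zpowers u) = 1 := pow_card_eq_one'
          rw [hcX] at this
          exact congrArg Subtype.val this
        exact orderOf_eq_prime hxp hx1
    rw [hcX] at h1
    have h2 := (Nat.pow_le_pow_left hq11 ((7 - 1) * (26 - 8))).trans (h1.trans (Nat.pow_le_pow_left (hidx _) 7))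
    norm_num at h2
  · -- `p = 5, 13`
    obtain ⟨f0, hf0⟩ := Cfsg.Agent.H912.Bd.exists_odd (K := F) (m := 3) (n := 3) le_rfl
    obtain ⟨g, hg, hgk⟩ := exists_cover_psl (F := F)
    obtain ⟨K, κ, hκ, -⟩ := exists_sub_cover hπ f0 hg (by rw [hgk]; exact hf0)
    have hsimT : IsSimpleGroup (Matrix.ProjectiveSpecialLinearGroup (Fin 4) F) :=
      Cfsg.Agent.S0249.result 4 (by norm_num)
    have hfT : Finite (Matrix.ProjectiveSpecialLinearGroup (Fin 4) F) :=
      Nat.finite_of_card_ne_zero (by rw [card_psl_four hF]; norm_num)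
    have hBT := minDeg_psl_four hF
    obtain ⟨X, hX, h1⟩ := ch_sub_elt (c := 9) h hπ K hκ (by rw [hcS]; rcases hp5 with rfl | rfl <;> norm_num)
      (by rw [card_psl_four hF]; rcases hp5 with rfl | rfl <;> norm_num) hBT (cent_psl_four hF hp5)
    have h2 := (Nat.pow_le_pow_left hq11 ((p - 1) * (26 - 9))).trans (h1.trans (Nat.pow_le_pow_left (hidx _) p))
    rcases hp5 with rfl | rfl <;> norm_num at h2

end Main

end Cfsg.Agent.H87.QA
end

-- part: H622/QA/F42W
section
/-!
# `F₄(2)`: the normal subgroup `E = 2⁷` of a parabolic subgroup with Levi factor `Sp₆(2)` (helper622)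

`exists_moved` : every linear character `≠ 1` of `E` has many conjugates moved by certain elements of order 3, 5, 7
-/

set_option autoImplicit false
set_option maxRecDepth 100000

namespace Cfsg.Agent.H622.QA

open Subgroup Cfsg.Lie Cfsg.Agent.FourTwo.Base

/-! ### the combinatorics -/

/-- the indices of the seven root elements of `E` -/
def eix : List ℕ := [41, 42, 43, 45, 46, 47, 44]

/-- the Levi factor -/
def lev : List ℕ := [27, 20, 25, 22, 24, 23]

/-- the conjugates of the seven elements -/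
def cjl (r j : ℕ) : List ℕ :=
  if r = 27 then (if j = 2 then [2, 6, 3] else [j])
  else if r = 20 then (if j = 3 then [3, 6, 2] else [j])
  else if r = 25 then (if j = 1 then [1, 2] else if j = 3 then [3, 4] else [j])
  else if r = 22 then (if j = 2 then [2, 1] else if j = 4 then [4, 3] else [j])
  else if r = 24 then (if j = 0 then [0, 1] else if j = 4 then [4, 5] else [j])
  else if r = 23 then (if j = 1 then [1, 0] else if j = 5 then [5, 4] else [j])
  else [j]

/-- the action on the codes of the characters -/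
def act (r s : ℕ) : ℕ :=
  if r = 27 then s ^^^ ((((s >>> 6) ^^^ (s >>> 3)) &&& 1) <<< 2)
  else if r = 20 then s ^^^ ((((s >>> 6) ^^^ (s >>> 2)) &&& 1) <<< 3)
  else if r = 25 then s ^^^ (((s >>> 2) &&& 1) <<< 1) ^^^ (((s >>> 4) &&& 1) <<< 3)
  else if r = 22 then s ^^^ (((s >>> 1) &&& 1) <<< 2) ^^^ (((s >>> 3) &&& 1) <<< 4)
  else if r = 24 then s ^^^ (((s >>> 1) &&& 1) <<< 0) ^^^ (((s >>> 5) &&& 1) <<< 4)
  else if r = 23 then s ^^^ (((s >>> 0) &&& 1) <<< 1) ^^^ (((s >>> 4) &&& 1) <<< 5)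
  else s

/-- the action of a word -/
def actw (w : List ℕ) (s : ℕ) : ℕ := w.foldl (fun s r => act r s) s

/-- parity over a list of positions -/
def par (l : List ℕ) (s : ℕ) : Bool := l.foldr (fun k b => xor (s.testBit k) b) false

theorem act_spec : ∀ r ∈ lev, ∀ s < 128, act r s < 128 ∧ ∀ j < 7, (act r s).testBit j = par (cjl r j) s := by
  decide +kernel

theorem cjl_lt : ∀ r ∈ lev, ∀ j < 7, ∀ k ∈ cjl r j, k < 7 := by decide

/-- the words of order 3, 5, 7 -/
def x3 : List ℕ := [22, 25]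
def x5 : List ℕ := [25, 22, 27, 20]
def x7 : List ℕ := [22, 25, 24, 23]

/-- `s ↦` a word mapping the code `s` to the representative of its orbit -/
def UT : List (List ℕ) :=
  [[], [], [24, 23], [23], [25, 24, 22, 23], [25, 22, 23], [24, 22, 23], [22, 23], [27, 25, 24, 20, 22, 23],
   [23, 27, 20, 22, 23], [24, 27, 20, 22, 23], [27, 20, 22, 23], [25, 24, 20, 22, 23], [25, 20, 22, 23],
   [24, 20, 22, 23], [20, 22, 23], [25, 22, 27, 25, 24, 20, 22, 23], [25, 22, 23, 27, 20, 22, 23],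
   [24, 25, 22, 20, 22, 23], [25, 22, 20, 22, 23], [25, 24, 22, 27, 20, 22, 23], [25, 22, 27, 20, 22, 23],
   [24, 20, 22, 27, 20, 22, 23], [20, 22, 27, 20, 22, 23], [22, 27, 25, 24, 20, 22, 23], [22, 23, 27, 20, 22, 23],
   [24, 22, 20, 22, 23], [22, 20, 22, 23], [22, 25, 24, 20, 22, 23], [22, 25, 20, 22, 23], [24, 22, 27, 20, 22, 23],
   [22, 27, 20, 22, 23], [24, 23, 25, 22, 27, 25, 24, 20, 22, 23], [24, 23, 25, 22, 20, 22, 23],
   [24, 22, 23, 25, 22, 27, 20, 22, 23], [24, 23, 24, 25, 22, 20, 22, 23], [25, 24, 23, 25, 22, 27, 20, 22, 23],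
   [24, 23, 20, 22, 27, 20, 22, 23], [24, 23, 25, 22, 27, 20, 22, 23], [24, 23, 24, 20, 22, 27, 20, 22, 23],
   [27, 25, 24, 23, 22, 25, 20, 22, 23], [22, 23, 22, 20, 22, 23], [22, 23, 24, 22, 27, 20, 22, 23],
   [22, 23, 22, 25, 20, 22, 23], [25, 24, 23, 22, 25, 20, 22, 23], [22, 23, 22, 27, 20, 22, 23],
   [24, 23, 22, 25, 20, 22, 23], [24, 23, 24, 22, 27, 20, 22, 23], [23, 25, 22, 27, 25, 24, 20, 22, 23],
   [23, 25, 22, 20, 22, 23], [23, 24, 25, 22, 20, 22, 23], [22, 23, 25, 22, 27, 20, 22, 23],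
   [23, 25, 24, 22, 27, 20, 22, 23], [23, 20, 22, 27, 20, 22, 23], [23, 24, 20, 22, 27, 20, 22, 23],
   [23, 25, 22, 27, 20, 22, 23], [23, 22, 27, 25, 24, 20, 22, 23], [23, 22, 20, 22, 23], [23, 24, 22, 20, 22, 23],
   [23, 22, 23, 27, 20, 22, 23], [23, 22, 25, 24, 20, 22, 23], [23, 22, 27, 20, 22, 23], [23, 24, 22, 27, 20, 22, 23],
   [23, 22, 25, 20, 22, 23], [], [23, 24, 27, 25, 27], [27, 25, 27], [24, 27, 25, 27], [27], [25, 24, 25, 27],
   [25, 27], [24, 25, 27], [20], [23, 24, 20, 27, 25, 27], [20, 27, 25, 27], [24, 20, 27, 25, 27], [], [25, 24, 25],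
   [25], [24, 25], [20, 22, 20], [27, 25, 24, 22, 20, 27, 25, 27], [20, 22, 25], [24, 20, 22, 25], [27, 20, 22, 20],
   [25, 24, 22, 20, 27, 25, 27], [25, 22], [24, 25, 22], [22, 20], [22, 23, 24, 20, 27, 25, 27], [22, 25],
   [24, 22, 25], [22], [22, 25, 24, 25], [22, 20, 27, 25, 27], [24, 22, 20, 27, 25, 27], [24, 23, 20, 22, 20],
   [24, 23, 24, 20, 22, 25], [20, 22, 23, 22, 20, 27, 25, 27], [24, 23, 20, 22, 25], [24, 23, 27, 20, 22, 20],
   [24, 23, 24, 25, 22], [25, 24, 23, 27, 20, 22, 20], [24, 23, 25, 22], [22, 23, 22, 20], [22, 23, 24, 22, 25],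
   [22, 23, 22, 20, 27, 25, 27], [24, 23, 22, 25], [22, 23, 22], [22, 23, 24, 22, 20, 27, 25, 27], [22, 23, 22, 25],
   [24, 23, 22, 20, 27, 25, 27], [23, 20, 22, 20], [23, 24, 20, 22, 25], [23, 20, 22, 25],
   [23, 27, 25, 24, 22, 20, 27, 25, 27], [23, 27, 20, 22, 20], [23, 24, 25, 22], [23, 25, 22],
   [23, 25, 24, 22, 20, 27, 25, 27], [23, 22, 20], [23, 24, 22, 25], [23, 22, 25], [24, 22, 23, 22, 20, 27, 25, 27],
   [23, 22], [23, 24, 22, 20, 27, 25, 27], [23, 22, 20, 27, 25, 27], [24, 22, 23, 22, 25]]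

def U (s : ℕ) : List ℕ := UT.getD s []

/-- the representative of the orbit -/
def rp (s : ℕ) : ℕ := actw (U s) s

theorem U_spec : ∀ s < 128, (∀ r ∈ U s, r ∈ lev) ∧ actw (U s).reverse (rp s) = s ∧ (rp s = 0 → s = 0) ∧
    (s = 0 ∨ rp s = 1 ∨ rp s = 64 ∨ rp s = 76) := by decide +kernel

/-- the members of the orbit of `a` moved by the word `x` -/
def mv (x : List ℕ) (a : ℕ) : List ℕ := (List.range 128).filter fun t => rp t == a && actw x t != t

theorem mv3 : ∀ a ∈ [1, 64, 76], 22 ≤ (mv x3 a).length := by decide +kernel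
theorem mv5 : ∀ a ∈ [1, 64, 76], 16 ≤ (mv x5 a).length := by decide +kernel
theorem mv7 : ∀ a ∈ [1, 64, 76], 15 ≤ (mv x7 a).length := by decide +kernel

/-! ### abstract part -/

section Abs

variable {G : Type*} [Group G]

theorem mem_norm_of_sq {A : Subgroup G} {a : G} (h : a * a = 1) (h2 : ∀ g ∈ A, a * g * a⁻¹ ∈ A) :
    a ∈ normalizer (A : Set G) := by
  have hi : a⁻¹ = a := by rw [inv_eq_iff_mul_eq_one, h]
  rw [mem_normalizer_iff]
  intro g
  refine ⟨fun hg => h2 g hg, fun hg => ?_⟩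
  have h3 := h2 _ hg
  rw [hi] at h3
  have h4 : a * (a * g * a) * a = g := by
    calc a * (a * g * a) * a = (a * a) * g * (a * a) := by simp only [mul_assoc]
      _ = g := by rw [h, one_mul, mul_one]
  rwa [h4] at h3

variable {A : Subgroup G}

/-- `lam` composed with the conjugation by `g` -/
noncomputable def tw (lam : A →* ℂˣ) (g : G) (hg : g ∈ normalizer (A : Set G)) : A →* ℂˣ where
  toFun a := lam ⟨g * a * g⁻¹, (mem_normalizer_iff.1 hg a).1 a.2⟩
  map_one' := by
    rw [← map_one lam]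
    congr 1
    exact Subtype.ext (by simp)
  map_mul' a b := by
    rw [← map_mul]
    congr 1
    refine Subtype.ext ?_
    simp only [Subgroup.coe_mul]
    group

theorem tw_apply (lam : A →* ℂˣ) (g : G) (hg : g ∈ normalizer (A : Set G)) (a : G) (ha : a ∈ A)
    (ha' : g * a * g⁻¹ ∈ A) : tw lam g hg ⟨a, ha⟩ = lam ⟨g * a * g⁻¹, ha'⟩ := rfl

theorem tw_one (lam : A →* ℂˣ) (h1 : (1 : G) ∈ normalizer (A : Set G)) : tw lam 1 h1 = lam := by
  ext a
  show ((lam _ : ℂˣ) : ℂ) = ((lam _ : ℂˣ) : ℂ)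
  congr 2
  exact Subtype.ext (by simp)

theorem tw_mul (lam : A →* ℂˣ) {g h : G} (hg : g ∈ normalizer (A : Set G)) (hh : h ∈ normalizer (A : Set G)) :
    tw (tw lam g hg) h hh = tw lam (g * h) (mul_mem hg hh) := by
  ext a
  show ((lam _ : ℂˣ) : ℂ) = ((lam _ : ℂˣ) : ℂ)
  congr 2
  refine Subtype.ext ?_
  show g * (h * a * h⁻¹) * g⁻¹ = g * h * a * (g * h)⁻¹
  group

end Abs

/-- signs -/
def sg (b : Bool) : ℂˣ := if b then -1 else 1

theorem sg_xor (a b : Bool) : sg (xor a b) = sg a * sg b := by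
  cases a <;> cases b <;> simp [sg]

theorem sg_inj {a b : Bool} (h : sg a = sg b) : a = b := by
  have h1 : (1 : ℂˣ) ≠ -1 := by
    intro h
    have h2 := congrArg (fun u : ℂˣ => (u : ℂ)) h
    norm_num at h2
  cases a <;> cases b
  · rfl
  · exact absurd h h1
  · exact absurd h.symm h1
  · rfl

/-! ### the group `E` -/

/-- the seven root elements -/
def e (j : ℕ) : LL := x (eix.getD j 0)

/-- `E = 2⁷` -/
def E : Subgroup LL := _root_.Subgroup.closure {g | ∃ j < 7, g = e j}

theorem e_mem {j : ℕ} (hj : j < 7) : e j ∈ E := subset_closure ⟨j, hj, rfl⟩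

theorem conj_tab : ∀ r ∈ lev, ∀ j < 7, chk [r, eix.getD j 0, r] ((cjl r j).map fun k => eix.getD k 0) = true := by
  decide +kernel

theorem comm_tab : ∀ i < 7, ∀ j < 7, chk [eix.getD i 0, eix.getD j 0] [eix.getD j 0, eix.getD i 0] = true := by
  decide +kernel

theorem wd_map (l : List ℕ) : wd (l.map fun k => eix.getD k 0) = (l.map e).prod := by
  unfold wd
  rw [List.map_map]
  rfl

theorem conj_e {r j : ℕ} (hr : r ∈ lev) (hj : j < 7) : x r * e j * (x r)⁻¹ = ((cjl r j).map e).prod := by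
  rw [x_inv, ← wd_map, ← wd_eq _ _ (conj_tab r hr j hj)]
  simp [wd, e, mul_assoc]

theorem e_comm {i j : ℕ} (hi : i < 7) (hj : j < 7) : e i * e j = e j * e i := by
  have h := wd_eq _ _ (comm_tab i hi j hj)
  simpa only [wd, e, _root_.List.getD_eq_getElem?_getD, _root_.List.map_cons, _root_.List.map_nil, _root_.List.prod_cons, _root_.List.prod_nil, _root_.mul_one] using h

theorem E_comm : ∀ a ∈ E, ∀ b ∈ E, a * b = b * a := by
  have h1 : E ≤ centralizer {g | ∃ j < 7, g = e j} := by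
    rw [E, closure_le]
    rintro _ ⟨i, hi, rfl⟩
    rw [SetLike.mem_coe, mem_centralizer_iff]
    rintro _ ⟨j, hj, rfl⟩
    exact e_comm hj hi
  have h2 : E ≤ centralizer (E : Set LL) := by
    nth_rw 1 [E]
    rw [closure_le]
    rintro _ ⟨i, hi, rfl⟩
    rw [SetLike.mem_coe, mem_centralizer_iff]
    intro g hg
    exact ((mem_centralizer_iff.1 (h1 hg)) _ ⟨i, hi, rfl⟩).symm
  intro a ha b hb
  exact ((mem_centralizer_iff.1 (h2 ha)) b hb).symm

theorem prod_mem_E {l : List ℕ} (hl : ∀ k ∈ l, k < 7) : (l.map e).prod ∈ E := by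
  refine Subgroup.list_prod_mem _ ?_
  intro g hg
  obtain ⟨k, hk, rfl⟩ := List.mem_map.1 hg
  exact e_mem (hl k hk)

theorem x_norm {r : ℕ} (hr : r ∈ lev) : x r ∈ normalizer (E : Set LL) := by
  have h1 : E.map (MulAut.conj (x r)).toMonoidHom ≤ E := by
    rw [E, MonoidHom.map_closure, ← E, closure_le]
    rintro _ ⟨_, ⟨j, hj, rfl⟩, rfl⟩
    have h2 : (MulAut.conj (x r)).toMonoidHom (e j) = x r * e j * (x r)⁻¹ := rfl
    rw [h2, conj_e hr hj]
    exact prod_mem_E (cjl_lt r hr j hj)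
  exact mem_norm_of_sq (x_mul_self r) fun g hg => h1 ⟨g, hg, rfl⟩

theorem wd_norm {w : List ℕ} (hw : ∀ r ∈ w, r ∈ lev) : wd w ∈ normalizer (E : Set LL) := by
  refine Subgroup.list_prod_mem _ ?_
  intro g hg
  obtain ⟨k, hk, rfl⟩ := List.mem_map.1 hg
  exact x_norm (hw k hk)

/-! ### characters of `E` -/

/-- the character `lam` has the code `s` -/
def P (lam : E →* ℂˣ) (s : ℕ) : Prop := s < 128 ∧ ∀ j (hj : j < 7), lam ⟨e j, e_mem hj⟩ = sg (s.testBit j)

theorem P.prod {lam : E →* ℂˣ} {s : ℕ} (h : P lam s) (l : List ℕ) (hl : ∀ k ∈ l, k < 7) :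
    lam ⟨(l.map e).prod, prod_mem_E hl⟩ = sg (par l s) := by
  induction l with
  | nil =>
    have : (⟨(([] : List ℕ).map e).prod, prod_mem_E hl⟩ : E) = 1 := rfl
    rw [this, map_one]
    rfl
  | cons k l ih =>
    have hk : k < 7 := hl k (by simp)
    have hl' : ∀ k ∈ l, k < 7 := fun k hk => hl k (by simp [hk])
    have h1 : (⟨((k :: l).map e).prod, prod_mem_E hl⟩ : E) =
        (⟨e k, e_mem hk⟩ : E) * ⟨(l.map e).prod, prod_mem_E hl'⟩ := by
      apply Subtype.ext
      simp
    rw [h1, map_mul, ih hl', h.2 k hk, ← sg_xor]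
    rfl

theorem P.twx {lam : E →* ℂˣ} {s r : ℕ} (h : P lam s) (hr : r ∈ lev) : P (tw lam (x r) (x_norm hr)) (act r s) := by
  obtain ⟨a1, a2⟩ := act_spec r hr s h.1
  refine ⟨a1, fun j hj => ?_⟩
  have hl := cjl_lt r hr j hj
  have h2 : x r * e j * (x r)⁻¹ ∈ E := by
    rw [conj_e hr hj]
    exact prod_mem_E hl
  have h3 : (⟨x r * e j * (x r)⁻¹, h2⟩ : E) = ⟨((cjl r j).map e).prod, prod_mem_E hl⟩ := Subtype.ext (conj_e hr hj)
  have h4 : tw lam (x r) (x_norm hr) ⟨e j, e_mem hj⟩ = lam ⟨x r * e j * (x r)⁻¹, h2⟩ :=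
    tw_apply lam (x r) (x_norm hr) (e j) (e_mem hj) h2
  have h5 : lam ⟨((cjl r j).map e).prod, prod_mem_E hl⟩ = sg (par (cjl r j) s) := h.prod _ hl
  have h6 : sg ((act r s).testBit j) = sg (par (cjl r j) s) := congrArg sg (a2 j hj)
  rw [h4, h3, h5, h6]

theorem tw_congr (lam : E →* ℂˣ) {g h : LL} (e : g = h) (hg : g ∈ normalizer (E : Set LL))
    (hh : h ∈ normalizer (E : Set LL)) : tw lam g hg = tw lam h hh := by
  subst e
  rfl

theorem P.tww (w : List ℕ) : ∀ (hw : ∀ r ∈ w, r ∈ lev) {s : ℕ} {lam : E →* ℂˣ} (_ : P lam s),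
    P (tw lam (wd w) (wd_norm hw)) (actw w s) := by
  induction w with
  | nil =>
    intro hw s lam h
    rw [tw_congr lam wd_nil (wd_norm hw) (one_mem _), tw_one]
    exact h
  | cons r w ih =>
    intro hw s lam h
    have hr : r ∈ lev := hw r (by simp)
    have hw' : ∀ r ∈ w, r ∈ lev := fun r h => hw r (by simp [h])
    have h1 := ih hw' (h.twx hr)
    rw [tw_mul] at h1
    have h2 : actw (r :: w) s = actw w (act r s) := rfl
    rw [h2, tw_congr lam (wd_cons r w) (wd_norm hw) (mul_mem (x_norm hr) (wd_norm hw'))]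
    exact h1

theorem P.inj {lam mu : E →* ℂˣ} {s t : ℕ} (h : P lam s) (h' : P mu t) (he : lam = mu) : s = t := by
  subst he
  refine Nat.eq_of_testBit_eq fun j => ?_
  by_cases hj : j < 7
  · exact sg_inj (by rw [← h.2 j hj, ← h'.2 j hj])
  · have h1 : (128 : ℕ) ≤ 2 ^ j := by
      calc (128 : ℕ) = 2 ^ 7 := by norm_num
        _ ≤ 2 ^ j := Nat.pow_le_pow_right (by norm_num) (by omega)
    rw [Nat.testBit_eq_false_of_lt (lt_of_lt_of_le h.1 h1), Nat.testBit_eq_false_of_lt (lt_of_lt_of_le h'.1 h1)]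

theorem P.ne {lam : E →* ℂˣ} {s : ℕ} (h : P lam s) (h1 : lam ≠ 1) : s ≠ 0 := by
  rintro rfl
  apply h1
  have h2 : ∀ g (hg : g ∈ E), lam ⟨g, hg⟩ = 1 := by
    intro g hg
    unfold E at hg
    refine closure_induction (p := fun g hg => lam ⟨g, hg⟩ = 1) ?_ ?_ ?_ ?_ hg
    · rintro _ ⟨j, hj, rfl⟩
      have := h.2 j hj
      rw [Nat.zero_testBit] at this
      exact this
    · exact map_one lam
    · intro a b ha hb h1 h2
      have : (⟨a * b, mul_mem ha hb⟩ : E) = ⟨a, ha⟩ * ⟨b, hb⟩ := rfl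
      rw [this, map_mul, h1, h2, one_mul]
    · intro a ha h1
      have : (⟨a⁻¹, inv_mem ha⟩ : E) = (⟨a, ha⟩ : E)⁻¹ := rfl
      rw [this, map_inv, h1, inv_one]
  ext ⟨g, hg⟩
  rw [h2 g hg]
  rfl

theorem code_tab (b : Fin 7 → Bool) : ∃ s < 128, ∀ j (hj : j < 7), s.testBit j = b ⟨j, hj⟩ :=
  ⟨Nat.ofBits b, Nat.ofBits_lt_two_pow b, fun j hj => Nat.testBit_ofBits_lt b j hj⟩

theorem exists_P (lam : E →* ℂˣ) : ∃ s, P lam s := by
  classical
  have h1 : ∀ j (hj : j < 7), ∃ b : Bool, lam ⟨e j, e_mem hj⟩ = sg b := by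
    intro j hj
    have h2 : (⟨e j, e_mem hj⟩ : E) * ⟨e j, e_mem hj⟩ = 1 := Subtype.ext (x_mul_self _)
    have h3 : lam ⟨e j, e_mem hj⟩ * lam ⟨e j, e_mem hj⟩ = 1 := by rw [← map_mul, h2, map_one]
    have h4 : ((lam ⟨e j, e_mem hj⟩ : ℂˣ) : ℂ) * ((lam ⟨e j, e_mem hj⟩ : ℂˣ) : ℂ) = 1 := by
      have := congrArg (fun u : ℂˣ => (u : ℂ)) h3
      simpa only [_root_.Units.val_mul, _root_.Units.val_one] using this
    rcases mul_self_eq_one_iff.1 h4 with h5 | h5
    · exact ⟨false, Units.ext (by simpa [sg] using h5)⟩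
    · exact ⟨true, Units.ext (by simpa [sg] using h5)⟩
  choose b hb using h1
  obtain ⟨s, hs, hs'⟩ := code_tab (fun j => b j j.2)
  exact ⟨s, hs, fun j hj => by rw [hb j hj, hs' j hj]⟩

/-- **moved characters** -/
theorem exists_moved {w : List ℕ} {n : ℕ} (hw : ∀ r ∈ w, r ∈ lev) (hn : ∀ a ∈ [1, 64, 76], n ≤ (mv w a).length)
    (lam : E →* ℂˣ) (h1 : lam ≠ 1) : ∃ F : Finset (E →* ℂˣ), n ≤ F.card ∧ ∀ mu ∈ F,
      (∃ g ∈ normalizer (E : Set LL), ∀ a (ha : a ∈ E) (ha' : g * a * g⁻¹ ∈ E),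
        mu ⟨a, ha⟩ = lam ⟨g * a * g⁻¹, ha'⟩) ∧
      ∃ a, ∃ (ha : a ∈ E) (ha' : wd w * a * (wd w)⁻¹ ∈ E), mu ⟨wd w * a * (wd w)⁻¹, ha'⟩ ≠ mu ⟨a, ha⟩ := by
  classical
  obtain ⟨s, hs⟩ := exists_P lam
  have hs0 := hs.ne h1
  obtain ⟨u1, u2, -, u4⟩ := U_spec s hs.1
  have hrep : rp s ∈ [1, 64, 76] := by
    rcases u4 with h | h | h | h
    · exact absurd h hs0
    · simp [h]
    · simp [h]
    · simp [h]
  -- the word for `t`
  have hword : ∀ t ∈ mv w (rp s), ∃ mu : E →* ℂˣ, P mu t ∧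
      (∃ g ∈ normalizer (E : Set LL), ∀ a (ha : a ∈ E) (ha' : g * a * g⁻¹ ∈ E),
        mu ⟨a, ha⟩ = lam ⟨g * a * g⁻¹, ha'⟩) ∧
      ∃ a, ∃ (ha : a ∈ E) (ha' : wd w * a * (wd w)⁻¹ ∈ E), mu ⟨wd w * a * (wd w)⁻¹, ha'⟩ ≠ mu ⟨a, ha⟩ := by
    intro t ht
    unfold mv at ht
    rw [List.mem_filter, List.mem_range] at ht
    obtain ⟨ht1, ht2⟩ := ht
    rw [Bool.and_eq_true, beq_iff_eq, bne_iff_ne] at ht2
    obtain ⟨v1, v2, -, -⟩ := U_spec t ht1
    have hw1 : ∀ r ∈ U s ++ (U t).reverse, r ∈ lev := by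
      intro r hr
      rcases List.mem_append.1 hr with h | h
      · exact u1 r h
      · exact v1 r (List.mem_reverse.1 h)
    have h2 := P.tww _ hw1 hs
    have h3 : actw (U s ++ (U t).reverse) s = t := by
      unfold actw
      rw [List.foldl_append]
      have : List.foldl (fun s r => act r s) s (U s) = rp t := by rw [ht2.1]; rfl
      rw [this]
      exact v2
    rw [h3] at h2
    refine ⟨_, h2, ⟨_, wd_norm hw1, fun a ha ha' => rfl⟩, ?_⟩
    have h4 := P.tww w hw h2
    by_contra hcon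
    push Not at hcon
    apply ht2.2
    refine h4.inj h2 ?_
    ext ⟨a, ha⟩
    have := hcon a ha ((mem_normalizer_iff.1 (wd_norm hw) a).1 ha)
    exact congrArg (fun u : ℂˣ => (u : ℂ)) this
  choose! f hf1 hf2 using hword
  have hnd : (mv w (rp s)).Nodup := (List.nodup_range).filter _
  refine ⟨(mv w (rp s)).toFinset.image f, ?_, ?_⟩
  · rw [Finset.card_image_of_injOn, List.toFinset_card_of_nodup hnd]
    · exact hn _ hrep
    · intro a ha b hb hab
      rw [Finset.mem_coe, List.mem_toFinset] at ha hb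
      exact (hf1 a ha).inj (hf1 b hb) hab
  · intro mu hmu
    rw [Finset.mem_image] at hmu
    obtain ⟨t, ht, rfl⟩ := hmu
    exact hf2 t (List.mem_toFinset.1 ht)

end Cfsg.Agent.H622.QA
end

-- part: H622/QA/F42
section
/-!
# S4979, layer (A), the row `F₄(2)` (helper622)

`p = 3, 5, 7`: moved weights of `E = 2⁷` under `Sp₆(2)`; `p = 13, 17`: cyclic centralizers and `MinDeg 48`.
-/

set_option autoImplicit false
set_option maxRecDepth 100000
set_option linter.unusedSectionVars false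

namespace Cfsg.Agent.H622.QA

open Subgroup Cfsg Cfsg.Lie Cfsg.Agent.FourTwo.Base Cfsg.Agent.FourTwo.ClassSep
open Cfsg.Agent.H152.QA Cfsg.Agent.H80.Fpf

def rep : ℕ → List ℕ → List ℕ
  | 0, _ => []
  | n + 1, w => w ++ rep n w

theorem wd_rep (k : ℕ) (w : List ℕ) : wd (rep k w) = wd w ^ k := by
  induction k with
  | zero => rfl
  | succ k ih => rw [rep, wd_append, ih, pow_succ']

theorem orderOf_wd {p : ℕ} (hp : p.Prime) {w : List ℕ} (h1 : chk (rep p w) [] = true)
    (h2 : (w.all fun r => decide (r < 48)) = true) (h3 : iv w ≠ iv []) : orderOf (wd w) = p := by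
  have : Fact p.Prime := ⟨hp⟩
  have h4 : wd w ^ p = 1 := by
    rw [← wd_rep, wd_eq _ _ h1]; rfl
  have h5 : wd w ≠ 1 := by
    intro h
    apply h3
    rw [← rk2_wd w h2, ← rk2_wd [] (by decide), h]; rfl
  exact orderOf_eq_prime h4 h5

theorem order_x3 : orderOf (wd x3) = 3 := orderOf_wd (by norm_num) (by decide +kernel) (by decide) (by decide +kernel)
theorem order_x5 : orderOf (wd x5) = 5 := orderOf_wd (by norm_num) (by decide +kernel) (by decide) (by decide +kernel)
theorem order_x7 : orderOf (wd x7) = 7 := orderOf_wd (by norm_num) (by decide +kernel) (by decide) (by decide +kernel)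

theorem E_ne_bot : E ≠ ⊥ := by
  intro h
  have h1 : e 0 ∈ E := e_mem (by norm_num)
  rw [h, mem_bot] at h1
  have h2 : iv [41] = iv [] := by
    rw [← rk2_wd [41] (by decide), ← rk2_wd [] (by decide)]
    have h3 : wd [41] = wd [] := by
      rw [wd_one, wd_nil]
      exact h1
    rw [h3]
  exact absurd h2 (by decide +kernel)

theorem card_LL : Nat.card LL = 3311126603366400 := by
  rw [Cfsg.Agent.S1062.result (ZMod.card 2)]
  norm_num

theorem prime_cases {p : ℕ} (hp : p.Prime) (h2 : p ≠ 2) (h : p ∣ 3311126603366400) :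
    p = 3 ∨ p = 5 ∨ p = 7 ∨ p = 13 ∨ p = 17 := by
  have h1 : (3311126603366400 : ℕ) = 2 ^ 24 * (3 ^ 6 * (5 ^ 2 * (7 ^ 2 * (13 * 17)))) := by norm_num
  rw [h1] at h
  have key : ∀ {a : ℕ}, a.Prime → p ∣ a → p = a := fun ha h => (Nat.prime_dvd_prime_iff_eq hp ha).1 h
  rcases (Nat.Prime.dvd_mul hp).1 h with h | h
  · exact absurd (key Nat.prime_two (hp.dvd_of_dvd_pow h)) h2
  rcases (Nat.Prime.dvd_mul hp).1 h with h | h
  · exact Or.inl (key (by norm_num) (hp.dvd_of_dvd_pow h))
  rcases (Nat.Prime.dvd_mul hp).1 h with h | h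
  · exact Or.inr (Or.inl (key (by norm_num) (hp.dvd_of_dvd_pow h)))
  rcases (Nat.Prime.dvd_mul hp).1 h with h | h
  · exact Or.inr (Or.inr (Or.inl (key (by norm_num) (hp.dvd_of_dvd_pow h))))
  rcases (Nat.Prime.dvd_mul hp).1 h with h | h
  · exact Or.inr (Or.inr (Or.inr (Or.inl (key (by norm_num) h))))
  · exact Or.inr (Or.inr (Or.inr (Or.inr (key (by norm_num) h))))

theorem eleven_le {q : ℕ} (hq : q.Prime) (h : ¬ q ∣ 3311126603366400) : 11 ≤ q := by
  by_contra hcon
  push Not at hcon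
  have h2 := hq.two_le
  interval_cases q
  · exact h ⟨1655563301683200, by norm_num⟩
  · exact h ⟨1103708867788800, by norm_num⟩
  · exact absurd hq (by norm_num)
  · exact h ⟨662225320673280, by norm_num⟩
  · exact absurd hq (by norm_num)
  · exact h ⟨473018086195200, by norm_num⟩
  · exact absurd hq (by norm_num)
  · exact absurd hq (by norm_num)
  · exact absurd hq (by norm_num)

/-- `q ^ d ≤ |LL : H|` only for `d ≤ 14` -/
theorem no_pow {q d : ℕ} (hq : 11 ≤ q) (hd : 15 ≤ d) {H : Subgroup LL} (h : q ^ d ≤ H.index) : False := by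
  have h1 : H.index ≤ Nat.card LL := Nat.le_of_dvd Nat.card_pos H.index_dvd_card
  rw [card_LL] at h1
  have h2 : 11 ^ 15 ≤ q ^ d := (Nat.pow_le_pow_left hq 15).trans (Nat.pow_le_pow_right (by omega) hd)
  have h3 : (3311126603366400 : ℕ) < 11 ^ 15 := by norm_num
  omega

theorem cover_id (G : Type) [Group G] [IsSimpleGroup G] (hna : ¬ ∀ a b : G, a * b = b * a) :
    IsCover (MonoidHom.id G) where
  surj := Function.surjective_id
  central := by
    rw [(MonoidHom.ker_eq_bot_iff _).2 Function.injective_id]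
    exact bot_le
  perf := by
    rcases (inferInstance : (commutator G).Normal).eq_bot_or_eq_top with h | h
    · exfalso
      apply hna
      intro a b
      have h1 := (commutator_eq_bot_iff_center_eq_top G).1 h
      have h2 : b ∈ center G := by rw [h1]; exact mem_top b
      exact mem_center_iff.1 h2 a
    · exact h

instance simple_LL : IsSimpleGroup LL := (Cfsg.Agent.S1054.result chevF4 (by simp)).1

/-- the primes 13 and 17 -/
theorem no_cyc {p q : ℕ} {V : Type} [AddCommGroup V] [Finite V] [DistribMulAction LL V] (h : PSit p q LL V)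
    (hq : 11 ≤ q) (hcov : IsCover (MonoidHom.id LL)) {c : ℕ}
    (hp : p ≤ c ^ 2) (hn : 15 ≤ ((p - 1) * (48 - c) + (p - 1)) / p)
    (hcyc : Cfsg.Agent.H129.CycCard.CycCard LL p p 1) : False := by
  obtain ⟨T, -, hT1, -, hT3, hT⟩ := hcyc
  have : Fact p.Prime := ⟨h.hp⟩
  obtain ⟨y, hy⟩ := exists_prime_orderOf_dvd_card' p hT3
  have hyo : orderOf (y : LL) = p := by rw [Subgroup.orderOf_coe, hy]
  have hc : Nat.card (centralizer ({(y : LL)} : Set LL)) ≤ c ^ 2 := by
    refine le_trans ?_ hp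
    refine (Nat.le_of_dvd Nat.card_pos (Subgroup.card_dvd_of_le (hT y y.2 hyo))).trans ?_
    exact Nat.le_of_dvd h.hp.pos hT1
  have hB : Cfsg.Agent.H122.MinDeg LL 48 := by
    have := Cfsg.Agent.H267.ConjF4.minDeg_F4 (ZMod 2)
    rwa [ZMod.card] at this
  exact no_pow hq hn (h.ch_elt hcov hB (y : LL) hyo hc)

/-- the primes 3, 5, 7 -/
theorem no_moved {p q : ℕ} {V : Type} [AddCommGroup V] [Finite V] [DistribMulAction LL V] (h : PSit p q LL V)
    (hq : 11 ≤ q) {w : List ℕ} (hw : ∀ r ∈ w, r ∈ lev) (ho : orderOf (wd w) = p) {n t : ℕ}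
    (hn : ∀ a ∈ [1, 64, 76], n ≤ (mv w a).length) (ht : p * t ≤ n + (p - 1)) (h15 : 15 ≤ (p - 1) * t) : False := by
  refine no_pow hq h15 (Cfsg.Agent.H963.QA.PSit.weights_moved h E E_comm E_ne_bot (wd w) ho (wd_norm hw) ?_)
  intro lam hlam
  obtain ⟨F, hF, hF2⟩ := exists_moved hw hn lam hlam
  exact ⟨F, by omega, hF2⟩

theorem noSit_LL : NoSit LL := by
  intro p q L V _ _ _ _ _ π N φ hπ hS
  have hna : ¬ ∀ a b : LL, a * b = b * a := by
    intro hc
    have h1 : wd x3 = x 22 * x 25 := by simp [wd, x3]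
    have h2 : wd x3 ^ 2 = 1 := by
      rw [h1, pow_two]
      calc x 22 * x 25 * (x 22 * x 25) = x 22 * (x 25 * x 22) * x 25 := by simp only [mul_assoc]
        _ = (x 22 * x 22) * (x 25 * x 25) := by rw [hc (x 25) (x 22)]; simp only [mul_assoc]
        _ = 1 := by rw [x_mul_self, x_mul_self, one_mul]
    have h3 := orderOf_dvd_of_pow_eq_one h2
    rw [order_x3] at h3
    exact absurd h3 (by norm_num)
  have hcov := cover_id LL hna
  obtain ⟨act, h⟩ := hS.exists_pSit_prime hπ Nat.prime_two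
    (Cfsg.Agent.H80.Fpf.multDvd_of_cyclic two_ne_zero (Cfsg.Agent.S2104.result (ZMod.card 2)))
  have hq : 11 ≤ q := eleven_le h.hq (by rw [← card_LL]; exact h.qG)
  rcases prime_cases h.hp h.odd (by rw [← card_LL]; exact h.pG) with rfl | rfl | rfl | rfl | rfl
  · exact no_moved h hq (by decide) order_x3 (t := 8) mv3 (by norm_num) (by norm_num)
  · exact no_moved h hq (by decide) order_x5 (t := 4) mv5 (by norm_num) (by norm_num)
  · exact no_moved h hq (by decide) order_x7 (t := 3) mv7 (by norm_num) (by norm_num)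
  · exact no_cyc h hq hcov (c := 4) (by norm_num) (by norm_num)
      (Cfsg.Agent.H129.CycCard.card_F4_12 (ZMod.card 2) (by norm_num) (by norm_num) (by norm_num))
  · exact no_cyc h hq hcov (c := 5) (by norm_num) (by norm_num)
      (Cfsg.Agent.H129.CycCard.card_F4_8 (ZMod.card 2) (by norm_num) (by norm_num) (by norm_num) (by norm_num))

/-- **`F₄(2)`** -/
theorem row_f42 {F : Type} [Field F] [Fintype F] (hF : Fintype.card F = 2) : NoSit ↥(chevF4.group F) := by
  have h3 : Fintype.card F = Fintype.card (ZMod 2) := by rw [hF, ZMod.card]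
  have φ : F ≃+* ZMod 2 := FiniteField.ringEquivOfCardEq h3
  exact NoSit.of_equiv (ChevalleyStructure.FieldIso.groupEquiv chevF4 φ) noSit_LL

end Cfsg.Agent.H622.QA
end

-- part: H152/QA/Partial2
section
/-!
# S4979, layer (A): the rows already proved, second part (helper152)
-/

set_option autoImplicit false

open Cfsg Cfsg.Lie

namespace Cfsg.Agent.H152.QA

/-- The rows, from the remaining ones. -/
theorem rows_of2 (H : H440.QA.St4904)
    (pspOdd : ∀ (F : Type) [Field F] [Fintype F] (m : ℕ), 2 ≤ m → Odd (Fintype.card F) → NoSit (PSp m F))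
    (psu : ∀ (F : Type) [Field F] [Fintype F] (n q : ℕ), Fintype.card F = q ^ 2 → 3 ≤ n → ¬ (n = 3 ∧ q = 2) →
      ¬ (n = 4 ∧ q = 2) → ¬ (n = 4 ∧ q = 3) → ¬ (n = 6 ∧ q = 2) → NoSit (PSU n F q))
    (spor : ∀ (S : Type) [Group S] [Finite S] [IsSimpleGroup S], IsSporadicGroup S → NoSit S) : Rows :=
  rows_of H (fun n hn => H575.QA.row_alt n hn) (fun _ _ _ h4 => H722.QA.row_psl2 h4) (fun _ _ _ hF => H306.QA.row_l34 hF) pspOdd psu
    (fun _ _ _ hF => H309.U43.row_u43 hF) (fun _ _ _ hF => H410.QA.row_u62 hF)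
    (fun _ _ _ m hm ho h73 => H791.QAO.row_odd m hm ho h73) (fun _ _ _ hF => H87.QA.row_o73 hF)
    (fun _ _ _ hF => H622.QA.row_f42 hF) spor

end Cfsg.Agent.H152.QA
end

private theorem dce_c6f13c39e106 : _root_.True := by
  try have : _root_.True := by simp only [_root_.Cfsg.Agent.H622.QA.E.eq_1]
  try have : _root_.True := by simp only [_root_.Cfsg.Agent.H622.QA.rep.eq_def]
  try have : _root_.True := by simp only [_root_.Cfsg.Agent.H622.QA.rep.eq_2]
  try have : _root_.True := by simp only [_root_.Cfsg.Agent.H622.QA.x3.eq_1]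
  try have : _root_.True := by simp only [_root_.Cfsg.Agent.H622.QA.sg.eq_1]
  try have : _root_.True := by simp only [_root_.Cfsg.Agent.H622.QA.e.eq_1]
  try have : _root_.True := by simp only [_root_.Cfsg.Agent.H622.QA.tw.congr_simp]
  try have : _root_.True := by simp only [_root_.Cfsg.Agent.H622.QA.rep.eq_1]
  exact _root_.True.intro
end

-- part: H54/QA/PspRow_mg
section
prune_inst 0x1010190042a2100000040502800042100000042000008808c0800004010800280980a8000000210e1220000100000028130000a00200000000840400000400001080040041810019c2008000000841020020000000000000000080000000000001c010000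
set_option linter.all false
open scoped Cfsg.Agent.FastGrp

-- part: H54/QA/PspBlock
section
/-!
# S4979, layer (A): the row `PSp_2m(s)`, `s` odd, `p` prime to `s`, `p ∣ |Sp_2m-2(s)|` (helper54)

`psp_block`: from the bound of the codimension of `C_V(x)` for the elements `x` of order `p` fixing a vector.
-/

set_option autoImplicit false
set_option linter.unusedSectionVars false

namespace Cfsg.Agent.H54.QA

open Matrix Cfsg Cfsg.Agent.H152.QA Cfsg.Agent.H80.Fpf

/-! ### numerics -/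

/-- the step `m → m + 1` -/
theorem blk_step {s t m : ℕ} (hs : 3 ≤ s) (hm : 2 ≤ m)
    (h : s ^ (2 * (2 * m ^ 2 + m)) < 7 ^ (s ^ (m - 1) * t)) :
    s ^ (2 * (2 * (m + 1) ^ 2 + (m + 1))) < 7 ^ (s ^ (m + 1 - 1) * t) := by
  have h1 : s ^ (2 * (2 * (m + 1) ^ 2 + (m + 1))) ≤ (s ^ (2 * (2 * m ^ 2 + m))) ^ 3 := by
    rw [← pow_mul]
    apply Nat.pow_le_pow_right (by omega)
    nlinarith only [hm]
  have h2 : s ^ (m - 1) * t * 3 ≤ s ^ (m + 1 - 1) * t := by
    obtain ⟨k, rfl⟩ : ∃ k, m = k + 1 := ⟨m - 1, by omega⟩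
    rw [Nat.add_sub_cancel, Nat.add_sub_cancel, pow_succ]
    have h3 : s ^ k * t * 3 ≤ s ^ k * t * s := Nat.mul_le_mul_left _ hs
    linarith only [h3]
  calc s ^ (2 * (2 * (m + 1) ^ 2 + (m + 1))) ≤ (s ^ (2 * (2 * m ^ 2 + m))) ^ 3 := h1
    _ < (7 ^ (s ^ (m - 1) * t)) ^ 3 := Nat.pow_lt_pow_left h (by norm_num)
    _ = 7 ^ (s ^ (m - 1) * t * 3) := (pow_mul _ _ _).symm
    _ ≤ _ := Nat.pow_le_pow_right (by norm_num) h2

theorem blk_from {s t m0 : ℕ} (hs : 3 ≤ s) (hm0 : 2 ≤ m0)
    (h : s ^ (2 * (2 * m0 ^ 2 + m0)) < 7 ^ (s ^ (m0 - 1) * t)) (m : ℕ) (hm : m0 ≤ m) :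
    s ^ (2 * (2 * m ^ 2 + m)) < 7 ^ (s ^ (m - 1) * t) := by
  induction m, hm using Nat.le_induction with
  | base => exact h
  | succ m hm ih => exact blk_step hs (by omega) ih

theorem blk_two (s : ℕ) (hs : 11 ≤ s) : s ^ 20 < 7 ^ (s * 3) := by
  induction s, hs using Nat.le_induction with
  | base => norm_num
  | succ s hs ih =>
    have h1 : 11 * (s + 1) ≤ 12 * s := by omega
    have h2 : (11 * (s + 1)) ^ 20 ≤ (12 * s) ^ 20 := Nat.pow_le_pow_left h1 20
    rw [mul_pow, mul_pow] at h2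
    have h4 : 7 ^ ((s + 1) * 3) = 7 ^ (s * 3) * 343 := by
      rw [add_mul, pow_add]
      norm_num
    rw [h4]
    have h5 : (12 : ℕ) ^ 20 ≤ 11 ^ 20 * 343 := by norm_num
    have h6 : 11 ^ 20 * (s + 1) ^ 20 ≤ 11 ^ 20 * (343 * s ^ 20) := by
      calc 11 ^ 20 * (s + 1) ^ 20 ≤ 12 ^ 20 * s ^ 20 := h2
        _ ≤ 11 ^ 20 * 343 * s ^ 20 := Nat.mul_le_mul_right _ h5
        _ = _ := by ring
    have h7 : (s + 1) ^ 20 ≤ 343 * s ^ 20 := Nat.le_of_mul_le_mul_left h6 (by norm_num)
    omega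

/-- the main range -/
theorem blk_main {s m t : ℕ} (hs : 3 ≤ s) (hso : Odd s) (hm : 2 ≤ m) (ht : s + 3 ≤ 6 * t)
    (h2 : ¬ (m = 2 ∧ s < 11)) (h3 : ¬ (m = 3 ∧ s = 3)) (h4 : ¬ (m = 4 ∧ s = 3)) :
    s ^ (2 * (2 * m ^ 2 + m)) < 7 ^ (s ^ (m - 1) * t) := by
  by_cases h11 : 11 ≤ s
  · have ht3 : 3 ≤ t := by omega
    refine lt_of_lt_of_le (blk_from hs le_rfl (t := 3) ?_ m hm)
      (Nat.pow_le_pow_right (by norm_num) (Nat.mul_le_mul_left _ ht3))
    have := blk_two s h11
    norm_num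
    exact this
  by_cases hs3 : s = 3
  · subst hs3
    have ht1 : 1 ≤ t := by omega
    refine lt_of_lt_of_le (blk_from hs (m0 := 5) (by norm_num) (t := 1) ?_ m (by omega))
      (Nat.pow_le_pow_right (by norm_num) (Nat.mul_le_mul_left _ ht1))
    norm_num
  · have ht2 : 2 ≤ t := by
      obtain ⟨k, hk⟩ := hso
      omega
    refine lt_of_lt_of_le (blk_from hs (m0 := 3) (by norm_num) (t := 2) ?_ m (by omega))
      (Nat.pow_le_pow_right (by norm_num) (Nat.mul_le_mul_left _ ht2))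
    have h579 : s = 5 ∨ s = 7 ∨ s = 9 := by
      obtain ⟨k, hk⟩ := hso
      omega
    rcases h579 with rfl | rfl | rfl <;> norm_num

section

variable {F : Type} [Field F] [Fintype F] {p q : ℕ}

theorem card_le_pow {m : ℕ} (hm : 1 ≤ m) (ho : Odd (Fintype.card F)) :
    Nat.card (PSp m F) ≤ Fintype.card F ^ (2 * m ^ 2 + m) := by
  have h1 := card_PSp_two (F := F) hm ho
  set s := Fintype.card F with hs
  have h2 : ∏ i ∈ Finset.range m, (s ^ (2 * (i + 1)) - 1) ≤ s ^ (m ^ 2 + m) := by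
    calc ∏ i ∈ Finset.range m, (s ^ (2 * (i + 1)) - 1) ≤ ∏ i ∈ Finset.range m, s ^ (2 * (i + 1)) :=
          Finset.prod_le_prod' fun i _ => Nat.sub_le _ _
      _ = s ^ (m ^ 2 + m) := by
        rw [Finset.prod_pow_eq_pow_sum, ← Finset.mul_sum, sum_succ]
        congr 1
        rw [Nat.choose_two_right, Nat.add_sub_cancel, Nat.mul_div_cancel' (Nat.even_mul_succ_self m |>.two_dvd |> fun h => by rwa [mul_comm] at h)]
        ring
  calc Nat.card (PSp m F) ≤ 2 * Nat.card (PSp m F) := by omega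
    _ = s ^ (m ^ 2) * ∏ i ∈ Finset.range m, (s ^ (2 * (i + 1)) - 1) := h1
    _ ≤ s ^ (m ^ 2) * s ^ (m ^ 2 + m) := Nat.mul_le_mul_left _ h2
    _ = s ^ (2 * m ^ 2 + m) := by
      rw [← pow_add]
      congr 1
      ring

/-! ### blocks -/

open Cfsg.Agent.H376.SpEmb

/-- `y ↦ y ⊕ 1` -/
noncomputable def emb (a b : ℕ) (y : symplecticGroup (Fin a) F) (g : symplecticGroup (Fin b) F) :
    symplecticGroup (Fin (a + b)) F := reidx finSumFinEquiv (blk (Fin a) (Fin b) (y, g))

theorem emb_mul {a b : ℕ} (y y' : symplecticGroup (Fin a) F) (g g' : symplecticGroup (Fin b) F) :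
    emb a b (y * y') (g * g') = emb a b y g * emb a b y' g' := by
  rw [emb, emb, emb, ← map_mul, ← map_mul, Prod.mk_mul_mk]

theorem emb_inj {a b : ℕ} {y y' : symplecticGroup (Fin a) F} {g g' : symplecticGroup (Fin b) F}
    (h : emb a b y g = emb a b y' g') : y = y' ∧ g = g' := by
  have h1 := blk_injective _ _ (reidx_injective _ h)
  exact ⟨congrArg Prod.fst h1, congrArg Prod.snd h1⟩

theorem orderOf_emb {a b : ℕ} (y : symplecticGroup (Fin a) F) : orderOf (emb a b y 1) = orderOf y := by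
  rw [emb, orderOf_injective _ (reidx_injective _), orderOf_injective _ (blk_injective _ _), Prod.orderOf_mk,
    orderOf_one]
  exact Nat.lcm_one_right _

/-- a fixed vector -/
theorem exists_fixed {a b : ℕ} (hb : 1 ≤ b) (y : symplecticGroup (Fin a) F) :
    ∃ e : Fin (a + b) ⊕ Fin (a + b) → F, e ≠ 0 ∧ (emb a b y 1).1 *ᵥ e = e := by
  let b₀ : Fin b := ⟨0, by omega⟩
  let ε : (Fin a ⊕ Fin b) ⊕ (Fin a ⊕ Fin b) ≃ Fin (a + b) ⊕ Fin (a + b) := Equiv.sumCongr finSumFinEquiv finSumFinEquiv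
  let e0 : (Fin a ⊕ Fin b) ⊕ (Fin a ⊕ Fin b) → F := e1v (Fin b) b₀
  refine ⟨e0 ∘ ε.symm, ?_, ?_⟩
  · intro h
    have h1 := congrFun h (ε (Sum.inl (Sum.inr b₀)))
    simp [e0, e1v] at h1
  · show ((blkM y.1 1).submatrix ε.symm ε.symm) *ᵥ (e0 ∘ ε.symm) = e0 ∘ ε.symm
    rw [Matrix.submatrix_mulVec_equiv]
    rw [Function.comp_assoc, Equiv.symm_symm, Equiv.symm_comp_self, Function.comp_id]
    rw [show blkM y.1 (1 : Matrix (Fin b ⊕ Fin b) (Fin b ⊕ Fin b) F) *ᵥ e0 = e0 from blkM_e1v y.1 b₀]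

/-- `p |Sp_2b(s)| |S : N_S(⟨x⟩)| ≤ |S|` -/
theorem index_block {a b : ℕ} (hm : 1 ≤ a + b) (ho : Odd (Fintype.card F)) (hp2 : Odd p)
    {y : symplecticGroup (Fin a) F} (hy : orderOf y = p) (ha : 1 ≤ a) :
    (Subgroup.normalizer ((Subgroup.zpowers (QuotientGroup.mk (emb a b y 1) : PSp (a + b) F) :
      Subgroup (PSp (a + b) F)) : Set (PSp (a + b) F))).index * (p * Nat.card (symplecticGroup (Fin b) F)) ≤
      Nat.card (PSp (a + b) F) := by
  set x := emb a b y 1 with hx
  let π : symplecticGroup (Fin (a + b)) F →* PSp (a + b) F := QuotientGroup.mk' _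
  have hπ : Function.Surjective π := QuotientGroup.mk'_surjective _
  have hgcd : Nat.gcd 2 (Fintype.card F - 1) = 2 := Nat.gcd_eq_left (by obtain ⟨t, ht⟩ := ho; omega)
  have hSp : Nat.card (symplecticGroup (Fin (a + b)) F) = Nat.card (PSp (a + b) F) * 2 := by
    rw [Subgroup.card_eq_card_quotient_mul_card_subgroup (Subgroup.center (symplecticGroup (Fin (a + b)) F)),
      Cfsg.Agent.S0246.result (F := F) rfl (a + b) hm, hgcd]
  -- the involution `-1` of the first block
  let z : symplecticGroup (Fin a) F := ⟨-1, SymplecticGroup.neg_mem (one_mem _)⟩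
  have hz2 : z ^ 2 = 1 := by
    apply Subtype.ext
    show (-1 : Matrix (Fin a ⊕ Fin a) (Fin a ⊕ Fin a) F) ^ 2 = 1
    simp only [_root_.even_two, _root_.Even.neg_pow, _root_.one_pow]
  have hz1 : z ≠ 1 := by
    intro h
    have h1 : (-1 : Matrix (Fin a ⊕ Fin a) (Fin a ⊕ Fin a) F) = 1 := congrArg Subtype.val h
    have h2 := congrFun (congrFun h1 (Sum.inl ⟨0, by omega⟩)) (Sum.inl ⟨0, by omega⟩)
    rw [Matrix.neg_apply, Matrix.one_apply_eq] at h2
    have h3 : (2 : F) = 0 := by linear_combination -h2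
    have h4 : ringChar F = 2 := by
      have := (ringChar.spec F 2).1 (by exact_mod_cast h3)
      rcases (Nat.dvd_prime Nat.prime_two).1 this with h | h
      · exact absurd h (CharP.ringChar_ne_one)
      · exact h
    have h5 := FiniteField.even_card_of_char_two h4
    obtain ⟨t, ht⟩ := ho
    omega
  have hzo : orderOf z = 2 := orderOf_eq_prime hz2 hz1
  have hzc : ∀ u : symplecticGroup (Fin a) F, z * u = u * z := by
    intro u
    apply Subtype.ext
    show (-1 : Matrix (Fin a ⊕ Fin a) (Fin a ⊕ Fin a) F) * u.1 = u.1 * -1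
    rw [neg_mul, one_mul, mul_neg, mul_one]
  have hw : orderOf (z * y) = 2 * p := by
    rw [(show Commute z y from hzc y).orderOf_mul_eq_mul_orderOf_of_coprime, hzo, hy]
    rw [hzo, hy]
    exact Nat.coprime_two_left.2 hp2
  have hwy : Commute (z * y) y := by
    show z * y * y = y * (z * y)
    rw [← mul_assoc y z y, ← hzc y]
  -- the centralizer in `Sp`
  have h1 : 2 * p * Nat.card (symplecticGroup (Fin b) F) ≤
      Nat.card (Subgroup.centralizer ({x} : Set (symplecticGroup (Fin (a + b)) F))) := by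
    rw [← hw, ← Nat.card_zpowers, ← Nat.card_prod]
    refine Nat.card_le_card_of_injective (fun u : Subgroup.zpowers (z * y) × symplecticGroup (Fin b) F =>
      (⟨emb a b u.1 u.2, ?_⟩ : Subgroup.centralizer ({x} : Set (symplecticGroup (Fin (a + b)) F)))) ?_
    · obtain ⟨⟨_, k, rfl⟩, g⟩ := u
      rw [Subgroup.mem_centralizer_singleton_iff]
      show emb a b ((z * y) ^ k) g * x = x * emb a b ((z * y) ^ k) g
      rw [hx, ← emb_mul, ← emb_mul, mul_one, one_mul, (hwy.zpow_left k).eq]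
    · rintro ⟨u, g⟩ ⟨u', g'⟩ h
      have h2 := emb_inj (congrArg Subtype.val h)
      exact Prod.ext (Subtype.ext h2.1) h2.2
  have h2 : Nat.card (Subgroup.centralizer ({x} : Set (symplecticGroup (Fin (a + b)) F))) ≤
      2 * Nat.card (Subgroup.centralizer ({π x} : Set (PSp (a + b) F))) := by
    have h3 : Subgroup.centralizer ({x} : Set (symplecticGroup (Fin (a + b)) F)) ≤
        (Subgroup.centralizer ({π x} : Set (PSp (a + b) F))).comap π := by
      intro u hu
      rw [Subgroup.mem_centralizer_singleton_iff] at hu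
      rw [Subgroup.mem_comap, Subgroup.mem_centralizer_singleton_iff, ← map_mul, hu, map_mul]
    have h4 : Nat.card ((Subgroup.centralizer ({π x} : Set (PSp (a + b) F))).comap π) =
        2 * Nat.card (Subgroup.centralizer ({π x} : Set (PSp (a + b) F))) := by
      have h5 := Subgroup.card_mul_index ((Subgroup.centralizer ({π x} : Set (PSp (a + b) F))).comap π)
      have h6 := Subgroup.card_mul_index (Subgroup.centralizer ({π x} : Set (PSp (a + b) F)))
      rw [Subgroup.index_comap_of_surjective _ hπ, hSp, ← h6] at h5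
      have h7 : 0 < (Subgroup.centralizer ({π x} : Set (PSp (a + b) F))).index :=
        Nat.pos_of_ne_zero Subgroup.index_ne_zero_of_finite
      apply Nat.eq_of_mul_eq_mul_right h7
      rw [h5]
      ring
    rw [← h4]
    exact Nat.card_le_card_of_injective _ (Subgroup.inclusion_injective h3)
  have h3 := index_mul_cent_le (π x)
  refine le_trans (Nat.mul_le_mul_left _ ?_) h3
  have h4 : 2 * p * Nat.card (symplecticGroup (Fin b) F) = 2 * (p * Nat.card (symplecticGroup (Fin b) F)) := by ring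
  omega

/-! ### rationality -/

/-- conjugacy of `y` and `y ^ k` lifts from `PSp` to `Sp` -/
theorem isConj_lift {a : ℕ} (hp2 : Odd p) {y : symplecticGroup (Fin a) F} (hy : orderOf y = p) {k : ℕ}
    (h : IsConj (QuotientGroup.mk y : PSp a F) ((QuotientGroup.mk y : PSp a F) ^ k)) : IsConj y (y ^ k) := by
  obtain ⟨c, hc⟩ := isConj_iff.1 h
  obtain ⟨g, rfl⟩ := QuotientGroup.mk_surjective c
  have h1 : (QuotientGroup.mk (g * y * g⁻¹ * (y ^ k)⁻¹) : PSp a F) = 1 := by
    have h2 : (QuotientGroup.mk (g * y * g⁻¹) : PSp a F) = QuotientGroup.mk (y ^ k) := hc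
    have h3 : (QuotientGroup.mk (g * y * g⁻¹ * (y ^ k)⁻¹) : PSp a F) =
      QuotientGroup.mk (g * y * g⁻¹) * (QuotientGroup.mk (y ^ k))⁻¹ := rfl
    rw [h3, h2, mul_inv_cancel]
  have hz := (QuotientGroup.eq_one_iff _).1 h1
  set z := g * y * g⁻¹ * (y ^ k)⁻¹ with hzd
  have hz2 : z ^ 2 = 1 := center_pow z hz
  have hyp : y ^ p = 1 := by rw [← hy]; exact pow_orderOf_eq_one y
  have h2 : g * y * g⁻¹ = z * y ^ k := by rw [hzd]; group
  have h3 : (g * y * g⁻¹) ^ p = 1 := by rw [conj_pow, hyp, mul_one, mul_inv_cancel]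
  have hcz : Commute z (y ^ k) := (Subgroup.mem_center_iff.1 hz (y ^ k)).symm
  rw [h2, hcz.mul_pow, ← pow_mul, mul_comm k p, pow_mul, hyp, one_pow, mul_one] at h3
  have h4 : z = 1 := by
    have h5 := orderOf_dvd_of_pow_eq_one hz2
    have h6 := orderOf_dvd_of_pow_eq_one h3
    have h7 := Nat.dvd_gcd h5 h6
    rw [Nat.coprime_iff_gcd_eq_one.1 (Nat.coprime_two_left.2 hp2)] at h7
    exact orderOf_eq_one_iff.1 (Nat.dvd_one.1 h7)
  rw [isConj_iff]
  exact ⟨g, by rw [h2, h4, one_mul]⟩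

theorem isConj_emb {a b : ℕ} {y : symplecticGroup (Fin a) F} {k : ℕ} (h : IsConj y (y ^ k)) :
    IsConj (QuotientGroup.mk (emb a b y 1) : PSp (a + b) F) ((QuotientGroup.mk (emb a b y 1) : PSp (a + b) F) ^ k) := by
  have hpow : ∀ k : ℕ, emb a b y 1 ^ k = emb a b (y ^ k) 1 := by
    intro k
    induction k with
    | zero => rw [pow_zero, pow_zero, emb, ← Prod.one_eq_mk, map_one, map_one]
    | succ k ih => rw [pow_succ, ih, ← emb_mul, ← pow_succ, mul_one]
  obtain ⟨c, hc⟩ := isConj_iff.1 h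
  rw [← QuotientGroup.mk_pow, hpow]
  have h1 : IsConj (emb a b y 1) (emb a b (y ^ k) 1) := by
    rw [isConj_iff]
    refine ⟨emb a b c 1, ?_⟩
    have h2 : (emb a b c 1)⁻¹ = emb a b c⁻¹ 1 := by
      rw [inv_eq_iff_mul_eq_one, ← emb_mul, mul_inv_cancel, mul_one, emb, ← Prod.one_eq_mk, map_one, map_one]
    rw [h2, ← emb_mul, ← emb_mul, hc, one_mul, one_mul]
  exact (QuotientGroup.mk' (Subgroup.center (symplecticGroup (Fin (a + b)) F))).map_isConj h1

/-- `e` divides the codimension -/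
theorem dvd_codim_of {S V : Type} [Group S] [Finite S] [AddCommGroup V] [Finite V] [DistribMulAction S V]
    (h : PSit p q S V) {x : S} (hx : orderOf x = p) {e c : ℕ} (he : e ∣ p - 1)
    (hrat : ∀ k : ℕ, k ^ e % p = 1 → IsConj x (x ^ k))
    (hc : Nat.card V = q ^ c * Nat.card (fixV S V (Subgroup.zpowers x))) : e ∣ c := by
  obtain ⟨d, ρ, hd, hfx, -⟩ := Cfsg.Agent.H973.QA.exists_fx h.hq h.exp h.qG h.faith
  obtain ⟨k0, hk0⟩ := Cfsg.Agent.H973.QA.exists_ord h.hp he
  have he0 : 0 < e := Nat.pos_of_dvd_of_pos he (by have := h.hp.one_lt; omega)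
  obtain ⟨k, hk⟩ := Cfsg.Agent.H973.QA.dvd_codim ρ (X := Subgroup.zpowers x) h.hp he0 hk0
    (by
      rintro _ ⟨a, rfl⟩ _ ⟨b, rfl⟩
      exact ((Commute.refl x).zpow_zpow a b).eq)
    (by
      rintro _ ⟨a, rfl⟩
      show (x ^ a) ^ p = 1
      rw [← zpow_natCast, ← _root_.zpow_mul, mul_comm, _root_.zpow_mul, zpow_natCast, ← hx, pow_orderOf_eq_one,
        _root_.one_zpow])
    (fun a ha i => Cfsg.Agent.H973.QA.trace_conj ρ (Cfsg.Agent.H973.QA.isConj_of_mem hrat a ha _ (by
      have h2 := (hk0 (i * e) 0).2 ((Nat.modEq_zero_iff_dvd).2 (dvd_mul_left e i))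
      rw [pow_mul, pow_zero] at h2
      rw [h2, Nat.mod_eq_of_lt h.hp.one_lt])))
  rw [Module.finrank_fin_fun] at hk
  rw [hfx, hd, ← pow_add] at hc
  have h1 := Nat.pow_right_injective h.hq.two_le hc
  exact ⟨k, by omega⟩

theorem orderOf_mk {a : ℕ} (hp : p.Prime) (hp2 : p ≠ 2) {y : symplecticGroup (Fin a) F} (hy : orderOf y = p) :
    orderOf (QuotientGroup.mk y : PSp a F) = p := by
  have : Fact p.Prime := ⟨hp⟩
  refine orderOf_eq_prime ?_ fun h => ?_
  · rw [← QuotientGroup.mk_pow, ← hy, pow_orderOf_eq_one]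
    rfl
  · have h1 := center_pow y ((QuotientGroup.eq_one_iff y).1 h)
    have h2 := orderOf_dvd_of_pow_eq_one h1
    rw [hy] at h2
    exact hp2 ((Nat.prime_dvd_prime_iff_eq hp Nat.prime_two).1 h2)

/-- an element `y` of order `p` of a block `Sp_2a` -/
theorem block_ineq {a b : ℕ} (ha : 1 ≤ a) (hb : 1 ≤ b) (ho : Odd (Fintype.card F)) {V : Type} [AddCommGroup V]
    [Finite V] [DistribMulAction (PSp (a + b) F) V] (h : PSit p q (PSp (a + b) F) V)
    (K : ∀ x : symplecticGroup (Fin (a + b)) F, orderOf x = p → ∀ e : Fin (a + b) ⊕ Fin (a + b) → F, e ≠ 0 →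
      x.1 *ᵥ e = e → ∃ c t : ℕ, Fintype.card F + 3 ≤ 6 * t ∧ Fintype.card F ^ (a + b - 1) * t ≤ 2 * c ∧
        Nat.card V = q ^ c * Nat.card (fixV (PSp (a + b) F) V (Subgroup.zpowers (QuotientGroup.mk x : PSp (a + b) F))))
    {y : symplecticGroup (Fin a) F} (hy : orderOf y = p) :
    ∃ c t : ℕ, Fintype.card F + 3 ≤ 6 * t ∧ Fintype.card F ^ (a + b - 1) * t ≤ 2 * c ∧
      q ^ c * (p * Nat.card (symplecticGroup (Fin b) F)) ≤ Nat.card (PSp (a + b) F) ∧
      ∀ e, e ∣ p - 1 → (∀ k : ℕ, k ^ e % p = 1 → IsConj y (y ^ k)) → e ∣ c := by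
  have hodd : Odd p := h.hp.odd_of_ne_two h.odd
  obtain ⟨v, hv, hxv⟩ := exists_fixed (F := F) hb y
  have hxo : orderOf (emb a b y 1) = p := by rw [orderOf_emb, hy]
  obtain ⟨c, t, h1, h2, h3⟩ := K (emb a b y 1) hxo v hv hxv
  have hxo' : orderOf (QuotientGroup.mk (emb a b y 1) : PSp (a + b) F) = p := orderOf_mk h.hp h.odd hxo
  refine ⟨c, t, h1, h2, ?_, fun e he hrat => dvd_codim_of h hxo' he (fun k hk => isConj_emb (hrat k hk)) h3⟩
  have hXp : IsPGroup p (Subgroup.zpowers (QuotientGroup.mk (emb a b y 1) : PSp (a + b) F)) :=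
    IsPGroup.of_card (n := 1) (by rw [Nat.card_zpowers, hxo', pow_one])
  have h4 := h.card_le _ hXp
  rw [h3] at h4
  have h5 : 0 < Nat.card (fixV (PSp (a + b) F) V
      (Subgroup.zpowers (QuotientGroup.mk (emb a b y 1) : PSp (a + b) F))) := Nat.card_pos
  have h6 := Nat.le_of_mul_le_mul_right h4 h5
  exact (Nat.mul_le_mul_right _ h6).trans (index_block (by omega) ho hodd hy ha)

/-- the elements of order `5` of `Sp_4(3)` and of order `7` of `Sp_6(3)` are conjugate to their powers -/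
theorem rat_four (hF : Fintype.card F = 3) {y : symplecticGroup (Fin 2) F} (hy : orderOf y = 5) {k : ℕ}
    (hk : k ^ 4 % 5 = 1) : IsConj y (y ^ k) := by
  have ho : Odd (Fintype.card F) := by rw [hF]; decide
  have hp : Nat.Prime 5 := by norm_num
  have hy' := orderOf_mk hp (by norm_num) hy
  have hS : Nat.card (PSp 2 F) = 25920 := by
    have h1 := card_PSp_two (F := F) (m := 2) (by omega) ho
    rw [hF] at h1
    have : (3 : ℕ) ^ (2 ^ 2) * ∏ i ∈ Finset.range 2, (3 ^ (2 * (i + 1)) - 1) = 2 * 25920 := by decide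
    (clear * - h1 this; omega)
  have hpF : ¬ 5 ∣ Fintype.card F := by rw [hF]; norm_num
  have hord := order_top (F := F) (p := 5) le_rfl hp hpF (by
    rw [Cfsg.Agent.S0245.result (F := F) hF]; decide) (by
    rw [show 2 - 1 = 1 from rfl, Cfsg.Agent.S0245.result (F := F) hF]; decide)
  have hcent := card_cent_top le_rfl ho hp hpF hord hy'
  rw [hF] at hcent
  have h5C : 5 ∣ Nat.card (Subgroup.centralizer ({(QuotientGroup.mk y : PSp 2 F)} : Set (PSp 2 F))) := by
    have h2 := Subgroup.orderOf_dvd_natCard (Subgroup.centralizer ({(QuotientGroup.mk y : PSp 2 F)} : Set (PSp 2 F)))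
      (Subgroup.mem_centralizer_singleton_iff.2 rfl : (QuotientGroup.mk y : PSp 2 F) ∈ _)
    rwa [hy'] at h2
  have hC : Nat.card (Subgroup.centralizer ({(QuotientGroup.mk y : PSp 2 F)} : Set (PSp 2 F))) = 5 := by
    rcases hcent with h2 | h2 <;> (clear * - h2 h5C; omega)
  obtain ⟨e, he, hNc, hmod, hprod⟩ := Cfsg.Agent.H306.QA.exists_card_normalizer' hp hy' (by rw [hS]; norm_num)
  rw [hS, hC] at hprod
  have he4 : e ≤ 4 := Nat.le_of_dvd (by norm_num) he
  have h6 : e = 4 := by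
    interval_cases e <;> (clear * - he hmod hprod; omega)
  subst h6
  exact isConj_lift (by decide) hy (Cfsg.Agent.H306.QA.isConj_pow_of_card hp hy' hNc hk)

theorem rat_six (hF : Fintype.card F = 3) {y : symplecticGroup (Fin 3) F} (hy : orderOf y = 7) {k : ℕ}
    (hk : k ^ 6 % 7 = 1) : IsConj y (y ^ k) := by
  have ho : Odd (Fintype.card F) := by rw [hF]; decide
  have hp : Nat.Prime 7 := by norm_num
  have hy' := orderOf_mk hp (by norm_num) hy
  have hS : Nat.card (PSp 3 F) = 4585351680 := by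
    have h1 := card_PSp_two (F := F) (m := 3) (by omega) ho
    rw [hF] at h1
    have : (3 : ℕ) ^ (3 ^ 2) * ∏ i ∈ Finset.range 3, (3 ^ (2 * (i + 1)) - 1) = 2 * 4585351680 := by decide
    (clear * - h1 this; (solve | lia | omega))
  have hpF : ¬ 7 ∣ Fintype.card F := by rw [hF]; norm_num
  have hord := order_top (F := F) (p := 7) (m := 3) (by norm_num) hp hpF (by
    rw [Cfsg.Agent.S0245.result (F := F) hF]; decide) (by
    rw [show 3 - 1 = 2 from rfl, Cfsg.Agent.S0245.result (F := F) hF]; decide)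
  have hcent := card_cent_top (by norm_num) ho hp hpF hord hy'
  rw [hF] at hcent
  have h5C : 7 ∣ Nat.card (Subgroup.centralizer ({(QuotientGroup.mk y : PSp 3 F)} : Set (PSp 3 F))) := by
    have h2 := Subgroup.orderOf_dvd_natCard (Subgroup.centralizer ({(QuotientGroup.mk y : PSp 3 F)} : Set (PSp 3 F)))
      (Subgroup.mem_centralizer_singleton_iff.2 rfl : (QuotientGroup.mk y : PSp 3 F) ∈ _)
    rwa [hy'] at h2
  have hC : Nat.card (Subgroup.centralizer ({(QuotientGroup.mk y : PSp 3 F)} : Set (PSp 3 F))) = 14 := by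
    rcases hcent with h2 | h2 <;> (clear * - h2 h5C; omega)
  obtain ⟨e, he, hNc, hmod, hprod⟩ := Cfsg.Agent.H306.QA.exists_card_normalizer' hp hy' (by rw [hS]; norm_num)
  rw [hS, hC] at hprod
  have he4 : e ≤ 6 := Nat.le_of_dvd (by norm_num) he
  have h6 : e = 6 := by
    interval_cases e <;> (clear * - he hmod hprod; omega)
  subst h6
  exact isConj_lift (by decide) hy (Cfsg.Agent.H306.QA.isConj_pow_of_card hp hy' hNc hk)

theorem half_le {c t k E : ℕ} (h1 : 1 ≤ t) (h2 : k * t ≤ 2 * c) (h3 : 2 * E ≤ k + 1) : E ≤ c := by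
  have h4 : k * 1 ≤ k * t := Nat.mul_le_mul_left _ h1
  omega

theorem eleven_le {S V : Type} [Group S] [Finite S] [AddCommGroup V] [Finite V] [DistribMulAction S V]
    (h : PSit p q S V) (hq7 : 7 ≤ q) (h7 : 7 ∣ Nat.card S) : 11 ≤ q := by
  by_contra hlt
  have hqS := h.qG
  have hqp := h.hq
  have h8 : q = 7 ∨ q = 8 ∨ q = 9 ∨ q = 10 := by omega
  rcases h8 with rfl | rfl | rfl | rfl
  · exact hqS h7
  · norm_num at hqp
  · norm_num at hqp
  · norm_num at hqp

theorem final_ineq {a b q0 E A N M c : ℕ} (hq : q0 ≤ q) (hc : E ≤ c) (hq0 : 1 ≤ q0)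
    (h3 : q ^ c * (p * Nat.card (symplecticGroup (Fin b) F)) ≤ Nat.card (PSp (a + b) F))
    (hA : A ≤ p) (hN : Nat.card (symplecticGroup (Fin b) F) = N) (hM : Nat.card (PSp (a + b) F) = M) :
    q0 ^ E * (A * N) ≤ M := by
  rw [← hN, ← hM]
  refine le_trans (Nat.mul_le_mul ?_ (Nat.mul_le_mul_right _ hA)) h3
  exact (Nat.pow_le_pow_right hq0 hc).trans (Nat.pow_le_pow_left hq _)

theorem card_psp43 (hF : Fintype.card F = 3) : Nat.card (PSp 4 F) = 65784756654489600 := by
  have h1 := card_PSp_two (F := F) (m := 4) (by omega) (by rw [hF]; decide)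
  rw [hF] at h1
  have h2 : (3 : ℕ) ^ (4 ^ 2) * ∏ i ∈ Finset.range 4, (3 ^ (2 * (i + 1)) - 1) = 2 * 65784756654489600 := by
    norm_num [Finset.prod_range_succ]
  exact Nat.eq_of_mul_eq_mul_left two_pos (h1.trans h2)

theorem card_psp33 (hF : Fintype.card F = 3) : Nat.card (PSp 3 F) = 4585351680 := by
  have h1 := card_PSp_two (F := F) (m := 3) (by omega) (by rw [hF]; decide)
  rw [hF] at h1
  have : (3 : ℕ) ^ (3 ^ 2) * ∏ i ∈ Finset.range 3, (3 ^ (2 * (i + 1)) - 1) = 2 * 4585351680 := by decide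
  (clear * - h1 this; solve | lia | omega)

theorem card_sp3 (hF : Fintype.card F = 3) : Nat.card (symplecticGroup (Fin 1) F) = 24 ∧
    Nat.card (symplecticGroup (Fin 2) F) = 51840 ∧ Nat.card (symplecticGroup (Fin 3) F) = 9170703360 := by
  refine ⟨?_, ?_, ?_⟩ <;> rw [Cfsg.Agent.S0245.result (F := F) hF] <;> norm_num [Finset.prod_range_succ]

/-- the hypothesis on the codimensions -/
def KHyp (p q m : ℕ) (F V : Type) [Field F] [Fintype F] [AddCommGroup V] [DistribMulAction (PSp m F) V] : Prop :=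
  ∀ x : symplecticGroup (Fin m) F, orderOf x = p → ∀ e : Fin m ⊕ Fin m → F, e ≠ 0 → x.1 *ᵥ e = e →
    ∃ c t : ℕ, Fintype.card F + 3 ≤ 6 * t ∧ Fintype.card F ^ (m - 1) * t ≤ 2 * c ∧
      Nat.card V = q ^ c * Nat.card (fixV (PSp m F) V (Subgroup.zpowers (QuotientGroup.mk x : PSp m F)))

variable {V : Type} [AddCommGroup V] [Finite V]

theorem exc_three [DistribMulAction (PSp (2 + 1) F) V] (h : PSit p q (PSp (2 + 1) F) V)
    (hF : Fintype.card F = 3) (hpF : ¬ p ∣ Fintype.card F) (hd : p ∣ Nat.card (symplecticGroup (Fin 2) F))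
    (K : KHyp p q (2 + 1) F V) : False := by
  have ho : Odd (Fintype.card F) := by rw [hF]; decide
  have hq7 : 7 ≤ q := seven_le (by norm_num) ho h.hq h.qG
  have hS : Nat.card (PSp (2 + 1) F) = 4585351680 := card_psp33 hF
  obtain ⟨hs1, hs2, -⟩ := card_sp3 hF
  have hq11 : 11 ≤ q := eleven_le h hq7 (by rw [hS]; norm_num)
  have hp3 : p = 5 := by
    have h1 : p ∣ 3 ^ 4 * (2 ^ 7 * 5) := by
      rw [hs2] at hd
      norm_num
      exact hd
    rw [hF] at hpF
    rcases h.hp.dvd_mul.1 h1 with h2 | h2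
    · exact absurd (h.hp.dvd_of_dvd_pow h2) hpF
    rcases h.hp.dvd_mul.1 h2 with h2 | h2
    · exact absurd ((Nat.prime_dvd_prime_iff_eq h.hp Nat.prime_two).1 (h.hp.dvd_of_dvd_pow h2)) h.odd
    · exact (Nat.prime_dvd_prime_iff_eq h.hp (by norm_num)).1 h2
  subst hp3
  have : Fact (Nat.Prime 5) := ⟨h.hp⟩
  obtain ⟨y, hy⟩ := exists_prime_orderOf_dvd_card' (G := symplecticGroup (Fin 2) F) 5 hd
  obtain ⟨c, t, h1, h2, h3, h9⟩ := block_ineq (a := 2) (b := 1) (by norm_num) (by norm_num) ho h K hy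
  rw [hF] at h1 h2
  have h4 : 5 ≤ c := half_le (k := 9) (by omega) h2 (by norm_num)
  have h10 := h9 4 (by norm_num) (fun k hk => rat_four hF hy hk)
  have h11 : 8 ≤ c := by omega
  have h12 := final_ineq hq11 h11 (by norm_num) h3 le_rfl hs1 hS
  norm_num at h12

theorem exc_four_a [DistribMulAction (PSp (2 + 2) F) V] (h : PSit 5 q (PSp (2 + 2) F) V)
    (hF : Fintype.card F = 3) (K : KHyp 5 q (2 + 2) F V) : False := by
  have ho : Odd (Fintype.card F) := by rw [hF]; decide
  have hq7 : 7 ≤ q := seven_le (by norm_num) ho h.hq h.qG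
  have hS : Nat.card (PSp (2 + 2) F) = 65784756654489600 := card_psp43 hF
  obtain ⟨hs1, hs2, -⟩ := card_sp3 hF
  have hq11 : 11 ≤ q := eleven_le h hq7 (by rw [hS]; norm_num)
  have : Fact (Nat.Prime 5) := ⟨h.hp⟩
  obtain ⟨y, hy⟩ := exists_prime_orderOf_dvd_card' (G := symplecticGroup (Fin 2) F) 5 (by rw [hs2]; norm_num)
  obtain ⟨c, t, h1, h2, h3, h9⟩ := block_ineq (a := 2) (b := 2) (by norm_num) (by norm_num) ho h K hy
  rw [hF] at h1 h2
  have h4 : 14 ≤ c := half_le (k := 27) (by omega) h2 (by norm_num)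
  have h12 := final_ineq hq11 h4 (by norm_num) h3 le_rfl hs2 hS
  norm_num at h12

theorem exc_four_b [DistribMulAction (PSp (3 + 1) F) V] (h : PSit p q (PSp (3 + 1) F) V)
    (hp : p = 7 ∨ p = 13) (hF : Fintype.card F = 3) (K : KHyp p q (3 + 1) F V) : False := by
  have ho : Odd (Fintype.card F) := by rw [hF]; decide
  have hq7 : 7 ≤ q := seven_le (by norm_num) ho h.hq h.qG
  have hS : Nat.card (PSp (3 + 1) F) = 65784756654489600 := card_psp43 hF
  obtain ⟨hs1, hs2, hs3⟩ := card_sp3 hF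
  have hq11 : 11 ≤ q := eleven_le h hq7 (by rw [hS]; norm_num)
  have : Fact p.Prime := ⟨h.hp⟩
  obtain ⟨y, hy⟩ := exists_prime_orderOf_dvd_card' (G := symplecticGroup (Fin 3) F) p (by
    rw [hs3]
    rcases hp with rfl | rfl <;> norm_num)
  obtain ⟨c, t, h1, h2, h3, h9⟩ := block_ineq (a := 3) (b := 1) (by norm_num) (by norm_num) ho h K hy
  rw [hF] at h1 h2
  have h4 : 14 ≤ c := half_le (k := 27) (by omega) h2 (by norm_num)
  rcases hp with rfl | rfl
  · have h10 := h9 6 (by norm_num) (fun k hk => rat_six hF hy hk)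
    have h11 : 18 ≤ c := by omega
    have h12 := final_ineq hq11 h11 (by norm_num) h3 le_rfl hs1 hS
    norm_num at h12
  · have h12 := final_ineq hq11 h4 (by norm_num) h3 le_rfl hs1 hS
    norm_num at h12

theorem exc_two [DistribMulAction (PSp (1 + 1) F) V] (h : PSit p q (PSp (1 + 1) F) V)
    (hF : Fintype.card F < 11) (ho : Odd (Fintype.card F)) (hpF : ¬ p ∣ Fintype.card F)
    (hd : p ∣ Nat.card (symplecticGroup (Fin 1) F)) (K : KHyp p q (1 + 1) F V) : False := by
  have hq7 : 7 ≤ q := seven_le (by norm_num) ho h.hq h.qG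
  have : Fact p.Prime := ⟨h.hp⟩
  have hp3 : 3 ≤ p := by
    have := h.hp.two_le
    have := h.odd
    omega
  obtain ⟨y, hy⟩ := exists_prime_orderOf_dvd_card' p hd
  obtain ⟨c, t, h1, h2, h3, h9⟩ := block_ineq (a := 1) (b := 1) (by norm_num) (by norm_num) ho h K hy
  have hS := card_PSp_two (F := F) (m := 1 + 1) (by omega) ho
  have hSp := Cfsg.Agent.S0245.result (F := F) rfl 1
  rw [Nat.add_sub_cancel, pow_one] at h2
  have hcard : Fintype.card F = 3 ∨ Fintype.card F = 5 ∨ Fintype.card F = 7 ∨ Fintype.card F = 9 := by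
    have := Fintype.one_lt_card (α := F)
    obtain ⟨k, hk⟩ := ho
    (clear * - hF this hk; omega)
  rcases hcard with hF | hF | hF | hF
  · rw [hF] at hSp hpF
    rw [hSp] at hd
    have h4 : p ∣ 3 * 2 ^ 3 := hd
    rcases h.hp.dvd_mul.1 h4 with h5 | h5
    · exact hpF h5
    · exact h.odd ((Nat.prime_dvd_prime_iff_eq h.hp Nat.prime_two).1 (h.hp.dvd_of_dvd_pow h5))
  · rw [hF] at hSp h1 h2 hS
    have e1 : (5 : ℕ) ^ 1 ^ 2 * ∏ i ∈ Finset.range 1, (5 ^ (2 * (i + 1)) - 1) = 120 := by decide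
    have e2 : (5 : ℕ) ^ (1 + 1) ^ 2 * ∏ i ∈ Finset.range (1 + 1), (5 ^ (2 * (i + 1)) - 1) = 2 * 4680000 := by decide
    have h4 := final_ineq (E := 5) hq7 (by (clear * - h1 h2; omega)) (by norm_num) h3 hp3 (hSp.trans e1) (M := 4680000) (by (clear * - hS e2; (solve | lia | omega)))
    norm_num at h4
  · rw [hF] at hSp h1 h2 hS
    have e1 : (7 : ℕ) ^ 1 ^ 2 * ∏ i ∈ Finset.range 1, (7 ^ (2 * (i + 1)) - 1) = 336 := by decide
    have e2 : (7 : ℕ) ^ (1 + 1) ^ 2 * ∏ i ∈ Finset.range (1 + 1), (7 ^ (2 * (i + 1)) - 1) = 2 * 138297600 := by decide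
    have h4 := final_ineq (E := 7) hq7 (by (clear * - h1 h2; omega)) (by norm_num) h3 hp3 (hSp.trans e1) (M := 138297600) (by (clear * - hS e2; (solve | lia | omega)))
    norm_num at h4
  · rw [hF] at hSp h1 h2 hS
    have e1 : (9 : ℕ) ^ 1 ^ 2 * ∏ i ∈ Finset.range 1, (9 ^ (2 * (i + 1)) - 1) = 720 := by decide
    have e2 : (9 : ℕ) ^ (1 + 1) ^ 2 * ∏ i ∈ Finset.range (1 + 1), (9 ^ (2 * (i + 1)) - 1) = 2 * 1721606400 := by decide
    have h4 := final_ineq (E := 9) hq7 (by (clear * - h1 h2; omega)) (by norm_num) h3 hp3 (hSp.trans e1) (M := 1721606400) (by (clear * - hS e2; (solve | lia | omega)))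
    norm_num at h4

/-- **`p ∣ |Sp_2m-2(s)|`** from the bound `K` of the codimension -/
theorem psp_block (m : ℕ) (hm : 2 ≤ m) (ho : Odd (Fintype.card F)) [DistribMulAction (PSp m F) V]
    (hpF : ¬ p ∣ Fintype.card F) (hd : p ∣ Nat.card (symplecticGroup (Fin (m - 1)) F)) (K : KHyp p q m F V) :
    ¬ PSit p q (PSp m F) V := by
  intro h
  have : Fact p.Prime := ⟨h.hp⟩
  have hq7 : 7 ≤ q := seven_le hm ho h.hq h.qG
  have hs3 : 3 ≤ Fintype.card F := by
    have := Fintype.one_lt_card (α := F)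
    obtain ⟨t, ht⟩ := ho
    omega
  by_cases e4 : m = 4 ∧ Fintype.card F = 3
  · obtain ⟨rfl, hF⟩ := e4
    have hp3 : p = 5 ∨ p = 7 ∨ p = 13 := by
      have h1 : p ∣ 3 ^ 9 * (2 ^ 10 * (5 * (7 * 13))) := by
        have h2 := (card_sp3 hF).2.2
        have h3 : p ∣ Nat.card (symplecticGroup (Fin 3) F) := hd
        rw [h2] at h3
        norm_num
        exact h3
      rw [hF] at hpF
      rcases h.hp.dvd_mul.1 h1 with h2 | h2
      · exact absurd (h.hp.dvd_of_dvd_pow h2) hpF
      rcases h.hp.dvd_mul.1 h2 with h2 | h2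
      · exact absurd ((Nat.prime_dvd_prime_iff_eq h.hp Nat.prime_two).1 (h.hp.dvd_of_dvd_pow h2)) h.odd
      rcases h.hp.dvd_mul.1 h2 with h2 | h2
      · exact Or.inl ((Nat.prime_dvd_prime_iff_eq h.hp (by norm_num)).1 h2)
      rcases h.hp.dvd_mul.1 h2 with h2 | h2
      · exact Or.inr (Or.inl ((Nat.prime_dvd_prime_iff_eq h.hp (by norm_num)).1 h2))
      · exact Or.inr (Or.inr ((Nat.prime_dvd_prime_iff_eq h.hp (by norm_num)).1 h2))
    rcases hp3 with rfl | hp3
    · exact exc_four_a h hF K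
    · exact exc_four_b h hp3 hF K
  by_cases e3 : m = 3 ∧ Fintype.card F = 3
  · obtain ⟨rfl, hF⟩ := e3
    exact exc_three h hF hpF hd K
  obtain ⟨a, rfl⟩ : ∃ a, m = a + 1 := ⟨m - 1, by omega⟩
  rw [Nat.add_sub_cancel] at hd
  by_cases e2 : a + 1 = 2 ∧ Fintype.card F < 11
  · obtain ⟨ha, hF⟩ := e2
    obtain rfl : a = 1 := by omega
    exact exc_two h hF ho hpF hd K
  obtain ⟨y, hy⟩ := exists_prime_orderOf_dvd_card' p hd
  obtain ⟨c, t, h1, h2, h3, -⟩ := block_ineq (b := 1) (by omega) le_rfl ho h K hy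
  have h4 := blk_main hs3 ho hm h1 e2 e3 e4
  have h5 := card_le_pow (F := F) (m := a + 1) (by omega) ho
  have h6 : q ^ c ≤ Fintype.card F ^ (2 * (a + 1) ^ 2 + (a + 1)) := by
    refine le_trans (le_trans (Nat.le_mul_of_pos_right _ (Nat.mul_pos h.hp.pos Nat.card_pos)) h3) h5
  have h7 : (q ^ c) ^ 2 ≤ (Fintype.card F ^ (2 * (a + 1) ^ 2 + (a + 1))) ^ 2 := Nat.pow_le_pow_left h6 2
  rw [← pow_mul, ← pow_mul, mul_comm c 2, mul_comm _ 2] at h7
  have h8 : 7 ^ (Fintype.card F ^ (a + 1 - 1) * t) ≤ q ^ (2 * c) :=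
    (Nat.pow_le_pow_right (by norm_num) h2).trans (Nat.pow_le_pow_left hq7 _)
  omega

end

end Cfsg.Agent.H54.QA
end

-- part: H277/QA/Wt
section
/-!
# S4979 (A), row PSp: the codimension of the fixed space of a transvection (helper277)

`card_weights_le`: the number of weights `χ` with `χ(a) ≠ 1` is at most the codimension of the fixed space of `a`.
`le_codim`: in a complex representation of `Sp_{2n}(q)`, `q` odd, which is non-trivial on the radical of the Siegel parabolic, the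
fixed space of a transvection has codimension at least `q^(n-1) (q + 3) / 6`.
-/

set_option autoImplicit false

namespace Cfsg.Agent.H277.QA

open Matrix Module Cfsg.Agent.H972.Weights Cfsg.Agent.H972.SymOrbit Cfsg.Agent.H972.SpBound

section weights

variable {A K U : Type*} [CommGroup A] [Field K] [AddCommGroup U] [Module K U]

theorem card_weights_le [FiniteDimensional K U] (r : A →* Module.End K U) {ι : Type*} [Finite ι]
    (χ : ι → A →* Kˣ) (hinj : Function.Injective χ) (hw : ∀ i, HasWeight r (χ i)) (a : A) (ha : ∀ i, χ i a ≠ 1) :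
    Nat.card ι + finrank K (LinearMap.ker (r a - 1)) ≤ finrank K U := by
  obtain ⟨W, hW⟩ : ∃ W, W = LinearMap.range (r a - 1) := ⟨_, rfl⟩
  have hinv : ∀ b, ∀ w ∈ W, r b w ∈ W := by
    rw [hW]
    rintro b _ ⟨v, rfl⟩
    refine ⟨r b v, ?_⟩
    rw [← Module.End.mul_apply, ← Module.End.mul_apply]
    congr 1
    rw [sub_mul, mul_sub, one_mul, mul_one, ← map_mul, ← map_mul, mul_comm a b]
  let r' : A →* Module.End K W :=
    { toFun := fun b => (r b).restrict (hinv b)
      map_one' := by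
        ext w
        show r 1 w.1 = w.1
        rw [map_one]
        rfl
      map_mul' := fun b c => by
        ext w
        show r (b * c) w.1 = r b (r c w.1)
        rw [map_mul]
        rfl }
  have hw' : ∀ i, HasWeight r' (χ i) := by
    intro i
    obtain ⟨w, hw0, hwr⟩ := hw i
    have hne : ((χ i a : Kˣ) : K) - 1 ≠ 0 := by
      intro h
      exact ha i (Units.ext (sub_eq_zero.1 h))
    have hmem : w ∈ W := by
      rw [hW]
      refine ⟨(((χ i a : Kˣ) : K) - 1)⁻¹ • w, ?_⟩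
      have h3 : (r a - 1) w = (((χ i a : Kˣ) : K) - 1) • w := by
        rw [LinearMap.sub_apply, hwr a, Module.End.one_apply, sub_smul, one_smul]
      rw [map_smul, h3, smul_smul, inv_mul_cancel₀ hne, one_smul]
    refine ⟨⟨w, hmem⟩, fun h => hw0 (congrArg Subtype.val h), fun b => ?_⟩
    exact Subtype.ext (hwr b)
  have h1 := card_le_finrank r' χ hinj hw'
  have h2 := LinearMap.finrank_range_add_finrank_ker (r a - 1)
  rw [← hW] at h2
  omega

end weights

section count

variable {F : Type*} [Field F] [Fintype F]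

/-- the number of squares `≠ 0` (times a constant) on which a non-trivial character is not `1` -/
theorem le_card_vals (hodd : Odd (Fintype.card F)) {K : Type*} [Field K] {ψ : Multiplicative F →* Kˣ} (hψ : ψ ≠ 1) [DecidableEq F]
    {a c : F} (ha : a ≠ 0) (hc : c ≠ 0) [DecidablePred fun v : F => ψ (Multiplicative.ofAdd (a * v)) ≠ 1] :
    Fintype.card F + 3 ≤ 6 * (((Finset.univ.filter fun l : F => l ≠ 0).image fun l => l ^ 2 * c).filter
      fun v => ψ (Multiplicative.ofAdd (a * v)) ≠ 1).card := by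
  classical
  set Q := (Finset.univ.filter fun l : F => l ≠ 0).image fun l => l ^ 2 * c with hQ
  -- the squares
  have hQc : Fintype.card F - 1 ≤ 2 * Q.card := by
    have h1 : (Finset.univ.filter fun l : F => l ≠ 0).card = Fintype.card F - 1 := by
      rw [Finset.filter_ne', Finset.card_erase_of_mem (Finset.mem_univ _), Finset.card_univ]
    rw [← h1]
    refine Finset.card_le_mul_card_image _ 2 ?_
    intro v _
    have h3 : ∀ l ∈ (Finset.univ.filter fun l : F => l ≠ 0).filter (fun l => l ^ 2 * c = v),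
        ∀ l' ∈ (Finset.univ.filter fun l : F => l ≠ 0).filter (fun l => l ^ 2 * c = v), l' = l ∨ l' = -l := by
      intro l hl l' hl'
      rw [Finset.mem_filter] at hl hl'
      have h4 : l' ^ 2 = l ^ 2 := mul_right_cancel₀ hc (hl'.2.trans hl.2.symm)
      exact sq_eq_sq_iff_eq_or_eq_neg.1 h4
    rcases ((Finset.univ.filter fun l : F => l ≠ 0).filter (fun l => l ^ 2 * c = v)).eq_empty_or_nonempty with h0 | ⟨l, hl⟩
    · rw [h0, Finset.card_empty]
      omega
    · refine (Finset.card_le_card (t := {l, -l}) ?_).trans Finset.card_le_two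
      intro l' hl'
      rw [Finset.mem_insert, Finset.mem_singleton]
      exact h3 l hl l' hl'
  -- the kernel
  let φ : Multiplicative F →* Kˣ :=
    { toFun := fun v => ψ (Multiplicative.ofAdd (a * v.toAdd))
      map_one' := by
        rw [toAdd_one, mul_zero, ofAdd_zero, map_one]
      map_mul' := fun v w => by
        rw [toAdd_mul, mul_add, ofAdd_add, map_mul] }
  have hφ : φ.ker ≠ ⊤ := by
    intro h
    apply hψ
    refine MonoidHom.ext fun v => ?_
    have h3 : Multiplicative.ofAdd (a⁻¹ * Multiplicative.toAdd v) ∈ φ.ker := by rw [h]; trivial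
    rw [MonoidHom.mem_ker] at h3
    have h4 : ψ (Multiplicative.ofAdd (a * (a⁻¹ * Multiplicative.toAdd v))) = 1 := h3
    rw [mul_inv_cancel_left₀ ha, ofAdd_toAdd] at h4
    rw [h4]
    rfl
  have hidx : φ.ker.index * Nat.card φ.ker = Fintype.card F := by
    rw [mul_comm, Subgroup.card_mul_index, Nat.card_eq_fintype_card, Fintype.card_multiplicative]
  have hidx3 : 3 ≤ φ.ker.index := by
    have h3 : φ.ker.index ≠ 1 := fun h => hφ (Subgroup.index_eq_one.1 h)
    have h4 : Odd φ.ker.index := by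
      rw [← hidx] at hodd
      exact (Nat.odd_mul.1 hodd).1
    obtain ⟨k, hk⟩ := h4
    omega
  have hker : 3 * Nat.card φ.ker ≤ Fintype.card F := by
    rw [← hidx]
    exact Nat.mul_le_mul_right _ hidx3
  -- values with `ψ = 1`
  have hbad : (Q.filter fun v => ¬ ψ (Multiplicative.ofAdd (a * v)) ≠ 1).card + 1 ≤ Nat.card φ.ker := by
    have h3 : (insert 0 (Q.filter fun v => ¬ ψ (Multiplicative.ofAdd (a * v)) ≠ 1)).card =
        (Q.filter fun v => ¬ ψ (Multiplicative.ofAdd (a * v)) ≠ 1).card + 1 := by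
      apply Finset.card_insert_of_notMem
      intro h
      rw [Finset.mem_filter, hQ, Finset.mem_image] at h
      obtain ⟨⟨l, hl, hl0⟩, -⟩ := h
      rw [Finset.mem_filter] at hl
      exact mul_ne_zero (pow_ne_zero 2 hl.2) hc hl0
    rw [← h3]
    have h4 : ∀ v ∈ insert (0 : F) (Q.filter fun v => ¬ ψ (Multiplicative.ofAdd (a * v)) ≠ 1),
        Multiplicative.ofAdd v ∈ φ.ker := by
      intro v hv
      rw [MonoidHom.mem_ker]
      show ψ (Multiplicative.ofAdd (a * v)) = 1
      rw [Finset.mem_insert, Finset.mem_filter, not_not] at hv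
      rcases hv with rfl | hv
      · rw [mul_zero, ofAdd_zero, map_one]
      · exact hv.2
    rw [Nat.card_eq_fintype_card (α := φ.ker), ← Finset.card_univ]
    refine Finset.card_le_card_of_injOn (fun v => if h : Multiplicative.ofAdd v ∈ φ.ker then ⟨Multiplicative.ofAdd v, h⟩ else 1)
      (fun _ _ => Finset.mem_univ _) ?_
    intro v hv w hw hvw
    have h5 := h4 v hv
    have h6 := h4 w hw
    simp only [dif_pos h5, dif_pos h6] at hvw
    exact Multiplicative.ofAdd.injective (congrArg Subtype.val hvw)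
  have hsplit := Finset.card_filter_add_card_filter_not (s := Q) (fun v => ψ (Multiplicative.ofAdd (a * v)) ≠ 1)
  omega

end count

section main

variable {F : Type*} [Field F] [Fintype F] {n : ℕ}

omit [Fintype F] in
theorem trace_mul_rankOne (M : Matrix (Fin n) (Fin n) F) (a : F) (y : Fin n → F) :
    (M * (a • vecMulVec y y)).trace = a * (y ⬝ᵥ (M *ᵥ y)) := by
  rw [Matrix.mul_smul, Matrix.trace_smul, Matrix.mul_vecMulVec, Matrix.trace_vecMulVec, smul_eq_mul,
    dotProduct_comm]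

/-- the number of members of the orbit with `ψ(a yᵀ T y) ≠ 1` -/
theorem le_card_orb_ne (h2 : (2 : F) ≠ 0) (hodd : Odd (Fintype.card F)) {K : Type*} [Field K]
    {ψ : Multiplicative F →* Kˣ} (hψ : ψ ≠ 1) {S : Matrix (Fin n) (Fin n) F} (hS : Sᵀ = S) (h0 : S ≠ 0)
    {y : Fin n → F} (hy : y ≠ 0) {a : F} (ha : a ≠ 0) :
    ∃ t, Fintype.card F + 3 ≤ 6 * t ∧ Fintype.card F ^ (n - 1) * t ≤
      Nat.card {T : Matrix (Fin n) (Fin n) F // T ∈ orb S ∧ ψ (Multiplicative.ofAdd (a * (y ⬝ᵥ (T *ᵥ y)))) ≠ 1} := by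
  classical
  obtain ⟨y0, hy0⟩ := exists_value_ne_zero h2 hS h0
  obtain ⟨c, hc⟩ : ∃ c, c = y0 ⬝ᵥ (S *ᵥ y0) := ⟨_, rfl⟩
  have hc0 : c ≠ 0 := by rw [hc]; exact hy0
  have hy0ne : y0 ≠ 0 := by
    rintro rfl
    apply hy0
    simp only [_root_.Matrix.mulVec_zero, _root_.dotProduct_zero]
  obtain ⟨l, hl⟩ := exists_GL_mulVec_eq hy hy0ne
  obtain ⟨T0, hT0⟩ : ∃ T0, T0 = (l : Matrix (Fin n) (Fin n) F)ᵀ * S * (l : Matrix (Fin n) (Fin n) F) := ⟨_, rfl⟩
  have hT : T0 ∈ orb S := ⟨l, hT0.symm⟩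
  have hv : y ⬝ᵥ (T0 *ᵥ y) = c := by
    rw [hT0, ← Matrix.mulVec_mulVec, hl, ← Matrix.mulVec_mulVec, Matrix.dotProduct_mulVec, Matrix.vecMul_transpose,
      hl, ← hc]
  have hvals := le_card_vals hodd hψ ha hc0
  set Vals := ((Finset.univ.filter fun l : F => l ≠ 0).image fun l => l ^ 2 * c).filter
      fun v => ψ (Multiplicative.ofAdd (a * v)) ≠ 1 with hVals
  have hfib : ∀ v ∈ Vals, Fintype.card F ^ (n - 1) ≤
      (Finset.univ.filter fun T : Matrix (Fin n) (Fin n) F => T ∈ orb S ∧ y ⬝ᵥ (T *ᵥ y) = v).card := by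
    intro v hv'
    rw [hVals, Finset.mem_filter, Finset.mem_image] at hv'
    obtain ⟨⟨k, hk, rfl⟩, -⟩ := hv'
    have hk0 : k ≠ 0 := (Finset.mem_filter.1 hk).2
    let lk : GL (Fin n) F := Units.mk0 k hk0 • (1 : GL (Fin n) F)
    have hlk : (lk : Matrix (Fin n) (Fin n) F) = k • (1 : Matrix (Fin n) (Fin n) F) := rfl
    have h3 := orb_trans hT lk
    have h4 : y ⬝ᵥ (((lk : Matrix (Fin n) (Fin n) F)ᵀ * T0 * (lk : Matrix (Fin n) (Fin n) F)) *ᵥ y) = k ^ 2 * c := by
      rw [hlk, Matrix.transpose_smul, Matrix.transpose_one, Matrix.smul_mul, Matrix.one_mul, Matrix.mul_smul,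
        Matrix.mul_one, smul_smul, Matrix.smul_mulVec, dotProduct_smul, hv, smul_eq_mul, sq]
    have h5 := le_card_orb_value _ h3 (mul_ne_zero (pow_ne_zero 2 hk0) hc0) h4
    rwa [Nat.card_eq_fintype_card, Fintype.card_subtype] at h5
  have hsub : (Vals.biUnion fun v => Finset.univ.filter fun T : Matrix (Fin n) (Fin n) F => T ∈ orb S ∧ y ⬝ᵥ (T *ᵥ y) = v) ⊆
      Finset.univ.filter fun T : Matrix (Fin n) (Fin n) F =>
        T ∈ orb S ∧ ψ (Multiplicative.ofAdd (a * (y ⬝ᵥ (T *ᵥ y)))) ≠ 1 := by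
    intro T hT'
    rw [Finset.mem_biUnion] at hT'
    obtain ⟨v, hv', hT'⟩ := hT'
    rw [Finset.mem_filter] at hT' ⊢
    refine ⟨Finset.mem_univ _, hT'.2.1, ?_⟩
    rw [hT'.2.2]
    exact (Finset.mem_filter.1 hv').2
  have hdisj : (Vals : Set F).PairwiseDisjoint
      (fun v => Finset.univ.filter fun T : Matrix (Fin n) (Fin n) F => T ∈ orb S ∧ y ⬝ᵥ (T *ᵥ y) = v) := by
    intro v _ w _ hvw
    rw [Function.onFun, Finset.disjoint_left]
    intro T h3 h4
    rw [Finset.mem_filter] at h3 h4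
    exact hvw (h3.2.2.symm.trans h4.2.2)
  have h3 := Finset.card_le_card hsub
  rw [Finset.card_biUnion hdisj] at h3
  have h4 : Vals.card * Fintype.card F ^ (n - 1) ≤
      ∑ v ∈ Vals, (Finset.univ.filter fun T : Matrix (Fin n) (Fin n) F => T ∈ orb S ∧ y ⬝ᵥ (T *ᵥ y) = v).card := by
    rw [← smul_eq_mul, ← Finset.sum_const]
    exact Finset.sum_le_sum hfib
  rw [Nat.card_eq_fintype_card, Fintype.card_subtype]
  refine ⟨Vals.card, hvals, ?_⟩
  rw [mul_comm]
  exact h4.trans h3

/-- **The codimension of the fixed space of a transvection.** -/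
theorem le_codim (h2 : (2 : F) ≠ 0) (hodd : Odd (Fintype.card F)) {K : Type*} [Field K] [IsAlgClosed K]
    (hK : (Fintype.card F : K) ≠ 0) {U : Type*} [AddCommGroup U] [Module K U] [FiniteDimensional K U]
    (ρ : Matrix.symplecticGroup (Fin n) F →* Module.End K U) (h : ∃ X, ρ (rad n F X) ≠ 1)
    {y : Fin n → F} (hy : y ≠ 0) {a : F} (ha : a ≠ 0) (X : Multiplicative (symm n F))
    (hX : (X.toAdd : Matrix (Fin n) (Fin n) F) = a • vecMulVec y y) :
    ∃ t, Fintype.card F + 3 ≤ 6 * t ∧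
      Fintype.card F ^ (n - 1) * t + finrank K (LinearMap.ker (ρ (rad n F X) - 1)) ≤ finrank K U := by
  classical
  -- the order of the radical and its exponent are invertible
  have hpow : ∃ k, Nat.card (Multiplicative (symm n F)) ∣ Fintype.card F ^ k := by
    refine ⟨n * n, ?_⟩
    have h1 := AddSubgroup.card_addSubgroup_dvd_card (symm n F)
    have h3 : Nat.card (Matrix (Fin n) (Fin n) F) = Fintype.card F ^ (n * n) := by
      change Nat.card (Fin n → Fin n → F) = _
      rw [Nat.card_eq_fintype_card]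
      simp only [pow_mul, _root_.Fintype.card_pi, _root_.Finset.prod_const, _root_.Finset.card_univ, _root_.Fintype.card_fin]
    rw [h3] at h1
    exact h1
  have hunit : ∀ m : ℕ, (∃ k, m ∣ Fintype.card F ^ k) → (m : K) ≠ 0 := by
    rintro m ⟨k, c, hc⟩ h0
    apply pow_ne_zero k hK
    have := congrArg (Nat.cast : ℕ → K) hc
    rw [Nat.cast_mul, h0, zero_mul, Nat.cast_pow] at this
    exact this
  have hcardK : (Nat.card (Multiplicative (symm n F)) : K) ≠ 0 := hunit _ hpow
  have : NeZero ((Monoid.exponent (Multiplicative (symm n F)) : ℕ) : K) := by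
    constructor
    apply hunit
    obtain ⟨k, hk⟩ := hpow
    exact ⟨k, (Group.exponent_dvd_nat_card).trans hk⟩
  have : NeZero ((Monoid.exponent (Multiplicative F) : ℕ) : K) := by
    constructor
    apply hunit
    refine ⟨1, ?_⟩
    rw [pow_one]
    have := Group.exponent_dvd_nat_card (G := Multiplicative F)
    rwa [Nat.card_eq_fintype_card, Fintype.card_multiplicative] at this
  obtain ⟨ψ, hψ⟩ : ∃ ψ : Multiplicative F →* Kˣ, ψ ≠ 1 := by
    obtain ⟨φ, hφ⟩ := CommGroup.exists_apply_ne_one_of_hasEnoughRootsOfUnity (Multiplicative F) K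
      (a := Multiplicative.ofAdd (1 : F)) (by simp only [_root_.ne_eq, _root_.ofAdd_eq_one, _root_.one_ne_zero, _root_.not_false_eq_true])
    exact ⟨φ, fun h0 => hφ (by rw [h0]; rfl)⟩
  obtain ⟨χ, hχ, hw⟩ := exists_hasWeight hcardK (ρ.comp (rad n F)) h
  obtain ⟨S, hS, rfl⟩ := exists_eq_chi h2 hψ χ
  have hS0 : S ≠ 0 := by
    rintro rfl
    apply hχ
    refine MonoidHom.ext fun X => ?_
    rw [chi_apply]
    simp only [_root_.MulZeroClass.zero_mul, _root_.Matrix.trace_zero, _root_.ofAdd_zero, _root_.map_one, _root_.MonoidHom.one_apply]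
  have hall : ∀ T ∈ orb S, HasWeight (ρ.comp (rad n F)) (chi ψ T) := by
    rintro T ⟨l, rfl⟩
    have := hw.conj (levi l⁻¹) (act l⁻¹) (rad_act l⁻¹)
    rw [chi_comp_act, inv_inv] at this
    exact this
  have hle := card_weights_le (ρ.comp (rad n F))
    (fun T : {T : Matrix (Fin n) (Fin n) F // T ∈ orb S ∧ ψ (Multiplicative.ofAdd (a * (y ⬝ᵥ (T *ᵥ y)))) ≠ 1} =>
      chi ψ (T : Matrix (Fin n) (Fin n) F))
    (fun T T' hTT => Subtype.ext (chi_injective h2 hψ (orb_symm hS T.2.1) (orb_symm hS T'.2.1) hTT))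
    (fun T => hall T.1 T.2.1) X (by
      intro T hT
      apply T.2.2
      rw [← trace_mul_rankOne, ← hX]
      exact hT)
  obtain ⟨t, ht, h3⟩ := le_card_orb_ne h2 hodd hψ hS hS0 hy ha
  have h4 : (ρ.comp (rad n F)) X = ρ (rad n F X) := rfl
  rw [h4] at hle
  exact ⟨t, ht, by omega⟩

end main

end Cfsg.Agent.H277.QA
end

-- part: H277/QA/Comm
section
/-!
# S4979 (A), row PSp: a transvection in `⟨x, x'⟩` (helper277)

`exists_transv`: if `x ∈ Sp_{2m}(F)` has odd prime order `p`, `p ≠ 0` in `F`, `2 ≠ 0`, and fixes a vector `e ≠ 0`, then there is a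
conjugate `x'` of `x` such that `⟨x, x'⟩` contains a transvection `≠ 1` with centre `e`.
`two_codim`: the codimension of the fixed space of such an `x`.
-/

set_option autoImplicit false
set_option linter.unusedSectionVars false

namespace Cfsg.Agent.H277.QA

open Matrix Module Cfsg.Agent.H80.Fpf Cfsg.Agent.H80.Fpf.SpH Cfsg.Agent.H972.SpBound

open Cfsg.Agent.ClassicalGeometry.SympBasic (transv coe_transv mul_sympTransvection)

section ring

variable {R : Type*} [Ring R]

/-- `(x - 1)² M = 0` and `x ^ p = 1` -/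
theorem sub_one_mul_eq_zero {x M : R} {p : ℕ} (hx : x ^ p = 1) (hp : ∀ y : R, (p : R) * y = 0 → y = 0)
    (h : (x - 1) * ((x - 1) * M) = 0) : (x - 1) * M = 0 := by
  have h1 : ∀ k : ℕ, x ^ k * M = M + (k : R) * ((x - 1) * M) := by
    intro k
    induction k with
    | zero => rw [pow_zero, one_mul, Nat.cast_zero, zero_mul, add_zero]
    | succ k ih =>
      have h2 : x * ((x - 1) * M) = (x - 1) * M := by
        rw [← sub_eq_zero]
        calc x * ((x - 1) * M) - (x - 1) * M = (x - 1) * ((x - 1) * M) := by noncomm_ring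
          _ = 0 := h
      have h3 : x * M = M + (x - 1) * M := by noncomm_ring
      rw [pow_succ', mul_assoc, ih, mul_add, h3, ← mul_assoc x, ← (Nat.cast_commute k x).eq, mul_assoc, h2, Nat.cast_succ,
        add_mul, one_mul]
      abel
  have h2 := h1 p
  rw [hx, one_mul] at h2
  apply hp
  exact left_eq_add.1 h2

theorem eq_one_of_pow {x : R} {p : ℕ} (hodd : Odd p) (hx : x ^ p = 1) (hp : ∀ y : R, (p : R) * y = 0 → y = 0)
    (h : (x - 1) ^ 5 * (x + 1) = 0) : x = 1 := by
  have h5 : (x - 1) * ((x - 1) * ((x - 1) * ((x - 1) * ((x - 1) * (x + 1))))) = 0 := by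
    rw [← h]
    noncomm_ring
  have h4 := sub_one_mul_eq_zero hx hp h5
  have h3 := sub_one_mul_eq_zero hx hp h4
  have h2 := sub_one_mul_eq_zero hx hp h3
  have h1 := sub_one_mul_eq_zero hx hp h2
  have hsq : x ^ 2 = 1 := by
    rw [← sub_eq_zero, ← h1]
    noncomm_ring
  obtain ⟨k, rfl⟩ := hodd
  rw [pow_succ, pow_mul, hsq, one_pow, one_mul] at hx
  exact hx

end ring

section sp

variable {m : ℕ} {F : Type} [Field F]

theorem om_eq_zero {v : Fin m ⊕ Fin m → F} (h : ∀ w, om v w = 0) : v = 0 := by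
  by_contra hv
  obtain ⟨w, hw⟩ := exists_om_ne_zero hv
  apply hw
  rw [om_skew, h, neg_zero]

/-- there is a vector `a = (x - 1)² v` with `ω(x a, a) ≠ 0` -/
theorem exists_ne_zero {p : ℕ} (hp : Odd p) (hpF : (p : F) ≠ 0) {x : symplecticGroup (Fin m) F} (hx : x ^ p = 1)
    (hx1 : x ≠ 1) : ∃ v : Fin m ⊕ Fin m → F, ∀ a, a = x.1 *ᵥ (x.1 *ᵥ v - v) - (x.1 *ᵥ v - v) → om (x.1 *ᵥ a) a ≠ 0 := by
  by_contra hcon
  push Not at hcon
  apply hx1
  obtain ⟨X, hX⟩ : ∃ X, X = x.1 := ⟨_, rfl⟩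
  obtain ⟨Y, hY⟩ : ∃ Y, Y = (x⁻¹).1 := ⟨_, rfl⟩
  have hXY : X * Y = 1 := by
    rw [hX, hY]
    exact congrArg Subtype.val (mul_inv_cancel x)
  have hYX : Y * X = 1 := by
    rw [hX, hY]
    exact congrArg Subtype.val (inv_mul_cancel x)
  have hXp : X ^ p = 1 := by
    rw [hX]
    exact congrArg Subtype.val hx
  rw [← hX] at hcon
  have hiso : ∀ v w, om (X *ᵥ v) (X *ᵥ w) = om v w := by
    intro v w
    rw [hX]
    exact om_mulVec x v w
  have hadj : ∀ v w, om v (X *ᵥ w) = om (Y *ᵥ v) w := by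
    intro v w
    rw [← hiso (Y *ᵥ v) w, mulVec_mulVec, hXY, one_mulVec]
  have hN : ∀ v w, om v ((X - 1) *ᵥ w) = om ((Y - 1) *ᵥ v) w := by
    intro v w
    rw [sub_mulVec, sub_mulVec, one_mulVec, one_mulVec, om_sub_right, om_sub_left, hadj]
  have h0 : ∀ v, om (X *ᵥ ((X - 1) *ᵥ ((X - 1) *ᵥ v))) ((X - 1) *ᵥ ((X - 1) *ᵥ v)) = 0 := by
    intro v
    obtain ⟨a, ha, ha0⟩ := hcon v
    have h1 : a = (X - 1) *ᵥ ((X - 1) *ᵥ v) := by
      rw [ha, sub_mulVec, one_mulVec, sub_mulVec, one_mulVec]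
    rw [← h1]
    exact ha0
  have h1 : ∀ v w, om ((X - Y) *ᵥ ((X - 1) *ᵥ ((X - 1) *ᵥ v))) ((X - 1) *ᵥ ((X - 1) *ᵥ w)) = 0 := by
    intro v w
    have h2 := h0 (v + w)
    rw [mulVec_add, mulVec_add, mulVec_add, om_add_left, om_add_right, om_add_right, h0, h0, zero_add, add_zero] at h2
    rw [sub_mulVec, om_sub_left, ← hadj, sub_eq_zero]
    rw [om_skew _ (X *ᵥ _)]
    linear_combination h2
  have h2 : ∀ v, (Y - 1) *ᵥ ((Y - 1) *ᵥ ((X - Y) *ᵥ ((X - 1) *ᵥ ((X - 1) *ᵥ v)))) = 0 := by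
    intro v
    apply om_eq_zero
    intro w
    rw [← hN, ← hN]
    exact h1 v w
  have h3 : (Y - 1) * ((Y - 1) * ((X - Y) * ((X - 1) * (X - 1)))) = 0 := by
    apply Matrix.toLin'.injective
    apply LinearMap.ext
    intro v
    rw [map_zero, LinearMap.zero_apply, toLin'_apply]
    have := h2 v
    simp only [mulVec_mulVec] at this
    exact this
  have h4 : (X - 1) ^ 5 * (X + 1) = 0 := by
    have e1 : X * (Y - 1) = -(X - 1) := by rw [mul_sub, hXY]; noncomm_ring
    have e2 : X * (X - Y) = (X - 1) * (X + 1) := by rw [mul_sub, hXY]; noncomm_ring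
    have c1 : X * (Y - 1) = (Y - 1) * X := by rw [mul_sub, sub_mul, hXY, hYX]; noncomm_ring
    have h5 : X * (X * (X * ((Y - 1) * ((Y - 1) * ((X - Y) * ((X - 1) * (X - 1))))))) = 0 := by
      rw [h3, mul_zero, mul_zero, mul_zero]
    have h6 : X * (X * (X * ((Y - 1) * ((Y - 1) * ((X - Y) * ((X - 1) * (X - 1))))))) =
        (X * (Y - 1)) * ((X * (Y - 1)) * ((X * (X - Y)) * ((X - 1) * (X - 1)))) := by
      have e3 : ∀ Z, X * ((Y - 1) * Z) = (Y - 1) * (X * Z) := by
        intro Z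
        rw [← mul_assoc, c1, mul_assoc]
      simp only [mul_assoc, e3]
    rw [h6, e1, e2] at h5
    rw [← h5]
    noncomm_ring
  have h5 : X = 1 := by
    refine eq_one_of_pow hp hXp ?_ h4
    intro Z hZ
    ext i j
    have := congrFun (congrFun hZ i) j
    rw [← nsmul_eq_mul, Matrix.smul_apply, nsmul_eq_mul, Matrix.zero_apply] at this
    exact (mul_eq_zero.1 this).resolve_left hpF
  apply Subtype.ext
  rw [← hX, h5]
  rfl

theorem transv_mulVec (e : Fin m ⊕ Fin m → F) (c : F) (v : Fin m ⊕ Fin m → F) :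
    (transv e c).1 *ᵥ v = ht e 0 c v := by
  rw [coe_transv, Cfsg.sympTransvection, add_mulVec, one_mulVec, smul_mulVec, vecMulVec_mulVec, ht]
  have h1 : om v (0 : Fin m ⊕ Fin m → F) = 0 := by rw [om, mulVec_zero, dotProduct_zero]
  rw [h1, smul_zero, zero_smul, add_zero, add_zero, om, dotProduct_comm (J (Fin m) F *ᵥ e) v]
  simp only [smul_smul, _root_.IsCentralScalar.op_smul_eq_smul]

/-- **A transvection in `⟨x, x'⟩`** -/
theorem exists_transv {p : ℕ} (hp : Odd p) (hpF : (p : F) ≠ 0) (h2 : (2 : F) ≠ 0) {x : symplecticGroup (Fin m) F}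
    (hx : x ^ p = 1) (hx1 : x ≠ 1) {e : Fin m ⊕ Fin m → F} (hxe : x.1 *ᵥ e = e) :
    ∃ (g : symplecticGroup (Fin m) F) (c : F), c ≠ 0 ∧ transv e c ∈ Subgroup.closure {x, g * x * g⁻¹} := by
  obtain ⟨v, hv⟩ := exists_ne_zero hp hpF hx hx1
  obtain ⟨u, hu⟩ : ∃ u, u = x.1 *ᵥ v - v := ⟨_, rfl⟩
  have hue : om u e = 0 := by
    rw [hu, om_sub_left, om_e_mulVec hxe, sub_self]
  rw [← hu] at hv
  have hxue : om (x.1 *ᵥ u) e = 0 := by rw [om_e_mulVec hxe, hue]
  -- `y = x' x⁻¹`
  set h := hel e u hue 0 with hh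
  have hhv : ∀ w, h.1 *ᵥ w = ht e u 0 w := hel_mulVec e u hue 0
  have hmu : om (-u) e = 0 := by rw [← neg_one_smul F u, om_smul_left, hue, mul_zero]
  have hhi : ∀ w, (h⁻¹).1 *ᵥ w = ht e (-u) 0 w := by
    intro w
    have h1 : h.1 *ᵥ ht e (-u) 0 w = w := by
      rw [hhv, ht_ht hue hmu]
      have h3 : om (-u) u = 0 := by rw [← neg_one_smul F u, om_smul_left, om_self, mul_zero]
      rw [h3, add_neg_cancel, add_zero, add_zero, ht_zero]
    conv_lhs => rw [← h1]
    rw [← coe_mul_mulVec, inv_mul_cancel]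
    exact one_mulVec _
  have hkc : ∀ w, (x * h⁻¹ * x⁻¹).1 *ᵥ w = ht e (x.1 *ᵥ (-u)) 0 w := conj_mem_heis hxe hmu hhi
  obtain ⟨a, ha⟩ : ∃ a, a = x.1 *ᵥ u - u := ⟨_, rfl⟩
  have hae : om a e = 0 := by rw [ha, om_sub_left, hxue, hue, sub_self]
  have hxue' : om (x.1 *ᵥ (-u)) e = 0 := by rw [mulVec_neg, ← neg_one_smul F, om_smul_left, hxue, mul_zero]
  -- `y`
  obtain ⟨y, hy⟩ : ∃ y, y = h * (x * h⁻¹ * x⁻¹) := ⟨_, rfl⟩
  obtain ⟨c0, hc0⟩ : ∃ c0, c0 = (0 : F) + 0 + om (x.1 *ᵥ (-u)) u := ⟨_, rfl⟩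
  have hma : om (-a) e = 0 := by rw [← neg_one_smul F a, om_smul_left, hae, mul_zero]
  have hyv : ∀ w, y.1 *ᵥ w = ht e (-a) c0 w := by
    intro w
    rw [hy, coe_mul_mulVec, hkc, hhv, ht_ht hue hxue', ← hc0]
    congr 1
    rw [ha, mulVec_neg]
    abel
  have hyx : y = (h * x * h⁻¹) * x⁻¹ := by rw [hy]; group
  -- `y' = x y x⁻¹`
  obtain ⟨y', hy'⟩ : ∃ y', y' = x * y * x⁻¹ := ⟨_, rfl⟩
  have hyv' : ∀ w, y'.1 *ᵥ w = ht e (x.1 *ᵥ (-a)) c0 w := by
    rw [hy']
    exact conj_mem_heis hxe hma hyv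
  have hxma : om (x.1 *ᵥ (-a)) e = 0 := by rw [om_e_mulVec hxe, hma]
  obtain ⟨c, hc⟩ : ∃ c, c = 2 * om (x.1 *ᵥ a) a := ⟨_, rfl⟩
  have hom : om (x.1 *ᵥ (-a)) (-a) = om (x.1 *ᵥ a) a := by
    rw [mulVec_neg, ← neg_one_smul F, ← neg_one_smul F a, om_smul_left, om_smul_right]
    ring
  have hcomm : y * y' = transv e c * (y' * y) := by
    apply ext_mulVec
    intro w
    have h0e : om (0 : Fin m ⊕ Fin m → F) e = 0 := by rw [om, zero_dotProduct]
    have hsum : om (x.1 *ᵥ (-a) + (-a)) e = 0 := by rw [om_add_left, hxma, hma, add_zero]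
    rw [coe_mul_mulVec, coe_mul_mulVec, coe_mul_mulVec, hyv', hyv, hyv, hyv', ht_ht hma hxma, ht_ht hxma hma,
      transv_mulVec, ht_ht h0e hsum]
    have h5 : om (x.1 *ᵥ (-a) + (-a)) (0 : Fin m ⊕ Fin m → F) = 0 := by rw [om, mulVec_zero, dotProduct_zero]
    rw [h5, zero_add, add_comm (-a), add_zero]
    (with_reducible congr 1)
    rw [hc, ← hom, om_skew (-a) (x.1 *ᵥ (-a))]
    ring
  refine ⟨h, c, ?_, ?_⟩
  · rw [hc]
    exact mul_ne_zero h2 (hv a ha)
  · have ht : transv e c = y * y' * (y' * y)⁻¹ := by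
      rw [hcomm, mul_inv_cancel_right]
    rw [ht]
    have hxm : x ∈ Subgroup.closure {x, h * x * h⁻¹} := Subgroup.subset_closure (Set.mem_insert _ _)
    have hxm' : h * x * h⁻¹ ∈ Subgroup.closure {x, h * x * h⁻¹} :=
      Subgroup.subset_closure (Set.mem_insert_of_mem _ rfl)
    have hym : y ∈ Subgroup.closure {x, h * x * h⁻¹} := by
      rw [hyx]
      exact mul_mem hxm' (inv_mem hxm)
    have hym' : y' ∈ Subgroup.closure {x, h * x * h⁻¹} := by
      rw [hy']
      exact mul_mem (mul_mem hxm hym) (inv_mem hxm)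
    exact mul_mem (mul_mem hym hym') (inv_mem (mul_mem hym' hym))

section rep

variable [Fintype F] {K U : Type*} [Field K] [IsAlgClosed K] [AddCommGroup U] [Module K U] [FiniteDimensional K U]

theorem finrank_ker_conj (ρ : symplecticGroup (Fin m) F →* Module.End K U) (g x : symplecticGroup (Fin m) F) :
    finrank K (LinearMap.ker (ρ (g * x * g⁻¹) - 1)) = finrank K (LinearMap.ker (ρ x - 1)) := by
  let e : U ≃ₗ[K] U :=
    { ρ g with
      invFun := ρ g⁻¹
      left_inv := fun v => by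
        show ρ g⁻¹ (ρ g v) = v
        rw [← Module.End.mul_apply, ← map_mul, inv_mul_cancel, map_one, Module.End.one_apply]
      right_inv := fun v => by
        show ρ g (ρ g⁻¹ v) = v
        rw [← Module.End.mul_apply, ← map_mul, mul_inv_cancel, map_one, Module.End.one_apply] }
  have he : ∀ v, e v = ρ g v := fun v => rfl
  have h1 : LinearMap.ker (ρ (g * x * g⁻¹) - 1) = (LinearMap.ker (ρ x - 1)).map e.toLinearMap := by
    ext v
    rw [Submodule.mem_map, LinearMap.mem_ker, LinearMap.sub_apply, Module.End.one_apply, sub_eq_zero]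
    constructor
    · intro hv
      refine ⟨ρ g⁻¹ v, ?_, ?_⟩
      · rw [LinearMap.mem_ker, LinearMap.sub_apply, Module.End.one_apply, sub_eq_zero, ← Module.End.mul_apply, ← map_mul]
        have h2 : ρ (x * g⁻¹) v = ρ g⁻¹ (ρ (g * x * g⁻¹) v) := by
          rw [← Module.End.mul_apply, ← map_mul]
          congr 2
          group
        rw [h2, hv]
      · show ρ g (ρ g⁻¹ v) = v
        rw [← Module.End.mul_apply, ← map_mul, mul_inv_cancel, map_one, Module.End.one_apply]
    · rintro ⟨w, hw, rfl⟩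
      rw [LinearMap.mem_ker, LinearMap.sub_apply, Module.End.one_apply, sub_eq_zero] at hw
      show ρ (g * x * g⁻¹) (ρ g w) = ρ g w
      rw [← Module.End.mul_apply, ← map_mul]
      have h2 : ρ (g * x * g⁻¹ * g) w = ρ g (ρ x w) := by
        rw [← Module.End.mul_apply, ← map_mul]
        congr 2
        group
      rw [h2, hw]
  rw [h1]
  exact LinearEquiv.finrank_map_eq e _

theorem finrank_ker_mem (ρ : symplecticGroup (Fin m) F →* Module.End K U) (x y t : symplecticGroup (Fin m) F)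
    (ht : t ∈ Subgroup.closure {x, y}) (hxy : finrank K (LinearMap.ker (ρ y - 1)) = finrank K (LinearMap.ker (ρ x - 1))) :
    2 * finrank K (LinearMap.ker (ρ x - 1)) ≤ finrank K U + finrank K (LinearMap.ker (ρ t - 1)) := by
  have h1 : LinearMap.ker (ρ x - 1) ⊓ LinearMap.ker (ρ y - 1) ≤ LinearMap.ker (ρ t - 1) := by
    intro v hv
    have hvx : ρ x v = v := by
      have := hv.1
      rwa [SetLike.mem_coe, LinearMap.mem_ker, LinearMap.sub_apply, Module.End.one_apply, sub_eq_zero] at this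
    have hvy : ρ y v = v := by
      have := hv.2
      rwa [SetLike.mem_coe, LinearMap.mem_ker, LinearMap.sub_apply, Module.End.one_apply, sub_eq_zero] at this
    rw [LinearMap.mem_ker, LinearMap.sub_apply, Module.End.one_apply, sub_eq_zero]
    induction ht using Subgroup.closure_induction with
    | mem z hz =>
      rcases hz with rfl | rfl
      · exact hvx
      · exact hvy
    | one => rw [map_one, Module.End.one_apply]
    | mul a b _ _ ha hb => rw [map_mul, Module.End.mul_apply, hb, ha]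
    | inv a _ ha =>
      conv_lhs => rw [← ha]
      rw [← Module.End.mul_apply, ← map_mul, inv_mul_cancel, map_one, Module.End.one_apply]
  have h2 := Submodule.finrank_sup_add_finrank_inf_eq (LinearMap.ker (ρ x - 1)) (LinearMap.ker (ρ y - 1))
  have h3 := Submodule.finrank_le (LinearMap.ker (ρ x - 1) ⊔ LinearMap.ker (ρ y - 1))
  have h4 := Submodule.finrank_mono h1
  omega

/-- **The codimension of the fixed space of `x`.** -/
theorem two_codim (hm : 1 ≤ m) (h2 : (2 : F) ≠ 0) (hodd : Odd (Fintype.card F)) (hK : (Fintype.card F : K) ≠ 0)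
    (ρ : symplecticGroup (Fin m) F →* Module.End K U) (hρ : ∃ g, ρ g ≠ 1) {p : ℕ} (hp : Odd p) (hpF : (p : F) ≠ 0)
    {x : symplecticGroup (Fin m) F} (hx : x ^ p = 1) (hx1 : x ≠ 1) {e : Fin m ⊕ Fin m → F} (he : e ≠ 0)
    (hxe : x.1 *ᵥ e = e) :
    ∃ t, Fintype.card F + 3 ≤ 6 * t ∧
      Fintype.card F ^ (m - 1) * t + 2 * finrank K (LinearMap.ker (ρ x - 1)) ≤ 2 * finrank K U := by
  obtain ⟨g, c, hc, ht⟩ := exists_transv hp hpF h2 hx hx1 hxe
  set y : Fin m → F := Pi.single ⟨0, by omega⟩ 1 with hy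
  have hy0 : y ≠ 0 := by
    intro h0
    have := congrFun h0 ⟨0, by omega⟩
    simp [hy] at this
  have hy0' : (Sum.elim y 0 : Fin m ⊕ Fin m → F) ≠ 0 := by
    intro h0
    apply hy0
    funext i
    exact congrFun h0 (Sum.inl i)
  obtain ⟨a, u, b, z, hA⟩ := LieClassical.SympTransvection.exists_tv_tv_mulVec_eq he hy0'
  set A := (LieClassical.SympTransvection.tvS b z * LieClassical.SympTransvection.tvS a u :
    Matrix.symplecticGroup (Fin m) F) with hAdef
  have h1 : A * transv e c = transv (Sum.elim y 0) c * A := by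
    apply Subtype.ext
    have := mul_sympTransvection A.2 e c
    rw [hA] at this
    exact this
  have h3 : transv (Sum.elim y 0) c = A * transv e c * A⁻¹ := by
    rw [h1, mul_inv_cancel_right]
  have hX : (c • vecMulVec y y)ᵀ = c • vecMulVec y y := by
    rw [Matrix.transpose_smul, Matrix.transpose_vecMulVec]
  have hX2 : rad m F (Multiplicative.ofAdd (⟨c • vecMulVec y y, mem_symm.mpr hX⟩ : symm m F)) = transv (Sum.elim y 0) c := by
    apply Subtype.ext
    rw [coe_rad, coe_transv, Cfsg.sympTransvection]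
    ext i j
    rcases i with i | i <;> rcases j with j | j <;>
      simp [vecMulVec_apply, Cfsg.Agent.ClassicalGeometry.SympBasic.J_mulVec_inl,
        Cfsg.Agent.ClassicalGeometry.SympBasic.J_mulVec_inr, Matrix.one_apply]
  have hex : ∃ X, ρ (rad m F X) ≠ 1 := by
    by_contra hcon
    push Not at hcon
    obtain ⟨g, hg⟩ := hρ
    exact hg (Cfsg.Agent.S2347.eq_one_of_rad hm ρ hcon g)
  obtain ⟨t, ht1, ht2⟩ := le_codim h2 hodd hK ρ hex hy0 hc
    (Multiplicative.ofAdd (⟨c • vecMulVec y y, mem_symm.mpr hX⟩ : symm m F)) rfl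
  rw [hX2, h3, finrank_ker_conj] at ht2
  have h4 := finrank_ker_mem ρ x (g * x * g⁻¹) _ ht (finrank_ker_conj ρ g x)
  exact ⟨t, ht1, by omega⟩

end rep

end sp

end Cfsg.Agent.H277.QA
end

-- part: H277/QA/Codim
section
/-!
# S4979 (A), row PSp: the codimension of `C_V(x)` (helper277)
-/

set_option autoImplicit false
set_option linter.unusedSectionVars false

namespace Cfsg.Agent.H277.QA

open Matrix Module Cfsg Cfsg.Agent.H152.QA Cfsg.Agent.H245.QA

theorem two_ne_zero_of_odd {F : Type} [Field F] [Fintype F] (hodd : Odd (Fintype.card F)) : (2 : F) ≠ 0 := by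
  intro h0
  have h1 : ringChar F = 2 := by
    have : ringChar F ∣ 2 := by
      apply (ringChar.spec F 2).mp
      exact_mod_cast h0
    rcases (Nat.dvd_prime Nat.prime_two).mp this with h | h
    · exact absurd h (CharP.ringChar_ne_one)
    · exact h
  have h3 : (2 : ℕ) ∣ Fintype.card F := by
    have := FiniteField.even_card_iff_char_two.mp h1
    omega
  exact (Nat.not_even_iff_odd.mpr hodd) (even_iff_two_dvd.mpr h3)

theorem cast_ne_zero_of_not_dvd {F : Type} [Field F] [Fintype F] {p : ℕ} (hp : p.Prime) (h : ¬ p ∣ Fintype.card F) :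
    (p : F) ≠ 0 := by
  intro h0
  apply h
  have h1 : ringChar F ∣ p := (ringChar.spec F p).mp h0
  have h2 : ringChar F = p := by
    rcases (Nat.dvd_prime hp).1 h1 with h | h
    · exact absurd h CharP.ringChar_ne_one
    · exact h
  obtain ⟨n, -, hn⟩ := FiniteField.card F (ringChar F)
  rw [hn, h2]
  exact dvd_pow_self p n.ne_zero

/-- **`V` restricted to an element of order `p` fixing a vector of the natural module.** -/
theorem codim {F : Type} [Field F] [Fintype F] {p q : ℕ} {V : Type} [AddCommGroup V] [Finite V] (m : ℕ) (hm : 2 ≤ m)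
    (ho : Odd (Fintype.card F)) [DistribMulAction (PSp m F) V] (h : PSit p q (PSp m F) V)
    (hpF : ¬ p ∣ Fintype.card F) (x : symplecticGroup (Fin m) F) (hx : orderOf x = p) {e : Fin m ⊕ Fin m → F}
    (he : e ≠ 0) (hxe : x.1 *ᵥ e = e) :
    ∃ c t : ℕ, Fintype.card F + 3 ≤ 6 * t ∧ Fintype.card F ^ (m - 1) * t ≤ 2 * c ∧
      Nat.card V = q ^ c * Nat.card (fixV (PSp m F) V (Subgroup.zpowers (QuotientGroup.mk x : PSp m F))) := by
  obtain ⟨d, ρ, hd, hρ⟩ := h.exists_repR
  have hpodd : Odd p := h.hp.odd_of_ne_two h.odd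
  let ρ' : symplecticGroup (Fin m) F →* Module.End ℂ (Fin d → ℂ) := ρ.comp (QuotientGroup.mk' _)
  have hρ' : ∃ g, ρ' g ≠ 1 := by
    by_contra hcon
    push Not at hcon
    have h1 : ∀ g : PSp m F, g = 1 := by
      intro g
      obtain ⟨g, rfl⟩ := QuotientGroup.mk'_surjective _ g
      exact faithful_of_fix h hd hρ _ (hcon g)
    have h2 := h.pG
    have : Subsingleton (PSp m F) := ⟨fun a b => by rw [h1 a, h1 b]⟩
    rw [Nat.card_unique] at h2
    exact h.hp.one_lt.ne' (Nat.dvd_one.1 h2)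
  have hK : (Fintype.card F : ℂ) ≠ 0 := by
    exact_mod_cast Fintype.card_ne_zero
  obtain ⟨t, ht1, ht2⟩ := two_codim (by omega) (two_ne_zero_of_odd ho) ho hK ρ' hρ' hpodd
    (cast_ne_zero_of_not_dvd h.hp hpF) (x := x) (by rw [← hx]; exact pow_orderOf_eq_one x) (by
      intro h1
      rw [h1, orderOf_one] at hx
      exact h.hp.one_lt.ne hx) he hxe
  have hfix : fixR ρ (Subgroup.zpowers (QuotientGroup.mk x : PSp m F)) = LinearMap.ker (ρ' x - 1) := by
    ext v
    rw [mem_fixR, LinearMap.mem_ker, LinearMap.sub_apply, Module.End.one_apply, sub_eq_zero]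
    constructor
    · intro hv
      exact hv _ (Subgroup.mem_zpowers _)
    · rintro hv g hg
      have h1 : ρ (QuotientGroup.mk x : PSp m F) v = v := hv
      obtain ⟨k, rfl⟩ : ∃ k : ℕ, (QuotientGroup.mk x : PSp m F) ^ k = g := by
        rwa [← mem_powers_iff_mem_zpowers, Submonoid.mem_powers_iff] at hg
      induction k with
      | zero => rw [pow_zero, map_one, Module.End.one_apply]
      | succ k ih =>
        rw [pow_succ, map_mul, Module.End.mul_apply, h1, ih (Subgroup.pow_mem _ (Subgroup.mem_zpowers _) k)]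
  have hle : finrank ℂ (LinearMap.ker (ρ' x - 1)) ≤ d := by
    have := Submodule.finrank_le (LinearMap.ker (ρ' x - 1))
    rwa [Module.finrank_fin_fun] at this
  rw [Module.finrank_fin_fun] at ht2
  refine ⟨d - finrank ℂ (LinearMap.ker (ρ' x - 1)), t, ht1, by omega, ?_⟩
  rw [hρ, hfix, hd, ← pow_add, Nat.sub_add_cancel hle]

end Cfsg.Agent.H277.QA
end

-- part: H54/QA/PspRow
section
/-!
# S4979, layer (A): the row `PSp_2m(s)`, `s` odd (helper54, helper277)
-/

set_option autoImplicit false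

namespace Cfsg.Agent.H54.QA

open Matrix Cfsg Cfsg.Agent.H152.QA Cfsg.Agent.H80.Fpf

variable {F : Type} [Field F] [Fintype F]

theorem not_psit_psp {p q : ℕ} {V : Type} [AddCommGroup V] [Finite V] (m : ℕ) (hm : 2 ≤ m)
    (ho : Odd (Fintype.card F)) [DistribMulAction (PSp m F) V] : ¬ PSit p q (PSp m F) V := by
  intro h
  by_cases hpF : p ∣ Fintype.card F
  · exact psp_def m hm ho hpF h
  by_cases hd : p ∣ Nat.card (symplecticGroup (Fin (m - 1)) F)
  · exact psp_block m hm ho hpF hd (fun x hx e he hxe => Cfsg.Agent.H277.QA.codim m hm ho h hpF x hx he hxe) h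
  · exact psp_top m hm ho hpF hd h

/-- **The row `PSp_2m(s)`, `s` odd** -/
theorem row_psp_odd (m : ℕ) (hm : 2 ≤ m) (ho : Odd (Fintype.card F)) : NoSit (PSp m F) := by
  have hs3 : 3 ≤ Fintype.card F := by
    have := Fintype.one_lt_card (α := F)
    obtain ⟨t, ht⟩ := ho
    omega
  have hsimple : IsSimpleGroup (PSp m F) := Cfsg.Agent.S0270.result m hm (fun _ => hs3)
  have hg : Nat.gcd 2 (Fintype.card F - 1) = 2 := Nat.gcd_eq_left (by obtain ⟨t, ht⟩ := ho; omega)
  have hmult : MultDvd (PSp m F) 2 := by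
    have h1 := Cfsg.Agent.S2092.result (F := F) rfl m hm (fun _ => hs3) (by
      rintro ⟨-, h2⟩
      omega)
    rw [hg] at h1
    exact multDvd_of_cyclic (by norm_num) h1
  intro p q L V _ _ _ _ _ π N φ hπ hS
  obtain ⟨_, hP⟩ := hS.exists_pSit_prime hπ Nat.prime_two hmult
  exact not_psit_psp m hm ho hP

end Cfsg.Agent.H54.QA
end

-- part: H963/QA/Config
section
/-!
# S4979, layer (A): the configuration criterion (helper963)

`PSit.config` : `E ≠ 1` an abelian subgroup of `G` normalised by `c`, `c ^ i` acts without fixed points for `0 < i < M`, `M` the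
order of `c`, `p ∣ M`: `q ^ ((p - 1) (M / p)) ≤ |G : N_G(⟨c ^ (M / p)⟩)| ≤ |G|`.
-/

set_option autoImplicit false

open Cfsg

namespace Cfsg.Agent.H963.QA

open Cfsg.Agent.H152.QA Cfsg.Agent.H80.Fpf

/-- a configuration: `c` of order `M` acts freely on the abelian group `E` -/
structure Conf (G : Type*) [Group G] (M : ℕ) where
  E : Subgroup G
  c : G
  comm : ∀ a ∈ E, ∀ b ∈ E, a * b = b * a
  ne : E ≠ ⊥
  norm : c ∈ Subgroup.normalizer (E : Set G)
  ord : orderOf c = M
  free : ∀ i, 0 < i → i < M → ∀ e ∈ E, c ^ i * e = e * c ^ i → e = 1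

/-- the image of a configuration under a homomorphism injective on the subgroup generated by it -/
def Conf.map {G H : Type*} [Group G] [Group H] {M : ℕ} (C : Conf G M) (f : G →* H) (hf : Function.Injective f) :
    Conf H M where
  E := C.E.map f
  c := f C.c
  comm := by
    rintro _ ⟨a, ha, rfl⟩ _ ⟨b, hb, rfl⟩
    rw [← map_mul, C.comm a ha b hb, map_mul]
  ne := by
    rw [Ne, Subgroup.map_eq_bot_iff_of_injective _ hf]
    exact C.ne
  norm := by
    rw [Subgroup.mem_normalizer_iff]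
    intro h
    constructor
    · rintro ⟨a, ha, rfl⟩
      exact ⟨C.c * a * C.c⁻¹, (Subgroup.mem_normalizer_iff.1 C.norm a).1 ha, by simp only [_root_.map_mul, _root_.map_inv]⟩
    · rintro ⟨a, ha, hh⟩
      refine ⟨C.c⁻¹ * a * C.c, (Subgroup.mem_normalizer_iff''.1 C.norm a).1 ha, ?_⟩
      rw [map_mul, map_mul, map_inv, hh]
      group
  ord := by rw [orderOf_injective f hf, C.ord]
  free := by
    rintro i hi0 hi _ ⟨e, he, rfl⟩ h
    rw [← map_pow, ← map_mul, ← map_mul] at h
    rw [C.free i hi0 hi e he (hf h), map_one]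

variable {p q : ℕ} {G V : Type} [Group G] [Finite G] [AddCommGroup V] [Finite V] [DistribMulAction G V]

/-- a fixed linear character is trivial -/
theorem Conf.eq_one {G : Type*} [Group G] [Finite G] {M : ℕ} (C : Conf G M) {mu : C.E →* ℂˣ} {i : ℕ} (hi0 : 0 < i) (hi : i < M)
    (h : ∀ e (he : e ∈ C.E) (he' : C.c ^ i * e * (C.c ^ i)⁻¹ ∈ C.E), mu ⟨C.c ^ i * e * (C.c ^ i)⁻¹, he'⟩ = mu ⟨e, he⟩) :
    mu = 1 := by
  have hN : C.c ^ i ∈ Subgroup.normalizer (C.E : Set G) := pow_mem C.norm i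
  have hm : ∀ e ∈ C.E, C.c ^ i * e * (C.c ^ i)⁻¹ ∈ C.E := fun e he => (Subgroup.mem_normalizer_iff.1 hN e).1 he
  let f : C.E → C.E := fun e => ⟨C.c ^ i * e * (C.c ^ i)⁻¹ * (e : G)⁻¹, mul_mem (hm e e.2) (inv_mem e.2)⟩
  have hf : Function.Injective f := by
    intro a b hab
    have h1 : C.c ^ i * a * (C.c ^ i)⁻¹ * (a : G)⁻¹ = C.c ^ i * b * (C.c ^ i)⁻¹ * (b : G)⁻¹ := congrArg Subtype.val hab
    -- `c^i (b⁻¹ a) c^-i = b⁻¹ a`
    have h2 : C.c ^ i * ((b : G)⁻¹ * a) * (C.c ^ i)⁻¹ = (b : G)⁻¹ * a := by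
      have h3 : C.c ^ i * a * (C.c ^ i)⁻¹ = C.c ^ i * b * (C.c ^ i)⁻¹ * (b : G)⁻¹ * a := by
        rw [← h1, inv_mul_cancel_right]
      calc C.c ^ i * ((b : G)⁻¹ * a) * (C.c ^ i)⁻¹ = (C.c ^ i * b * (C.c ^ i)⁻¹)⁻¹ * (C.c ^ i * a * (C.c ^ i)⁻¹) := by group
        _ = (C.c ^ i * b * (C.c ^ i)⁻¹)⁻¹ * (C.c ^ i * b * (C.c ^ i)⁻¹ * (b : G)⁻¹ * a) := by rw [h3]
        _ = (b : G)⁻¹ * a := by group
    have h4 : (b : G)⁻¹ * a = 1 := C.free i hi0 hi _ (mul_mem (inv_mem b.2) a.2) (by
      conv_rhs => rw [← h2]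
      group)
    exact Subtype.ext (inv_mul_eq_one.1 h4).symm
  have hb : Function.Surjective f := Finite.surjective_of_injective hf
  ext x
  obtain ⟨e, rfl⟩ := hb x
  have h5 : f e = ⟨C.c ^ i * e * (C.c ^ i)⁻¹, hm e e.2⟩ * e⁻¹ := rfl
  rw [h5, map_mul, map_inv, h e e.2 (hm e e.2), mul_inv_cancel]
  rfl

/-- **The configuration criterion.** -/
theorem PSit.config (h : PSit p q G V) {M : ℕ} (C : Conf G M) (hpM : p ∣ M) :
    q ^ ((p - 1) * (M / p)) ≤
      (Subgroup.normalizer ((Subgroup.zpowers (C.c ^ (M / p)) : Subgroup G) : Set G)).index := by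
  classical
  obtain ⟨t, ht⟩ := hpM
  have hp0 := h.hp.pos
  have hM0 : 0 < M := by rw [← C.ord]; exact orderOf_pos _
  have ht0 : 0 < t := by
    rcases Nat.eq_zero_or_pos t with h0 | h0
    · rw [h0, mul_zero] at ht; omega
    · exact h0
  have htd : M / p = t := by rw [ht, Nat.mul_div_cancel_left _ hp0]
  have htM : t < M := by
    rw [ht]
    have := h.hp.two_le
    nlinarith only [ht0, this]
  rw [htd]
  have hx : orderOf (C.c ^ t) = p := by
    rw [orderOf_pow_of_dvd ht0.ne' (by rw [C.ord, ht]; exact Dvd.intro_left _ rfl), C.ord, ht,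
      Nat.mul_div_cancel _ ht0]
  have hN : ∀ i : ℕ, C.c ^ i ∈ Subgroup.normalizer (C.E : Set G) := fun i => pow_mem C.norm i
  refine PSit.weights_moved h C.E C.comm C.ne (C.c ^ t) hx (hN t) fun lam hlam => ?_
  let tw : ℕ → (C.E →* ℂˣ) := fun i =>
    { toFun := fun e => lam (conjEquiv (hN i) e)
      map_one' := by
        have : conjEquiv (hN i) (1 : C.E) = 1 := Subtype.ext (by
          show C.c ^ i * 1 * (C.c ^ i)⁻¹ = 1
          group)
        rw [this, map_one]
      map_mul' := fun a b => by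
        have : conjEquiv (hN i) (a * b) = conjEquiv (hN i) a * conjEquiv (hN i) b := Subtype.ext (by
          show C.c ^ i * (a * b) * (C.c ^ i)⁻¹ = (C.c ^ i * a * (C.c ^ i)⁻¹) * (C.c ^ i * b * (C.c ^ i)⁻¹)
          group)
        rw [this, map_mul] }
  have htw : ∀ i (e : C.E), tw i e = lam (conjEquiv (hN i) e) := fun i e => rfl
  -- `tw i = tw j` with `i < j < M` is impossible
  have key : ∀ i d, 0 < d → d < M → (∀ e, tw i e = tw (i + d) e) → False := by
    intro i d hd0 hd he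
    apply hlam
    refine C.eq_one hd0 hd fun e hec hec' => ?_
    -- write `e = c ^ i e' c ^ -i`
    have h1 := he ((conjEquiv (hN i)).symm ⟨e, hec⟩)
    rw [htw, htw, Equiv.apply_symm_apply] at h1
    rw [h1]
    congr 1
    apply Subtype.ext
    show C.c ^ d * e * (C.c ^ d)⁻¹ = C.c ^ (i + d) * ((C.c ^ i)⁻¹ * e * C.c ^ i) * (C.c ^ (i + d))⁻¹
    rw [add_comm i d, pow_add]
    group
  have hinj : Set.InjOn tw (Finset.range M : Set ℕ) := by
    intro i hi j hj hij
    have hi' : i < M := by simpa using hi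
    have hj' : j < M := by simpa using hj
    rcases lt_trichotomy i j with hlt | heq | hlt
    · exact (key i (j - i) (by omega) (by omega) (fun e => by
        rw [Nat.add_sub_cancel' hlt.le, hij])).elim
    · exact heq
    · exact (key j (i - j) (by omega) (by omega) (fun e => by
        rw [Nat.add_sub_cancel' hlt.le, hij])).elim
  refine ⟨(Finset.range M).image tw, ?_, ?_⟩
  · rw [Finset.card_image_of_injOn hinj, Finset.card_range, ht]
    omega
  · intro mu hmu
    obtain ⟨i, -, rfl⟩ := Finset.mem_image.1 hmu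
    refine ⟨⟨C.c ^ i, hN i, fun e he he' => rfl⟩, ?_⟩
    by_contra hcon
    push Not at hcon
    have h1 : tw i = 1 := C.eq_one ht0 htM fun e he he' => hcon e he he'
    apply hlam
    ext e
    have h2 : tw i ((conjEquiv (hN i)).symm e) = 1 := by rw [h1]; rfl
    rw [htw, Equiv.apply_symm_apply] at h2
    rw [h2]
    rfl

theorem PSit.config_le (h : PSit p q G V) {M : ℕ} (C : Conf G M) (hpM : p ∣ M) :
    q ^ ((p - 1) * (M / p)) ≤ Nat.card G :=
  (PSit.config h C hpM).trans (Nat.le_of_dvd Nat.card_pos (Subgroup.index_dvd_card _))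

end Cfsg.Agent.H963.QA
end

-- part: H963/QA/WM
section
/-!
# S4979, layer (A), row `PSU_n(q)`: the weights of hermitian matrices (helper963)

* `exists_conf` : `2 ≤ k`, `2 k ≤ n`, `M ∣ q ^ (2 k) - 1` prime to `q + 1`: a configuration in `PSU n F q`;
* `PSit.wm` : hence `q' ^ ((p - 1) (M / p)) ≤ |PSU n F q|` for `p ∣ M`.
-/

set_option autoImplicit false
set_option linter.unusedSectionVars false

open Cfsg

namespace Cfsg.Agent.H963.QA

open Cfsg.Agent.H152.QA Cfsg.Agent.H80.Fpf Cfsg.Agent.H700.FpfPsu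
open Cfsg.Agent.H948.UBase Cfsg.Agent.H948.UProd Cfsg.Agent.H948.UTorus Cfsg.Agent.H948.UMain
  Cfsg.Agent.LieClassical Cfsg.Agent.LieClassical.HermBasic
open Cfsg.Agent.ClassicalGeometry

theorem exists_conf {F : Type*} [Field F] [Fintype F] {q n : ℕ} (hF : Fintype.card F = q ^ 2) (hn : 3 ≤ n)
    {k : ℕ} (hk : 2 ≤ k) (hkn : 2 * k ≤ n) {M : ℕ} (hM : M ∣ q ^ (2 * k) - 1) (hMq : Nat.Coprime M (q + 1))
    (hM1 : 1 ≤ M) : Nonempty (Conf (PSU n F q) M) := by
  classical
  obtain ⟨l, hchar⟩ := CharP.exists F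
  have hl : Fact l.Prime := ⟨CharP.char_is_prime F l⟩
  have hk0 : NeZero k := ⟨by omega⟩
  have h2 := two_le hF
  set K := FiniteField.Extension F l k with hKdef
  have hcard : Nat.card K = q ^ (2 * k) := by
    rw [hKdef, FiniteField.natCard_extension, Nat.card_eq_fintype_card, hF]; ring
  have hcharK : CharP K l := charP_of_injective_algebraMap (algebraMap F K).injective l
  have hrkc : Module.finrank F K = k := FiniteField.finrank_extension F l k
  have hcu : Nat.card Kˣ = q ^ (2 * k) - 1 := by rw [Nat.card_units, hcard]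
  obtain ⟨g₀, hg₀⟩ := IsCyclic.exists_ofOrder_eq_natCard (α := Kˣ)
  rw [hcu] at hg₀
  have hpos : 0 < q ^ (2 * k) - 1 := by
    have : 1 < q ^ (2 * k) := Nat.one_lt_pow (by omega) (by omega)
    omega
  obtain ⟨m', hm'⟩ := hM
  have hm0 : m' ≠ 0 := by
    rintro rfl
    rw [mul_zero] at hm'
    omega
  set z : Kˣ := g₀ ^ m' with hzdef
  have hz : orderOf z = M := by
    rw [hzdef, orderOf_pow_of_dvd hm0 (by rw [hg₀, hm']; exact Dvd.intro_left _ rfl), hg₀, hm',
      Nat.mul_div_cancel _ (Nat.pos_of_ne_zero hm0)]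
  have hz0 : ∀ i : ℕ, ((z ^ i : Kˣ) : K) ≠ 0 := fun i => Units.ne_zero _
  -- the twist
  let w : ℕ → K := fun i => ((z ^ i : Kˣ) : K)⁻¹ * ((z ^ i : Kˣ) : K)⁻¹ ^ q
  have hw1 : ∀ i, w i = 1 → M ∣ i := by
    intro i hi
    have h3 : (z ^ i) ^ (q + 1) = 1 := by
      apply Units.ext
      rw [Units.val_pow_eq_pow_val, Units.val_one, pow_succ']
      have h4 : w i * (((z ^ i : Kˣ) : K) * ((z ^ i : Kˣ) : K) ^ q) = 1 := by
        have h5 : ((z ^ i : Kˣ) : K)⁻¹ * ((z ^ i : Kˣ) : K) = 1 := inv_mul_cancel₀ (hz0 i)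
        have h6 : ((z ^ i : Kˣ) : K)⁻¹ ^ q * ((z ^ i : Kˣ) : K) ^ q = 1 := by rw [← mul_pow, h5, one_pow]
        show ((z ^ i : Kˣ) : K)⁻¹ * ((z ^ i : Kˣ) : K)⁻¹ ^ q * (((z ^ i : Kˣ) : K) * ((z ^ i : Kˣ) : K) ^ q) = 1
        linear_combination (((z ^ i : Kˣ) : K)⁻¹ ^ q * ((z ^ i : Kˣ) : K) ^ q) * h5 + h6
      rw [hi, one_mul] at h4
      exact h4
    rw [← pow_mul] at h3
    have h4 := orderOf_dvd_of_pow_eq_one h3
    rw [hz] at h4
    exact hMq.dvd_of_dvd_mul_right h4
  -- the space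
  obtain ⟨C, hC⟩ := exists_space hF (n - 2 * k)
  have hherm : IsHerm hF (prodForm (parForm hF K) C) := isHerm_prod isHerm_par hC
  have hV : Module.finrank F ((K × K) × (Fin (n - 2 * k) → F)) = n := by
    rw [Module.finrank_prod, Module.finrank_prod, Module.finrank_fin_fun, hrkc]
    omega
  obtain ⟨e, he⟩ := exists_coord hherm hV
  set X : ℕ → Module.End F ((K × K) × (Fin (n - 2 * k) → F)) := fun i =>
    (xMap F q ((z ^ i : Kˣ) : K)).prodMap 1 with hX
  have hXiso : ∀ i, Iso (prodForm (parForm hF K) C) (X i) := fun i => iso_prod (xMap_iso (hz0 i)) Iso.one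
  have hXmul : ∀ i j, X (i + j) = X i * X j := by
    intro i j
    have h3 : xMap F q ((z ^ (i + j) : Kˣ) : K) = xMap F q ((z ^ i : Kˣ) : K) * xMap F q ((z ^ j : Kˣ) : K) := by
      refine LinearMap.ext fun x => ?_
      rw [Module.End.mul_apply, xMap_apply, xMap_apply, xMap_apply, pow_add, Units.val_mul, mul_inv, mul_pow]
      apply Prod.ext
      · show _ * _ * x.1 = _ * (_ * x.1)
        ring
      · show _ * _ * x.2 = _ * (_ * x.2)
        ring
    rw [hX]
    show LinearMap.prodMap _ _ = LinearMap.prodMap _ _ * LinearMap.prodMap _ _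
    rw [h3, LinearMap.prodMap_mul, one_mul]
  have hX0 : X 0 = 1 := by
    rw [hX]
    refine LinearMap.ext fun x => ?_
    show LinearMap.prodMap _ _ x = x
    rw [LinearMap.prodMap_apply, xMap_apply, pow_zero, Units.val_one, inv_one, one_pow, one_mul, one_mul]
    rfl
  have hXp : ∀ i, X i = X 1 ^ i := by
    intro i
    induction i with
    | zero => rw [hX0, pow_zero]
    | succ i ih => rw [hXmul, ih, pow_succ]
  have hXM : X M = 1 := by
    have h3 : z ^ M = 1 := by rw [← hz, pow_orderOf_eq_one]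
    rw [← hX0]
    show (xMap F q ((z ^ M : Kˣ) : K)).prodMap 1 = (xMap F q ((z ^ 0 : Kˣ) : K)).prodMap 1
    rw [h3, pow_zero]
  have hXd1 : LinearMap.det (X 1) = 1 := by
    have h3 := det_norm hherm (hXiso 1)
    have h4 : LinearMap.det (X 1) ^ M = 1 := by rw [← map_pow, ← hXp, hXM, map_one]
    have h5 : orderOf (LinearMap.det (X 1)) ∣ Nat.gcd M (q + 1) :=
      Nat.dvd_gcd (orderOf_dvd_of_pow_eq_one h4) (orderOf_dvd_of_pow_eq_one h3)
    rw [hMq, Nat.dvd_one, orderOf_eq_one_iff] at h5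
    exact h5
  have hXd : ∀ i, LinearMap.det (X i) = 1 := fun i => by rw [hXp, map_pow, hXd1, one_pow]
  -- the unipotent elements
  set U : K → Module.End F ((K × K) × (Fin (n - 2 * k) → F)) := fun c => (uMap hF c).prodMap 1 with hU
  have hUiso : ∀ c, Iso (prodForm (parForm hF K) C) (U c) := fun c => iso_prod (uMap_iso c) Iso.one
  have hU0 : U 0 = 1 := by
    show (uMap hF (0 : K)).prodMap 1 = 1
    rw [uMap_zero]
    rfl
  have hUadd : ∀ a b, U (a + b) = U a * U b := by
    intro a b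
    show (uMap hF (a + b)).prodMap 1 = (uMap hF a).prodMap 1 * (uMap hF b).prodMap 1
    rw [uMap_add, LinearMap.prodMap_mul, one_mul]
  have hUl : ∀ a, (U a) ^ l = 1 := by
    intro a
    have h1 : ∀ j : ℕ, (U a) ^ j = U (j • a) := by
      intro j
      induction j with
      | zero => rw [pow_zero, zero_smul, hU0]
      | succ j ih => rw [pow_succ, ih, succ_nsmul, hUadd]
    rw [h1, nsmul_eq_mul, CharP.cast_eq_zero, zero_mul, hU0]
  have hUd : ∀ a, LinearMap.det (U a) = 1 := fun a => det_eq_one_of_pow (l := l) (k := 1) (by rw [pow_one]; exact hUl a)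
  have hXU : ∀ i c, X i * U c = U (c * w i) * X i := by
    intro i c
    show (xMap F q ((z ^ i : Kˣ) : K)).prodMap 1 * (uMap hF c).prodMap 1 =
      (uMap hF (c * w i)).prodMap 1 * (xMap F q ((z ^ i : Kˣ) : K)).prodMap 1
    rw [LinearMap.prodMap_mul, LinearMap.prodMap_mul, xMap_mul_uMap (hz0 i), one_mul]
  have hUs : ∀ c, IsScal (U c) → c = 0 := by
    rintro c ⟨s, hs⟩
    have h3 : ∀ u : K, c * u - c ^ q * u ^ q ^ 2 = 0 := by
      intro u
      have h4 := hs ((u, (0 : K)), 0)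
      rw [hU] at h4
      have h4 : (LinearMap.prodMap (uMap hF c) (1 : Module.End F (Fin (n - 2 * k) → F))) ((u, (0 : K)), 0) =
        s • ((u, (0 : K)), (0 : Fin (n - 2 * k) → F)) := h4
      rw [LinearMap.prodMap_apply, uMap_apply, dMap_apply] at h4
      have h5 : (0 : K) + (c * u - c ^ q * u ^ q ^ 2) = s • (0 : K) := congrArg (fun t => t.1.2) h4
      rwa [smul_zero, zero_add] at h5
    by_contra hc0
    have h4 : c = c ^ q := by
      have h5 := h3 1
      rw [one_pow, mul_one, mul_one] at h5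
      exact sub_eq_zero.1 h5
    have h5 : ∀ u : K, u = u ^ q ^ 2 := by
      intro u
      have h6 := h3 u
      rw [← h4, ← mul_sub] at h6
      exact sub_eq_zero.1 ((mul_eq_zero.1 h6).resolve_left hc0)
    have h6 : g₀ ^ (q ^ 2 - 1) = 1 := by
      have h7 := h5 (g₀ : K)
      have h8 : g₀ ^ (q ^ 2) = g₀ := by
        apply Units.ext
        rw [Units.val_pow_eq_pow_val]
        exact h7.symm
      have h9 : 1 ≤ q ^ 2 := Nat.one_le_pow _ _ (by omega)
      have h10 : g₀ ^ (q ^ 2 - 1) * g₀ = 1 * g₀ := by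
        rw [← pow_succ, Nat.sub_add_cancel h9, h8, one_mul]
      exact mul_right_cancel h10
    have h7 := orderOf_dvd_of_pow_eq_one h6
    rw [hg₀] at h7
    have h8 : 0 < q ^ 2 - 1 := by
      have : 1 < q ^ 2 := Nat.one_lt_pow (by omega) (by omega)
      omega
    have h9 := Nat.le_of_dvd h8 h7
    have h10 : q ^ 2 < q ^ (2 * k) := Nat.pow_lt_pow_right (by omega) (by omega)
    omega
  -- the elements of `PSU`
  let g : Multiplicative K →* isoM (prodForm (parForm hF K) C) :=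
    { toFun := fun a => ⟨U a.toAdd, hUiso _, hUd _⟩
      map_one' := Subtype.ext hU0
      map_mul' := fun a b => Subtype.ext (hUadd _ _) }
  let f : Multiplicative K →* PSU n F q := (PSUAutBasic.pr n F q).comp ((suHom e he).comp g)
  let X' : ℕ → isoM (prodForm (parForm hF K) C) := fun i => ⟨X i, hXiso i, hXd i⟩
  let x : ℕ → PSU n F q := fun i => PSUAutBasic.pr n F q (suHom e he (X' i))
  have hxp : ∀ i, x i = x 1 ^ i := by
    intro i
    show PSUAutBasic.pr n F q (suHom e he (X' i)) = (PSUAutBasic.pr n F q (suHom e he (X' 1))) ^ i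
    rw [← map_pow, ← map_pow]
    congr 2
    exact Subtype.ext (hXp i)
  have hf1 : ∀ c : K, f (Multiplicative.ofAdd c) = 1 → c = 0 := by
    intro c hc
    exact hUs c ((pr_suHom_eq_one_iff hn e he (g (Multiplicative.ofAdd c))).1 hc)
  have hconj : ∀ i (b : K), x i * f (Multiplicative.ofAdd b) = f (Multiplicative.ofAdd (b * w i)) * x i := by
    intro i b
    have h1 : X' i * g (Multiplicative.ofAdd b) = g (Multiplicative.ofAdd (b * w i)) * X' i := Subtype.ext (hXU i b)
    have h2 := congrArg (fun t => PSUAutBasic.pr n F q (suHom e he t)) h1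
    simp only [map_mul] at h2
    exact h2
  have hne : f.range ≠ ⊥ := by
    intro h
    have h3 : f (Multiplicative.ofAdd (1 : K)) ∈ f.range := ⟨_, rfl⟩
    rw [h, Subgroup.mem_bot] at h3
    exact one_ne_zero (hf1 1 h3)
  have hfree : ∀ i, 0 < i → i < M → ∀ e ∈ f.range, x 1 ^ i * e = e * x 1 ^ i → e = 1 := by
    rintro i hi0 hi _ ⟨b, rfl⟩ hcomm
    rw [← hxp] at hcomm
    have h3 := hconj i b.toAdd
    have h4 : f (Multiplicative.ofAdd (b.toAdd * w i)) = f b := by
      have h5 : x i * f b = f (Multiplicative.ofAdd (b.toAdd * w i)) * x i := h3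
      rw [hcomm] at h5
      exact (mul_right_cancel h5).symm
    have h5 : b.toAdd * w i - b.toAdd = 0 := by
      apply hf1
      rw [ofAdd_sub, map_div, h4]
      exact div_self' _
    have h6 : b.toAdd * (w i - 1) = 0 := by rw [mul_sub, mul_one]; exact h5
    rcases mul_eq_zero.1 h6 with h7 | h7
    · have : b = 1 := Multiplicative.toAdd.injective h7
      rw [this, map_one]
    · exfalso
      exact absurd (hw1 i (sub_eq_zero.1 h7)) (Nat.not_dvd_of_pos_of_lt hi0 hi)
  have hxM : x 1 ^ M = 1 := by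
    rw [← hxp]
    have h3 : X' M = 1 := Subtype.ext hXM
    show PSUAutBasic.pr n F q (suHom e he (X' M)) = 1
    rw [h3, map_one, map_one]
  refine ⟨⟨f.range, x 1, ?_, hne, ?_, ?_, hfree⟩⟩
  · rintro _ ⟨a, rfl⟩ _ ⟨b, rfl⟩
    rw [← map_mul, mul_comm, map_mul]
  · have hle : ∀ h ∈ f.range, x 1 * h * (x 1)⁻¹ ∈ f.range := by
      rintro _ ⟨b, rfl⟩
      refine ⟨Multiplicative.ofAdd (b.toAdd * w 1), ?_⟩
      rw [eq_mul_inv_iff_mul_eq]
      exact (hconj 1 b.toAdd).symm
    rw [Subgroup.mem_normalizer_iff]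
    intro h
    refine ⟨hle h, fun hh => ?_⟩
    -- the inverse is a power
    have h3 : ∀ j : ℕ, ∀ y ∈ f.range, x 1 ^ j * y * (x 1 ^ j)⁻¹ ∈ f.range := by
      intro j
      induction j with
      | zero => intro y hy; simpa only [_root_.pow_zero, _root_.one_mul, _root_.inv_one, _root_.mul_one, _root_.MonoidHom.mem_range, _root_.Multiplicative.exists] using hy
      | succ j ih =>
        intro y hy
        have h4 := hle _ (ih y hy)
        have h5 : x 1 ^ (j + 1) * y * (x 1 ^ (j + 1))⁻¹ = x 1 * (x 1 ^ j * y * (x 1 ^ j)⁻¹) * (x 1)⁻¹ := by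
          rw [pow_succ']; group
        rw [h5]; exact h4
    have h4 := h3 (M - 1) _ hh
    have h5 : x 1 ^ (M - 1) * x 1 = 1 := by rw [← pow_succ, Nat.sub_add_cancel hM1, hxM]
    have h6 : x 1 ^ (M - 1) = (x 1)⁻¹ := (eq_inv_of_mul_eq_one_left h5 :)
    rw [h6] at h4
    have h7 : (x 1)⁻¹ * (x 1 * h * (x 1)⁻¹) * ((x 1)⁻¹)⁻¹ = h := by group
    rwa [h7] at h4
  · rw [orderOf_eq_iff hM1]
    refine ⟨hxM, fun i hi hi0 h => ?_⟩
    apply hne
    rw [Subgroup.eq_bot_iff_forall]
    intro y hy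
    exact hfree i hi0 hi y hy (by rw [h, one_mul, mul_one])

/-- **WM criterion** for `PSU n F q` -/
theorem PSit.wm {F V : Type} [Field F] [Fintype F] {n q : ℕ} (hF : Fintype.card F = q ^ 2) (hn : 3 ≤ n)
    [AddCommGroup V] [Finite V] [DistribMulAction (PSU n F q) V] {p q' : ℕ} (h : PSit p q' (PSU n F q) V)
    {k : ℕ} (hk : 2 ≤ k) (hkn : 2 * k ≤ n) {M : ℕ} (hM : M ∣ q ^ (2 * k) - 1) (hMq : Nat.Coprime M (q + 1))
    (hM1 : 1 ≤ M) (hpM : p ∣ M) : q' ^ ((p - 1) * (M / p)) ≤ Nat.card (PSU n F q) := by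
  obtain ⟨C⟩ := exists_conf (F := F) hF hn hk hkn hM hMq hM1
  exact PSit.config_le h C hpM

end Cfsg.Agent.H963.QA
end

private theorem dce_be0d25abdfb4 : _root_.True := by
  try have : _root_.True := by simp only [_root_.Cfsg.Agent.H54.QA.emb.eq_1]
  try have : _root_.True := by simp only [_root_.Cfsg.sympTransvection.eq_1]
  exact _root_.True.intro
end

-- part: H291/QARowB
section
set_option linter.all false
open scoped Cfsg.Agent.FastGrp

/-!
# S4979, layer (A): the Baby Monster (helper291)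

The multiplier has order 2, so `V` is a faithful module for `B`; `minDeg_b` (`4371`) and the criterion `PSit.cr`.
-/

set_option autoImplicit false

namespace Cfsg.Agent.H291.QA

open Cfsg Cfsg.Agent.H152.QA Cfsg.Agent.H80.Fpf

set_option exponentiation.threshold 5000 in
theorem row_b {S : Type} [Group S] [Finite S] [IsSimpleGroup S] (h : Spor.IsoB S) : NoSit S := by
  have hc : Nat.card S = 4154781481226426191177580544000000 := NotCT.Orders.b h
  obtain ⟨e⟩ := h
  refine NoSit.of_equiv (MulEquiv.refl S) ?_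
  intro p q L V _ _ _ _ _ π N φ hπ hs
  have hm : MultDvd S 2 := by
    intro G _ _ f hf
    have h1 := multDvd_of_cyclic (by norm_num) Cfsg.Agent.S2058.result G (e.toMonoidHom.comp f) (hf.equiv_comp e)
    have h2 : (e.toMonoidHom.comp f).ker = f.ker := by
      ext g
      simp [MonoidHom.mem_ker]
    rwa [h2] at h1
  obtain ⟨act, hP⟩ := hs.exists_pSit_prime hπ (by norm_num) hm
  have hperf : commutator S = ⊤ := by
    have h1 := hπ.perf
    rw [← top_le_iff]
    intro s _
    obtain ⟨g, rfl⟩ := hπ.surj s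
    have h2 : g ∈ commutator L := by rw [h1]; trivial
    have h3 : π g ∈ (commutator L).map π := ⟨g, h2, rfl⟩
    rw [commutator_def, Subgroup.map_commutator] at h3
    rw [commutator_def]
    exact Subgroup.commutator_mono le_top le_top h3
  have hid : IsCover (MonoidHom.id S) := ⟨fun s => ⟨s, rfl⟩, fun s hs => by
    have h1 : s = 1 := hs
    rw [h1]
    exact Subgroup.one_mem _, hperf⟩
  obtain ⟨m, -, h1, h2⟩ := Cfsg.Agent.H306.QA.PSit.cr hP hid (Cfsg.Agent.H630.CJ.minDeg_b.congr e.symm)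
  rw [hc] at h1 h2
  have hp3 : 3 ≤ p := by
    have h3 := hP.hp.two_le
    have h4 := hP.odd
    omega
  have hq3 : 3 ≤ q := by
    have h3 := hP.hq.two_le
    have h4 : q ≠ 2 := by
      rintro rfl
      apply hP.qG
      rw [hc]
      norm_num
    omega
  have hM : ordCompl[p] 4154781481226426191177580544000000 ≤ 2 ^ 112 :=
    (Nat.ordCompl_le _ _).trans (by norm_num)
  have hm56 : m ≤ 57 := by
    by_contra hcon
    push Not at hcon
    have h3 : 4 ^ (m - 1) ≤ 2 ^ 112 := (Nat.pow_le_pow_left (by omega) _).trans (h1.trans hM)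
    have h4 : (2 : ℕ) ^ (2 * (m - 1)) ≤ 2 ^ 112 := by
      rw [pow_mul]
      exact h3
    have h5 := (Nat.pow_le_pow_iff_right (by norm_num : 1 < 2)).1 h4
    omega
  have h3 : 3 ^ 4371 ≤ (2 ^ 112) ^ 57 :=
    calc 3 ^ 4371 ≤ q ^ 4371 := Nat.pow_le_pow_left hq3 _
      _ ≤ (ordCompl[p] 4154781481226426191177580544000000) ^ m := h2
      _ ≤ (2 ^ 112) ^ m := Nat.pow_le_pow_left hM _
      _ ≤ (2 ^ 112) ^ 57 := Nat.pow_le_pow_right (by norm_num) hm56
  exact absurd h3 (by decide +kernel)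

end Cfsg.Agent.H291.QA
end

-- part: H973/QA/JTwoRow
section
prune_inst 0x20020000000000000000080000000000001c010000
set_option linter.all false
open scoped Cfsg.Agent.FastGrp

/-!
# S4979, layer (A): the row `J2` (helper973)
-/

set_option autoImplicit false
set_option linter.unusedSectionVars false

namespace Cfsg.Agent.H973.QA.JTwo

open Cfsg Cfsg.Agent.H152.QA Cfsg.Agent.H80.Fpf Subgroup

section real

variable {G : Type} [Group G] [Finite G] {z u : G}

/-- conjugate cyclic groups: real elements -/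
theorem real_of_zpowers {x w : G} (hw : IsConj w w⁻¹) {g : G}
    (h : (zpowers x).map (MulAut.conj g).toMonoidHom = zpowers w) : IsConj x x⁻¹ := by
  have h1 : g * x * g⁻¹ ∈ zpowers w := by
    rw [← h]
    exact ⟨x, mem_zpowers x, rfl⟩
  obtain ⟨k, hk⟩ := mem_zpowers_iff.1 h1
  obtain ⟨c, hc⟩ := isConj_iff.1 hw
  have h2 : IsConj (g * x * g⁻¹) (g * x * g⁻¹)⁻¹ := by
    rw [isConj_iff]
    refine ⟨c, ?_⟩
    rw [← hk, ← conj_zpow, hc, inv_zpow]
  have h3 : IsConj x (g * x * g⁻¹) := isConj_iff.2 ⟨g, rfl⟩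
  have h4 : IsConj x⁻¹ (g * x * g⁻¹)⁻¹ := isConj_iff.2 ⟨g, by group⟩
  exact (h3.trans h2).trans h4.symm

/-- every element of order 5 is real -/
theorem real_five (h : J2Type.Base.Fus z u) {x : G} (hx : orderOf x = 5) : IsConj x x⁻¹ := by
  have f5 : Fact (Nat.Prime 5) := ⟨by norm_num⟩
  have hG := J2Type.Order.card_of_fus h
  obtain ⟨f, U, V, H0, F⟩ := J2Type.CentU.main h
  have h60 : Nat.card H0 = 60 := by
    have h1 := J2Type.Order.card_centralizer_u h
    rw [F.str.card] at h1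
    omega
  obtain ⟨w', hw'⟩ := exists_prime_orderOf_dvd_card' (G := H0) 5 (by rw [h60]; norm_num)
  obtain ⟨w, hw⟩ := exists_prime_orderOf_dvd_card' (G := centralizer ({z} : Set G)) 5
    (by rw [h.cardC]; norm_num)
  have hw'5 : orderOf (w' : G) = 5 := by rw [orderOf_coe]; exact hw'
  have hw5 : orderOf (w : G) = 5 := by rw [orderOf_coe]; exact hw
  have hwz : (w : G) * z = z * w := mem_centralizer_singleton_iff.mp w.2
  have hgood := J2Type.Cent5.good_of_mem h F h60 w'.2 hw'5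
  have hr' : IsConj (w' : G) (w' : G)⁻¹ := hgood.2.1
  have hr : IsConj (w : G) (w : G)⁻¹ := J2Type.FiveFus.real_of_comm h hw5 hwz
  obtain ⟨P⟩ := (inferInstance : Nonempty (Sylow 5 G))
  obtain ⟨-, -, -, X, Y, hX, hY, hXY, hall⟩ := J2Type.FiveFus.sylow_five h P
  -- `⟨w⟩` and `⟨w'⟩` are not conjugate
  have hne : ∀ g : G, (zpowers (w : G)).map (MulAut.conj g).toMonoidHom ≠ zpowers (w' : G) := by
    intro g hg
    have h4 := J2Type.FiveFus.not_four_dvd h hw5 hwz
    apply h4
    have h5 : g * (w : G) * g⁻¹ ∈ zpowers (w' : G) := by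
      rw [← hg]
      exact ⟨w, mem_zpowers _, rfl⟩
    have h6 : orderOf (g * (w : G) * g⁻¹) = 5 := by
      rw [show g * (w : G) * g⁻¹ = MulAut.conj g (w : G) from rfl, MulEquiv.orderOf_eq, hw5]
    have h7 : zpowers (g * (w : G) * g⁻¹) = zpowers (w' : G) :=
      mem_zpowers_of (by norm_num) hw'5 h5 (fun h8 => by rw [h8, orderOf_one] at h6; norm_num at h6)
    -- the centralizers
    have h8 : centralizer ({g * (w : G) * g⁻¹} : Set G) = centralizer ({(w' : G)} : Set G) := by
      rw [← centralizer_closure {g * (w : G) * g⁻¹}, ← zpowers_eq_closure, h7, zpowers_eq_closure,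
        centralizer_closure]
    have h9 := J2Type.Cent5.card_centralizer_of_isConj (x := (w : G)) (y := g * (w : G) * g⁻¹) (isConj_iff.2 ⟨g, rfl⟩)
    rw [h9, h8]
    rcases hgood.card_centralizer_cases with h10 | h10 | h10 <;> rw [h10] <;> norm_num
  have hcw : Nat.card (zpowers (w : G)) = 5 := by rw [Nat.card_zpowers, hw5]
  have hcw' : Nat.card (zpowers (w' : G)) = 5 := by rw [Nat.card_zpowers, hw'5]
  have hcx : Nat.card (zpowers x) = 5 := by rw [Nat.card_zpowers, hx]
  -- transport of conjugacy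
  have comp : ∀ {A B C : Subgroup G} {a b : G}, A.map (MulAut.conj a).toMonoidHom = B →
      C.map (MulAut.conj b).toMonoidHom = B → A.map (MulAut.conj (b⁻¹ * a)).toMonoidHom = C := by
    intro A B C a b h1 h2
    ext t
    constructor
    · rintro ⟨s, hs, rfl⟩
      have h3 : a * s * a⁻¹ ∈ B := by rw [← h1]; exact ⟨s, hs, rfl⟩
      rw [← h2] at h3
      obtain ⟨c, hc, h4⟩ := h3
      have h5 : b * c * b⁻¹ = a * s * a⁻¹ := h4
      show b⁻¹ * a * s * (b⁻¹ * a)⁻¹ ∈ C
      have h6 : b⁻¹ * a * s * (b⁻¹ * a)⁻¹ = c := by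
        calc b⁻¹ * a * s * (b⁻¹ * a)⁻¹ = b⁻¹ * (a * s * a⁻¹) * b := by group
          _ = c := by rw [← h5]; group
      rw [h6]
      exact hc
    · intro ht
      have h3 : b * t * b⁻¹ ∈ B := by rw [← h2]; exact ⟨t, ht, rfl⟩
      rw [← h1] at h3
      obtain ⟨s, hs, h4⟩ := h3
      have h5 : a * s * a⁻¹ = b * t * b⁻¹ := h4
      refine ⟨s, hs, ?_⟩
      show b⁻¹ * a * s * (b⁻¹ * a)⁻¹ = t
      calc b⁻¹ * a * s * (b⁻¹ * a)⁻¹ = b⁻¹ * (a * s * a⁻¹) * b := by group
        _ = t := by rw [h5]; group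
  obtain ⟨g1, hg1⟩ := hall _ hcw
  obtain ⟨g2, hg2⟩ := hall _ hcw'
  obtain ⟨g3, hg3⟩ := hall _ hcx
  rcases hg1 with h1 | h1
  · rcases hg2 with h2 | h2
    · exact absurd (comp h1 h2) (hne _)
    · rcases hg3 with h3 | h3
      · exact real_of_zpowers hr (comp h3 h1)
      · exact real_of_zpowers hr' (comp h3 h2)
  · rcases hg2 with h2 | h2
    · rcases hg3 with h3 | h3
      · exact real_of_zpowers hr' (comp h3 h2)
      · exact real_of_zpowers hr (comp h3 h1)
    · exact absurd (comp h1 h2) (hne _)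

end real

theorem multDvd_equiv {S T : Type} [Group S] [Group T] (e : S ≃* T) {m : ℕ} (h : MultDvd T m) : MultDvd S m := by
  intro G _ _ f hf
  have h1 := h G (e.toMonoidHom.comp f) (hf.equiv_comp e)
  have h2 : (e.toMonoidHom.comp f).ker = f.ker := by
    ext g
    simp [MonoidHom.mem_ker]
  rwa [h2] at h1

/-- `p² ≤ |C(x)|` -/
theorem sq_le_card_centralizer {G : Type*} [Group G] [Finite G] {p : ℕ} (hp : p.Prime) {x : G} (hx : orderOf x = p)
    (hd : p ^ 2 ∣ Nat.card G) : p ^ 2 ≤ Nat.card (centralizer ({x} : Set G)) := by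
  have hpf : Fact p.Prime := ⟨hp⟩
  obtain ⟨K, hK, hxK⟩ := Sylow.exists_subgroup_card_pow_prime_le p hd (zpowers x)
    (n := 1) (by rw [Nat.card_zpowers, hx, pow_one]) (by norm_num)
  have hcomm := IsPGroup.isMulCommutative_of_card_eq_prime_sq hK
  rw [← hK]
  refine Nat.card_le_card_of_injective (Subgroup.inclusion ?_) (Subgroup.inclusion_injective _)
  intro k hk
  rw [mem_centralizer_singleton_iff]
  have hxk : x ∈ K := hxK (mem_zpowers x)
  have h1 : (⟨k, hk⟩ : K) * ⟨x, hxk⟩ = ⟨x, hxk⟩ * ⟨k, hk⟩ := mul_comm' _ _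
  exact congrArg Subtype.val h1

/-- `p² ≤ |N(⟨x⟩)|` -/
theorem sq_le_card_normalizer {G : Type*} [Group G] [Finite G] {p : ℕ} (hp : p.Prime) {x : G} (hx : orderOf x = p)
    (hd : p ^ 2 ∣ Nat.card G) : p ^ 2 ≤ Nat.card (normalizer (zpowers x : Set G)) := by
  refine (sq_le_card_centralizer hp hx hd).trans ?_
  refine Nat.card_le_card_of_injective (Subgroup.inclusion ?_) (Subgroup.inclusion_injective _)
  have h1 : centralizer ({x} : Set G) = centralizer (zpowers x : Set G) := by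
    rw [zpowers_eq_closure, centralizer_closure]
  rw [h1]
  exact centralizer_le_normalizer _

section five

variable {G : Type} [Group G] [Finite G] {z u : G}

theorem exp_five (h : J2Type.Base.Fus z u) (P : Sylow 5 G) : ∀ a ∈ (P : Subgroup G), a ^ 5 = 1 := by
  have f5 : Fact (Nat.Prime 5) := ⟨by norm_num⟩
  obtain ⟨-, h25, -, X, Y, hX, hY, hXY, hall⟩ := J2Type.FiveFus.sylow_five h P
  intro a ha
  by_contra ha1
  have hd : orderOf a ∣ 5 ^ 2 := by
    have h1 := orderOf_dvd_natCard _ ha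
    rw [h25] at h1
    exact h1
  have ha25 : orderOf a = 25 := by
    obtain ⟨k, hk, hk2⟩ := (Nat.dvd_prime_pow (by norm_num : Nat.Prime 5)).1 hd
    interval_cases k
    · exact absurd (by rw [orderOf_eq_one_iff.1 hk2, one_pow]) ha1
    · have h1 := pow_orderOf_eq_one a
      rw [hk2] at h1
      exact absurd h1 ha1
    · exact hk2
  have hPa : (P : Subgroup G) = zpowers a := by
    symm
    apply eq_of_le_of_card_ge
    · rw [zpowers_le]; exact ha
    · rw [Nat.card_zpowers, ha25]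
      exact h25.le
  -- each subgroup of order 5 is conjugate to `⟨a ^ 5⟩`
  have h5 : orderOf (a ^ 5) = 5 := by
    rw [orderOf_pow' a (by norm_num), ha25]
    norm_num
  have key : ∀ W : Subgroup G, Nat.card W = 5 → ∃ g : G, W.map (MulAut.conj g).toMonoidHom = zpowers (a ^ 5) := by
    intro W hW
    have hWp : IsPGroup 5 W := IsPGroup.of_card (n := 1) (by rw [hW, pow_one])
    obtain ⟨Q, hQ⟩ := hWp.exists_le_sylow
    obtain ⟨g, hg⟩ := MulAction.exists_smul_eq G Q P
    refine ⟨g, ?_⟩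
    have hle : W.map (MulAut.conj g).toMonoidHom ≤ (P : Subgroup G) := by
      rintro _ ⟨w, hw, rfl⟩
      rw [← hg]
      exact ⟨w, hQ hw, rfl⟩
    have hcard : Nat.card (W.map (MulAut.conj g).toMonoidHom) = 5 := by
      rw [← hW]
      exact Nat.card_congr (W.equivMapOfInjective _ (MulAut.conj g).injective).toEquiv.symm
    apply eq_of_le_of_card_ge
    · intro w hw
      have h1 : w ∈ zpowers a := by rw [← hPa]; exact hle hw
      obtain ⟨k, rfl⟩ := mem_zpowers_iff.1 h1
      have h2 : (a ^ k) ^ (5 : ℕ) = 1 := by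
        have h3 := orderOf_dvd_natCard _ hw
        rw [hcard] at h3
        exact orderOf_dvd_iff_pow_eq_one.1 h3
      rw [← zpow_natCast, ← zpow_mul, ← orderOf_dvd_iff_zpow_eq_one, ha25] at h2
      have h3 : (5 : ℤ) ∣ k := by
        obtain ⟨m, hm⟩ := h2
        exact ⟨m, by push_cast at hm; omega⟩
      obtain ⟨m, rfl⟩ := h3
      refine ⟨m, ?_⟩
      show (a ^ 5) ^ m = a ^ (5 * m)
      rw [zpow_mul]
      norm_cast
    · rw [hcard, Nat.card_zpowers, h5]
  obtain ⟨g, hg⟩ := key X hX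
  obtain ⟨k, hk⟩ := key Y hY
  apply hXY (k⁻¹ * g)
  have h1 : (zpowers (a ^ 5)).map (MulAut.conj k⁻¹).toMonoidHom = Y := by
    rw [← hk, Subgroup.map_map]
    ext t
    constructor
    · rintro ⟨s, hs, rfl⟩
      have h2 : (((MulAut.conj k⁻¹).toMonoidHom.comp (MulAut.conj k).toMonoidHom) s) = s := by
        show k⁻¹ * (k * s * k⁻¹) * k⁻¹⁻¹ = s
        group
      rw [h2]; exact hs
    · intro hs
      refine ⟨t, hs, ?_⟩
      show k⁻¹ * (k * t * k⁻¹) * k⁻¹⁻¹ = t
      group
  rw [← h1, ← hg, Subgroup.map_map]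
  congr 1
  ext t
  show k⁻¹ * g * t * (k⁻¹ * g)⁻¹ = k⁻¹ * (g * t * g⁻¹) * k⁻¹⁻¹
  group

end five

section row

/-- the element of order `r` -/
theorem centralizer_zpowers {G : Type*} [Group G] (x : G) :
    centralizer (zpowers x : Set G) = centralizer ({x} : Set G) := by
  rw [zpowers_eq_closure, centralizer_closure]

theorem primes {p : ℕ} (hp : p.Prime) (h2 : p ≠ 2) (h : p ∣ 604800) : p = 3 ∨ p = 5 ∨ p = 7 := by
  rw [show 604800 = 2 ^ 7 * (3 ^ 3 * (5 ^ 2 * 7)) from by norm_num] at h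
  rcases hp.dvd_mul.1 h with h | h
  · exact absurd ((Nat.prime_dvd_prime_iff_eq hp (by norm_num)).1 (hp.dvd_of_dvd_pow h)) h2
  rcases hp.dvd_mul.1 h with h | h
  · exact Or.inl ((Nat.prime_dvd_prime_iff_eq hp (by norm_num)).1 (hp.dvd_of_dvd_pow h))
  rcases hp.dvd_mul.1 h with h | h
  · exact Or.inr (Or.inl ((Nat.prime_dvd_prime_iff_eq hp (by norm_num)).1 (hp.dvd_of_dvd_pow h)))
  · exact Or.inr (Or.inr ((Nat.prime_dvd_prime_iff_eq hp (by norm_num)).1 h))

theorem ge_eleven {q : ℕ} (hq : q.Prime) (h : ¬ q ∣ 604800) : 11 ≤ q := by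
  by_contra hlt
  push Not at hlt
  interval_cases q <;> revert hq h <;> norm_num

variable {S : Type} [Group S] [Finite S] [IsSimpleGroup S]

theorem psit_five (h : Spor.IsoJ2 S) {q : ℕ} {V : Type} [AddCommGroup V] [Finite V] [DistribMulAction S V]
    (hP : PSit 5 q S V) (hq : 11 ≤ q) (hid : IsCover (MonoidHom.id S)) : False := by
  have f5 : Fact (Nat.Prime 5) := ⟨by norm_num⟩
  obtain ⟨z, u, F⟩ := Cfsg.Agent.H715.Fpr.J2.fus h
  have hcard := J2Type.Order.card_of_fus F
  obtain ⟨P⟩ := (inferInstance : Nonempty (Sylow 5 S))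
  obtain ⟨hc, h25, h300, -⟩ := J2Type.FiveFus.sylow_five F P
  have hab : ∀ a ∈ (P : Subgroup S), ∀ b ∈ (P : Subgroup S), a * b = b * a := by
    intro a ha b hb
    have h1 : b ∈ centralizer ((P : Subgroup S) : Set S) := by rw [hc]; exact hb
    exact mem_centralizer_iff.1 h1 a ha
  have h1 := PSit.rank hP hid (r := 2) (e := 2) (P : Subgroup S) hab (exp_five F P) h25 (by norm_num) (by
    intro x hx k hk
    by_cases hx1 : x = 1
    · rw [hx1, one_pow]
    have hx5 : orderOf x = 5 := orderOf_eq_prime (exp_five F P x hx) hx1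
    have hr := real_five F hx5
    have hk5 : k % 5 = 1 ∨ k % 5 = 4 := by
      have h2 : k % 5 < 5 := Nat.mod_lt _ (by norm_num)
      rw [Nat.pow_mod] at hk
      interval_cases h3 : k % 5 <;> simp_all
    rw [← pow_mod_orderOf, hx5]
    rcases hk5 with h2 | h2 <;> rw [h2]
    · rw [pow_one]
    · have h3 : x ^ 4 = x⁻¹ := by
        rw [eq_inv_iff_mul_eq_one, ← pow_succ]
        exact exp_five F P x hx
      rw [h3]
      exact hr)
  have h2 := Subgroup.card_mul_index (normalizer ((P : Subgroup S) : Set S))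
  rw [h300, hcard] at h2
  have h3 : 11 ^ (2 * 2) ≤ q ^ (2 * 2) := Nat.pow_le_pow_left hq _
  norm_num at h2 h3 h1
  omega

theorem psit_seven (h : Spor.IsoJ2 S) {q : ℕ} {V : Type} [AddCommGroup V] [Finite V] [DistribMulAction S V]
    (hP : PSit 7 q S V) (hq : 11 ≤ q) (hid : IsCover (MonoidHom.id S)) : False := by
  have f7 : Fact (Nat.Prime 7) := ⟨by norm_num⟩
  have hB : Cfsg.Agent.H122.MinDeg S 9 := Cfsg.Agent.H635.CJ.JTwo.minDeg h
  obtain ⟨x, hx⟩ := exists_prime_orderOf_dvd_card' (G := S) 7 hP.pG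
  obtain ⟨h1, h2⟩ := Cfsg.Agent.H715.Fpr.J2.cn7 h (R := zpowers x) (by rw [Nat.card_zpowers, hx])
  rw [centralizer_zpowers] at h1
  exact PSit.no_ch hP hid (s := 3) (n := 42) (N := 604800) hB (by norm_num) hq (Cfsg.Agent.H715.Fpr.J2.card h) hx
    (by rw [h1]; norm_num) (by norm_num) h2.ge (by norm_num)

theorem psit_three (h : Spor.IsoJ2 S)
    (hgen : ∃ x t : S, orderOf x = 3 ∧ Subgroup.closure ({x, t * x * t⁻¹} : Set S) = ⊤) {q : ℕ} {V : Type}
    [AddCommGroup V] [Finite V] [DistribMulAction S V]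
    (hP : PSit 3 q S V) (hq : 11 ≤ q) (hid : IsCover (MonoidHom.id S)) : False := by
  have hB : Cfsg.Agent.H122.MinDeg S 9 := Cfsg.Agent.H635.CJ.JTwo.minDeg h
  have hcard : Nat.card S = 604800 := Cfsg.Agent.H715.Fpr.J2.card h
  obtain ⟨x, t, hx, hg⟩ := hgen
  have hidx : ∀ y : S, orderOf y = 3 → (normalizer (zpowers y : Set S)).index ≤ 67200 := by
    intro y hy
    have h1 := index_le hcard (by norm_num) (normalizer (zpowers y : Set S))
      (sq_le_card_normalizer (by norm_num) hy (by rw [hcard]; norm_num))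
    exact h1.trans (by norm_num)
  have hy : orderOf (t * x * t⁻¹) = 3 := by
    rw [show t * x * t⁻¹ = MulAut.conj t x from rfl, MulEquiv.orderOf_eq, hx]
  refine PSit.no_gen hP hid (q0 := 11) hB (by norm_num) hq [(x, 67200), (t * x * t⁻¹, 67200)] ?_ ?_ ?_
  · intro w hw
    simp only [List.mem_cons, List.not_mem_nil, or_false] at hw
    rcases hw with rfl | rfl
    · exact ⟨⟨1, by rw [hx, pow_one]⟩, hidx _ hx⟩
    · exact ⟨⟨1, by rw [hy, pow_one]⟩, hidx _ hy⟩
  · intro H hH
    rw [← top_le_iff, ← hg, closure_le]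
    rintro y (rfl | rfl)
    · exact hH (y, 67200) (by simp)
    · exact hH (t * x * t⁻¹, 67200) (by simp)
  · norm_num

theorem row_j2_of (hgen : ∃ x t : Spor.J2, orderOf x = 3 ∧ Subgroup.closure ({x, t * x * t⁻¹} : Set Spor.J2) = ⊤)
    (h : Spor.IsoJ2 S) : NoSit S := by
  intro p q L V _ _ _ _ _ π N φ hπ hs
  have hcard : Nat.card S = 604800 := Cfsg.Agent.H715.Fpr.J2.card h
  have hgen' : ∃ x t : S, orderOf x = 3 ∧ Subgroup.closure ({x, t * x * t⁻¹} : Set S) = ⊤ := by
    obtain ⟨e⟩ := h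
    obtain ⟨x, t, hx, hg⟩ := hgen
    refine ⟨e.symm x, e.symm t, by rw [MulEquiv.orderOf_eq, hx], ?_⟩
    have h1 := congrArg (Subgroup.map e.symm.toMonoidHom) hg
    rw [MonoidHom.map_closure, Subgroup.map_top_of_surjective _ e.symm.surjective] at h1
    rw [← h1]
    congr 1
    rw [Set.image_pair]
    simp
  have hm : MultDvd S 2 := by
    obtain ⟨e⟩ := h
    exact multDvd_equiv e (multDvd_of_cyclic (by norm_num) Cfsg.Agent.S2040.result)
  obtain ⟨act, hP⟩ := hs.exists_pSit_prime hπ (by norm_num) hm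
  have hperf : commutator S = ⊤ := by
    have h1 := hπ.perf
    rw [← top_le_iff]
    intro s _
    obtain ⟨g, rfl⟩ := hπ.surj s
    have h2 : g ∈ commutator L := by rw [h1]; trivial
    have h3 : π g ∈ (commutator L).map π := ⟨g, h2, rfl⟩
    rw [commutator_def, Subgroup.map_commutator] at h3
    rw [commutator_def]
    exact Subgroup.commutator_mono le_top le_top h3
  have hid := isCover_id hperf
  have hq : 11 ≤ q := ge_eleven hP.hq (by rw [← hcard]; exact hP.qG)
  rcases primes hP.hp hP.odd (by rw [← hcard]; exact hP.pG) with rfl | rfl | rfl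
  · exact psit_three h hgen' hP hq hid
  · exact psit_five h hP hq hid
  · exact psit_seven h hP hq hid

/-- **the row `J2`** -/
theorem row_j2 (h : Spor.IsoJ2 S) : NoSit S := row_j2_of Cfsg.Agent.H811.QA.j2_gen h

end row

end Cfsg.Agent.H973.QA.JTwo

private theorem dce_c3837de6419f : _root_.True := by
  try have : _root_.True := by simp only [_root_.Cfsg.Agent.H152.QA.PSit.congr_simp]
  exact _root_.True.intro
end

-- part: H973/QA/ONRow
section
prune_inst 0x20020000000000000000080000000000001c010000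
set_option linter.all false
open scoped Cfsg.Agent.FastGrp

/-!
# S4979, layer (A): the row `ON` (helper973)
-/

set_option autoImplicit false
set_option linter.unusedSectionVars false
set_option maxRecDepth 100000

namespace Cfsg.Agent.H973.QA.ONan

open Cfsg Cfsg.Agent.H152.QA Cfsg.Agent.H80.Fpf Subgroup
open Cfsg.Agent.H973.QA.JTwo (multDvd_equiv)
open Cfsg.Agent.OrdDiv (Grp)

theorem not_comm_of_card {G : Type*} [Group G] [Finite G] [IsSimpleGroup G] (h : ¬ (Nat.card G).Prime) :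
    ¬ IsMulCommutative G := by
  intro hc
  let _ : CommGroup G := { (inferInstance : Group G) with mul_comm := fun a b => mul_comm' a b }
  exact h IsSimpleGroup.prime_card

theorem primes {p : ℕ} (hp : p.Prime) (h2 : p ≠ 2) (h3 : p ≠ 3) (h : p ∣ 460815505920) :
    p = 5 ∨ p = 7 ∨ p = 11 ∨ p = 19 ∨ p = 31 := by
  rw [show 460815505920 = 2 ^ 9 * (3 ^ 4 * (5 * (7 ^ 3 * (11 * (19 * 31))))) from by norm_num] at h
  rcases hp.dvd_mul.1 h with h | h
  · exact absurd ((Nat.prime_dvd_prime_iff_eq hp (by norm_num)).1 (hp.dvd_of_dvd_pow h)) h2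
  rcases hp.dvd_mul.1 h with h | h
  · exact absurd ((Nat.prime_dvd_prime_iff_eq hp (by norm_num)).1 (hp.dvd_of_dvd_pow h)) h3
  rcases hp.dvd_mul.1 h with h | h
  · exact Or.inl ((Nat.prime_dvd_prime_iff_eq hp (by norm_num)).1 h)
  rcases hp.dvd_mul.1 h with h | h
  · exact Or.inr (Or.inl ((Nat.prime_dvd_prime_iff_eq hp (by norm_num)).1 (hp.dvd_of_dvd_pow h)))
  rcases hp.dvd_mul.1 h with h | h
  · exact Or.inr (Or.inr (Or.inl ((Nat.prime_dvd_prime_iff_eq hp (by norm_num)).1 h)))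
  rcases hp.dvd_mul.1 h with h | h
  · exact Or.inr (Or.inr (Or.inr (Or.inl ((Nat.prime_dvd_prime_iff_eq hp (by norm_num)).1 h))))
  · exact Or.inr (Or.inr (Or.inr (Or.inr ((Nat.prime_dvd_prime_iff_eq hp (by norm_num)).1 h))))

theorem ge_thirteen {q : ℕ} (hq : q.Prime) (h : ¬ q ∣ 460815505920) : 13 ≤ q := by
  by_contra hlt
  push Not at hlt
  interval_cases q <;> revert hq h <;> norm_num

variable {S : Type} [Group S] [Finite S] [IsSimpleGroup S]

theorem card_eq (h : Spor.IsoON S) : Nat.card S = 460815505920 := by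
  obtain ⟨e⟩ := h
  rw [Nat.card_congr e.toEquiv]
  exact Cfsg.Agent.H493.Sep.ONLoc.card

theorem minDeg (h : Spor.IsoON S) : Cfsg.Agent.H122.MinDeg S 29 := by
  have hcard := card_eq h
  have hna : ¬ IsMulCommutative S := not_comm_of_card (by rw [hcard]; norm_num)
  have f31 : Fact (Nat.Prime 31) := ⟨by norm_num⟩
  have hx : ((Grp.on, 460815505920) : Grp × ℕ) ∈ Cfsg.Agent.OrdDiv.spor := by decide
  obtain ⟨P⟩ : Nonempty (Sylow 31 S) := inferInstance
  have hP : Nat.card P = 31 := Cfsg.Agent.H121.Cyc.card_of_dvd (by rw [hcard]; norm_num) (by rw [hcard]; norm_num) P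
  have h1 := Cfsg.Agent.H121.Cyc.spor_row (p := 31) hna hx hcard (fun n hn => by
    exfalso
    revert hn
    simp [Cfsg.Agent.H121.Cyc.finL]) (by norm_num) (by rw [hcard]; norm_num) P (isCyclic_of_prime_card hP)
  rwa [show Nat.card (P : Subgroup S) = 31 from hP] at h1

theorem psit_seven (h : Spor.IsoON S) {q : ℕ} {V : Type} [AddCommGroup V] [Finite V] [DistribMulAction S V]
    (hP : PSit 7 q S V) (hq : 13 ≤ q) : False := by
  have hcard := card_eq h
  obtain ⟨e⟩ := h
  obtain ⟨ι, hι⟩ := Cfsg.Agent.H474.ONC.exists_emb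
  have hsim : IsSimpleGroup Spor.J1 := Cfsg.Agent.H305.SepJ1.simple
  have hc1 : Nat.card Spor.J1 = 175560 := Cfsg.Agent.H305.SepJ1.card
  have hfin : Finite Spor.J1 := Nat.finite_of_card_ne_zero (by rw [hc1]; norm_num)
  have hna : ¬ IsMulCommutative Spor.J1 := not_comm_of_card (by rw [hc1]; norm_num)
  have hB : Cfsg.Agent.H122.MinDeg Spor.J1 17 := by
    have f19 : Fact (Nat.Prime 19) := ⟨by norm_num⟩
    have hx : ((Grp.j1, 175560) : Grp × ℕ) ∈ Cfsg.Agent.OrdDiv.spor := by decide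
    obtain ⟨P⟩ : Nonempty (Sylow 19 Spor.J1) := inferInstance
    have hP : Nat.card P = 19 := Cfsg.Agent.H121.Cyc.card_of_dvd (by rw [hc1]; norm_num) (by rw [hc1]; norm_num) P
    have h1 := Cfsg.Agent.H121.Cyc.spor_row (p := 19) hna hx hc1 (fun n hn => by
      exfalso
      revert hn
      simp [Cfsg.Agent.H121.Cyc.finL]) (by norm_num) (by rw [hc1]; norm_num) P (isCyclic_of_prime_card hP)
    rwa [show Nat.card (P : Subgroup Spor.J1) = 19 from hP] at h1
  have hZ : center Spor.J1 = ⊥ := by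
    rcases Subgroup.Normal.eq_bot_or_eq_top (inferInstance : (center Spor.J1).Normal) with h1 | h1
    · exact h1
    · exfalso
      refine hna ⟨⟨fun a b => ?_⟩⟩
      have h2 : b ∈ center Spor.J1 := by rw [h1]; trivial
      exact mem_center_iff.1 h2 a
  have hZ1 : Nat.card (center Spor.J1) = 1 := by rw [hZ, card_bot]
  have f7 : Fact (Nat.Prime 7) := ⟨by norm_num⟩
  obtain ⟨x, hx⟩ := exists_prime_orderOf_dvd_card' (G := Spor.J1) 7 (by rw [hc1]; norm_num)
  have hX : Nat.card (zpowers x) = 7 := by rw [Nat.card_zpowers, hx]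
  let f : Spor.J1 →* S := e.symm.toMonoidHom.comp ι
  have hf : Function.Injective f := e.symm.injective.comp hι
  have hne : ∃ k, f k ≠ 1 := by
    refine ⟨x, fun h1 => ?_⟩
    have h2 : x = 1 := hf (by rw [h1, map_one])
    rw [h2, orderOf_one] at hx
    norm_num at hx
  have h1 := hP.ch_hom f hne (B := 17) (c := 3) hB (by rw [hZ1]; norm_num) (zpowers x)
    (IsPGroup.of_card (n := 1) (by rw [hX, pow_one])) (fun y hy hy1 => by
      rw [hZ1, mul_one]
      refine card_cent_le (c := 7) (r := 7) (by norm_num) hx ?_ hy hy1 |>.trans (by norm_num)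
      rw [← Cfsg.Agent.H305.SepJ1.cent_zpowers, (Cfsg.Agent.H305.SepJ1.cn7 hX).1])
  rw [hX] at h1
  have h2 : (normalizer (((zpowers x).map f : Subgroup S) : Set S)).index ≤ Nat.card S :=
    Nat.le_of_dvd Nat.card_pos (index_dvd_card _)
  have h3 : 13 ^ 12 ≤ q ^ 12 := Nat.pow_le_pow_left hq 12
  rw [show ((7 - 1) * (17 - 3) + (7 - 1)) / 7 = 12 from by norm_num] at h1
  rw [hcard] at h2
  have h4 := h3.trans (h1.trans h2)
  norm_num at h4

theorem known_of (h : Spor.IsoON S) {r c k : ℕ} (hk : Cfsg.Agent.H444.Fpr.Known Spor.ON r c k) :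
    Cfsg.Agent.H444.Fpr.Known S r c k := by
  obtain ⟨e⟩ := h
  exact hk.congr e.symm

/-- **the row `ON`** -/
theorem row_on (h : Spor.IsoON S) : NoSit S := by
  intro p q L V _ _ _ _ _ π N φ hπ hs
  have hcard := card_eq h
  have hB := minDeg h
  have hm : MultDvd S 3 := by
    obtain ⟨e⟩ := h
    exact multDvd_equiv e (multDvd_of_cyclic (by norm_num) Cfsg.Agent.S2052.result)
  have hp3 : p ≠ 3 := by
    rintro rfl
    apply hs.pZ
    have hZ := Cfsg.Agent.H759.QA.center_eq_ker hπ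
    have h1 : Nat.card N ∣ 3 := ((Subgroup.card_dvd_of_le (hZ ▸ hs.cen)).trans (hm L π hπ))
    rcases (Nat.dvd_prime Nat.prime_three).1 h1 with h2 | h2
    · exact absurd (Subgroup.card_eq_one.1 h2) hs.Nne
    · rw [← h2]; exact Subgroup.card_dvd_of_le hs.cen
  obtain ⟨act, hP⟩ := hs.exists_pSit_prime hπ Nat.prime_three hm
  have hna : ¬ IsMulCommutative S := not_comm_of_card (by rw [hcard]; norm_num)
  have hid : IsCover (MonoidHom.id S) := isCover_id (Cfsg.Agent.H121.Cyc.commutator_top hna)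
  have hq : 13 ≤ q := ge_thirteen hP.hq (by rw [← hcard]; exact hP.qG)
  have hpf := Fact.mk hP.hp
  obtain ⟨z, hz⟩ := exists_prime_orderOf_dvd_card' (G := S) p hP.pG
  rcases primes hP.hp hP.odd hp3 (by rw [← hcard]; exact hP.pG) with rfl | rfl | rfl | rfl | rfl
  · have hk := known_of h Cfsg.Agent.H147.Fpr.ONan.known5
    exact PSit.no_ch hP hid hB (s := 14) (n := 720) (q0 := 13) (by norm_num) hq hcard hz
      (by rw [hk.cent z hz]; norm_num) (by norm_num) (hk.norm z hz).ge (by norm_num)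
  · exact psit_seven h hP hq
  · have hk := known_of h Cfsg.Agent.H147.Fpr.ONan.known11
    exact PSit.no_ch hP hid hB (s := 4) (n := 110) (q0 := 13) (by norm_num) hq hcard hz
      (by rw [hk.cent z hz]; norm_num) (by norm_num) (hk.norm z hz).ge (by norm_num)
  · have hk := known_of h Cfsg.Agent.H147.Fpr.ONan.known19
    exact PSit.no_ch hP hid hB (s := 5) (n := 114) (q0 := 13) (by norm_num) hq hcard hz
      (by rw [hk.cent z hz]; norm_num) (by norm_num) (hk.norm z hz).ge (by norm_num)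
  · have hk := known_of h Cfsg.Agent.H147.Fpr.ONan.known31
    exact PSit.no_ch hP hid hB (s := 6) (n := 465) (q0 := 13) (by norm_num) hq hcard hz
      (by rw [hk.cent z hz]; norm_num) (by norm_num) (hk.norm z hz).ge (by norm_num)

end Cfsg.Agent.H973.QA.ONan

private theorem dce_b9ba829ebd01 : _root_.True := by
  try have : _root_.True := by simp only [_root_.Cfsg.Agent.H121.Cyc.finL.eq_1]
  exact _root_.True.intro
end

-- part: H291/QARowB_mg
section

end
end
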